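import Groth.Prelude.Def_ArtFun
import Groth.Prelude.Def_ArtFun2
import Groth.Prelude.Def_ArtFun3
import Mathlib

set_option autoImplicit false

universe u v

namespace Groth.Agent.Lib.helper19

open CategoryTheory ArtFun ArtFun.Art

variable {Λ : Type u} {k : Type u} [CommRing Λ] [Field k] [Algebra Λ k]

/-- A bijective morphism of `Art Λ k` is an isomorphism. -/
theorem art_isIso_of_bijective {A B : Art Λ k} (e : B ⟶ A) (he : Function.Bijective e) : IsIso e := by
  let eqv : B ≃ₐ[Λ] A := AlgEquiv.ofBijective e.toAlgHom he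
  have hres : B.res.comp (eqv.symm : A →ₐ[Λ] B) = A.res := by
    apply AlgHom.ext
    intro a
    have h1 : e.toAlgHom (eqv.symm a) = a := eqv.apply_symm_apply a
    have h2 := Art.res_app e (eqv.symm a)
    change B.res (eqv.symm a) = A.res a
    rw [← h2]
    exact congrArg A.res h1
  refine ⟨⟨⟨(eqv.symm : A →ₐ[Λ] B), hres⟩, ?_, ?_⟩⟩
  · apply Art.hom_ext
    apply AlgHom.ext
    intro b
    exact eqv.symm_apply_apply b
  · apply Art.hom_ext
    apply AlgHom.ext
    intro a
    exact eqv.apply_symm_apply a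

theorem art_bijective_of_isIso {A B : Art Λ k} (e : B ⟶ A) [IsIso e] : Function.Bijective e := by
  refine ⟨?_, ?_⟩
  · intro x y hxy
    have h := congrArg (fun t => (inv e) t) hxy
    have hx : (inv e) (e x) = x := by
      have := congrArg (fun (g : B ⟶ B) => g x) (IsIso.hom_inv_id e)
      exact this
    have hy : (inv e) (e y) = y := by
      have := congrArg (fun (g : B ⟶ B) => g y) (IsIso.hom_inv_id e)
      exact this
    exact hx.symm.trans (h.trans hy)
  · intro a
    refine ⟨(inv e) a, ?_⟩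
    have := congrArg (fun (g : A ⟶ A) => g a) (IsIso.inv_hom_id e)
    exact this

/-- The maximal ideal of an object of `Art` is nilpotent. -/
theorem art_maximalIdeal_nilpotent (B : Art Λ k) : ∃ n : ℕ, IsLocalRing.maximalIdeal B ^ n = ⊥ := by
  obtain ⟨n, hn⟩ := (isArtinianRing_iff_isNilpotent_maximalIdeal B).mp inferInstance
  exact ⟨n, hn⟩

/-- The kernel of a morphism of `Art` lies in the maximal ideal. -/
theorem art_ker_le_maximalIdeal {A B : Art Λ k} (f : B ⟶ A) :
    RingHom.ker f.toAlgHom ≤ IsLocalRing.maximalIdeal B := by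
  intro b hb
  rw [Art.mem_maximalIdeal_iff]
  have h := Art.res_app f b
  have hb' : f.toAlgHom b = 0 := hb
  change A.res (f.toAlgHom b) = B.res b at h
  rw [hb', map_zero] at h
  exact h.symm

/-- Key step: if `J < K` are ideals of a local ring with nilpotent maximal ideal `m`, there is
`t ∈ K \ J` with `m t ⊆ J`. -/
theorem exists_mem_not_mem_mul_le {B : Type u} [CommRing B] (m J K : Ideal B)
    (hm : ∃ n : ℕ, m ^ n = ⊥) (hne : ¬ K ≤ J) :
    ∃ t ∈ K, t ∉ J ∧ ∀ x ∈ m, x * t ∈ J := by
  classical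
  obtain ⟨n, hn⟩ := hm
  have hex : ∃ n : ℕ, m ^ n * K ≤ J := ⟨n, by rw [hn, Ideal.bot_mul]; exact bot_le⟩
  let n₀ := Nat.find hex
  have hn₀ : m ^ n₀ * K ≤ J := Nat.find_spec hex
  have hpos : n₀ ≠ 0 := by
    intro h0
    rw [h0, pow_zero, Ideal.one_eq_top, Ideal.top_mul] at hn₀
    exact hne hn₀
  obtain ⟨n₁, hn₁⟩ := Nat.exists_eq_succ_of_ne_zero hpos
  have hnot : ¬ m ^ n₁ * K ≤ J := by
    intro h
    have := Nat.find_min' hex h
    omega
  obtain ⟨t, htK, htJ⟩ := Set.not_subset.mp hnot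
  refine ⟨t, ?_, htJ, ?_⟩
  · exact Ideal.mul_le_left (by rw [mul_comm]; exact htK)
  · intro x hx
    apply hn₀
    rw [hn₁, pow_succ, mul_comm (m ^ n₁) m, mul_assoc]
    exact Ideal.mul_mem_mul hx htK

end Groth.Agent.Lib.helper19
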