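import Mathlib

set_option autoImplicit false
universe u v
open IsLocalRing

namespace Groth.Agent.Lib.helper19

open MvPowerSeries in
/-- A multivariate power series in finitely many variables differs from its truncation at total
degree `N` by an element of the `N`-th power of the ideal generated by the variables. -/
theorem sub_truncTotal_mem_span_X_pow {σ R : Type*} [Finite σ] [CommRing R] (N : ℕ)
    (p : MvPowerSeries σ R) :
    p - ((truncTotal N p : MvPolynomial σ R) : MvPowerSeries σ R) ∈
      (Ideal.span (Set.range (MvPowerSeries.X : σ → MvPowerSeries σ R))) ^ N := by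
  classical
  set I := MvPolynomial.idealOfVars σ R with hI
  set e := toAdicCompletionAlgEquiv σ R with he
  set q := truncTotal N p with hq
  have hfg : I.FG := MvPolynomial.idealOfVars_fg σ R
  have h1 : e (p - (q : MvPowerSeries σ R)) ∈
      (I ^ N • ⊤ : Submodule (MvPolynomial σ R) (AdicCompletion I (MvPolynomial σ R))) := by
    rw [AdicCompletion.pow_smul_top_eq_ker_eval hfg, LinearMap.mem_ker, map_sub, map_sub,
      sub_eq_zero, AdicCompletion.eval_apply, AdicCompletion.eval_apply]
    rw [he, toAdicCompletionAlgEquiv_apply, toAdicCompletionAlgEquiv_apply, toAdicCompletion_coe,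
      AdicCompletion.of_apply]
    rfl
  have h2 : p - (q : MvPowerSeries σ R) ∈
      (I ^ N • ⊤ : Submodule (MvPolynomial σ R) (MvPowerSeries σ R)) := by
    have h3 : (I ^ N • ⊤ : Submodule (MvPolynomial σ R) (MvPowerSeries σ R)) =
        Submodule.map e.symm.toLinearMap
          (I ^ N • ⊤ : Submodule (MvPolynomial σ R) (AdicCompletion I (MvPolynomial σ R))) := by
      rw [Submodule.map_smul'']
      congr 1
      rw [Submodule.map_top, eq_comm, LinearMap.range_eq_top]
      exact e.symm.surjective
    rw [h3]
    exact ⟨_, h1, e.symm_apply_apply _⟩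
  have h4 : (I ^ N • ⊤ : Submodule (MvPolynomial σ R) (MvPowerSeries σ R)) ≤
      ((Ideal.span (Set.range (MvPowerSeries.X : σ → MvPowerSeries σ R))) ^ N).restrictScalars
        (MvPolynomial σ R) := by
    rw [Submodule.smul_le]
    intro r hr n _
    rw [Submodule.restrictScalars_mem, Algebra.smul_def]
    apply Ideal.mul_mem_right
    have h5 : Ideal.map (algebraMap (MvPolynomial σ R) (MvPowerSeries σ R)) (I ^ N) ≤
        (Ideal.span (Set.range (MvPowerSeries.X : σ → MvPowerSeries σ R))) ^ N := by
      rw [Ideal.map_pow]
      apply Ideal.pow_right_mono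
      rw [hI, MvPolynomial.idealOfVars, Ideal.map_span, Ideal.span_le]
      rintro _ ⟨_, ⟨i, rfl⟩, rfl⟩
      apply Ideal.subset_span
      refine ⟨i, ?_⟩
      rw [MvPowerSeries.algebraMap_apply']
      simp
    exact h5 (Ideal.mem_map_of_mem _ hr)
  exact h4 h2

end Groth.Agent.Lib.helper19
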