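import Mathlib
import Groth.Agent.Lib.helper19.MvPSLemma

set_option autoImplicit false
universe u v
open IsLocalRing MvPowerSeries

namespace Groth.Agent.Lib.helper19
namespace PSC

variable {σ : Type*} [Finite σ] {R : Type*} [CommRing R] [IsLocalRing R]

/-- the filtration by "weighted order" -/
def W (σ : Type*) (R : Type*) [CommRing R] [IsLocalRing R] (j : ℕ) : Ideal (MvPowerSeries σ R) where
  carrier := {p | ∀ ν : σ →₀ ℕ, coeff ν p ∈ maximalIdeal R ^ (j - ν.degree)}
  add_mem' := fun {p q} hp hq ν => by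
    rw [map_add]
    exact Ideal.add_mem _ (hp ν) (hq ν)
  zero_mem' := fun ν => by
    rw [map_zero]
    exact Ideal.zero_mem _
  smul_mem' := fun a p hp ν => by
    classical
    rw [smul_eq_mul, coeff_mul]
    refine Ideal.sum_mem _ (fun x hx => ?_)
    rw [Finset.HasAntidiagonal.mem_antidiagonal] at hx
    apply Ideal.mul_mem_left
    have hdeg : x.2.degree ≤ ν.degree := by
      rw [← hx, map_add]
      exact Nat.le_add_left _ _
    exact Ideal.pow_le_pow_right (Nat.sub_le_sub_left hdeg j) (hp x.2)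

theorem mem_W {j : ℕ} {p : MvPowerSeries σ R} :
    p ∈ W σ R j ↔ ∀ ν : σ →₀ ℕ, coeff ν p ∈ maximalIdeal R ^ (j - ν.degree) := Iff.rfl

theorem W_mul_le (i j : ℕ) : W σ R i * W σ R j ≤ W σ R (i + j) := by
  classical
  rw [Ideal.mul_le]
  intro p hp q hq ν
  rw [coeff_mul]
  refine Ideal.sum_mem _ (fun x hx => ?_)
  rw [Finset.HasAntidiagonal.mem_antidiagonal] at hx
  have h1 := Ideal.mul_mem_mul (hp x.1) (hq x.2)
  rw [← pow_add] at h1
  refine Ideal.pow_le_pow_right ?_ h1
  have : ν.degree = x.1.degree + x.2.degree := by rw [← hx, map_add]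
  omega

theorem maximalIdeal_le_W : maximalIdeal (MvPowerSeries σ R) ≤ W σ R 1 := by
  intro p hp ν
  by_cases hν : ν = 0
  · subst hν
    have : (0 : σ →₀ ℕ).degree = 0 := map_zero _
    rw [this, Nat.sub_zero, pow_one]
    rw [mem_maximalIdeal, mem_nonunits_iff, MvPowerSeries.isUnit_iff_constantCoeff] at hp
    exact hp
  · have : 1 - ν.degree = 0 := by
      have : ν.degree ≠ 0 := by
        intro h
        exact hν ((Finsupp.degree_eq_zero_iff ν).mp h)
      omega
    rw [this, pow_zero, Ideal.one_eq_top]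
    exact Submodule.mem_top

theorem pow_le_W (j : ℕ) : maximalIdeal (MvPowerSeries σ R) ^ j ≤ W σ R j := by
  induction j with
  | zero =>
    intro p _ ν
    rw [Nat.zero_sub, pow_zero, Ideal.one_eq_top]
    exact Submodule.mem_top
  | succ j ih =>
    rw [pow_succ]
    exact le_trans (Ideal.mul_mono ih maximalIdeal_le_W) (W_mul_le j 1)


theorem coe_mem_span_X_pow (N : ℕ) (q : MvPolynomial σ R) (hq : q ∈ MvPolynomial.idealOfVars σ R ^ N) :
    (q : MvPowerSeries σ R) ∈ (Ideal.span (Set.range (X : σ → MvPowerSeries σ R))) ^ N := by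
  have h5 : Ideal.map (algebraMap (MvPolynomial σ R) (MvPowerSeries σ R))
      (MvPolynomial.idealOfVars σ R ^ N) ≤
      (Ideal.span (Set.range (MvPowerSeries.X : σ → MvPowerSeries σ R))) ^ N := by
    rw [Ideal.map_pow]
    apply Ideal.pow_right_mono
    rw [MvPolynomial.idealOfVars, Ideal.map_span, Ideal.span_le]
    rintro _ ⟨_, ⟨i, rfl⟩, rfl⟩
    apply Ideal.subset_span
    refine ⟨i, ?_⟩
    rw [MvPowerSeries.algebraMap_apply']
    simp
  have := h5 (Ideal.mem_map_of_mem _ hq)
  rw [MvPowerSeries.algebraMap_apply', Algebra.algebraMap_self, MvPowerSeries.map_id] at this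
  exact this

theorem span_X_le_maximalIdeal :
    Ideal.span (Set.range (X : σ → MvPowerSeries σ R)) ≤ maximalIdeal (MvPowerSeries σ R) := by
  rw [Ideal.span_le]
  rintro _ ⟨i, rfl⟩
  change X i ∈ maximalIdeal _
  rw [mem_maximalIdeal, mem_nonunits_iff, MvPowerSeries.isUnit_iff_constantCoeff]
  simp

theorem C_mem_pow (a : ℕ) (c : R) (hc : c ∈ maximalIdeal R ^ a) :
    (C c : MvPowerSeries σ R) ∈ maximalIdeal (MvPowerSeries σ R) ^ a := by
  have h1 : Ideal.map (C : R →+* MvPowerSeries σ R) (maximalIdeal R) ≤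
      maximalIdeal (MvPowerSeries σ R) := by
    rw [Ideal.map_le_iff_le_comap]
    intro r hr
    rw [Ideal.mem_comap, mem_maximalIdeal, mem_nonunits_iff, MvPowerSeries.isUnit_iff_constantCoeff]
    simpa using hr
  have h2 : (C c : MvPowerSeries σ R) ∈ Ideal.map (C : R →+* MvPowerSeries σ R) (maximalIdeal R ^ a) :=
    Ideal.mem_map_of_mem _ hc
  rw [Ideal.map_pow] at h2
  exact Ideal.pow_right_mono h1 a h2

theorem W_le_pow (j : ℕ) : W σ R j ≤ maximalIdeal (MvPowerSeries σ R) ^ j := by
  classical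
  intro p hp
  set q := truncTotal j p with hq
  have h1 : p - (q : MvPowerSeries σ R) ∈ maximalIdeal (MvPowerSeries σ R) ^ j :=
    Ideal.pow_right_mono span_X_le_maximalIdeal j (sub_truncTotal_mem_span_X_pow j p)
  have h2 : (q : MvPowerSeries σ R) ∈ maximalIdeal (MvPowerSeries σ R) ^ j := by
    rw [← MvPolynomial.support_sum_monomial_coeff q]
    change (MvPolynomial.coeToMvPowerSeries.ringHom (R := R) (σ := σ)) _ ∈ _
    rw [map_sum]
    refine Ideal.sum_mem _ (fun ν hν => ?_)
    change ((MvPolynomial.monomial ν (MvPolynomial.coeff ν q) : MvPolynomial σ R) : MvPowerSeries σ R) ∈ _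
    have hcoef : MvPolynomial.coeff ν q ≠ 0 := MvPolynomial.mem_support_iff.mp hν
    have hdeg : ν.degree < j := by
      by_contra hcon
      exact hcoef (coeff_truncTotal_eq_zero p (not_lt.mp hcon))
    have hc : MvPolynomial.coeff ν q = coeff ν p := coeff_truncTotal p hdeg
    have hmon : MvPolynomial.monomial ν (MvPolynomial.coeff ν q) =
        MvPolynomial.C (MvPolynomial.coeff ν q) * MvPolynomial.monomial ν 1 := by
      rw [MvPolynomial.C_mul_monomial, mul_one]
    rw [hmon, MvPolynomial.coe_mul, MvPolynomial.coe_C, hc]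
    have e : j = (j - ν.degree) + ν.degree := by omega
    rw [e, pow_add]
    apply Ideal.mul_mem_mul
    · exact C_mem_pow _ _ (hp ν)
    · apply Ideal.pow_right_mono span_X_le_maximalIdeal
      apply coe_mem_span_X_pow
      rw [MvPolynomial.mem_pow_idealOfVars_iff']
      intro x hx
      rw [MvPolynomial.coeff_monomial, if_neg]
      intro h
      rw [h] at hx
      exact lt_irrefl _ hx
  have : p = (p - (q : MvPowerSeries σ R)) + q := by ring
  rw [this]
  exact Ideal.add_mem _ h1 h2

theorem pow_eq_W (j : ℕ) : maximalIdeal (MvPowerSeries σ R) ^ j = W σ R j :=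
  le_antisymm (pow_le_W j) (W_le_pow j)


theorem isAdicComplete [IsNoetherianRing R] [IsAdicComplete (maximalIdeal R) R] :
    IsAdicComplete (maximalIdeal (MvPowerSeries σ R)) (MvPowerSeries σ R) := by
  haveI : IsHausdorff (maximalIdeal (MvPowerSeries σ R)) (MvPowerSeries σ R) :=
    IsHausdorff.of_le_jacobson _ _ (IsLocalRing.maximalIdeal_le_jacobson _)
  refine { haus' := IsHausdorff.haus' , prec' := ?_ }
  intro f hf
  have hcoef : ∀ (ν : σ →₀ ℕ) {m n : ℕ}, m ≤ n →
      coeff ν (f m) - coeff ν (f n) ∈ maximalIdeal R ^ (m - ν.degree) := by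
    intro ν m n hmn
    have h1 := hf hmn
    rw [SModEq.sub_mem, smul_eq_mul, Ideal.mul_top] at h1
    have h2 := pow_le_W m h1 ν
    rw [map_sub] at h2
    exact h2
  have hL : ∀ ν : σ →₀ ℕ, ∃ L : R, ∀ t, coeff ν (f (t + ν.degree)) ≡ L
      [SMOD (maximalIdeal R ^ t • ⊤ : Submodule R R)] := by
    intro ν
    apply IsPrecomplete.prec' (I := maximalIdeal R) (fun t => coeff ν (f (t + ν.degree)))
    intro m n hmn
    rw [SModEq.sub_mem, smul_eq_mul, Ideal.mul_top]
    have := hcoef ν (Nat.add_le_add_right hmn ν.degree)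
    rwa [Nat.add_sub_cancel] at this
  choose L hLs using hL
  refine ⟨(fun ν => L ν : MvPowerSeries σ R), fun j => ?_⟩
  rw [SModEq.sub_mem, smul_eq_mul, Ideal.mul_top, pow_eq_W]
  intro ν
  rw [map_sub]
  change coeff ν (f j) - L ν ∈ _
  by_cases hj : j ≤ ν.degree
  · rw [Nat.sub_eq_zero_of_le hj, pow_zero, Ideal.one_eq_top]
    exact Submodule.mem_top
  · have h1 := hLs ν (j - ν.degree)
    rw [SModEq.sub_mem, smul_eq_mul, Ideal.mul_top] at h1
    have : j - ν.degree + ν.degree = j := by omega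
    rwa [this] at h1

end PSC
end Groth.Agent.Lib.helper19
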