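import Mathlib
import Groth.Prelude.Def_ArtFun

set_option autoImplicit false
universe u v
open Module Submodule LinearMap IsLocalRing

namespace Groth.Agent.Lib.helper19

section
variable {Λ : Type u} {k : Type u} [CommRing Λ] [Field k] [Algebra Λ k]
variable (A : Type u) [CommRing A] [Algebra Λ A] [IsLocalRing A] [Algebra A k] [IsScalarTower Λ A k]
variable {M : Type v} [AddCommGroup M] [Module A M] [Module Λ M] [IsScalarTower Λ A M]

theorem covBy_length_restrict (hres : Function.Surjective (algebraMap A k))
    {p q : Submodule A M} (h : p ⋖ q) :
    Module.length Λ q = Module.length Λ p + Module.length Λ k := by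
  let f : p →ₗ[A] q := inclusion h.le
  have key : IsSimpleModule A (q ⧸ LinearMap.range f) := by
    rwa [range_inclusion, ← covBy_iff_quot_is_simple h.le]
  obtain ⟨m, hm, ⟨e⟩⟩ := isSimpleModule_iff_quot_maximal.mp key
  rw [eq_maximalIdeal hm] at e
  -- A ⧸ maximalIdeal A ≃ k
  have hker : RingHom.ker (algebraMap A k) = maximalIdeal A := by
    have hmax : (RingHom.ker (algebraMap A k)).IsMaximal :=
      RingHom.ker_isMaximal_of_surjective (algebraMap A k) hres
    exact IsLocalRing.eq_maximalIdeal hmax
  let φ : A →ₗ[A] k := (Algebra.linearMap A k)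
  have hφ : Function.Surjective φ := hres
  have hφker : LinearMap.ker φ = maximalIdeal A := by
    ext x
    rw [← hker]
    rfl
  let e2 : (A ⧸ maximalIdeal A) ≃ₗ[A] k :=
    (Submodule.quotEquivOfEq _ _ hφker.symm).trans (φ.quotKerEquivOfSurjective hφ)
  let g : q →ₗ[A] k := (e2.toLinearMap.comp e.toLinearMap).comp (LinearMap.range f).mkQ
  have h1 : Function.Injective f := inclusion_injective _
  have h2 : Function.Surjective g :=
    (e2.surjective.comp e.surjective).comp (LinearMap.range f).mkQ_surjective
  have h3 : Function.Exact f g := by
    rw [LinearMap.exact_iff]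
    change LinearMap.ker ((e.trans e2).toLinearMap.comp (LinearMap.range f).mkQ) = _
    rw [LinearEquiv.ker_comp, Submodule.ker_mkQ]
  rw [Module.length_eq_add_of_exact (f.restrictScalars Λ) (g.restrictScalars Λ)
    (by simpa) (by simpa) (by simpa)]

theorem art_length_mul (hres : Function.Surjective (algebraMap A k)) (M : Type v) [AddCommGroup M] [Module A M] [Module Λ M] [IsScalarTower Λ A M] :
    Module.length Λ k * Module.length A M = Module.length Λ M := by
  by_cases h : IsFiniteLength A M
  · obtain ⟨s, hs_bot, hs_top⟩ := isFiniteLength_iff_exists_compositionSeries.mp h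
    rw [← Module.length_compositionSeries s hs_bot hs_top]
    suffices ∀ i, Module.length Λ (s i) = i * Module.length Λ k by
      rw [mul_comm, ← Fin.val_last s.length, ← this, ← RelSeries.last, hs_top]
      exact Module.length_top
    intro i
    induction i using Fin.induction with
    | zero => rw [← RelSeries.head, hs_bot]; simp
    | succ i hi => simpa [hi, add_one_mul] using covBy_length_restrict (Λ := Λ) A hres (s.step i)
  · have : ¬ IsFiniteLength Λ M := by
      contrapose! h
      rw [isFiniteLength_iff_isNoetherian_isArtinian] at h ⊢
      exact h.imp (isNoetherian_of_tower Λ) (isArtinian_of_tower Λ)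
    rw [← Module.length_ne_top_iff, not_ne_iff] at h this
    have ne : Module.length Λ k ≠ 0 := by
      simpa [pos_iff_ne_zero] using (Module.length_pos (R := Λ) (M := k))
    rw [h, this, ENat.mul_top ne]

end

end Groth.Agent.Lib.helper19
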