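import Mathlib
import Groth.Prelude.Def_ArtFun
import Groth.Agent.Lib.helper19.ArtLength

set_option autoImplicit false
universe u v
open Module Submodule LinearMap IsLocalRing

namespace Groth.Agent.Lib.helper19

section
variable {Λ : Type u} {k : Type u} [CommRing Λ] [Field k] [Algebra Λ k]

theorem ker_algebraMap_isMaximal [Module.Finite Λ k] : (RingHom.ker (algebraMap Λ k)).IsMaximal := by
  have : Algebra.IsIntegral Λ k := inferInstance
  have h := Ideal.isMaximal_comap_of_isIntegral_of_isMaximal (R := Λ) (S := k) (⊥ : Ideal k)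
  exact h

theorem isFiniteLength_residue [IsNoetherianRing Λ] [Module.Finite Λ k] : IsFiniteLength Λ k := by
  have hmax := ker_algebraMap_isMaximal (Λ := Λ) (k := k)
  let I := RingHom.ker (algebraMap Λ k)
  let : Field (Λ ⧸ I) := Ideal.Quotient.field I
  let : Algebra (Λ ⧸ I) k := (RingHom.kerLift (algebraMap Λ k)).toAlgebra
  have : IsScalarTower Λ (Λ ⧸ I) k := IsScalarTower.of_algebraMap_eq (fun x => rfl)
  have : Module.Finite (Λ ⧸ I) k := Module.Finite.of_restrictScalars_finite Λ (Λ ⧸ I) k
  rw [← Module.length_ne_top_iff, Module.length_eq_of_surjective (R := Λ ⧸ I) (S := Λ) Ideal.Quotient.mk_surjective]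
  exact Module.length_ne_top

theorem art_isFiniteLength [IsNoetherianRing Λ] [Module.Finite Λ k] (A : ArtFun.Art Λ k) :
    IsFiniteLength Λ A := by
  let : Algebra A k := A.res.toRingHom.toAlgebra
  have : IsScalarTower Λ A k := IsScalarTower.of_algebraMap_eq (fun x => (A.res.commutes x).symm)
  have h := art_length_mul (Λ := Λ) (k := k) A (A.res_surjective) A
  rw [← Module.length_ne_top_iff, ← h]
  have h1 : Module.length Λ k ≠ ⊤ := Module.length_ne_top_iff.mpr isFiniteLength_residue
  have h2 : Module.length A A ≠ ⊤ := Module.length_ne_top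
  exact WithTop.mul_ne_top h1 h2

end

end Groth.Agent.Lib.helper19
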