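import Mathlib
import Groth.Prelude.Def_ArtFun2
import Groth.Agent.Lib.helper19.ArtBasic

set_option autoImplicit false
universe u v
open CategoryTheory IsLocalRing

namespace Groth.Agent.Lib.helper19

theorem isPrecomplete_of_pow_eq_bot {R : Type*} [CommRing R] (I : Ideal R) (N : ℕ) (hN : I ^ N = ⊥) :
    IsPrecomplete I R := by
  refine ⟨fun f hf => ⟨f N, fun n => ?_⟩⟩
  rcases le_total n N with h | h
  · exact hf h
  · have h1 := hf h
    have h2 : (I ^ N • ⊤ : Submodule R R) = ⊥ := by
      rw [hN]; simp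
    rw [h2, SModEq.bot] at h1
    rw [h1]

theorem surjective_of_map_maximalIdeal_sup_sq {R S : Type*} [CommRing R] [CommRing S]
    [IsLocalRing R] [IsLocalRing S] [IsNoetherianRing S] (f : R →+* S)
    [IsPrecomplete (maximalIdeal R) R]
    (hres : ∀ s : S, ∃ r : R, s - f r ∈ maximalIdeal S)
    (hle : Ideal.map f (maximalIdeal R) ≤ maximalIdeal S)
    (h : Ideal.map f (maximalIdeal R) ⊔ maximalIdeal S ^ 2 = maximalIdeal S) :
    Function.Surjective f := by
  have h1 : maximalIdeal S ≤ Ideal.map f (maximalIdeal R) := by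
    apply Submodule.le_of_le_smul_of_le_jacobson_bot (I := maximalIdeal S)
      (IsNoetherian.noetherian _) (IsLocalRing.maximalIdeal_le_jacobson ⊥)
    rw [smul_eq_mul, ← pow_two, h]
  have h2 : Ideal.map f (maximalIdeal R) = maximalIdeal S := le_antisymm hle h1
  have : IsHausdorff (Ideal.map f (maximalIdeal R)) S := by rw [h2]; infer_instance
  apply surjective_of_mk_map_comp_surjective (I := maximalIdeal R) f
  intro y
  obtain ⟨s, rfl⟩ := Ideal.Quotient.mk_surjective y
  obtain ⟨r, hr⟩ := hres s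
  refine ⟨r, ?_⟩
  rw [RingHom.comp_apply]
  apply Ideal.Quotient.eq.mpr
  rw [h2]
  have := Ideal.neg_mem_iff _ |>.mpr hr
  rwa [neg_sub] at this

end Groth.Agent.Lib.helper19

namespace Groth.Agent.Lib.helper19

theorem tfae_cotangent {Λ : Type u} {k : Type u} [CommRing Λ] [Field k] [Algebra Λ k]
    {R S : Type u} [CommRing R] [CommRing S] [Algebra Λ R] [Algebra Λ S] [IsLocalRing R]
    [IsLocalRing S] [IsNoetherianRing S] [IsPrecomplete (maximalIdeal R) R]
    (resR : R →ₐ[Λ] k) (resS : S →ₐ[Λ] k) (hR : Function.Surjective resR)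
    (hS : Function.Surjective resS) (f : R →ₐ[Λ] S) (hf : resS.comp f = resR) :
    List.TFAE [Function.Surjective f,
      Ideal.map f (maximalIdeal R) ⊔ maximalIdeal S ^ 2 = maximalIdeal S,
      Ideal.map (algebraMap Λ S) (RingHom.ker (algebraMap Λ k)) ⊔ Ideal.map f (maximalIdeal R) ⊔
        maximalIdeal S ^ 2 = maximalIdeal S] := by
  have hmR : ∀ r : R, r ∈ maximalIdeal R ↔ resR r = 0 := by
    intro r
    have hmax : (RingHom.ker (resR : R →+* k)).IsMaximal :=
      RingHom.ker_isMaximal_of_surjective (resR : R →+* k) hR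
    rw [← IsLocalRing.eq_maximalIdeal hmax, RingHom.mem_ker]
    rfl
  have hmS : ∀ s : S, s ∈ maximalIdeal S ↔ resS s = 0 := by
    intro s
    have hmax : (RingHom.ker (resS : S →+* k)).IsMaximal :=
      RingHom.ker_isMaximal_of_surjective (resS : S →+* k) hS
    rw [← IsLocalRing.eq_maximalIdeal hmax, RingHom.mem_ker]
    rfl
  have hfres : ∀ r : R, resS (f r) = resR r := fun r => by rw [← hf]; rfl
  have hle : Ideal.map f (maximalIdeal R) ≤ maximalIdeal S := by
    rw [Ideal.map_le_iff_le_comap]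
    intro r hr
    rw [Ideal.mem_comap, hmS, hfres, ← hmR]
    exact hr
  have hΛ : Ideal.map (algebraMap Λ S) (RingHom.ker (algebraMap Λ k)) ≤
      Ideal.map f (maximalIdeal R) := by
    rw [Ideal.map_le_iff_le_comap]
    intro r hr
    rw [Ideal.mem_comap, ← f.commutes r]
    apply Ideal.mem_map_of_mem
    rw [hmR, resR.commutes]
    exact hr
  have hsq : maximalIdeal S ^ 2 ≤ maximalIdeal S := Ideal.pow_le_self (by norm_num)
  tfae_have 1 → 2 := by
    intro hsurj
    apply le_antisymm (sup_le hle hsq)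
    refine le_trans ?_ le_sup_left
    intro s hs
    obtain ⟨r, rfl⟩ := hsurj s
    apply Ideal.mem_map_of_mem
    rw [hmR, ← hfres, ← hmS]
    exact hs
  tfae_have 2 → 3 := by
    intro h2
    rw [sup_eq_right.mpr hΛ, h2]
  tfae_have 3 → 1 := by
    intro h3
    rw [sup_eq_right.mpr hΛ] at h3
    apply surjective_of_map_maximalIdeal_sup_sq (f : R →+* S) _ hle h3
    intro s
    obtain ⟨r, hr⟩ := hR (resS s)
    refine ⟨r, ?_⟩
    rw [hmS, map_sub]
    change resS s - resS (f r) = 0
    rw [hfres, hr, sub_self]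
  tfae_finish

end Groth.Agent.Lib.helper19
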