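import Mathlib
import Groth.Prelude.Def_W4sfdMinVersal
import Groth.Agent.Lib.helper19.ArtCotangent

set_option autoImplicit false
universe u v
open CategoryTheory IsLocalRing

namespace Groth.Agent.Lib.helper19

theorem isPrecomplete_map_of_surjective {R S : Type*} [CommRing R] [CommRing S] (I : Ideal R)
    (f : R →+* S) (hf : Function.Surjective f) [IsPrecomplete I R] :
    IsPrecomplete (I.map f) S := by
  constructor
  intro s hs
  -- differences
  have hd : ∀ n, ∃ d : R, d ∈ I ^ n ∧ f d = s (n + 1) - s n := by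
    intro n
    have h1 := hs (Nat.le_succ n)
    rw [SModEq.sub_mem] at h1
    have h2 : s (n + 1) - s n ∈ (I.map f) ^ n := by
      have : s n - s (n+1) ∈ (I.map f) ^ n := by simpa using h1
      have := Ideal.neg_mem_iff _ |>.mpr this
      rwa [neg_sub] at this
    rw [← Ideal.map_pow, Ideal.mem_map_iff_of_surjective f hf] at h2
    obtain ⟨d, hd, hfd⟩ := h2
    exact ⟨d, hd, hfd⟩
  choose d hdI hfd using hd
  obtain ⟨p0, hp0⟩ := hf (s 0)
  let p : ℕ → R := fun n => Nat.rec p0 (fun n q => q + d n) n
  have hp_succ : ∀ n, p (n + 1) = p n + d n := fun n => rfl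
  have hfp : ∀ n, f (p n) = s n := by
    intro n
    induction n with
    | zero => exact hp0
    | succ n ih => rw [hp_succ, map_add, ih, hfd]; ring
  have hcauchy : ∀ {m n}, m ≤ n → p m ≡ p n [SMOD (I ^ m • ⊤ : Submodule R R)] := by
    intro m n hmn
    induction n, hmn using Nat.le_induction with
    | base => rfl
    | succ n hmn ih =>
      refine ih.trans ?_
      rw [SModEq.sub_mem, hp_succ]
      have : p n - (p n + d n) = - d n := by ring
      rw [this]
      apply Submodule.neg_mem
      have : d n ∈ I ^ m := Ideal.pow_le_pow_right hmn (hdI n)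
      simpa using this
  obtain ⟨L, hL⟩ := IsPrecomplete.prec ‹IsPrecomplete I R› hcauchy
  refine ⟨f L, fun n => ?_⟩
  have h1 := hL n
  rw [SModEq.sub_mem] at h1 ⊢
  have h2 : p n - L ∈ I ^ n := by simpa using h1
  have h3 : f (p n - L) ∈ (I.map f) ^ n := by
    rw [← Ideal.map_pow]; exact Ideal.mem_map_of_mem f h2
  rw [map_sub, hfp] at h3
  simpa using h3

end Groth.Agent.Lib.helper19

namespace Groth.Agent.Lib.helper19

theorem map_mk_maximalIdeal {R : Type*} [CommRing R] [IsLocalRing R] (I : Ideal R)
    [IsLocalRing (R ⧸ I)] :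
    (maximalIdeal R).map (Ideal.Quotient.mk I) = maximalIdeal (R ⧸ I) := by
  apply le_antisymm
  · rw [Ideal.map_le_iff_le_comap]
    intro a ha
    rw [Ideal.mem_comap]
    rw [IsLocalRing.mem_maximalIdeal] at ha ⊢
    intro hu
    apply ha
    -- a is a unit mod I, I ≤ maximal ideal
    by_contra hna
    have hI : I ≤ maximalIdeal R := by
      apply IsLocalRing.le_maximalIdeal
      intro h
      have : Subsingleton (R ⧸ I) := by
        rw [h]; exact Ideal.Quotient.subsingleton_iff.mpr rfl
      exact not_subsingleton (R ⧸ I) this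
    obtain ⟨v, hv⟩ := hu.exists_right_inv
    obtain ⟨b, rfl⟩ := Ideal.Quotient.mk_surjective v
    rw [← map_mul, ← map_one (Ideal.Quotient.mk I), Ideal.Quotient.eq] at hv
    have h1 : a * b ∈ maximalIdeal R := Ideal.mul_mem_right _ _ hna
    have h2 : (1 : R) ∈ maximalIdeal R := by
      have := (maximalIdeal R).sub_mem h1 (hI hv)
      simpa using this
    exact (Ideal.ne_top_iff_one _).mp (maximalIdeal.isMaximal R).ne_top h2
  · intro x hx
    obtain ⟨a, rfl⟩ := Ideal.Quotient.mk_surjective x
    have ha : a ∈ maximalIdeal R := by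
      rw [IsLocalRing.mem_maximalIdeal] at hx ⊢
      exact fun hu => hx (hu.map (Ideal.Quotient.mk I))
    exact Ideal.mem_map_of_mem _ ha

theorem isAdicComplete_quotient {R : Type*} [CommRing R] [IsLocalRing R] [IsNoetherianRing R]
    [IsAdicComplete (maximalIdeal R) R] (I : Ideal R) [IsLocalRing (R ⧸ I)] :
    IsAdicComplete (maximalIdeal (R ⧸ I)) (R ⧸ I) := by
  have h1 : IsPrecomplete (maximalIdeal (R ⧸ I)) (R ⧸ I) := by
    rw [← map_mk_maximalIdeal I]
    exact isPrecomplete_map_of_surjective _ _ Ideal.Quotient.mk_surjective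
  exact { toIsHausdorff := inferInstance, toIsPrecomplete := h1 }

section
variable {Λ : Type u} {k : Type u} [CommRing Λ] [Field k] [Algebra Λ k]
open ArtFun

/-- The quotient of a coefficient ring by an ideal inside the maximal ideal. -/
noncomputable def cquot (R : CRing Λ k) (I : Ideal R.carrier) (hI : I ≤ maximalIdeal R.carrier) :
    CRing Λ k :=
  haveI : Nontrivial (R.carrier ⧸ I) := Ideal.Quotient.nontrivial_iff.2
    (fun h => (maximalIdeal.isMaximal R.carrier).ne_top (top_le_iff.1 (h ▸ hI)))
  haveI : IsLocalRing (R.carrier ⧸ I) :=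
    IsLocalRing.of_surjective' (Ideal.Quotient.mk I) Ideal.Quotient.mk_surjective
  haveI : IsAdicComplete (maximalIdeal R.carrier) R.carrier := R.isAdicComplete
  { carrier := R.carrier ⧸ I
    res := Ideal.Quotient.liftₐ I R.res (fun a ha => (R.mem_maximalIdeal_iff a).1 (hI ha))
    res_surjective := fun c => by
      obtain ⟨a, ha⟩ := R.res_surjective c
      exact ⟨Ideal.Quotient.mk I a, ha⟩
    isAdicComplete := isAdicComplete_quotient I }

/-- The quotient map. -/
noncomputable def cquotMk (R : CRing Λ k) (I : Ideal R.carrier) (hI : I ≤ maximalIdeal R.carrier) :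
    R.carrier →ₐ[Λ] (cquot R I hI).carrier := Ideal.Quotient.mkₐ Λ I

theorem cquotMk_res (R : CRing Λ k) (I : Ideal R.carrier) (hI : I ≤ maximalIdeal R.carrier) :
    (cquot R I hI).res.comp (cquotMk R I hI) = R.res :=
  Ideal.Quotient.liftₐ_comp _ _ _

theorem cquotMk_surjective (R : CRing Λ k) (I : Ideal R.carrier) (hI : I ≤ maximalIdeal R.carrier) :
    Function.Surjective (cquotMk R I hI) := Ideal.Quotient.mk_surjective

theorem cquotMk_ker (R : CRing Λ k) (I : Ideal R.carrier) (hI : I ≤ maximalIdeal R.carrier) :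
    RingHom.ker (cquotMk R I hI) = I := by
  ext x
  rw [RingHom.mem_ker]
  exact Ideal.Quotient.eq_zero_iff_mem

end

end Groth.Agent.Lib.helper19
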