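import Mathlib
import Groth.Prelude.Def_W4sfdMinVersal
import Groth.Agent.Lib.helper19.ArtBasic
import Groth.Agent.Lib.helper19.ArtFinite
import Groth.Agent.Lib.helper19.CRingQuot
import Groth.Agent.Lib.helper19.MvPSLemma

set_option autoImplicit false
universe u v
open CategoryTheory IsLocalRing

namespace Groth.Agent.Lib.helper19

theorem exists_sub_mem_pow_of_map {A S : Type*} [CommRing A] [CommRing S] (f : A →+* S)
    (𝔞 : Ideal A) (h : ∀ s : S, ∃ x : A, s - f x ∈ 𝔞.map f) (N : ℕ) (s : S) :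
    ∃ x : A, s - f x ∈ (𝔞.map f) ^ N := by
  have P : ∀ N : ℕ, ∀ y ∈ (𝔞.map f) ^ N, ∃ x ∈ 𝔞 ^ N, y - f x ∈ (𝔞.map f) ^ (N + 1) := by
    intro N y hy
    rw [← Ideal.map_pow] at hy
    have hmap : ∀ x ∈ 𝔞 ^ N, f x ∈ (𝔞.map f) ^ N := fun x hx => by
      rw [← Ideal.map_pow]; exact Ideal.mem_map_of_mem f hx
    refine Submodule.span_induction (p := fun y _ => ∃ x ∈ 𝔞 ^ N, y - f x ∈ (𝔞.map f) ^ (N + 1))
      ?_ ?_ ?_ ?_ hy
    · rintro _ ⟨z, hz, rfl⟩
      exact ⟨z, hz, by simp⟩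
    · exact ⟨0, Ideal.zero_mem _, by simp⟩
    · rintro y₁ y₂ _ _ ⟨x₁, hx₁, h₁⟩ ⟨x₂, hx₂, h₂⟩
      refine ⟨x₁ + x₂, Ideal.add_mem _ hx₁ hx₂, ?_⟩
      have : y₁ + y₂ - f (x₁ + x₂) = (y₁ - f x₁) + (y₂ - f x₂) := by rw [map_add]; ring
      rw [this]
      exact Ideal.add_mem _ h₁ h₂
    · rintro s y _ ⟨x, hx, h₁⟩
      obtain ⟨xs, hxs⟩ := h s
      refine ⟨xs * x, Ideal.mul_mem_left _ _ hx, ?_⟩
      have : s • y - f (xs * x) = s * (y - f x) + (s - f xs) * f x := by
        rw [map_mul, smul_eq_mul]; ring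
      rw [this]
      refine Ideal.add_mem _ (Ideal.mul_mem_left _ _ h₁) ?_
      rw [pow_succ']
      exact Ideal.mul_mem_mul hxs (hmap x hx)
  induction N with
  | zero => exact ⟨0, by simp⟩
  | succ N ih =>
    obtain ⟨x, hx⟩ := ih
    obtain ⟨x', _, hx'⟩ := P N _ hx
    refine ⟨x + x', ?_⟩
    have : s - f (x + x') = (s - f x) - f x' := by rw [map_add]; ring
    rw [this]
    exact hx'

end Groth.Agent.Lib.helper19

namespace Groth.Agent.Lib.helper19
namespace SmoothBase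

open MvPowerSeries

variable {Λ : Type u} {k : Type u} [CommRing Λ] [Field k] [Algebra Λ k]
variable {A₀ : Type u} [CommRing A₀] [Algebra Λ A₀] {r : ℕ} (a : Fin r → A₀)

/-- the ideal `(X_i - a_i)` of `A₀[[X_1, …, X_r]]` -/
noncomputable def Jd : Ideal (MvPowerSeries (Fin r) A₀) :=
  Ideal.span (Set.range fun i => (X i : MvPowerSeries (Fin r) A₀) - C (a i))

/-- the quotient `A₀[[X]]/(X_i - a_i)`, a model of the `(a)`-adic completion of `A₀` -/
abbrev Sq : Type u := MvPowerSeries (Fin r) A₀ ⧸ Jd a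

variable (Λ) in
/-- the structure map `A₀ → Sq` -/
noncomputable def ι : A₀ →ₐ[Λ] Sq a :=
  (Ideal.Quotient.mkₐ Λ (Jd a)).comp (IsScalarTower.toAlgHom Λ A₀ (MvPowerSeries (Fin r) A₀))

lemma ι_apply (x : A₀) : ι Λ a x = Ideal.Quotient.mk (Jd a) (C x) := rfl

lemma mk_X (i : Fin r) : Ideal.Quotient.mk (Jd a) (X i) = ι Λ a (a i) := by
  rw [ι_apply, Ideal.Quotient.eq]
  exact Ideal.subset_span ⟨i, rfl⟩

variable (ρ : A₀ →ₐ[Λ] k)

/-- `ρ ∘ constantCoeff` -/
noncomputable def ρP : MvPowerSeries (Fin r) A₀ →ₐ[Λ] k :=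
  { (ρ : A₀ →+* k).comp (constantCoeff (σ := Fin r) (R := A₀)) with
    commutes' := fun l => by
      change ρ (constantCoeff (algebraMap Λ (MvPowerSeries (Fin r) A₀) l)) = _
      rw [MvPowerSeries.algebraMap_apply, constantCoeff_C, AlgHom.commutes] }

lemma ρP_apply (p : MvPowerSeries (Fin r) A₀) : ρP (r := r) ρ p = ρ (constantCoeff p) := rfl

/-- the augmentation of `Sq` -/
noncomputable def res (h : ∀ i, ρ (a i) = 0) : Sq a →ₐ[Λ] k :=
  Ideal.Quotient.liftₐ (Jd a) (ρP ρ) (by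
    intro p hp
    have : Jd a ≤ RingHom.ker (ρP (r := r) ρ) := by
      rw [Jd, Ideal.span_le]
      rintro _ ⟨i, rfl⟩
      change ρP ρ _ = 0
      rw [ρP_apply, map_sub, constantCoeff_X, constantCoeff_C, zero_sub, map_neg, h, neg_zero]
    exact this hp)

variable {a ρ}

lemma res_mk (h : ∀ i, ρ (a i) = 0) (p : MvPowerSeries (Fin r) A₀) :
    res a ρ h (Ideal.Quotient.mk (Jd a) p) = ρ (constantCoeff p) := rfl

lemma res_ι (h : ∀ i, ρ (a i) = 0) (x : A₀) : res a ρ h (ι Λ a x) = ρ x := by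
  rw [ι_apply, res_mk, constantCoeff_C]

lemma res_surjective (h : ∀ i, ρ (a i) = 0) (hρ : Function.Surjective ρ) :
    Function.Surjective (res a ρ h) := fun c => by
  obtain ⟨x, hx⟩ := hρ c
  exact ⟨ι Λ a x, by rw [res_ι, hx]⟩

lemma isUnit_of_res_ne_zero (ha : Ideal.span (Set.range a) = RingHom.ker ρ)
    (hρ : Function.Surjective ρ) (h : ∀ i, ρ (a i) = 0) (s : Sq a) (hs : res a ρ h s ≠ 0) :
    IsUnit s := by
  obtain ⟨p, rfl⟩ := Ideal.Quotient.mk_surjective s
  rw [res_mk] at hs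
  set c₀ := constantCoeff p with hc₀
  obtain ⟨b, hb⟩ := hρ (ρ c₀)⁻¹
  have ht : c₀ * b - 1 ∈ Ideal.span (Set.range a) := by
    rw [ha, RingHom.mem_ker, map_sub, map_mul, hb, map_one, mul_inv_cancel₀ hs, sub_self]
  obtain ⟨β, hβ⟩ := (Ideal.mem_span_range_iff_exists_fun).mp ht
  set u : MvPowerSeries (Fin r) A₀ := p * C b + ∑ i, C (β i) * (X i - C (a i)) with hu
  have hu1 : constantCoeff u = 1 := by
    rw [hu, map_add, map_mul, constantCoeff_C, map_sum]
    have : ∀ i, constantCoeff (C (β i) * ((X i : MvPowerSeries (Fin r) A₀) - C (a i))) =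
        - (β i * a i) := by
      intro i
      rw [map_mul, map_sub, constantCoeff_C, constantCoeff_X, constantCoeff_C]; ring
    simp_rw [this]
    rw [Finset.sum_neg_distrib, hβ, ← hc₀]; ring
  have hunit : IsUnit u := by
    rw [MvPowerSeries.isUnit_iff_constantCoeff, hu1]; exact isUnit_one
  have hmk : Ideal.Quotient.mk (Jd a) u = Ideal.Quotient.mk (Jd a) p * Ideal.Quotient.mk (Jd a) (C b) := by
    rw [hu, map_add, map_mul, add_eq_left, Ideal.Quotient.eq_zero_iff_mem]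
    apply Ideal.sum_mem
    intro i _
    exact Ideal.mul_mem_left _ _ (Ideal.subset_span ⟨i, rfl⟩)
  have := hunit.map (Ideal.Quotient.mk (Jd a))
  rw [hmk] at this
  exact isUnit_of_mul_isUnit_left this


lemma nontrivial (h : ∀ i, ρ (a i) = 0) (hρ : Function.Surjective ρ) : Nontrivial (Sq a) := by
  obtain ⟨s, hs⟩ := res_surjective h hρ 1
  refine ⟨⟨s, 0, fun e => ?_⟩⟩
  rw [e, map_zero] at hs
  exact zero_ne_one hs

lemma isLocalRing (ha : Ideal.span (Set.range a) = RingHom.ker ρ)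
    (hρ : Function.Surjective ρ) (h : ∀ i, ρ (a i) = 0) : IsLocalRing (Sq a) := by
  haveI := nontrivial h hρ
  refine IsLocalRing.of_isUnit_or_isUnit_one_sub_self fun s => ?_
  by_cases hs : res a ρ h s = 0
  · right
    apply isUnit_of_res_ne_zero ha hρ h
    rw [map_sub, map_one, hs, sub_zero]
    exact one_ne_zero
  · left
    exact isUnit_of_res_ne_zero ha hρ h s hs

lemma h_of_ha (ha : Ideal.span (Set.range a) = RingHom.ker ρ) : ∀ i, ρ (a i) = 0 := fun i => by
  have : a i ∈ RingHom.ker ρ := by rw [← ha]; exact Ideal.subset_span ⟨i, rfl⟩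
  exact this

lemma mem_maximalIdeal_iff [IsLocalRing (Sq a)] (h : ∀ i, ρ (a i) = 0) (hρ : Function.Surjective ρ)
    (s : Sq a) : s ∈ maximalIdeal (Sq a) ↔ res a ρ h s = 0 := by
  have hmax : (RingHom.ker (res a ρ h : Sq a →+* k)).IsMaximal :=
    RingHom.ker_isMaximal_of_surjective (res a ρ h : Sq a →+* k) (res_surjective h hρ)
  rw [← IsLocalRing.eq_maximalIdeal hmax, RingHom.mem_ker]
  rfl

lemma mem_span_X_of_constantCoeff_eq_zero (p : MvPowerSeries (Fin r) A₀) (hp : constantCoeff p = 0) :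
    p ∈ Ideal.span (Set.range (X : Fin r → MvPowerSeries (Fin r) A₀)) := by
  have h1 := sub_truncTotal_mem_span_X_pow 1 p
  have h2 : truncTotal 1 p = 0 := by
    ext x
    rw [coeff_truncTotal_eq_ite, MvPolynomial.coeff_zero]
    split_ifs with hx
    · have : x = 0 := by
        have : Finsupp.degree x = 0 := by omega
        exact (Finsupp.degree_eq_zero_iff x).mp this
      rw [this]
      exact hp
    · rfl
  rw [h2, pow_one] at h1
  simpa using h1

lemma map_span_X_eq : (Ideal.span (Set.range (X : Fin r → MvPowerSeries (Fin r) A₀))).map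
    (Ideal.Quotient.mk (Jd a)) = Ideal.map (ι Λ a) (Ideal.span (Set.range a)) := by
  rw [Ideal.map_span, Ideal.map_span, ← Set.range_comp, ← Set.range_comp]
  congr 2
  ext i
  exact mk_X a i

lemma maximalIdeal_eq [IsLocalRing (Sq a)] (ha : Ideal.span (Set.range a) = RingHom.ker ρ)
    (hρ : Function.Surjective ρ) :
    maximalIdeal (Sq a) = Ideal.map (ι Λ a) (Ideal.span (Set.range a)) := by
  have h := h_of_ha ha
  apply le_antisymm
  · intro s hs
    rw [mem_maximalIdeal_iff h hρ] at hs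
    obtain ⟨p, rfl⟩ := Ideal.Quotient.mk_surjective s
    rw [res_mk] at hs
    have hc : constantCoeff p ∈ Ideal.span (Set.range a) := by rw [ha]; exact hs
    have h1 : p - C (constantCoeff p) ∈
        Ideal.span (Set.range (X : Fin r → MvPowerSeries (Fin r) A₀)) :=
      mem_span_X_of_constantCoeff_eq_zero _ (by rw [map_sub, constantCoeff_C, sub_self])
    have h2 : Ideal.Quotient.mk (Jd a) (p - C (constantCoeff p)) ∈
        Ideal.map (ι Λ a) (Ideal.span (Set.range a)) := by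
      rw [← map_span_X_eq]; exact Ideal.mem_map_of_mem _ h1
    have h3 : ι Λ a (constantCoeff p) ∈ Ideal.map (ι Λ a) (Ideal.span (Set.range a)) :=
      Ideal.mem_map_of_mem _ hc
    have : Ideal.Quotient.mk (Jd a) p =
        Ideal.Quotient.mk (Jd a) (p - C (constantCoeff p)) + ι Λ a (constantCoeff p) := by
      rw [ι_apply, ← map_add]; congr 1; ring
    rw [this]
    exact Ideal.add_mem _ h2 h3
  · rw [Ideal.map_le_iff_le_comap, Ideal.span_le]
    rintro _ ⟨i, rfl⟩
    change ι Λ a (a i) ∈ maximalIdeal (Sq a)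
    rw [mem_maximalIdeal_iff h hρ, res_ι, h]

lemma isAdicComplete [IsNoetherianRing A₀] [IsLocalRing (Sq a)]
    (ha : Ideal.span (Set.range a) = RingHom.ker ρ) (hρ : Function.Surjective ρ) :
    IsAdicComplete (maximalIdeal (Sq a)) (Sq a) := by
  have h1 : IsPrecomplete (maximalIdeal (Sq a)) (Sq a) := by
    rw [maximalIdeal_eq (Λ := Λ) ha hρ, ← map_span_X_eq]
    exact isPrecomplete_map_of_surjective _ _ Ideal.Quotient.mk_surjective
  exact { toIsHausdorff := inferInstance, toIsPrecomplete := h1 }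

lemma exists_sub_mem_pow [IsLocalRing (Sq a)] (ha : Ideal.span (Set.range a) = RingHom.ker ρ)
    (hρ : Function.Surjective ρ) (N : ℕ) (s : Sq a) :
    ∃ x : A₀, s - ι Λ a x ∈ maximalIdeal (Sq a) ^ N := by
  have h := h_of_ha ha
  rw [maximalIdeal_eq (Λ := Λ) ha hρ]
  refine exists_sub_mem_pow_of_map (ι Λ a : A₀ →+* Sq a) _ (fun s => ?_) N s
  obtain ⟨x, hx⟩ := hρ (res a ρ h s)
  refine ⟨x, ?_⟩
  have := (mem_maximalIdeal_iff h hρ (s - ι Λ a x)).mpr (by rw [map_sub, res_ι, hx, sub_self])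
  rw [maximalIdeal_eq (Λ := Λ) ha hρ] at this
  exact this


lemma hom_ext [IsLocalRing (Sq a)] (ha : Ideal.span (Set.range a) = RingHom.ker ρ)
    (hρ : Function.Surjective ρ) {B : Type*} [CommRing B] (φ₁ φ₂ : Sq a →+* B) (N : ℕ)
    (h1 : ∀ y ∈ maximalIdeal (Sq a) ^ N, φ₁ y = 0) (h2 : ∀ y ∈ maximalIdeal (Sq a) ^ N, φ₂ y = 0)
    (h : ∀ x, φ₁ (ι Λ a x) = φ₂ (ι Λ a x)) : φ₁ = φ₂ := by
  refine RingHom.ext fun s => ?_
  obtain ⟨x, hx⟩ := exists_sub_mem_pow (Λ := Λ) ha hρ N s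
  have e1 := h1 _ hx
  have e2 := h2 _ hx
  rw [map_sub, sub_eq_zero] at e1 e2
  rw [e1, e2, h]

lemma algebraMap_coe' {σ : Type*} {R : Type*} [CommRing R] (q : MvPolynomial σ R) :
    algebraMap (MvPolynomial σ R) (MvPowerSeries σ R) q = (q : MvPowerSeries σ R) := by
  rw [MvPowerSeries.algebraMap_apply', Algebra.algebraMap_self, MvPowerSeries.map_id]
  rfl

lemma truncTotalAlgHom_coe {σ : Type*} [Finite σ] {R : Type*} [CommRing R] (N : ℕ)
    (q : MvPolynomial σ R) :
    truncTotalAlgHom σ R N (q : MvPowerSeries σ R) = Ideal.Quotient.mk _ q := by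
  rw [← algebraMap_coe', AlgHom.commutes]
  rfl

/-- Ring homomorphisms out of `A₀[[X]]` into a ring where the prescribed images of the variables
generate a nilpotent ideal. -/
lemma exists_ringHom_of_nilpotent {B : Type*} [CommRing B] (ψ : A₀ →+* B) (b : Fin r → B) (N : ℕ)
    (hN : (Ideal.span (Set.range b)) ^ N = ⊥) :
    ∃ χ : MvPowerSeries (Fin r) A₀ →+* B, (∀ x, χ (C x) = ψ x) ∧ ∀ i, χ (X i) = b i := by
  set ev : MvPolynomial (Fin r) A₀ →+* B := MvPolynomial.eval₂Hom ψ b with hev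
  have hmap : Ideal.map ev (MvPolynomial.idealOfVars (Fin r) A₀) = Ideal.span (Set.range b) := by
    rw [MvPolynomial.idealOfVars, Ideal.map_span, ← Set.range_comp]
    congr 2
    ext i
    simp [hev]
  have hker : ∀ q ∈ MvPolynomial.idealOfVars (Fin r) A₀ ^ N, ev q = 0 := by
    intro q hq
    have : ev q ∈ Ideal.map ev (MvPolynomial.idealOfVars (Fin r) A₀ ^ N) :=
      Ideal.mem_map_of_mem _ hq
    rw [Ideal.map_pow, hmap, hN] at this
    exact this
  refine ⟨(Ideal.Quotient.lift _ ev hker).comp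
    (truncTotalAlgHom (Fin r) A₀ N : MvPowerSeries (Fin r) A₀ →+* _), fun x => ?_, fun i => ?_⟩
  · rw [RingHom.comp_apply, ← MvPolynomial.coe_C]
    change Ideal.Quotient.lift _ ev hker (truncTotalAlgHom (Fin r) A₀ N _) = _
    rw [truncTotalAlgHom_coe, Ideal.Quotient.lift_mk]
    simp [hev]
  · rw [RingHom.comp_apply, ← MvPolynomial.coe_X]
    change Ideal.Quotient.lift _ ev hker (truncTotalAlgHom (Fin r) A₀ N _) = _
    rw [truncTotalAlgHom_coe, Ideal.Quotient.lift_mk]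
    simp [hev]

end SmoothBase
end Groth.Agent.Lib.helper19

namespace Groth.Agent.Lib.helper19

open ArtFun

variable {Λ : Type u} {k : Type u} [CommRing Λ] [Field k] [Algebra Λ k]

/-- "Completion" of a Noetherian augmented `Λ`-algebra `A₀ → k` at the kernel of the augmentation, as a
coefficient ring, with its universal property with respect to Artinian test rings. -/
theorem exists_cring_completion (A₀ : Type u) [CommRing A₀] [Algebra Λ A₀] [IsNoetherianRing A₀]
    (ρ : A₀ →ₐ[Λ] k) (hρ : Function.Surjective ρ) :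
    ∃ (S : CRing Λ k) (ι : A₀ →ₐ[Λ] S.carrier), S.res.comp ι = ρ ∧
      ∀ (B : Art Λ k) (ψ : A₀ →ₐ[Λ] B), B.res.comp ψ = ρ →
        ∃! φ : HomSet S.carrier S.res B, φ.1.comp ι = ψ := by
  obtain ⟨r, a, ha⟩ := Submodule.fg_iff_exists_fin_generating_family.mp
    (IsNoetherian.noetherian (RingHom.ker (ρ : A₀ →+* k)))
  have ha : Ideal.span (Set.range a) = RingHom.ker ρ := ha
  have h := SmoothBase.h_of_ha ha
  haveI : IsLocalRing (SmoothBase.Sq a) := SmoothBase.isLocalRing ha hρ h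
  let S : CRing Λ k :=
    { carrier := SmoothBase.Sq a
      res := SmoothBase.res a ρ h
      res_surjective := SmoothBase.res_surjective h hρ
      isAdicComplete := SmoothBase.isAdicComplete (Λ := Λ) ha hρ }
  refine ⟨S, SmoothBase.ι Λ a, AlgHom.ext fun x => SmoothBase.res_ι h x, ?_⟩
  intro B ψ hψ
  have hψ' : ∀ x, B.res (ψ x) = ρ x := fun x => by rw [← hψ]; rfl
  obtain ⟨N, hN⟩ := art_maximalIdeal_nilpotent B
  -- any augmented hom kills m^N
  have hkill : ∀ φ : HomSet S.carrier S.res B, ∀ y ∈ maximalIdeal (SmoothBase.Sq a) ^ N,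
      φ.1 y = 0 := by
    intro φ y hy
    have h1 : Ideal.map (φ.1 : SmoothBase.Sq a →+* B) (maximalIdeal (SmoothBase.Sq a)) ≤
        maximalIdeal B := by
      rw [Ideal.map_le_iff_le_comap]
      intro s hs
      rw [Ideal.mem_comap, Art.mem_maximalIdeal_iff]
      have : B.res (φ.1 s) = S.res s := congrArg (fun f => f s) φ.2
      change B.res (φ.1 s) = 0
      rw [this]
      exact (SmoothBase.mem_maximalIdeal_iff h hρ s).mp hs
    have h2 : (φ.1 : SmoothBase.Sq a →+* B) y ∈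
        Ideal.map (φ.1 : SmoothBase.Sq a →+* B) (maximalIdeal (SmoothBase.Sq a) ^ N) :=
      Ideal.mem_map_of_mem _ hy
    rw [Ideal.map_pow] at h2
    have h3 := Ideal.pow_right_mono h1 N h2
    rw [hN] at h3
    exact h3
  -- existence
  have hb : ∀ i, ψ (a i) ∈ maximalIdeal B := fun i => by
    rw [Art.mem_maximalIdeal_iff, hψ', h]
  have hbN : (Ideal.span (Set.range fun i => ψ (a i))) ^ N = ⊥ := by
    rw [← le_bot_iff, ← hN]
    apply Ideal.pow_right_mono
    rw [Ideal.span_le]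
    rintro _ ⟨i, rfl⟩
    exact hb i
  obtain ⟨χ, hχC, hχX⟩ := SmoothBase.exists_ringHom_of_nilpotent (ψ : A₀ →+* B)
    (fun i => ψ (a i)) N hbN
  have hχJ : ∀ p ∈ SmoothBase.Jd a, χ p = 0 := by
    intro p hp
    have : SmoothBase.Jd a ≤ RingHom.ker χ := by
      rw [SmoothBase.Jd, Ideal.span_le]
      rintro _ ⟨i, rfl⟩
      change χ _ = 0
      rw [map_sub, hχX, hχC]
      exact sub_self _
    exact this hp
  let φ₀ : SmoothBase.Sq a →+* B := Ideal.Quotient.lift (SmoothBase.Jd a) χ hχJ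
  have hφ₀ι : ∀ x, φ₀ (SmoothBase.ι Λ a x) = ψ x := fun x => by
    rw [SmoothBase.ι_apply]
    exact hχC x
  let φ : SmoothBase.Sq a →ₐ[Λ] B :=
    { φ₀ with
      commutes' := fun l => by
        have : algebraMap Λ (SmoothBase.Sq a) l = SmoothBase.ι Λ a (algebraMap Λ A₀ l) := by
          rw [AlgHom.commutes]
        change φ₀ (algebraMap Λ (SmoothBase.Sq a) l) = _
        rw [this, hφ₀ι, AlgHom.commutes] }
  have hφι : ∀ x, φ (SmoothBase.ι Λ a x) = ψ x := hφ₀ι
  have hφres : B.res.comp φ = S.res := by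
    apply AlgHom.ext
    intro s
    obtain ⟨x, hx⟩ := SmoothBase.exists_sub_mem_pow (Λ := Λ) ha hρ 1 s
    rw [pow_one] at hx
    have e1 : S.res (s - SmoothBase.ι Λ a x) = 0 :=
      (SmoothBase.mem_maximalIdeal_iff h hρ _).mp hx
    have e2 : B.res (φ (s - SmoothBase.ι Λ a x)) = 0 := by
      rw [← Art.mem_maximalIdeal_iff]
      rw [SmoothBase.maximalIdeal_eq (Λ := Λ) ha hρ] at hx
      have h4 : Ideal.map (φ : SmoothBase.Sq a →+* B)
          (Ideal.map (SmoothBase.ι Λ a) (Ideal.span (Set.range a))) ≤ maximalIdeal B := by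
        rw [Ideal.map_le_iff_le_comap, Ideal.map_le_iff_le_comap, Ideal.span_le]
        rintro _ ⟨i, rfl⟩
        change φ (SmoothBase.ι Λ a (a i)) ∈ maximalIdeal B
        rw [hφι]
        exact hb i
      exact h4 (Ideal.mem_map_of_mem _ hx)
    rw [map_sub, sub_eq_zero] at e1
    rw [map_sub, map_sub, sub_eq_zero, hφι, hψ'] at e2
    change B.res (φ s) = S.res s
    rw [e2, e1]
    exact (SmoothBase.res_ι h x).symm
  refine ⟨⟨φ, hφres⟩, AlgHom.ext hφι, ?_⟩
  intro φ' hφ'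
  apply Subtype.ext
  apply AlgHom.coe_ringHom_injective
  apply SmoothBase.hom_ext (Λ := Λ) ha hρ _ _ N (hkill φ') (hkill ⟨φ, hφres⟩)
  intro x
  change φ'.1 (SmoothBase.ι Λ a x) = φ (SmoothBase.ι Λ a x)
  rw [hφι, ← hφ']
  rfl

end Groth.Agent.Lib.helper19

namespace Groth.Agent.Lib.helper19

open ArtFun

variable {Λ : Type u} {k : Type u} [CommRing Λ] [Field k] [Algebra Λ k]

/-- For every object `A` there is a coefficient ring `S` with `h_S` smooth and a surjection `S → A`. -/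
theorem exists_smooth_cring_surjective [IsNoetherianRing Λ] [Module.Finite Λ k] (A : Art Λ k) :
    ∃ (S : CRing Λ k) (π : HomSet S.carrier S.res A), Function.Surjective π.1 ∧
      IsSmoothFunctor (hR S.carrier S.res) := by
  have hfl := art_isFiniteLength A
  have hfin : Module.Finite Λ A := by
    rw [isFiniteLength_iff_isNoetherian_isArtinian] at hfl
    haveI := hfl.1
    infer_instance
  have hft : Algebra.FiniteType Λ A := inferInstance
  obtain ⟨n, θ, hθ⟩ := Algebra.FiniteType.iff_quotient_mvPolynomial''.mp hft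
  set ρ : MvPolynomial (Fin n) Λ →ₐ[Λ] k := A.res.comp θ with hρdef
  have hρ : Function.Surjective ρ := A.res_surjective.comp hθ
  obtain ⟨S, ι, hι, huniv⟩ := exists_cring_completion (MvPolynomial (Fin n) Λ) ρ hρ
  obtain ⟨π, hπ, -⟩ := huniv A θ rfl
  refine ⟨S, π, ?_, ?_⟩
  · intro x
    obtain ⟨q, rfl⟩ := hθ x
    exact ⟨ι q, by rw [← hπ]; rfl⟩
  · intro B A' μ hμ φ
    set ψ : MvPolynomial (Fin n) Λ →ₐ[Λ] A' := φ.1.comp ι with hψ
    have hψres : A'.res.comp ψ = ρ := by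
      rw [hψ, ← AlgHom.comp_assoc, φ.2, hι]
    choose b hb using fun i => hμ (ψ (MvPolynomial.X i))
    set ψ' : MvPolynomial (Fin n) Λ →ₐ[Λ] B := MvPolynomial.aeval b with hψ'
    have hμψ' : μ.toAlgHom.comp ψ' = ψ := by
      apply MvPolynomial.algHom_ext
      intro i
      rw [AlgHom.comp_apply, hψ', MvPolynomial.aeval_X]
      exact hb i
    have hψ'res : B.res.comp ψ' = ρ := by
      rw [← hψres, ← hμψ', ← AlgHom.comp_assoc, μ.res_comp]
    obtain ⟨φ', hφ', -⟩ := huniv B ψ' hψ'res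
    refine ⟨φ', ?_⟩
    obtain ⟨φ₀, -, huni⟩ := huniv A' ψ hψres
    have e1 : HomSet.map μ φ' = φ₀ := huni _ (by
      change (μ.toAlgHom.comp φ'.1).comp ι = ψ
      rw [AlgHom.comp_assoc, hφ', hμψ'])
    have e2 : φ = φ₀ := huni _ rfl
    change HomSet.map μ φ' = φ
    rw [e1, e2]

end Groth.Agent.Lib.helper19
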