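import Mathlib
import Groth.Prelude.Def_W4sfdMinVersal
import Groth.Agent.Lib.helper19.PSComplete
import Groth.Agent.Lib.helper19.SmoothBase

set_option autoImplicit false
universe u v
open IsLocalRing MvPowerSeries ArtFun

namespace Groth.Agent.Lib.helper19

section Ext

variable {σ : Type*} [Finite σ] {R : Type*} [CommRing R]

/-- ring homs out of a power series ring killing a power of `(X)` are determined by constants and
variables -/
theorem ps_ringHom_ext {B : Type*} [CommRing B] (φ₁ φ₂ : MvPowerSeries σ R →+* B) (N : ℕ)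
    (h1 : ∀ y ∈ (Ideal.span (Set.range (X : σ → MvPowerSeries σ R))) ^ N, φ₁ y = 0)
    (h2 : ∀ y ∈ (Ideal.span (Set.range (X : σ → MvPowerSeries σ R))) ^ N, φ₂ y = 0)
    (hC : ∀ r, φ₁ (C r) = φ₂ (C r)) (hX : ∀ i, φ₁ (X i) = φ₂ (X i)) : φ₁ = φ₂ := by
  have hpoly : φ₁.comp (MvPolynomial.coeToMvPowerSeries.ringHom (R := R) (σ := σ)) =
      φ₂.comp MvPolynomial.coeToMvPowerSeries.ringHom := by
    apply MvPolynomial.ringHom_ext
    · intro r
      change φ₁ ((MvPolynomial.C r : MvPolynomial σ R) : MvPowerSeries σ R) =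
        φ₂ ((MvPolynomial.C r : MvPolynomial σ R) : MvPowerSeries σ R)
      rw [MvPolynomial.coe_C]
      exact hC r
    · intro i
      change φ₁ ((MvPolynomial.X i : MvPolynomial σ R) : MvPowerSeries σ R) =
        φ₂ ((MvPolynomial.X i : MvPolynomial σ R) : MvPowerSeries σ R)
      rw [MvPolynomial.coe_X]
      exact hX i
  refine RingHom.ext fun p => ?_
  have hp := sub_truncTotal_mem_span_X_pow N p
  have e1 := h1 _ hp
  have e2 := h2 _ hp
  rw [map_sub, sub_eq_zero] at e1 e2
  rw [e1, e2]
  exact DFunLike.congr_fun hpoly _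

/-- a ring hom sending the variables into an ideal with `J^N = 0` kills `(X)^N` -/
theorem ps_ringHom_vanish {B : Type*} [CommRing B] (φ : MvPowerSeries σ R →+* B) (J : Ideal B)
    (hX : ∀ i, φ (X i) ∈ J) (N : ℕ) (hJ : J ^ N = ⊥) :
    ∀ y ∈ (Ideal.span (Set.range (X : σ → MvPowerSeries σ R))) ^ N, φ y = 0 := by
  intro y hy
  have h1 : φ y ∈ Ideal.map φ ((Ideal.span (Set.range (X : σ → MvPowerSeries σ R))) ^ N) :=
    Ideal.mem_map_of_mem _ hy
  rw [Ideal.map_pow, Ideal.map_span] at h1
  have h2 : Ideal.span (φ '' Set.range (X : σ → MvPowerSeries σ R)) ≤ J := by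
    rw [Ideal.span_le]
    rintro _ ⟨_, ⟨i, rfl⟩, rfl⟩
    exact hX i
  have h3 := Ideal.pow_right_mono h2 N h1
  rw [hJ] at h3
  exact h3

end Ext

section PSCRing

variable {Λ : Type u} {k : Type u} [CommRing Λ] [Field k] [Algebra Λ k]

/-- the power series ring over a coefficient ring, as a coefficient ring -/
@[reducible] noncomputable def psCRing (R : CRing Λ k) (n : ℕ) : CRing Λ k :=
  haveI : IsAdicComplete (maximalIdeal R.carrier) R.carrier := R.isAdicComplete
  { carrier := MvPowerSeries (Fin n) R.carrier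
    res := SmoothBase.ρP (r := n) R.res
    res_surjective := fun c => by
      obtain ⟨a, ha⟩ := R.res_surjective c
      exact ⟨C a, by rw [SmoothBase.ρP_apply, constantCoeff_C, ha]⟩
    isAdicComplete := PSC.isAdicComplete }

theorem psCRing_res_apply (R : CRing Λ k) (n : ℕ) (p : MvPowerSeries (Fin n) R.carrier) :
    (psCRing R n).res p = R.res (constantCoeff p) := rfl

end PSCRing

end Groth.Agent.Lib.helper19
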