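import Mathlib
import Groth.Prelude.Def_ArtFun3
import Groth.Agent.Lib.helper19.PSCRing
import Groth.Agent.Lib.helper19.SmoothBase
import Groth.Agent.Lib.helper19.ArtBasic

set_option autoImplicit false
universe u v
open CategoryTheory IsLocalRing ArtFun ArtFun.Art MvPowerSeries
open scoped TensorProduct

namespace Groth.Agent.Lib.helper19

namespace ObsPS

noncomputable section

variable {k : Type u} [Field k] {d : ℕ}

variable (k d) in
/-- the power series ring -/
abbrev PSk : Type u := MvPowerSeries (Fin d) k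

local notation "S" => PSk k d

/-- every `k`-algebra map `k[[t]] → k` kills the maximal ideal -/
theorem algHom_eq_zero_of_mem (ρ : S →ₐ[k] k) (a : S) (ha : a ∈ maximalIdeal S) : ρ a = 0 := by
  have hsurj : Function.Surjective (ρ : S →+* k) := fun c =>
    ⟨algebraMap k S c, ρ.commutes c⟩
  have hmax : (RingHom.ker (ρ : S →+* k)).IsMaximal := RingHom.ker_isMaximal_of_surjective _ hsurj
  have := IsLocalRing.eq_maximalIdeal hmax
  rw [← this] at ha
  exact ha

theorem X_mem_maximalIdeal (i : Fin d) : (X i : S) ∈ maximalIdeal S := by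
  rw [mem_maximalIdeal, mem_nonunits_iff, MvPowerSeries.isUnit_iff_constantCoeff, constantCoeff_X]
  exact not_isUnit_zero

/-- `k`-algebra maps from `k[[t]]` to an Artinian local `k`-algebra send the maximal ideal
into the maximal ideal -/
theorem algHom_mem_maximalIdeal {C : Art k k} (χ : S →ₐ[k] C) (a : S) (ha : a ∈ maximalIdeal S) :
    χ a ∈ maximalIdeal C := by
  rw [Art.mem_maximalIdeal_iff]
  exact algHom_eq_zero_of_mem (C.res.comp χ) a ha

/-- uniqueness of `k`-algebra maps out of `k[[t]]` -/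
theorem algHom_ext {C : Art k k} (χ₁ χ₂ : S →ₐ[k] C) (hX : ∀ i, χ₁ (X i) = χ₂ (X i)) : χ₁ = χ₂ := by
  obtain ⟨N, hN⟩ := art_maximalIdeal_nilpotent C
  have key : (χ₁ : S →+* C) = (χ₂ : S →+* C) :=
    ps_ringHom_ext _ _ N
      (ps_ringHom_vanish (χ₁ : S →+* C) (maximalIdeal C)
        (fun i => algHom_mem_maximalIdeal χ₁ _ (X_mem_maximalIdeal i)) N hN)
      (ps_ringHom_vanish (χ₂ : S →+* C) (maximalIdeal C)
        (fun i => algHom_mem_maximalIdeal χ₂ _ (X_mem_maximalIdeal i)) N hN)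
      (fun r => by
        have h1 : (MvPowerSeries.C r : S) = algebraMap k S r := by
          rw [MvPowerSeries.algebraMap_apply, Algebra.algebraMap_self, RingHom.id_apply]
        change χ₁ (MvPowerSeries.C r) = χ₂ (MvPowerSeries.C r)
        rw [h1, χ₁.commutes, χ₂.commutes]) hX
  apply AlgHom.ext
  intro p
  exact DFunLike.congr_fun key p

/-- existence of `k`-algebra maps out of `k[[t]]` -/
theorem exists_algHom {C : Art k k} (c : Fin d → C) (hc : ∀ i, c i ∈ maximalIdeal C) :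
    ∃ χ : S →ₐ[k] C, ∀ i, χ (X i) = c i := by
  obtain ⟨N, hN⟩ := art_maximalIdeal_nilpotent C
  have hspan : Ideal.span (Set.range c) ^ N = ⊥ := by
    rw [eq_bot_iff, ← hN]
    apply Ideal.pow_right_mono
    rw [Ideal.span_le]
    rintro _ ⟨i, rfl⟩
    exact hc i
  obtain ⟨χ, hχC, hχX⟩ := SmoothBase.exists_ringHom_of_nilpotent (algebraMap k C) c N hspan
  refine ⟨{ χ with
      commutes' := fun l => by
        change χ (algebraMap k S l) = algebraMap k C l
        rw [MvPowerSeries.algebraMap_apply, Algebra.algebraMap_self, RingHom.id_apply, hχC] }, hχX⟩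

/-- lifting `k`-algebra maps out of `k[[t]]` along surjections -/
theorem exists_lift {C' C : Art k k} (p : C' ⟶ C) (hp : Function.Surjective p) (χ₀ : S →ₐ[k] C) :
    ∃ χ : S →ₐ[k] C', p.toAlgHom.comp χ = χ₀ := by
  choose c hc using fun i => hp (χ₀ (X i))
  have hcm : ∀ i, c i ∈ maximalIdeal C' := by
    intro i
    rw [Art.mem_maximalIdeal_iff, ← Art.res_app p, hc, ← Art.mem_maximalIdeal_iff]
    exact algHom_mem_maximalIdeal χ₀ _ (X_mem_maximalIdeal i)
  obtain ⟨χ, hχ⟩ := exists_algHom c hcm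
  refine ⟨χ, ?_⟩
  apply algHom_ext
  intro i
  change p (χ (X i)) = χ₀ (X i)
  rw [hχ, hc]

/-- two lifts along a semismall extension agree on the square of the maximal ideal -/
theorem lift_eq_on_sq {C' C : Art k k} (p : C' ⟶ C) (hp : IsSemismallExt p) (χ₁ χ₂ : S →ₐ[k] C')
    (h : p.toAlgHom.comp χ₁ = p.toAlgHom.comp χ₂) (a : S) (ha : a ∈ maximalIdeal S ^ 2) :
    χ₁ a = χ₂ a := by
  have hker : ∀ s, χ₁ s - χ₂ s ∈ RingHom.ker p.toAlgHom := by
    intro s
    rw [RingHom.mem_ker, map_sub, sub_eq_zero]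
    exact DFunLike.congr_fun h s
  have hkill : ∀ (x : C') (y : C'), x ∈ maximalIdeal C' → y ∈ RingHom.ker p.toAlgHom → x * y = 0 := by
    intro x y hx hy
    have : x * y ∈ maximalIdeal C' * RingHom.ker p.toAlgHom := Ideal.mul_mem_mul hx hy
    rw [hp.2] at this
    exact this
  rw [pow_two] at ha
  refine Submodule.mul_induction_on ha ?_ ?_
  · intro u hu v hv
    have h1 : χ₁ (u * v) - χ₂ (u * v) = χ₁ u * (χ₁ v - χ₂ v) + χ₂ v * (χ₁ u - χ₂ u) := by
      rw [map_mul, map_mul]; ring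
    rw [← sub_eq_zero, h1, hkill _ _ (algHom_mem_maximalIdeal χ₁ u hu) (hker v),
      hkill _ _ (algHom_mem_maximalIdeal χ₂ v hv) (hker u), add_zero]
  · intro u v hu hv
    rw [map_add, map_add, hu, hv]

section Obs

variable (J : Ideal (PSk k d))

/-- the submodule `n J` of `J` -/
abbrev NJ : Submodule S ↥J := maximalIdeal S • (⊤ : Submodule S ↥J)

theorem mkQ_smul (s : S) (y : ↥J) :
    (NJ J).mkQ (s • y) = (constantCoeff s : k) • (NJ J).mkQ y := by
  have h1 : s = MvPowerSeries.C (constantCoeff s) + (s - MvPowerSeries.C (constantCoeff s)) := by ring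
  have h2 : s - MvPowerSeries.C (constantCoeff s) ∈ maximalIdeal S := by
    rw [mem_maximalIdeal, mem_nonunits_iff, MvPowerSeries.isUnit_iff_constantCoeff, map_sub,
      constantCoeff_C, sub_self]
    exact not_isUnit_zero
  have h3 : (NJ J).mkQ ((s - MvPowerSeries.C (constantCoeff s)) • y) = 0 := by
    rw [Submodule.mkQ_apply, Submodule.Quotient.mk_eq_zero]
    exact Submodule.smul_mem_smul h2 Submodule.mem_top
  have h4 : (MvPowerSeries.C (constantCoeff s) : S) • y = (constantCoeff s : k) • y := by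
    rw [← algebraMap_smul S (constantCoeff s : k) y, MvPowerSeries.algebraMap_apply,
      Algebra.algebraMap_self, RingHom.id_apply]
  conv_lhs => rw [h1]
  rw [add_smul, map_add, h3, add_zero, h4]
  rfl

instance finite_quot : Module.Finite k (↥J ⧸ NJ J) := by
  classical
  haveI : Module.Finite S ↥J := Module.Finite.of_fg (IsNoetherian.noetherian J)
  obtain ⟨t, ht⟩ := (Module.Finite.fg_top : (⊤ : Submodule S ↥J).FG)
  refine ⟨⟨t.image (NJ J).mkQ, ?_⟩⟩
  rw [eq_top_iff]
  rintro x -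
  obtain ⟨y, rfl⟩ := (NJ J).mkQ_surjective x
  have hy : y ∈ Submodule.span S (t : Set ↥J) := by rw [ht]; trivial
  refine Submodule.span_induction (p := fun y _ => (NJ J).mkQ y ∈
    Submodule.span k ((t.image (NJ J).mkQ : Finset (↥J ⧸ NJ J)) : Set (↥J ⧸ NJ J))) ?_ ?_ ?_ ?_ hy
  · intro z hz
    apply Submodule.subset_span
    rw [Finset.coe_image]
    exact ⟨z, hz, rfl⟩
  · rw [map_zero]
    exact Submodule.zero_mem _
  · intro u v _ _ hu hv
    rw [map_add]
    exact Submodule.add_mem _ hu hv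
  · intro s u _ hu
    rw [mkQ_smul]
    exact Submodule.smul_mem _ _ hu

variable (res : (PSk k d ⧸ J) →ₐ[k] k)

/-- lifts of `φ ∘ π` along `p` -/
def Lift {C' C : Art k k} (p : C' ⟶ C) (φ : HomSet (S ⧸ J) res C) : Type u :=
  {χ : S →ₐ[k] C' // p.toAlgHom.comp χ = φ.1.comp (Ideal.Quotient.mkₐ k J)}

theorem lift_nonempty {C' C : Art k k} (p : C' ⟶ C) (hp : Function.Surjective p)
    (φ : HomSet (S ⧸ J) res C) : Nonempty (Lift J res p φ) := by
  obtain ⟨χ, hχ⟩ := exists_lift p hp (φ.1.comp (Ideal.Quotient.mkₐ k J))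
  exact ⟨⟨χ, hχ⟩⟩

theorem lift_mem_ker {C' C : Art k k} (p : C' ⟶ C) (φ : HomSet (S ⧸ J) res C)
    (χ : Lift J res p φ) (j : ↥J) : χ.1 (j : S) ∈ RingHom.ker p.toAlgHom := by
  rw [RingHom.mem_ker]
  have h1 := DFunLike.congr_fun χ.2 (j : S)
  change p.toAlgHom (χ.1 (j : S)) = φ.1 (Ideal.Quotient.mk J (j : S)) at h1
  rw [h1, Ideal.Quotient.eq_zero_iff_mem.mpr j.2, map_zero]

/-- the linear map `J → ker p` attached to a lift -/
def lam {C' C : Art k k} (p : C' ⟶ C) (φ : HomSet (S ⧸ J) res C) (χ : Lift J res p φ) :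
    ↥J →ₗ[k] ↥(RingHom.ker p.toAlgHom) where
  toFun j := ⟨χ.1 (j : S), lift_mem_ker J res p φ χ j⟩
  map_add' x y := Subtype.ext (by
    change χ.1 ((x + y : ↥J) : S) = χ.1 (x : S) + χ.1 (y : S)
    rw [Submodule.coe_add, map_add])
  map_smul' c x := Subtype.ext (by
    change χ.1 (c • (x : S)) = c • χ.1 (x : S)
    rw [map_smul])

theorem lam_apply {C' C : Art k k} (p : C' ⟶ C) (φ : HomSet (S ⧸ J) res C) (χ : Lift J res p φ)
    (j : ↥J) : ((lam J res p φ χ j : ↥(RingHom.ker p.toAlgHom)) : C') = χ.1 (j : S) := rfl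

theorem lam_kills {C' C : Art k k} (p : C' ⟶ C) (hp : IsSemismallExt p)
    (φ : HomSet (S ⧸ J) res C) (χ : Lift J res p φ) :
    (NJ J).restrictScalars k ≤ LinearMap.ker (lam J res p φ χ) := by
  intro x hx
  rw [Submodule.restrictScalars_mem] at hx
  rw [LinearMap.mem_ker]
  refine Submodule.smul_induction_on hx ?_ ?_
  · intro a ha j _
    apply Subtype.ext
    change χ.1 ((a • j : ↥J) : S) = 0
    rw [Submodule.coe_smul, smul_eq_mul, map_mul]
    have : χ.1 a * χ.1 (j : S) ∈ maximalIdeal C' * RingHom.ker p.toAlgHom :=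
      Ideal.mul_mem_mul (algHom_mem_maximalIdeal χ.1 a ha) (lift_mem_ker J res p φ χ j)
    rw [hp.2] at this
    exact this
  · intro u v hu hv
    rw [map_add, hu, hv, add_zero]

/-- the induced map on `J / n J` -/
noncomputable def lamQ {C' C : Art k k} (p : C' ⟶ C) (hp : IsSemismallExt p)
    (φ : HomSet (S ⧸ J) res C) (χ : Lift J res p φ) :
    (↥J ⧸ NJ J) →ₗ[k] ↥(RingHom.ker p.toAlgHom) :=
  (((NJ J).restrictScalars k).liftQ (lam J res p φ χ) (lam_kills J res p hp φ χ)).comp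
    (Submodule.Quotient.restrictScalarsEquiv k (NJ J)).symm.toLinearMap

theorem lamQ_mk {C' C : Art k k} (p : C' ⟶ C) (hp : IsSemismallExt p)
    (φ : HomSet (S ⧸ J) res C) (χ : Lift J res p φ) (j : ↥J) :
    lamQ J res p hp φ χ (Submodule.Quotient.mk j) = lam J res p φ χ j := rfl

variable (hJ : J ≤ maximalIdeal (PSk k d) ^ 2)

include hJ in
theorem lam_eq {C' C : Art k k} (p : C' ⟶ C) (hp : IsSemismallExt p)
    (φ : HomSet (S ⧸ J) res C) (χ₁ χ₂ : Lift J res p φ) : lam J res p φ χ₁ = lam J res p φ χ₂ := by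
  apply LinearMap.ext
  intro j
  apply Subtype.ext
  change χ₁.1 (j : S) = χ₂.1 (j : S)
  exact lift_eq_on_sq p hp χ₁.1 χ₂.1 (χ₁.2.trans χ₂.2.symm) _ (hJ j.2)

include hJ in
theorem lamQ_eq {C' C : Art k k} (p : C' ⟶ C) (hp : IsSemismallExt p)
    (φ : HomSet (S ⧸ J) res C) (χ₁ χ₂ : Lift J res p φ) :
    lamQ J res p hp φ χ₁ = lamQ J res p hp φ χ₂ := by
  apply LinearMap.ext
  intro x
  obtain ⟨j, rfl⟩ := Submodule.Quotient.mk_surjective _ x
  rw [lamQ_mk, lamQ_mk, lam_eq J res hJ p hp φ χ₁ χ₂]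

/-- the canonical map `J / n J → ker p` -/
noncomputable def theLam {C' C : Art k k} (p : C' ⟶ C) (hp : IsSemismallExt p)
    (φ : HomSet (S ⧸ J) res C) : (↥J ⧸ NJ J) →ₗ[k] ↥(RingHom.ker p.toAlgHom) :=
  lamQ J res p hp φ (Classical.choice (lift_nonempty J res p hp.1 φ))

include hJ in
theorem theLam_eq {C' C : Art k k} (p : C' ⟶ C) (hp : IsSemismallExt p)
    (φ : HomSet (S ⧸ J) res C) (χ : Lift J res p φ) :
    theLam J res p hp φ = lamQ J res p hp φ χ := lamQ_eq J res hJ p hp φ _ χ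

/-- a lift of `φ` itself gives a lift of `φ ∘ π` -/
def Lift.ofHomSet {C' C : Art k k} (p : C' ⟶ C) (φ : HomSet (S ⧸ J) res C)
    (φ' : HomSet (S ⧸ J) res C') (h : HomSet.map p φ' = φ) : Lift J res p φ :=
  ⟨φ'.1.comp (Ideal.Quotient.mkₐ k J), by
    rw [← h]
    rfl⟩

include hJ in
theorem theLam_eq_zero_iff {C' C : Art k k} (p : C' ⟶ C) (hp : IsSemismallExt p)
    (φ : HomSet (S ⧸ J) res C) :
    theLam J res p hp φ = 0 ↔ ∃ φ' : HomSet (S ⧸ J) res C', HomSet.map p φ' = φ := by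
  constructor
  · intro h0
    obtain ⟨χ⟩ := lift_nonempty J res p hp.1 φ
    rw [theLam_eq J res hJ p hp φ χ] at h0
    have hχJ : ∀ a ∈ J, χ.1 a = 0 := by
      intro a ha
      have h1 := congrArg (fun L => ((L (Submodule.Quotient.mk ⟨a, ha⟩) :
        ↥(RingHom.ker p.toAlgHom)) : C')) h0
      exact h1
    have hcomp : ∀ s : S, p (χ.1 s) = φ.1 (Ideal.Quotient.mk J s) := fun s =>
      DFunLike.congr_fun χ.2 s
    refine ⟨⟨Ideal.Quotient.liftₐ J χ.1 hχJ, ?_⟩, ?_⟩
    · apply AlgHom.ext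
      intro x
      obtain ⟨s, rfl⟩ := Ideal.Quotient.mk_surjective x
      change C'.res (χ.1 s) = res (Ideal.Quotient.mk J s)
      rw [← Art.res_app p, hcomp]
      exact DFunLike.congr_fun φ.2 _
    · apply Subtype.ext
      apply AlgHom.ext
      intro x
      obtain ⟨s, rfl⟩ := Ideal.Quotient.mk_surjective x
      exact hcomp s
  · rintro ⟨φ', hφ'⟩
    rw [theLam_eq J res hJ p hp φ (Lift.ofHomSet J res p φ φ' hφ')]
    apply LinearMap.ext
    intro x
    obtain ⟨j, rfl⟩ := Submodule.Quotient.mk_surjective _ x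
    rw [lamQ_mk]
    apply Subtype.ext
    change φ'.1 (Ideal.Quotient.mk J (j : S)) = 0
    rw [Ideal.Quotient.eq_zero_iff_mem.mpr j.2, map_zero]

/-- pushing a lift to a quotient of `C'` -/
def Lift.toQuot {C' C : Art k k} (p : C' ⟶ C) (φ : HomSet (S ⧸ J) res C) (χ : Lift J res p φ)
    (K : Ideal C') (hK : K ≤ maximalIdeal C') (hKJ : K ≤ RingHom.ker p.toAlgHom) :
    Lift J res (quotFactor hK p hKJ) φ :=
  ⟨(quotMk C' K hK).toAlgHom.comp χ.1, by
    refine Eq.trans ?_ χ.2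
    apply AlgHom.ext
    intro s
    rfl⟩

include hJ in
theorem theLam_quot {C' C : Art k k} (p : C' ⟶ C) (hp : IsSemismallExt p)
    (K : Ideal C') (hK : K ≤ maximalIdeal C') (hKJ : K ≤ RingHom.ker p.toAlgHom)
    (hq : IsSemismallExt (quotFactor hK p hKJ)) (φ : HomSet (S ⧸ J) res C) :
    theLam J res (quotFactor hK p hKJ) hq φ =
      ((kerToQuot hK p hKJ).restrictScalars k).comp (theLam J res p hp φ) := by
  obtain ⟨χ⟩ := lift_nonempty J res p hp.1 φ
  rw [theLam_eq J res hJ p hp φ χ,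
    theLam_eq J res hJ _ hq φ (Lift.toQuot J res p φ χ K hK hKJ)]
  apply LinearMap.ext
  intro x
  obtain ⟨j, rfl⟩ := Submodule.Quotient.mk_surjective _ x
  rfl

/-- the obstruction theory of `h_R` for `R = k[[t]]/J` -/
def obsTheory : ObsTheory (hR (S ⧸ J) res) (Module.Dual k (↥J ⧸ NJ J)) where
  obs p hp φ := (dualTensorHomEquiv k (↥J ⧸ NJ J) _).symm (theLam J res p hp φ)
  obs_eq_zero_iff p hp φ := by
    rw [LinearEquiv.map_eq_zero_iff]
    exact theLam_eq_zero_iff J res hJ p hp φ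
  obs_quot p hp K hK hKJ hq φ := by
    rw [LinearEquiv.symm_apply_eq, theLam_quot J res hJ p hp K hK hKJ hq φ]
    have h1 := dualTensorHom_comp_lTensor (R := k) (M := ↥J ⧸ NJ J)
      ((kerToQuot hK p hKJ).restrictScalars k)
    have h2 := DFunLike.congr_fun h1
      ((dualTensorHomEquiv k (↥J ⧸ NJ J) _).symm (theLam J res p hp φ))
    change dualTensorHom k _ _ (LinearMap.lTensor _ _ _) = _ at h2
    change _ = dualTensorHom k _ _ (LinearMap.lTensor _ _ _)
    rw [h2]
    change _ = LinearMap.comp _ (dualTensorHomEquiv k (↥J ⧸ NJ J) _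
      ((dualTensorHomEquiv k (↥J ⧸ NJ J) _).symm (theLam J res p hp φ)))
    rw [LinearEquiv.apply_symm_apply]

end Obs

end

end ObsPS

end Groth.Agent.Lib.helper19
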