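import Mathlib
import Groth.Prelude.Def_ArtFun5
import Groth.Agent.Lib.helper19.ArtCotangent

set_option autoImplicit false
universe u v
open CategoryTheory IsLocalRing

namespace Groth.Agent.Lib.helper19

section
variable {Λ : Type u} {k : Type u} [CommRing Λ] [Field k] [Algebra Λ k]

theorem mem_maximalIdeal_iff_algebraMap_eq_zero {S : Type u} [CommRing S] [IsLocalRing S]
    [Algebra S k] (hres : Function.Surjective (algebraMap S k)) (s : S) :
    s ∈ maximalIdeal S ↔ algebraMap S k s = 0 := by
  have hmax : (RingHom.ker (algebraMap S k)).IsMaximal :=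
    RingHom.ker_isMaximal_of_surjective (algebraMap S k) hres
  rw [← IsLocalRing.eq_maximalIdeal hmax, RingHom.mem_ker]

theorem exists_derivation_of_lt {R S : Type u} [CommRing R] [Algebra Λ R] [CommRing S]
    [Algebra Λ S] [IsLocalRing S] [Algebra S k] [IsScalarTower Λ S k]
    (resR : R →ₐ[Λ] k) (hresR : Function.Surjective resR)
    (hres : Function.Surjective (algebraMap S k))
    (f : R →ₐ[Λ] S) (hf : ∀ r, algebraMap S k (f r) = resR r)
    (J : Ideal S) (x : S) (hJ1 : ∀ r, resR r = 0 → f r ∈ J) (hJ2 : maximalIdeal S ^ 2 ≤ J)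
    (hJm : J ≤ maximalIdeal S) (hx : x ∈ maximalIdeal S) (hxJ : x ∉ J)
    (hsup : maximalIdeal S ≤ J ⊔ Ideal.span {x}) :
    ∃ D : Derivation Λ S k, (∀ r, D (f r) = 0) ∧ D x = 1 := by
  have hm := mem_maximalIdeal_iff_algebraMap_eq_zero (k := k) hres
  have hx0 : algebraMap S k x = 0 := (hm x).1 hx
  have hJ0 : ∀ j ∈ J, algebraMap S k j = 0 := fun j hj => (hm j).1 (hJm hj)
  have hxx : x * x ∈ J := hJ2 (by rw [pow_two]; exact Ideal.mul_mem_mul hx hx)
  let Rel : S → k → Prop := fun s c => ∃ (r : R) (u : S), s - f r - u * x ∈ J ∧ algebraMap S k u = c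
  have hRelres : ∀ s r u, s - f r - u * x ∈ J → algebraMap S k s = resR r := by
    intro s r u h
    have := hJ0 _ h
    rw [map_sub, map_sub, map_mul, hx0, mul_zero, sub_zero, hf, sub_eq_zero] at this
    exact this
  have hex : ∀ s, ∃ c, Rel s c := by
    intro s
    obtain ⟨r, hr⟩ := hresR (algebraMap S k s)
    have h1 : s - f r ∈ maximalIdeal S := by
      rw [hm, map_sub, hf, hr, sub_self]
    obtain ⟨j, hj, y, hy, hjy⟩ := Submodule.mem_sup.mp (hsup h1)
    obtain ⟨u, rfl⟩ := Ideal.mem_span_singleton'.mp hy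
    refine ⟨_, r, u, ?_, rfl⟩
    rw [← hjy]
    simpa using hj
  have huniq : ∀ s c c', Rel s c → Rel s c' → c = c' := by
    rintro s c c' ⟨r, u, h, rfl⟩ ⟨r', u', h', rfl⟩
    have e1 := hRelres s r u h
    have e2 := hRelres s r' u' h'
    have h3 : f (r' - r) ∈ J := hJ1 _ (by rw [map_sub, ← e1, ← e2, sub_self])
    have h4 : (u' - u) * x ∈ J := by
      have : (u' - u) * x = (s - f r - u * x) - (s - f r' - u' * x) - f (r' - r) := by
        rw [map_sub]; ring
      rw [this]
      exact J.sub_mem (J.sub_mem h h') h3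
    have h5 : u' - u ∈ maximalIdeal S := by
      by_contra hnot
      have hu : IsUnit (u' - u) := by
        by_contra hnu
        exact hnot ((IsLocalRing.mem_maximalIdeal _).2 hnu)
      obtain ⟨v, hv⟩ := hu.exists_left_inv
      apply hxJ
      have : x = v * ((u' - u) * x) := by rw [← mul_assoc, hv, one_mul]
      rw [this]
      exact J.mul_mem_left _ h4
    have := (hm _).1 h5
    rw [map_sub, sub_eq_zero] at this
    exact this.symm
  choose D hD using hex
  have hDeq : ∀ s c, Rel s c → D s = c := fun s c h => huniq s _ _ (hD s) h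
  have hadd : ∀ s s', D (s + s') = D s + D s' := by
    intro s s'
    obtain ⟨r, u, h, e⟩ := hD s
    obtain ⟨r', u', h', e'⟩ := hD s'
    apply hDeq
    refine ⟨r + r', u + u', ?_, by rw [map_add, e, e']⟩
    have : s + s' - f (r + r') - (u + u') * x = (s - f r - u * x) + (s' - f r' - u' * x) := by
      rw [map_add]; ring
    rw [this]
    exact J.add_mem h h'
  have hsmul : ∀ (l : Λ) s, D (l • s) = l • D s := by
    intro l s
    obtain ⟨r, u, h, e⟩ := hD s
    apply hDeq
    refine ⟨l • r, l • u, ?_, by rw [← e, Algebra.smul_def, map_mul, ← IsScalarTower.algebraMap_apply, Algebra.smul_def]⟩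
    have : l • s - f (l • r) - (l • u) * x = algebraMap Λ S l * (s - f r - u * x) := by
      rw [map_smul, Algebra.smul_def, Algebra.smul_def, Algebra.smul_def]; ring
    rw [this]
    exact J.mul_mem_left _ h
  have hleib : ∀ s s', D (s * s') = s • D s' + s' • D s := by
    intro s s'
    obtain ⟨r, u, h, e⟩ := hD s
    obtain ⟨r', u', h', e'⟩ := hD s'
    apply hDeq
    refine ⟨r * r', f r * u' + f r' * u, ?_, ?_⟩
    · have : s * s' - f (r * r') - (f r * u' + f r' * u) * x =
          (s - f r - u * x) * s' + (s' - f r' - u' * x) * (f r + u * x) + u * u' * (x * x) := by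
        rw [map_mul]; ring
      rw [this]
      exact J.add_mem (J.add_mem (J.mul_mem_right _ h) (J.mul_mem_right _ h')) (J.mul_mem_left _ hxx)
    · rw [map_add, map_mul, map_mul, hf, hf, ← hRelres s r u h, ← hRelres s' r' u' h', e, e',
        Algebra.smul_def, Algebra.smul_def]
  have hone : D 1 = 0 := by
    apply hDeq
    exact ⟨1, 0, by simp, by simp⟩
  refine ⟨{ toFun := D, map_add' := hadd, map_smul' := hsmul, map_one_eq_zero' := hone,
            leibniz' := hleib }, ?_, ?_⟩
  · intro r
    change D (f r) = 0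
    apply hDeq
    exact ⟨r, 0, by simp, by simp⟩
  · change D x = 1
    apply hDeq
    exact ⟨0, 1, by simp, by simp⟩

end

end Groth.Agent.Lib.helper19

namespace Groth.Agent.Lib.helper19

section
variable {Λ : Type u} {k : Type u} [CommRing Λ] [Field k] [Algebra Λ k]
open ArtFun

theorem exists_derivation_of_not_surjective {R S : Type u} [CommRing R] [Algebra Λ R]
    [IsLocalRing R] [IsPrecomplete (maximalIdeal R) R]
    [CommRing S] [Algebra Λ S] [IsLocalRing S] [IsNoetherianRing S]
    [Algebra S k] [IsScalarTower Λ S k]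
    (resR : R →ₐ[Λ] k) (hresR : Function.Surjective resR)
    (hres : Function.Surjective (algebraMap S k))
    (f : R →ₐ[Λ] S) (hf : (IsScalarTower.toAlgHom Λ S k).comp f = resR)
    (hns : ¬ Function.Surjective f) :
    ∃ D : Derivation Λ S k, (∀ r, D (f r) = 0) ∧ ∃ x, D x = 1 := by
  have tfae := tfae_cotangent resR (IsScalarTower.toAlgHom Λ S k) hresR hres f hf
  have hm := mem_maximalIdeal_iff_algebraMap_eq_zero (k := k) hres
  have hmR : ∀ r : R, r ∈ maximalIdeal R ↔ resR r = 0 := by
    intro r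
    have hmax : (RingHom.ker (resR : R →+* k)).IsMaximal :=
      RingHom.ker_isMaximal_of_surjective (resR : R →+* k) hresR
    rw [← IsLocalRing.eq_maximalIdeal hmax, RingHom.mem_ker]
    rfl
  have hfr : ∀ r, algebraMap S k (f r) = resR r := fun r => by rw [← hf]; rfl
  have hle : Ideal.map f (maximalIdeal R) ≤ maximalIdeal S := by
    rw [Ideal.map_le_iff_le_comap]
    intro r hr
    rw [Ideal.mem_comap, hm, hfr, ← hmR]
    exact hr
  have hsq : maximalIdeal S ^ 2 ≤ maximalIdeal S := Ideal.pow_le_self (by norm_num)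
  have hne : Ideal.map f (maximalIdeal R) ⊔ maximalIdeal S ^ 2 ≠ maximalIdeal S :=
    fun h => hns ((tfae.out 1 0).mp h)
  have hlt : Ideal.map f (maximalIdeal R) ⊔ maximalIdeal S ^ 2 < maximalIdeal S :=
    lt_of_le_of_ne (sup_le hle hsq) hne
  set I := Ideal.map f (maximalIdeal R) ⊔ maximalIdeal S ^ 2 with hI
  obtain ⟨J, ⟨hIJ, hJlt⟩, hJmax⟩ := (set_has_maximal_iff_noetherian (R := S) (M := S)).mpr
    inferInstance {J : Ideal S | I ≤ J ∧ J < maximalIdeal S} ⟨I, le_rfl, hlt⟩
  obtain ⟨x, hx, hxJ⟩ := SetLike.exists_of_lt hJlt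
  have hsup : maximalIdeal S ≤ J ⊔ Ideal.span {x} := by
    have h1 : J ⊔ Ideal.span {x} ≤ maximalIdeal S :=
      sup_le hJlt.le ((Ideal.span_singleton_le_iff_mem _).mpr hx)
    have h2 : J < J ⊔ Ideal.span {x} := by
      refine lt_of_le_of_ne le_sup_left ?_
      intro h
      apply hxJ
      rw [h]
      exact Ideal.mem_sup_right (Ideal.mem_span_singleton_self x)
    by_contra hnot
    exact hJmax _ ⟨le_trans hIJ le_sup_left, lt_of_le_of_ne h1 (fun h => hnot h.ge)⟩ h2
  obtain ⟨D, hD1, hD2⟩ := exists_derivation_of_lt resR hresR hres f hfr J x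
    (fun r hr => hIJ (Ideal.mem_sup_left (Ideal.mem_map_of_mem f ((hmR r).2 hr))))
    (le_trans le_sup_right hIJ) hJlt.le hx hxJ hsup
  exact ⟨D, hD1, x, hD2⟩

theorem surjective_of_derivation_comp_injective
    (R : CRing Λ k)
    (S : Type u) [CommRing S] [Algebra Λ S] [IsLocalRing S] [IsNoetherianRing S]
    [Algebra S k] [IsScalarTower Λ S k]
    (hres : Function.Surjective (algebraMap S k))
    (f : R.carrier →ₐ[Λ] S) (hf : (IsScalarTower.toAlgHom Λ S k).comp f = R.res)
    (hinj : ∀ D₁ D₂ : Derivation Λ S k, (∀ r : R.carrier, D₁ (f r) = D₂ (f r)) → D₁ = D₂) :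
    Function.Surjective f := by
  have : IsAdicComplete (maximalIdeal R.carrier) R.carrier := R.isAdicComplete
  by_contra hns
  obtain ⟨D, hD1, x, hD2⟩ := exists_derivation_of_not_surjective R.res R.res_surjective hres f hf hns
  have h0 : D = 0 := hinj D 0 (fun r => by rw [hD1]; rfl)
  rw [h0] at hD2
  exact zero_ne_one hD2

end

end Groth.Agent.Lib.helper19
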