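import Mathlib
import Groth.Prelude.Def_ArtFun5
import Groth.Agent.Lib.helper19.ArtDeriv
import Groth.Agent.Lib.helper19.ArtFinite

set_option autoImplicit false
universe u v
open CategoryTheory IsLocalRing

namespace Groth.Agent.Lib.helper19

section
variable {Λ : Type u} {k : Type u} [CommRing Λ] [Field k] [Algebra Λ k]
  [IsNoetherianRing Λ] [Module.Finite Λ k]
open ArtFun

theorem finite_derivation_residueField
    (S : Type u) [CommRing S] [Algebra Λ S] [IsLocalRing S] [IsNoetherianRing S]
    [IsAdicComplete (IsLocalRing.maximalIdeal S) S] [Algebra S k] [IsScalarTower Λ S k]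
    (hres : Function.Surjective (algebraMap S k)) :
    Module.Finite k (Derivation Λ S k) := by
  have hm := mem_maximalIdeal_iff_algebraMap_eq_zero (k := k) hres
  let Rb : CRing Λ k :=
    { carrier := S
      res := IsScalarTower.toAlgHom Λ S k
      res_surjective := hres
      isAdicComplete := inferInstance }
  let A : Art Λ k := Rb.trunc 1
  have hfl : IsFiniteLength Λ A := art_isFiniteLength A
  have hnoeth : IsNoetherian Λ A := (isFiniteLength_iff_isNoetherian_isArtinian.mp hfl).1
  have hfin : Module.Finite Λ A := inferInstance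
  obtain ⟨t, ht⟩ := hfin.fg_top
  let mk : S → A := fun s => Ideal.Quotient.mk (maximalIdeal S ^ (1 + 1)) s
  have hmk_surj : Function.Surjective mk := Ideal.Quotient.mk_surjective
  have hmk_eq : ∀ s s', mk s = mk s' → s - s' ∈ maximalIdeal S ^ 2 := by
    intro s s' h
    exact Ideal.Quotient.eq.mp h
  have hmk_add : ∀ s s', mk (s + s') = mk s + mk s' := fun s s' => map_add _ _ _
  have hmk_smul : ∀ (l : Λ) s, mk (l • s) = l • mk s := by
    intro l s
    calc mk (l • s) = mk (algebraMap Λ S l * s) := by rw [Algebra.smul_def]
      _ = mk (algebraMap Λ S l) * mk s := map_mul _ _ _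
      _ = algebraMap Λ A l * mk s := rfl
      _ = l • mk s := (Algebra.smul_def l (mk s)).symm
  let lift : A → S := Function.surjInv hmk_surj
  have hlift : ∀ a, mk (lift a) = a := Function.surjInv_eq hmk_surj
  -- derivations kill m^2
  have hkill : ∀ (D : Derivation Λ S k) (y : S), y ∈ maximalIdeal S ^ 2 → D y = 0 := by
    intro D y hy
    rw [pow_two] at hy
    refine Submodule.mul_induction_on hy ?_ ?_
    · intro a ha b hb
      rw [D.leibniz, Algebra.smul_def, Algebra.smul_def, (hm a).1 ha, (hm b).1 hb, zero_mul,
        zero_mul, add_zero]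
    · intro a b ha hb
      rw [map_add, ha, hb, add_zero]
  let ev : Derivation Λ S k →ₗ[k] (t → k) :=
    { toFun := fun D a => D (lift a.1)
      map_add' := fun D D' => rfl
      map_smul' := fun c D => rfl }
  apply Module.Finite.of_injective ev
  rw [← LinearMap.ker_eq_bot, LinearMap.ker_eq_bot']
  intro D hD
  have hDt : ∀ a ∈ t, D (lift a) = 0 := fun a ha => congrFun hD ⟨a, ha⟩
  have key : ∀ a : A, ∀ s, mk s = a → D s = 0 := by
    intro a
    have ha : a ∈ Submodule.span Λ (t : Set A) := by rw [ht]; trivial
    induction ha using Submodule.span_induction with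
    | mem a ha =>
      intro s hs
      have h1 := hkill D _ (hmk_eq s (lift a) (by rw [hs, hlift]))
      rw [map_sub, hDt a ha, sub_zero] at h1
      exact h1
    | zero =>
      intro s hs
      have h1 := hkill D _ (hmk_eq s 0 (by rw [hs]; exact (map_zero _).symm))
      rw [sub_zero] at h1
      exact h1
    | add a b _ _ iha ihb =>
      intro s hs
      have h1 := hkill D _ (hmk_eq s (lift a + lift b) (by rw [hs, hmk_add, hlift, hlift]))
      rw [map_sub, map_add, iha _ (hlift a), ihb _ (hlift b), add_zero, sub_zero] at h1
      exact h1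
    | smul l a _ iha =>
      intro s hs
      have h1 := hkill D _ (hmk_eq s (l • lift a) (by rw [hs, hmk_smul, hlift]))
      rw [map_sub, D.map_smul, iha _ (hlift a), smul_zero, sub_zero] at h1
      exact h1
  ext s
  exact key (mk s) s rfl

end

end Groth.Agent.Lib.helper19
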