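import Mathlib

set_option autoImplicit false
universe u

namespace Groth.Agent.Lib.helper19

theorem ringHom_injective_of_surjective_endo {R : Type u} [CommRing R] [IsNoetherianRing R]
    (f : R →+* R) (hf : Function.Surjective f) : Function.Injective f := by
  obtain ⟨K, ⟨n, rfl⟩, hmax⟩ := (set_has_maximal_iff_noetherian (R := R) (M := R)).mpr
    inferInstance {K : Ideal R | ∃ n : ℕ, K = RingHom.ker (f ^ n)} ⟨_, 0, rfl⟩
  have hle : RingHom.ker (f ^ n) ≤ RingHom.ker (f ^ (n + 1)) := by
    intro x hx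
    rw [RingHom.mem_ker] at hx ⊢
    rw [pow_succ', RingHom.mul_def, RingHom.comp_apply, hx, map_zero]
  have heq : RingHom.ker (f ^ n) = RingHom.ker (f ^ (n + 1)) := by
    by_contra hne
    exact hmax _ ⟨n + 1, rfl⟩ (lt_of_le_of_ne hle hne)
  have hsurjn : Function.Surjective (f ^ n) := by
    rw [RingHom.coe_pow]
    exact hf.iterate n
  rw [injective_iff_map_eq_zero]
  intro x hx
  obtain ⟨y, rfl⟩ := hsurjn x
  have hy : y ∈ RingHom.ker (f ^ (n + 1)) := by
    rw [RingHom.mem_ker, pow_succ', RingHom.mul_def, RingHom.comp_apply, hx]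
  rw [← heq] at hy
  exact hy

end Groth.Agent.Lib.helper19
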