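import Mathlib
import Groth.Prelude.Def_ArtFun2
import Groth.Agent.Lib.helper19.ArtBasic

set_option autoImplicit false
universe u v
open CategoryTheory

namespace Groth.Agent.Lib.helper19

section
variable {Λ : Type u} {k : Type u} [CommRing Λ] [Field k] [Algebra Λ k]
open ArtFun ArtFun.Art

variable {B A A₁ A₂ : Art Λ k} {p₁ : B ⟶ A₁} {p₂ : B ⟶ A₂} {f₁ : A₁ ⟶ A} {f₂ : A₂ ⟶ A}

theorem IsFibreProd.exists_algHom_lift (h : IsFibreProd p₁ p₂ f₁ f₂) {C : Type u} [CommRing C]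
    [Algebra Λ C] (u : C →ₐ[Λ] A₁) (v : C →ₐ[Λ] A₂)
    (huv : f₁.toAlgHom.comp u = f₂.toAlgHom.comp v) :
    ∃ w : C →ₐ[Λ] B, p₁.toAlgHom.comp w = u ∧ p₂.toAlgHom.comp w = v := by
  have huv' : ∀ c : C, f₁ (u c) = f₂ (v c) := fun c => by
    change (f₁.toAlgHom.comp u) c = (f₂.toAlgHom.comp v) c
    rw [huv]
  choose w hw1 hw2 using fun c : C => h.surj (u c) (v c) (huv' c)
  have key : ∀ (b : B) (c : C), p₁ b = u c → p₂ b = v c → b = w c := fun b c h1 h2 =>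
    h.inj _ _ (h1.trans (hw1 c).symm) (h2.trans (hw2 c).symm)
  let wA : C →ₐ[Λ] B :=
    { toFun := w
      map_one' := (key 1 1 (by simp) (by simp)).symm
      map_mul' := fun x y => (key (w x * w y) (x * y) (by simp [hw1]) (by simp [hw2])).symm
      map_zero' := (key 0 0 (by simp) (by simp)).symm
      map_add' := fun x y => (key (w x + w y) (x + y) (by simp [hw1]) (by simp [hw2])).symm
      commutes' := fun r => (key (algebraMap Λ B r) (algebraMap Λ C r) (by simp) (by simp)).symm }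
  exact ⟨wA, AlgHom.ext hw1, AlgHom.ext hw2⟩

theorem IsFibreProd.exists_homSet_lift (h : IsFibreProd p₁ p₂ f₁ f₂) {R : Type u} [CommRing R]
    [Algebra Λ R] {resR : R →ₐ[Λ] k} (φ₁ : HomSet R resR A₁) (φ₂ : HomSet R resR A₂)
    (hφ : HomSet.map f₁ φ₁ = HomSet.map f₂ φ₂) :
    ∃ χ : HomSet R resR B, HomSet.map p₁ χ = φ₁ ∧ HomSet.map p₂ χ = φ₂ := by
  obtain ⟨w, hw1, hw2⟩ := IsFibreProd.exists_algHom_lift h φ₁.1 φ₂.1 (congrArg Subtype.val hφ)
  refine ⟨⟨w, ?_⟩, Subtype.ext hw1, Subtype.ext hw2⟩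
  rw [← φ₁.2, ← hw1, ← AlgHom.comp_assoc, p₁.res_comp]

theorem IsVersal.app_surjective {F : Art Λ k ⥤ Type v} (h0 : H0 F) {R : Type u} [CommRing R]
    [Algebra Λ R] {resR : R →ₐ[Λ] k} (ξ : Family R resR F) (hξ : IsVersal ξ) (A : Art Λ k) :
    Function.Surjective (ξ.app A) := by
  intro x
  have hsub : Subsingleton (F.obj (base Λ k)) := h0.2
  let φ₀ : HomSet R resR (base Λ k) := ⟨resR, AlgHom.id_comp _⟩
  obtain ⟨ψ, _, hψ⟩ := hξ (toBase A) A.res_surjective φ₀ x (Subsingleton.elim _ _)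
  exact ⟨ψ, hψ⟩

theorem s1_of_isVersal {F : Art Λ k ⥤ Type v} (h0 : H0 F) {R : Type u} [CommRing R]
    [Algebra Λ R] {resR : R →ₐ[Λ] k} (ξ : Family R resR F) (hξ : IsVersal ξ) : S1 F := by
  intro B A A' A'' p' p'' f' f'' h hf''
  rintro ⟨⟨x', x''⟩, hx⟩
  have hx' : F.map f' x' = F.map f'' x'' := hx
  obtain ⟨φ', hφ'⟩ := IsVersal.app_surjective h0 ξ hξ A' x'
  obtain ⟨ψ, hψ1, hψ2⟩ := hξ f'' hf'' (HomSet.map f' φ') x'' (by
    rw [ξ.natural, hφ', hx'])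
  obtain ⟨χ, hχ1, hχ2⟩ := IsFibreProd.exists_homSet_lift h φ' ψ hψ1.symm
  refine ⟨ξ.app B χ, ?_⟩
  apply FibProd.ext
  · change F.map p' (ξ.app B χ) = x'
    rw [← ξ.natural, hχ1, hφ']
  · change F.map p'' (ξ.app B χ) = x''
    rw [← ξ.natural, hχ2, hψ2]

end

end Groth.Agent.Lib.helper19
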