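import Mathlib
import Groth.Prelude.Def_ArtFun5
import Groth.Agent.Lib.helper19.ArtVersal

set_option autoImplicit false
universe u v
open CategoryTheory

namespace Groth.Agent.Lib.helper19

section
variable {Λ : Type u} {k : Type u} [CommRing Λ] [Field k] [Algebra Λ k]
open ArtFun ArtFun.Art

theorem truncMap_surjective (S : CRing Λ k) (n : ℕ) : Function.Surjective (S.truncMap n) := by
  intro x
  obtain ⟨a, rfl⟩ := Ideal.Quotient.mk_surjective x
  exact ⟨Ideal.Quotient.mk _ a, rfl⟩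

theorem exists_algHom_of_compatible {R : Type u} [CommRing R] [Algebra Λ R] {resR : R →ₐ[Λ] k}
    (S : CRing Λ k) (φ : ∀ n, HomSet R resR (S.trunc n))
    (hφ : ∀ n, HomSet.map (S.truncMap n) (φ (n + 1)) = φ n) :
    ∃ (g : R →ₐ[Λ] S.carrier), S.res.comp g = resR ∧ ∀ n, (S.truncHom n).1.comp g = (φ n).1 := by
  have : IsAdicComplete (IsLocalRing.maximalIdeal S.carrier) S.carrier := S.isAdicComplete
  have ha : StrictMono (fun n : ℕ => n + 1) := fun a b h => Nat.succ_lt_succ h
  let f : ∀ n : ℕ, R →+* S.carrier ⧸ IsLocalRing.maximalIdeal S.carrier ^ (n + 1) :=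
    fun n => (φ n).1.toRingHom
  have hf : ∀ {m : ℕ}, (Ideal.Quotient.factorPow (IsLocalRing.maximalIdeal S.carrier)
      (ha.monotone m.le_succ)).comp (f (m + 1)) = f m := by
    intro m
    ext x
    have := congrArg (fun t => t.1 x) (hφ m)
    exact this
  let g₀ : R →+* S.carrier :=
    IsAdicComplete.StrictMono.liftRingHom (IsLocalRing.maximalIdeal S.carrier) ha f hf
  have hg₀ : ∀ n x, Ideal.Quotient.mk (IsLocalRing.maximalIdeal S.carrier ^ (n + 1)) (g₀ x) = (φ n).1 x :=
    fun n x => IsAdicComplete.StrictMono.mk_liftRingHom (IsLocalRing.maximalIdeal S.carrier) ha f hf x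
  have hcomm : ∀ r : Λ, g₀ (algebraMap Λ R r) = algebraMap Λ S.carrier r := by
    intro r
    rw [← sub_eq_zero]
    apply IsHausdorff.haus (I := IsLocalRing.maximalIdeal S.carrier) inferInstance
    intro n
    rw [SModEq.zero, smul_eq_mul, Ideal.mul_top]
    have h1 : IsLocalRing.maximalIdeal S.carrier ^ (n + 1) ≤ IsLocalRing.maximalIdeal S.carrier ^ n :=
      Ideal.pow_le_pow_right n.le_succ
    apply h1
    rw [← Ideal.Quotient.eq, hg₀ n, (φ n).1.commutes]
    rfl
  let g : R →ₐ[Λ] S.carrier := { g₀ with commutes' := hcomm }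
  have hg : ∀ n, (S.truncHom n).1.comp g = (φ n).1 := fun n => AlgHom.ext fun x => hg₀ n x
  refine ⟨g, ?_, hg⟩
  rw [← (φ 0).2, ← hg 0, ← AlgHom.comp_assoc, (S.truncHom 0).2]

end

end Groth.Agent.Lib.helper19

namespace Groth.Agent.Lib.helper19

section
variable {Λ : Type u} {k : Type u} [CommRing Λ] [Field k] [Algebra Λ k]
open ArtFun ArtFun.Art

theorem exists_along_toFormalElt_eq {F : Art Λ k ⥤ Type v} (h0 : H0 F)
    (R : CRing Λ k) (ξ : Family R.carrier R.res F) (hξ : IsVersal ξ)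
    (S : CRing Λ k) (η : FormalElt F S) :
    ∃ (g : R.carrier →ₐ[Λ] S.carrier) (hg : S.res.comp g = R.res), (ξ.along g hg).toFormalElt = η := by
  have step : ∀ (n : ℕ) (φ : {φ : HomSet R.carrier R.res (S.trunc n) // ξ.app _ φ = η.elt n}),
      ∃ ψ : {ψ : HomSet R.carrier R.res (S.trunc (n + 1)) // ξ.app _ ψ = η.elt (n + 1)},
        HomSet.map (S.truncMap n) ψ.1 = φ.1 := by
    intro n φ
    obtain ⟨ψ, hψ1, hψ2⟩ := hξ (S.truncMap n) (truncMap_surjective S n) φ.1 (η.elt (n + 1))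
      (by rw [η.compat, φ.2])
    exact ⟨⟨ψ, hψ2⟩, hψ1⟩
  choose next hnext using step
  have h00 := IsVersal.app_surjective h0 ξ hξ (S.trunc 0) (η.elt 0)
  let seq : ∀ n, {φ : HomSet R.carrier R.res (S.trunc n) // ξ.app _ φ = η.elt n} := fun n =>
    Nat.rec (⟨Classical.choose h00, Classical.choose_spec h00⟩) (fun n u => next n u) n
  obtain ⟨g, hg, hgn⟩ := exists_algHom_of_compatible S (fun n => (seq n).1)
    (fun n => hnext n (seq n))
  refine ⟨g, hg, ?_⟩
  apply FormalElt.ext'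
  intro n
  change ξ.app _ _ = η.elt n
  rw [← (seq n).2]
  congr 1
  exact Subtype.ext (hgn n)

end

end Groth.Agent.Lib.helper19
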