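import Mathlib
import Groth.Prelude.Def_W4sfdMinVersal
import Groth.Agent.Lib.helper19.ArtFormal
import Groth.Agent.Lib.helper19.NoethEndo
import Groth.Agent.Lib.helper19.ArtDeriv

set_option autoImplicit false
universe u v
open CategoryTheory IsLocalRing

namespace Groth.Agent.Lib.helper19

section
variable {Λ : Type u} {k : Type u} [CommRing Λ] [Field k] [Algebra Λ k]
open ArtFun ArtFun.Art

theorem push_toFormalElt {F : Art Λ k ⥤ Type v} {R' R : CRing Λ k}
    (ξ : Family R'.carrier R'.res F) (f : R'.carrier →ₐ[Λ] R.carrier) (hf : R.res.comp f = R'.res) :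
    (ξ.toFormalElt).push f hf = (ξ.along f hf).toFormalElt := by
  apply FormalElt.ext'
  intro n
  change F.map (CRing.truncMapOfHom f hf n) (ξ.app _ (R'.truncHom n)) = ξ.app _ _
  rw [← ξ.natural]
  congr 1

theorem isMinimalVersal_unique [IsNoetherianRing Λ] [Module.Finite Λ k]
    {F : Art Λ k ⥤ Type v} (h0 : H0 F) {R₁ R₂ : CRing Λ k}
    (ξ₁ : Family R₁.carrier R₁.res F) (ξ₂ : Family R₂.carrier R₂.res F)
    (h₁ : ξ₁.IsMinimalVersal) (h₂ : ξ₂.IsMinimalVersal) :
    ∃ (e : R₁.carrier ≃ₐ[Λ] R₂.carrier) (he : R₂.res.comp (e : R₁.carrier →ₐ[Λ] R₂.carrier) = R₁.res),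
      (ξ₁.along (e : R₁.carrier →ₐ[Λ] R₂.carrier) he).toFormalElt = ξ₂.toFormalElt := by
  obtain ⟨g, hg, hgξ⟩ := exists_along_toFormalElt_eq h0 R₁ ξ₁ h₁.1 R₂ ξ₂.toFormalElt
  obtain ⟨g', hg', hg'ξ⟩ := exists_along_toFormalElt_eq h0 R₂ ξ₂ h₂.1 R₁ ξ₁.toFormalElt
  have hgs : Function.Surjective g := h₂.2 R₁ ξ₁.toFormalElt g hg (by rw [push_toFormalElt, hgξ])
  have hg's : Function.Surjective g' := h₁.2 R₂ ξ₂.toFormalElt g' hg' (by rw [push_toFormalElt, hg'ξ])
  have hcomp : Function.Surjective (g'.comp g) := hg's.comp hgs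
  have hinj : Function.Injective (g'.comp g) := by
    exact ringHom_injective_of_surjective_endo (g'.comp g).toRingHom hcomp
  have hginj : Function.Injective g := Function.Injective.of_comp (f := g') hinj
  let e : R₁.carrier ≃ₐ[Λ] R₂.carrier := AlgEquiv.ofBijective g ⟨hginj, hgs⟩
  have he : (e : R₁.carrier →ₐ[Λ] R₂.carrier) = g := AlgHom.ext fun _ => rfl
  refine ⟨e, by rw [he]; exact hg, ?_⟩
  rw [← hgξ]
  congr 1

end

end Groth.Agent.Lib.helper19

namespace Groth.Agent.Lib.helper19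

section
variable {Λ : Type u} {k : Type u} [CommRing Λ] [Field k] [Algebra Λ k]
open ArtFun ArtFun.Art

theorem dual_maximalIdeal_sq : maximalIdeal (dual Λ k) ^ 2 = ⊥ := by
  rw [eq_bot_iff, pow_two, Ideal.mul_le]
  intro x hx y hy
  rw [Art.mem_maximalIdeal_iff] at hx hy
  have hx' : TrivSqZeroExt.fst x = 0 := hx
  have hy' : TrivSqZeroExt.fst y = 0 := hy
  rw [Submodule.mem_bot]
  have key : ∀ x y : DualNumber k, TrivSqZeroExt.fst x = 0 → TrivSqZeroExt.fst y = 0 → x * y = 0 := by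
    intro x y hx hy
    apply TrivSqZeroExt.ext
    · rw [TrivSqZeroExt.fst_mul, hx, zero_mul]; rfl
    · rw [TrivSqZeroExt.snd_mul, hx, hy]
      simp
  exact key x y hx' hy'

theorem HomSet.map_maximalIdeal_le {R : CRing Λ k} {A : Art Λ k} (ψ : HomSet R.carrier R.res A) :
    Ideal.map ψ.1 (maximalIdeal R.carrier) ≤ maximalIdeal A := by
  rw [Ideal.map_le_iff_le_comap]
  intro a ha
  rw [Ideal.mem_comap, Art.mem_maximalIdeal_iff]
  have : A.res (ψ.1 a) = R.res a := DFunLike.congr_fun ψ.2 a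
  rw [this, ← CRing.mem_maximalIdeal_iff]
  exact ha

theorem HomSet.vanish_mpow {R : CRing Λ k} {A : Art Λ k} (ψ : HomSet R.carrier R.res A) (n : ℕ)
    (hA : maximalIdeal A ^ (n + 1) = ⊥) : ∀ a ∈ R.mpow n, ψ.1 a = 0 := by
  intro a ha
  have h1 : ψ.1 a ∈ Ideal.map ψ.1 (R.mpow n) := Ideal.mem_map_of_mem _ ha
  rw [CRing.mpow, Ideal.map_pow] at h1
  have h2 := Ideal.pow_right_mono (HomSet.map_maximalIdeal_le ψ) (n + 1) h1
  rw [hA] at h2
  exact h2

theorem HomSet.exists_factor_trunc (R : CRing Λ k) (n : ℕ) {A : Art Λ k}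
    (ψ : HomSet R.carrier R.res A) (hψ : ∀ a ∈ R.mpow n, ψ.1 a = 0) :
    ∃ ψ' : R.trunc n ⟶ A, HomSet.map ψ' (R.truncHom n) = ψ ∧
      ∀ a : R.carrier, ψ' (Ideal.Quotient.mk (R.mpow n) a) = ψ.1 a := by
  refine ⟨⟨Ideal.Quotient.liftₐ (R.mpow n) ψ.1 hψ, ?_⟩, ?_, fun a => rfl⟩
  · apply AlgHom.ext
    intro x
    obtain ⟨a, rfl⟩ := Ideal.Quotient.mk_surjective x
    exact DFunLike.congr_fun ψ.2 a
  · apply Subtype.ext
    apply AlgHom.ext
    intro a
    rfl

/-- The algebra map to the dual numbers attached to a derivation. -/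
noncomputable def derivToAlgHom (R : CRing Λ k)
    [Algebra R.carrier k] [IsScalarTower Λ R.carrier k]
    (hres : ∀ a, algebraMap R.carrier k a = R.res a)
    (D : Derivation Λ R.carrier k) : R.carrier →ₐ[Λ] DualNumber k :=
  { toFun := fun a => TrivSqZeroExt.inl (R.res a) + TrivSqZeroExt.inr (D a)
    map_one' := by
      rw [D.map_one_eq_zero, map_one]
      simp
    map_mul' := fun a b => by
      rw [D.leibniz, map_mul, Algebra.smul_def, Algebra.smul_def, hres, hres]
      apply TrivSqZeroExt.ext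
      · simp
      · simp [mul_comm]
    map_zero' := by
      rw [map_zero, map_zero]
      simp
    map_add' := fun a b => by
      rw [map_add, map_add]
      apply TrivSqZeroExt.ext
      · simp
      · simp
    commutes' := fun r => by
      rw [D.map_algebraMap, R.res.commutes, TrivSqZeroExt.algebraMap_eq_inl']
      simp }

/-- The element of `h_R(k[ε])` attached to a derivation. -/
noncomputable def derivToHomSet (R : CRing Λ k)
    [Algebra R.carrier k] [IsScalarTower Λ R.carrier k]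
    (hres : ∀ a, algebraMap R.carrier k a = R.res a)
    (D : Derivation Λ R.carrier k) : HomSet R.carrier R.res (dual Λ k) :=
  ⟨derivToAlgHom R hres D, by
    apply AlgHom.ext
    intro a
    change TrivSqZeroExt.fst (TrivSqZeroExt.inl (R.res a) + TrivSqZeroExt.inr (D a) : DualNumber k) = R.res a
    simp⟩

theorem derivToHomSet_snd (R : CRing Λ k)
    [Algebra R.carrier k] [IsScalarTower Λ R.carrier k]
    (hres : ∀ a, algebraMap R.carrier k a = R.res a)
    (D : Derivation Λ R.carrier k) (a : R.carrier) :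
    TrivSqZeroExt.snd ((derivToHomSet R hres D).1 a) = D a := by
  change TrivSqZeroExt.snd (TrivSqZeroExt.inl (R.res a) + TrivSqZeroExt.inr (D a) : DualNumber k) = D a
  simp

theorem derivToHomSet_fst (R : CRing Λ k)
    [Algebra R.carrier k] [IsScalarTower Λ R.carrier k]
    (hres : ∀ a, algebraMap R.carrier k a = R.res a)
    (D : Derivation Λ R.carrier k) (a : R.carrier) :
    TrivSqZeroExt.fst ((derivToHomSet R hres D).1 a) = R.res a := by
  change TrivSqZeroExt.fst (TrivSqZeroExt.inl (R.res a) + TrivSqZeroExt.inr (D a) : DualNumber k) = R.res a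
  simp

end

end Groth.Agent.Lib.helper19

namespace Groth.Agent.Lib.helper19

section
variable {Λ : Type u} {k : Type u} [CommRing Λ] [Field k] [Algebra Λ k]
  [IsNoetherianRing Λ] [Module.Finite Λ k]
open ArtFun ArtFun.Art

theorem isMinimalVersal_of_hull {F : Art Λ k ⥤ Type v} (P : Hull F) :
    P.family.IsMinimalVersal := by
  obtain ⟨R, ξ, hmini⟩ := P
  refine ⟨hmini.1, ?_⟩
  intro R' u f hf hpush
  change u.push f hf = ξ.toFormalElt at hpush
  change Function.Surjective f
  letI : Algebra R.carrier k := R.res.toRingHom.toAlgebra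
  haveI : IsScalarTower Λ R.carrier k :=
    IsScalarTower.of_algebraMap_eq (fun r => (R.res.commutes r).symm)
  have hresk : ∀ a, algebraMap R.carrier k a = R.res a := fun a => rfl
  apply surjective_of_derivation_comp_injective R' R.carrier R.res_surjective f
    (by rw [← hf]; rfl)
  intro D₁ D₂ hD
  have key : derivToHomSet R hresk D₁ = derivToHomSet R hresk D₂ := by
    apply hmini.2.1
    have hv : ∀ D : Derivation Λ R.carrier k, ∀ a ∈ R.mpow 1, (derivToHomSet R hresk D).1 a = 0 :=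
      fun D => HomSet.vanish_mpow _ 1 dual_maximalIdeal_sq
    obtain ⟨ψ₁, hψ₁, hψ₁'⟩ := HomSet.exists_factor_trunc R 1 _ (hv D₁)
    obtain ⟨ψ₂, hψ₂, hψ₂'⟩ := HomSet.exists_factor_trunc R 1 _ (hv D₂)
    have e1 : ∀ (ψ' : R.trunc 1 ⟶ dual Λ k), ξ.app _ (HomSet.map ψ' (R.truncHom 1)) =
        F.map (CRing.truncMapOfHom f hf 1 ≫ ψ') (u.elt 1) := by
      intro ψ'
      rw [ξ.natural, Functor.map_comp_apply]
      congr 1
      have := congrArg (fun w => w.elt 1) hpush
      exact this.symm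
    rw [← hψ₁, ← hψ₂, e1, e1]
    congr 3
    apply Art.hom_ext
    apply AlgHom.ext
    intro x
    obtain ⟨a, rfl⟩ := Ideal.Quotient.mk_surjective x
    change ψ₁ (Ideal.Quotient.mk _ (f a)) = ψ₂ (Ideal.Quotient.mk _ (f a))
    rw [hψ₁', hψ₂']
    apply TrivSqZeroExt.ext
    · rw [derivToHomSet_fst, derivToHomSet_fst]
    · rw [derivToHomSet_snd, derivToHomSet_snd, hD]
  ext a
  rw [← derivToHomSet_snd R hresk D₁, ← derivToHomSet_snd R hresk D₂, key]

end

end Groth.Agent.Lib.helper19
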