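import Mathlib
import Groth.Prelude.Def_ArtFun
import Groth.Agent.Lib.helper19.ArtLength
import Groth.Agent.Lib.helper19.ArtFinite

set_option autoImplicit false
universe u v
open Module Submodule LinearMap IsLocalRing CategoryTheory

namespace Groth.Agent.Lib.helper19

section
variable {Λ : Type u} {k : Type u} [CommRing Λ] [Field k] [Algebra Λ k]
  [IsNoetherianRing Λ] [Module.Finite Λ k]

open ArtFun ArtFun.Art

theorem isArtinianRing_subalgebra_prod (A₁ A₂ : Art Λ k) (P : Subalgebra Λ (A₁ × A₂)) :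
    IsArtinianRing P := by
  have h1 : IsArtinian Λ A₁ := (isFiniteLength_iff_isNoetherian_isArtinian.mp (art_isFiniteLength A₁)).2
  have h2 : IsArtinian Λ A₂ := (isFiniteLength_iff_isNoetherian_isArtinian.mp (art_isFiniteLength A₂)).2
  have h3 : IsArtinian Λ (A₁ × A₂) := inferInstance
  have h4 : IsArtinian Λ P := isArtinian_of_injective P.val.toLinearMap Subtype.val_injective
  exact isArtinian_of_tower Λ h4

/-- The fibre product object. -/
noncomputable def fibreProd {A A₁ A₂ : Art Λ k} (f₁ : A₁ ⟶ A) (f₂ : A₂ ⟶ A)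
    (hf₂ : Function.Surjective f₂) : Art Λ k :=
  haveI : IsLocalHom f₂.toAlgHom := Art.isLocalHom f₂
  haveI : IsLocalRing (AlgHom.pullback f₁.toAlgHom f₂.toAlgHom) :=
    AlgHom.isLocalRing_pullback f₁.toAlgHom f₂.toAlgHom
  haveI : IsArtinianRing (AlgHom.pullback f₁.toAlgHom f₂.toAlgHom) :=
    isArtinianRing_subalgebra_prod A₁ A₂ _
  { carrier := AlgHom.pullback f₁.toAlgHom f₂.toAlgHom
    res := A₁.res.comp (AlgHom.pullbackFst f₁.toAlgHom f₂.toAlgHom)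
    res_surjective := A₁.res_surjective.comp
      (AlgHom.surjective_pullbackFst_of_surjective f₁.toAlgHom f₂.toAlgHom hf₂) }

noncomputable def fibreProdFst {A A₁ A₂ : Art Λ k} (f₁ : A₁ ⟶ A) (f₂ : A₂ ⟶ A)
    (hf₂ : Function.Surjective f₂) : fibreProd f₁ f₂ hf₂ ⟶ A₁ :=
  ⟨AlgHom.pullbackFst f₁.toAlgHom f₂.toAlgHom, rfl⟩

noncomputable def fibreProdSnd {A A₁ A₂ : Art Λ k} (f₁ : A₁ ⟶ A) (f₂ : A₂ ⟶ A)
    (hf₂ : Function.Surjective f₂) : fibreProd f₁ f₂ hf₂ ⟶ A₂ :=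
  ⟨AlgHom.pullbackSnd f₁.toAlgHom f₂.toAlgHom, by
    apply AlgHom.ext
    intro x
    change A₂.res x.1.2 = A₁.res x.1.1
    have hx : f₁ x.1.1 = f₂ x.1.2 := x.2
    rw [← Art.res_app f₂, ← hx, Art.res_app f₁]⟩

theorem isFibreProd_fibreProd {A A₁ A₂ : Art Λ k} (f₁ : A₁ ⟶ A) (f₂ : A₂ ⟶ A)
    (hf₂ : Function.Surjective f₂) :
    IsFibreProd (fibreProdFst f₁ f₂ hf₂) (fibreProdSnd f₁ f₂ hf₂) f₁ f₂ where
  w := by
    apply Art.hom_ext
    apply AlgHom.ext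
    intro x
    exact x.2
  inj b₁ b₂ h1 h2 := by
    apply Subtype.ext
    exact Prod.ext h1 h2
  surj a' a'' h := ⟨⟨(a', a''), h⟩, rfl, rfl⟩

theorem exists_isFibreProd {A A₁ A₂ : Art Λ k} (f₁ : A₁ ⟶ A) (f₂ : A₂ ⟶ A)
    (hf₂ : Function.Surjective f₂) :
    ∃ (B : ArtFun.Art Λ k) (p₁ : B ⟶ A₁) (p₂ : B ⟶ A₂), ArtFun.Art.IsFibreProd p₁ p₂ f₁ f₂ :=
  ⟨_, _, _, isFibreProd_fibreProd f₁ f₂ hf₂⟩

end

section Lift
variable {Λ : Type u} {k : Type u} [CommRing Λ] [Field k] [Algebra Λ k]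
open ArtFun ArtFun.Art

variable {B A A₁ A₂ : Art Λ k} {p₁ : B ⟶ A₁} {p₂ : B ⟶ A₂} {f₁ : A₁ ⟶ A} {f₂ : A₂ ⟶ A}

theorem IsFibreProd.exists_lift (h : IsFibreProd p₁ p₂ f₁ f₂) {C : Art Λ k} (u : C ⟶ A₁) (v : C ⟶ A₂)
    (huv : u ≫ f₁ = v ≫ f₂) : ∃ w : C ⟶ B, w ≫ p₁ = u ∧ w ≫ p₂ = v := by
  have huv' : ∀ c : C, f₁ (u c) = f₂ (v c) := fun c => by
    change (u ≫ f₁) c = (v ≫ f₂) c
    rw [huv]
  choose w hw1 hw2 using fun c : C => h.surj (u c) (v c) (huv' c)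
  have key : ∀ (b : B) (c : C), p₁ b = u c → p₂ b = v c → b = w c := fun b c h1 h2 =>
    h.inj _ _ (h1.trans (hw1 c).symm) (h2.trans (hw2 c).symm)
  let wA : C →ₐ[Λ] B :=
    { toFun := w
      map_one' := (key 1 1 (by simp) (by simp)).symm
      map_mul' := fun x y => (key (w x * w y) (x * y) (by simp [hw1]) (by simp [hw2])).symm
      map_zero' := (key 0 0 (by simp) (by simp)).symm
      map_add' := fun x y => (key (w x + w y) (x + y) (by simp [hw1]) (by simp [hw2])).symm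
      commutes' := fun r => (key (algebraMap Λ B r) (algebraMap Λ C r) (by simp) (by simp)).symm }
  refine ⟨⟨wA, ?_⟩, ?_, ?_⟩
  · apply AlgHom.ext
    intro c
    change B.res (w c) = C.res c
    rw [← Art.res_app p₁, hw1, Art.res_app u]
  · apply Art.hom_ext
    apply AlgHom.ext
    intro c
    exact hw1 c
  · apply Art.hom_ext
    apply AlgHom.ext
    intro c
    exact hw2 c

end Lift

end Groth.Agent.Lib.helper19
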