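import Groth.Agent.Lib.helper19.ArtBasic

set_option autoImplicit false

universe u v

namespace Groth.Agent.Lib.helper19

open CategoryTheory ArtFun ArtFun.Art

variable {Λ : Type u} {k : Type u} [CommRing Λ] [Field k] [Algebra Λ k]

theorem quotMk_eq_zero_iff (B : Art Λ k) (J : Ideal B) (hJ : J ≤ IsLocalRing.maximalIdeal B) (b : B) :
    (Art.quotMk B J hJ) b = 0 ↔ b ∈ J :=
  Ideal.Quotient.eq_zero_iff_mem

theorem quotMk_eq_iff (B : Art Λ k) (J : Ideal B) (hJ : J ≤ IsLocalRing.maximalIdeal B) (b c : B) :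
    (Art.quotMk B J hJ) b = (Art.quotMk B J hJ) c ↔ b - c ∈ J :=
  Ideal.Quotient.eq

/-- The map `B/J ⟶ B/J'` for `J ≤ J'`. -/
noncomputable def quotQuot (B : Art Λ k) (J J' : Ideal B) (hJ : J ≤ IsLocalRing.maximalIdeal B)
    (hJ' : J' ≤ IsLocalRing.maximalIdeal B) (h : J ≤ J') : Art.quot B J hJ ⟶ Art.quot B J' hJ' :=
  Art.quotFactor hJ (Art.quotMk B J' hJ') (by
    intro x hx
    rw [RingHom.mem_ker]
    exact (quotMk_eq_zero_iff B J' hJ' x).mpr (h hx))

theorem quotQuot_mk (B : Art Λ k) (J J' : Ideal B) (hJ : J ≤ IsLocalRing.maximalIdeal B)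
    (hJ' : J' ≤ IsLocalRing.maximalIdeal B) (h : J ≤ J') (b : B) :
    (quotQuot B J J' hJ hJ' h) ((Art.quotMk B J hJ) b) = (Art.quotMk B J' hJ') b := rfl

theorem quotFactor_mk {C D : Art Λ k} {K : Ideal C} (hK : K ≤ IsLocalRing.maximalIdeal C) (p : C ⟶ D)
    (hp : K ≤ RingHom.ker p.toAlgHom) (c : C) :
    (Art.quotFactor hK p hp) ((Art.quotMk C K hK) c) = p c := rfl

theorem mem_maximalIdeal_quot_iff (B : Art Λ k) (J : Ideal B) (hJ : J ≤ IsLocalRing.maximalIdeal B) (b : B) :
    (Art.quotMk B J hJ) b ∈ IsLocalRing.maximalIdeal (Art.quot B J hJ) ↔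
      b ∈ IsLocalRing.maximalIdeal B := by
  rw [Art.mem_maximalIdeal_iff, Art.mem_maximalIdeal_iff]
  rfl

/-- `B/J ⟶ B/(J + (t))` is a small extension when `t ∉ J` and `m t ⊆ J`. -/
theorem isSmallExt_quotQuot (B : Art Λ k) (J : Ideal B) (hJ : J ≤ IsLocalRing.maximalIdeal B)
    (t : B) (htJ : t ∉ J)
    (hmt : ∀ x ∈ IsLocalRing.maximalIdeal B, x * t ∈ J)
    (hJ' : J ⊔ Ideal.span {t} ≤ IsLocalRing.maximalIdeal B) :
    Art.IsSmallExt (quotQuot B J (J ⊔ Ideal.span {t}) hJ hJ' le_sup_left) := by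
  have hker : RingHom.ker (quotQuot B J (J ⊔ Ideal.span {t}) hJ hJ' le_sup_left).toAlgHom =
      Ideal.span {(Art.quotMk B J hJ) t} := by
    apply le_antisymm
    · intro x hx
      obtain ⟨b, rfl⟩ := Art.quotMk_surjective B J hJ x
      rw [RingHom.mem_ker] at hx
      have hx' : (Art.quotMk B (J ⊔ Ideal.span {t}) hJ') b = 0 := hx
      rw [quotMk_eq_zero_iff, Submodule.mem_sup] at hx'
      obtain ⟨j, hj, s, hs, rfl⟩ := hx'
      rw [Ideal.mem_span_singleton'] at hs
      obtain ⟨c, rfl⟩ := hs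
      rw [Ideal.mem_span_singleton']
      refine ⟨(Art.quotMk B J hJ) c, ?_⟩
      have h1 : (Art.quotMk B J hJ) (j + c * t) = (Art.quotMk B J hJ) j + (Art.quotMk B J hJ) c * (Art.quotMk B J hJ) t := by
        change (Art.quotMk B J hJ).toAlgHom (j + c * t) = _
        rw [map_add, map_mul]
      rw [h1, (quotMk_eq_zero_iff B J hJ j).mpr hj, zero_add]
    · rw [Ideal.span_le, Set.singleton_subset_iff]
      change _ ∈ RingHom.ker _
      rw [RingHom.mem_ker]
      change (Art.quotMk B (J ⊔ Ideal.span {t}) hJ') t = 0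
      rw [quotMk_eq_zero_iff]
      exact Ideal.mem_sup_right (Ideal.subset_span rfl)
  refine ⟨?_, ?_, ?_, ?_⟩
  · intro y
    obtain ⟨b, rfl⟩ := Art.quotMk_surjective B _ hJ' y
    exact ⟨(Art.quotMk B J hJ) b, rfl⟩
  · rw [hker]
    intro h
    have : (Art.quotMk B J hJ) t ∈ (⊥ : Ideal (Art.quot B J hJ)) := by
      rw [← h]
      exact Ideal.subset_span rfl
    rw [Ideal.mem_bot] at this
    exact htJ ((quotMk_eq_zero_iff B J hJ t).mp this)
  · rw [hker]
    exact ⟨⟨_, rfl⟩⟩
  · rw [hker, eq_bot_iff, Ideal.mul_le]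
    intro r hr s hs
    obtain ⟨b, rfl⟩ := Art.quotMk_surjective B J hJ r
    rw [mem_maximalIdeal_quot_iff] at hr
    rw [Ideal.mem_span_singleton'] at hs
    obtain ⟨c, rfl⟩ := hs
    obtain ⟨c', rfl⟩ := Art.quotMk_surjective B J hJ c
    rw [Ideal.mem_bot]
    have : (Art.quotMk B J hJ) b * ((Art.quotMk B J hJ) c' * (Art.quotMk B J hJ) t) =
        (Art.quotMk B J hJ) (c' * (b * t)) := by
      change _ = (Art.quotMk B J hJ).toAlgHom (c' * (b * t))
      rw [map_mul, map_mul]
      change _ = (Art.quotMk B J hJ) c' * ((Art.quotMk B J hJ) b * (Art.quotMk B J hJ) t)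
      ring
    rw [this, quotMk_eq_zero_iff]
    exact Ideal.mul_mem_left _ _ (hmt b hr)

/-- Induction principle: every surjection in `Art Λ k` is a composite of small extensions and isomorphisms. -/
theorem art_surjective_induction
    (P : ∀ ⦃A B : Art Λ k⦄, (B ⟶ A) → Prop)
    (hiso : ∀ ⦃A B : Art Λ k⦄ (e : B ⟶ A), IsIso e → P e)
    (hsmall : ∀ ⦃A B : Art Λ k⦄ (p : B ⟶ A), Art.IsSmallExt p → P p)
    (hcomp : ∀ ⦃A B C : Art Λ k⦄ (p : C ⟶ B) (q : B ⟶ A), P p → P q → P (p ≫ q))
    ⦃A B : Art Λ k⦄ (f : B ⟶ A) (hf : Function.Surjective f) : P f := by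
  have hKm := art_ker_le_maximalIdeal f
  have key : ∀ (J : Ideal B) (hJK : J ≤ RingHom.ker f.toAlgHom),
      P (Art.quotFactor (hJK.trans hKm) f hJK) := by
    intro J
    induction J using WellFoundedGT.induction with
    | _ J ih =>
      intro hJK
      by_cases hKJ : RingHom.ker f.toAlgHom ≤ J
      · apply hiso
        apply art_isIso_of_bijective
        constructor
        · intro x y hxy
          obtain ⟨b, rfl⟩ := Art.quotMk_surjective B J (hJK.trans hKm) x
          obtain ⟨c, rfl⟩ := Art.quotMk_surjective B J (hJK.trans hKm) y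
          rw [quotFactor_mk, quotFactor_mk] at hxy
          rw [quotMk_eq_iff]
          apply hKJ
          rw [RingHom.mem_ker, map_sub]
          exact sub_eq_zero.mpr hxy
        · intro a
          obtain ⟨b, hb⟩ := hf a
          exact ⟨(Art.quotMk B J (hJK.trans hKm)) b, hb⟩
      · obtain ⟨t, htK, htJ, hmt⟩ := exists_mem_not_mem_mul_le (IsLocalRing.maximalIdeal B) J
          (RingHom.ker f.toAlgHom) (art_maximalIdeal_nilpotent B) hKJ
        have hJ'K : J ⊔ Ideal.span {t} ≤ RingHom.ker f.toAlgHom := by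
          rw [sup_le_iff, Ideal.span_le, Set.singleton_subset_iff]
          exact ⟨hJK, htK⟩
        have hlt : J < J ⊔ Ideal.span {t} := by
          apply lt_of_le_of_ne le_sup_left
          intro h
          apply htJ
          rw [h]
          exact Ideal.mem_sup_right (Ideal.subset_span rfl)
        have h1 := ih _ hlt hJ'K
        have h2 := hsmall _ (isSmallExt_quotQuot B J (hJK.trans hKm) t htJ hmt (hJ'K.trans hKm))
        have h3 := hcomp _ _ h2 h1
        have heq : quotQuot B J (J ⊔ Ideal.span {t}) (hJK.trans hKm) (hJ'K.trans hKm) le_sup_left ≫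
            Art.quotFactor (hJ'K.trans hKm) f hJ'K = Art.quotFactor (hJK.trans hKm) f hJK := by
          apply Art.hom_ext
          apply AlgHom.ext
          intro x
          obtain ⟨b, rfl⟩ := Art.quotMk_surjective B J (hJK.trans hKm) x
          rfl
        rw [heq] at h3
        exact h3
  have h0 := key ⊥ bot_le
  have hmk : P (Art.quotMk B ⊥ bot_le) := by
    apply hiso
    apply art_isIso_of_bijective
    constructor
    · intro x y hxy
      rw [quotMk_eq_iff, Ideal.mem_bot, sub_eq_zero] at hxy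
      exact hxy
    · exact Art.quotMk_surjective B ⊥ bot_le
  have := hcomp _ _ hmk h0
  rw [Art.quotMk_quotFactor] at this
  exact this

end Groth.Agent.Lib.helper19
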