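import Mathlib
import Groth.Prelude.Def_ArtFun2
import Groth.Agent.Lib.helper19.ArtBasic
import Groth.Agent.Lib.helper19.ArtFibre

set_option autoImplicit false
universe u v
open CategoryTheory IsLocalRing

namespace Groth.Agent.Lib.helper19

section
variable {Λ : Type u} {k : Type u} [CommRing Λ] [Field k] [Algebra Λ k]
open ArtFun ArtFun.Art

/-- Lemma D: the "difference" map to the dual numbers. -/
theorem exists_diff_hom {E P : Art Λ k} (M : Ideal E) (lam : E → k)
    (hadd : ∀ x ∈ M, ∀ y ∈ M, lam (x + y) = lam x + lam y)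
    (hmul : ∀ (e : E), ∀ x ∈ M, lam (e * x) = E.res e * lam x)
    (u v : P ⟶ E) (huv : ∀ p : P, v p - u p ∈ M) :
    ∃ δ : P ⟶ dual Λ k, ∀ p : P, TrivSqZeroExt.fst (δ p) = P.res p ∧
      TrivSqZeroExt.snd (δ p) = lam (v p - u p) := by
  have h0 : lam 0 = 0 := by
    have := hmul 0 0 M.zero_mem
    rw [zero_mul, map_zero, zero_mul] at this
    exact this
  have hres_u : ∀ p, E.res (u p) = P.res p := fun p => Art.res_app u p
  have hres_v : ∀ p, E.res (v p) = P.res p := fun p => Art.res_app v p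
  let δA : P →ₐ[Λ] DualNumber k :=
    { toFun := fun p => TrivSqZeroExt.inl (P.res p) + TrivSqZeroExt.inr (lam (v p - u p))
      map_one' := by
        have h1 : u (1 : P) = 1 := map_one u.toAlgHom
        have h2 : v (1 : P) = 1 := map_one v.toAlgHom
        rw [h1, h2, sub_self, h0, map_one]
        simp
      map_mul' := fun p q => by
        have h1 : u (p * q) = u p * u q := map_mul u.toAlgHom p q
        have h2 : v (p * q) = v p * v q := map_mul v.toAlgHom p q
        have h3 : v (p * q) - u (p * q) = v p * (v q - u q) + u q * (v p - u p) := by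
          rw [h1, h2]; ring
        rw [h3, hadd _ (M.mul_mem_left _ (huv q)) _ (M.mul_mem_left _ (huv p)),
          hmul _ _ (huv q), hmul _ _ (huv p), hres_v, hres_u, map_mul]
        apply TrivSqZeroExt.ext
        · simp
        · simp [mul_comm]
      map_zero' := by
        have h1 : u (0 : P) = 0 := map_zero u.toAlgHom
        have h2 : v (0 : P) = 0 := map_zero v.toAlgHom
        rw [h1, h2, sub_self, h0, map_zero]
        simp
      map_add' := fun p q => by
        have h1 : u (p + q) = u p + u q := map_add u.toAlgHom p q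
        have h2 : v (p + q) = v p + v q := map_add v.toAlgHom p q
        have h3 : v (p + q) - u (p + q) = (v p - u p) + (v q - u q) := by
          rw [h1, h2]; ring
        rw [h3, hadd _ (huv p) _ (huv q), map_add]
        apply TrivSqZeroExt.ext
        · simp
        · simp
      commutes' := fun r => by
        have h1 : u (algebraMap Λ P r) = algebraMap Λ E r := u.toAlgHom.commutes r
        have h2 : v (algebraMap Λ P r) = algebraMap Λ E r := v.toAlgHom.commutes r
        rw [h1, h2, sub_self, h0, P.res.commutes, TrivSqZeroExt.algebraMap_eq_inl']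
        simp }
  have hfst : ∀ p, TrivSqZeroExt.fst (δA p) = P.res p := by
    intro p
    change TrivSqZeroExt.fst ((TrivSqZeroExt.inl (P.res p) + TrivSqZeroExt.inr (lam (v p - u p)) : DualNumber k)) = P.res p
    simp
  have hsnd : ∀ p, TrivSqZeroExt.snd (δA p) = lam (v p - u p) := by
    intro p
    change TrivSqZeroExt.snd ((TrivSqZeroExt.inl (P.res p) + TrivSqZeroExt.inr (lam (v p - u p)) : DualNumber k)) = _
    simp
  refine ⟨⟨δA, ?_⟩, fun p => ⟨hfst p, hsnd p⟩⟩
  apply AlgHom.ext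
  intro p
  exact hfst p

end

end Groth.Agent.Lib.helper19

namespace Groth.Agent.Lib.helper19

section
variable {Λ : Type u} {k : Type u} [CommRing Λ] [Field k] [Algebra Λ k]
open ArtFun ArtFun.Art

/-- coordinate of a multiple of `t`. -/
noncomputable def coord {E : Art Λ k} (t : E) : E → k := fun e =>
  open Classical in if h : ∃ w : E, e = w * t then E.res (Classical.choose h) else 0

theorem coord_mul {E : Art Λ k} (t : E) (ht : t ≠ 0)
    (hmt : ∀ c : E, c ∈ maximalIdeal E → c * t = 0) (w : E) : coord t (w * t) = E.res w := by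
  have h : ∃ w' : E, w * t = w' * t := ⟨w, rfl⟩
  unfold coord
  rw [dif_pos h]
  have hc := Classical.choose_spec h
  set w' := Classical.choose h
  have h1 : (w - w') * t = 0 := by rw [sub_mul, ← hc, sub_self]
  have h2 : w - w' ∈ maximalIdeal E := by
    by_contra hnot
    have hu : IsUnit (w - w') := by
      by_contra hnu
      exact hnot ((IsLocalRing.mem_maximalIdeal _).2 hnu)
    obtain ⟨z, hz⟩ := hu.exists_left_inv
    apply ht
    have : t = z * ((w - w') * t) := by rw [← mul_assoc, hz, one_mul]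
    rw [this, h1, mul_zero]
  have := (Art.mem_maximalIdeal_iff E _).1 h2
  rw [map_sub, sub_eq_zero] at this
  exact this.symm

theorem exists_torsor_square {A' A : Art Λ k} (f : A' ⟶ A) (hf : IsSmallExt f) {P : Art Λ k}
    (p₁ p₂ : P ⟶ A') (hP : IsFibreProd p₁ p₂ f f) :
    ∃ (δ : P ⟶ dual Λ k) (Δ : A' ⟶ P), IsFibreProd p₁ δ (toBase A') (toBase (dual Λ k)) ∧
      Δ ≫ p₁ = 𝟙 A' ∧ Δ ≫ p₂ = 𝟙 A' ∧ Δ ≫ δ = toBase A' ≫ baseToDual := by
  obtain ⟨hsurj, hne, ⟨t, ht⟩, hkill⟩ := hf
  have htker : t ∈ RingHom.ker f.toAlgHom := by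
    rw [ht]; exact Submodule.mem_span_singleton_self t
  have htne : t ≠ 0 := by
    intro h0
    apply hne
    rw [ht, h0]
    simp
  have hmt : ∀ c : A', c ∈ maximalIdeal A' → c * t = 0 := by
    intro c hc
    have : c * t ∈ maximalIdeal A' * RingHom.ker f.toAlgHom := Ideal.mul_mem_mul hc htker
    rw [hkill] at this
    exact this
  have hmem : ∀ x : A', x ∈ RingHom.ker f.toAlgHom ↔ ∃ w, x = w * t := by
    intro x
    rw [ht]
    constructor
    · intro hx
      obtain ⟨w, hw⟩ := Submodule.mem_span_singleton.mp hx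
      exact ⟨w, hw.symm⟩
    · rintro ⟨w, rfl⟩
      exact Submodule.mem_span_singleton.mpr ⟨w, rfl⟩
  have hcm := coord_mul t htne hmt
  have hadd : ∀ x ∈ RingHom.ker f.toAlgHom, ∀ y ∈ RingHom.ker f.toAlgHom,
      coord t (x + y) = coord t x + coord t y := by
    intro x hx y hy
    obtain ⟨w, rfl⟩ := (hmem x).1 hx
    obtain ⟨w', rfl⟩ := (hmem y).1 hy
    rw [← add_mul, hcm, hcm, hcm, map_add]
  have hmul : ∀ (e : A'), ∀ x ∈ RingHom.ker f.toAlgHom, coord t (e * x) = A'.res e * coord t x := by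
    intro e x hx
    obtain ⟨w, rfl⟩ := (hmem x).1 hx
    rw [← mul_assoc, hcm, hcm, map_mul]
  have hinj : ∀ x ∈ RingHom.ker f.toAlgHom, coord t x = 0 → x = 0 := by
    intro x hx h0
    obtain ⟨w, rfl⟩ := (hmem x).1 hx
    rw [hcm] at h0
    exact hmt w ((Art.mem_maximalIdeal_iff A' w).2 h0)
  have huv : ∀ p : P, p₂ p - p₁ p ∈ RingHom.ker f.toAlgHom := by
    intro p
    rw [RingHom.mem_ker, map_sub]
    change f (p₂ p) - f (p₁ p) = 0
    rw [hP.w_apply, sub_self]
  obtain ⟨δ, hδ⟩ := exists_diff_hom (RingHom.ker f.toAlgHom) (coord t) hadd hmul p₁ p₂ huv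
  obtain ⟨Δ, hΔ1, hΔ2⟩ := IsFibreProd.exists_lift hP (𝟙 A') (𝟙 A') rfl
  refine ⟨δ, Δ, ⟨?_, ?_, ?_⟩, hΔ1, hΔ2, ?_⟩
  · rw [eq_toBase (p₁ ≫ toBase A'), eq_toBase (δ ≫ toBase _)]
  · intro z₁ z₂ e1 e2
    apply hP.inj _ _ e1
    have e3 : coord t (p₂ z₁ - p₁ z₁) = coord t (p₂ z₂ - p₁ z₂) := by
      have := congrArg TrivSqZeroExt.snd e2
      rw [(hδ z₁).2, (hδ z₂).2] at this
      exact this
    have e4 : (p₂ z₁ - p₁ z₁) - (p₂ z₂ - p₁ z₂) = 0 := by
      apply hinj _ (Ideal.sub_mem _ (huv z₁) (huv z₂))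
      have h5 : p₂ z₁ - p₁ z₁ = ((p₂ z₁ - p₁ z₁) - (p₂ z₂ - p₁ z₂)) + (p₂ z₂ - p₁ z₂) := by ring
      have h6 := hadd _ (Ideal.sub_mem _ (huv z₁) (huv z₂)) _ (huv z₂)
      rw [← h5, e3] at h6
      exact (add_eq_right.mp h6.symm)
    rw [e1] at e4
    have : p₂ z₁ = p₂ z₂ := by
      have h7 : p₂ z₁ - p₁ z₂ - (p₂ z₂ - p₁ z₂) = p₂ z₁ - p₂ z₂ := by ring
      rw [h7, sub_eq_zero] at e4
      exact e4
    exact this
  · intro a x hax
    have hax' : A'.res a = TrivSqZeroExt.fst x := hax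
    obtain ⟨w, hw⟩ := A'.res_surjective (TrivSqZeroExt.snd x)
    have hfb : f a = f (a + w * t) := by
      have : f (a + w * t) = f a + f (w * t) := map_add f.toAlgHom _ _
      rw [this]
      have h8 : f (w * t) = 0 := (hmem _).2 ⟨w, rfl⟩
      rw [h8, add_zero]
    obtain ⟨z, hz1, hz2⟩ := hP.surj a (a + w * t) hfb
    refine ⟨z, hz1, ?_⟩
    apply TrivSqZeroExt.ext
    · rw [(hδ z).1, ← Art.res_app p₁, hz1, hax']
    · rw [(hδ z).2, hz1, hz2, add_sub_cancel_left, hcm, hw]
  · apply Art.hom_ext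
    apply AlgHom.ext
    intro a
    change δ (Δ a) = baseToDual (toBase A' a)
    have e1 : p₁ (Δ a) = a := by
      change (Δ ≫ p₁) a = a
      rw [hΔ1]; rfl
    have e2 : p₂ (Δ a) = a := by
      change (Δ ≫ p₂) a = a
      rw [hΔ2]; rfl
    have h0 : coord t (0 : A') = 0 := by
      have := hcm 0
      rw [zero_mul, map_zero] at this
      exact this
    apply TrivSqZeroExt.ext
    · rw [(hδ _).1, ← Art.res_app p₁, e1]
      rfl
    · rw [(hδ _).2, e1, e2, sub_self, h0]
      rfl

end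

end Groth.Agent.Lib.helper19
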