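import Mathlib
import Groth.Prelude.Def_ArtFun2
import Groth.Agent.Lib.helper19.ArtBasic
import Groth.Agent.Lib.helper19.ArtInduction
import Groth.Agent.Lib.helper19.ArtFibre
import Groth.Agent.Lib.helper19.ArtTorsor
import Groth.Agent.Lib.helper19.ArtVersal

set_option autoImplicit false
universe u v
open CategoryTheory IsLocalRing

namespace Groth.Agent.Lib.helper19

section
variable {Λ : Type u} {k : Type u} [CommRing Λ] [Field k] [Algebra Λ k]
  [IsNoetherianRing Λ] [Module.Finite Λ k]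
open ArtFun ArtFun.Art

theorem HomSet.map_comp {R : Type u} [CommRing R] [Algebra Λ R] {resR : R →ₐ[Λ] k}
    {A B C : Art Λ k} (f : A ⟶ B) (g : B ⟶ C) (φ : HomSet R resR A) :
    HomSet.map (f ≫ g) φ = HomSet.map g (HomSet.map f φ) :=
  Subtype.ext (AlgHom.ext fun _ => rfl)

theorem HomSet.map_id {R : Type u} [CommRing R] [Algebra Λ R] {resR : R →ₐ[Λ] k}
    {A : Art Λ k} (φ : HomSet R resR A) : HomSet.map (𝟙 A) φ = φ :=
  Subtype.ext (AlgHom.ext fun _ => rfl)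

theorem HomSet.base_subsingleton {R : Type u} [CommRing R] [Algebra Λ R] {resR : R →ₐ[Λ] k}
    (φ ψ : HomSet R resR (base Λ k)) : φ = ψ := by
  apply Subtype.ext
  have h1 := φ.2
  have h2 := ψ.2
  change (AlgHom.id Λ k).comp φ.1 = resR at h1
  change (AlgHom.id Λ k).comp ψ.1 = resR at h2
  rw [AlgHom.id_comp] at h1 h2
  rw [h1, h2]

theorem isVersal_of_smallExt {F : Art Λ k ⥤ Type v} {R : Type u} [CommRing R] [Algebra Λ R]
    {resR : R →ₐ[Λ] k} (ξ : Family R resR F)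
    (h : ∀ ⦃B A : Art Λ k⦄ (μ : B ⟶ A), IsSmallExt μ →
      ∀ (φ : HomSet R resR A) (y : F.obj B), F.map μ y = ξ.app A φ →
        ∃ ψ : HomSet R resR B, HomSet.map μ ψ = φ ∧ ξ.app B ψ = y) :
    IsVersal ξ := by
  intro B A μ hμ
  refine art_surjective_induction
    (fun A B μ => ∀ (φ : HomSet R resR A) (y : F.obj B), F.map μ y = ξ.app A φ →
        ∃ ψ : HomSet R resR B, HomSet.map μ ψ = φ ∧ ξ.app B ψ = y) ?_ ?_ ?_ μ hμ
  · intro A B e he φ y hy
    refine ⟨HomSet.map (inv e) φ, ?_, ?_⟩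
    · rw [← HomSet.map_comp, IsIso.inv_hom_id, HomSet.map_id]
    · rw [ξ.natural, ← hy, ← Functor.map_comp_apply, IsIso.hom_inv_id, Functor.map_id_apply]
  · intro A B p hp
    exact h p hp
  · intro A B C p q hp hq φ y hy
    obtain ⟨ψB, hψB1, hψB2⟩ := hq φ (F.map p y) (by rw [← Functor.map_comp_apply, hy])
    obtain ⟨ψ, hψ1, hψ2⟩ := hp ψB y hψB2.symm
    exact ⟨ψ, by rw [HomSet.map_comp, hψ1, hψB1], hψ2⟩

theorem isVersal_iff_tangent_surjective_and_exists_lift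
    {F : Art Λ k ⥤ Type v} (h0 : H0 F) (h1 : S1 F) (h2 : Heps F)
    {R : Type u} [CommRing R] [Algebra Λ R] {resR : R →ₐ[Λ] k} (ξ : Family R resR F) :
    IsVersal ξ ↔
      (Function.Surjective (TangentSpace.ofFamily ξ) ∧
        ∀ ⦃B A : Art Λ k⦄ (μ : B ⟶ A), IsSmallExt μ →
          ∀ (φ : HomSet R resR A) (y : F.obj B), F.map μ y = ξ.app A φ →
            ∃ ψ : HomSet R resR B, HomSet.map μ ψ = φ) := by
  constructor
  · intro hv
    refine ⟨IsVersal.app_surjective h0 ξ hv (dual Λ k), ?_⟩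
    intro B A μ hμ φ y hy
    obtain ⟨ψ, hψ, _⟩ := hv μ hμ.1 φ y hy
    exact ⟨ψ, hψ⟩
  · rintro ⟨hd, hlift⟩
    apply isVersal_of_smallExt
    intro B A μ hμ φ y hy
    obtain ⟨ψ₀, hψ₀⟩ := hlift μ hμ φ y hy
    obtain ⟨P, p₁, p₂, hP⟩ := exists_isFibreProd μ μ hμ.1
    obtain ⟨δ, Δ, hsq, hΔ1, hΔ2, hΔδ⟩ := exists_torsor_square μ hμ p₁ p₂ hP
    obtain ⟨z, hz⟩ := h1 p₁ p₂ μ μ hP hμ.1 ⟨(ξ.app B ψ₀, y), by
      change F.map μ (ξ.app B ψ₀) = F.map μ y
      rw [← ξ.natural, hψ₀, hy]⟩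
    have hz1 : F.map p₁ z = ξ.app B ψ₀ := congrArg (fun t => t.1.1) hz
    have hz2 : F.map p₂ z = y := congrArg (fun t => t.1.2) hz
    obtain ⟨τ, hτ⟩ := hd (F.map δ z)
    have hτ' : ξ.app (dual Λ k) τ = F.map δ z := hτ
    obtain ⟨χ, hχ1, hχ2⟩ := IsFibreProd.exists_homSet_lift hsq ψ₀ τ (HomSet.base_subsingleton _ _)
    have hχz : ξ.app P χ = z := by
      apply (h2 p₁ δ hsq).1
      apply FibProd.ext
      · change F.map p₁ (ξ.app P χ) = F.map p₁ z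
        rw [← ξ.natural, hχ1, hz1]
      · change F.map δ (ξ.app P χ) = F.map δ z
        rw [← ξ.natural, hχ2, hτ']
    refine ⟨HomSet.map p₂ χ, ?_, ?_⟩
    · rw [← HomSet.map_comp, ← hP.w, HomSet.map_comp, hχ1, hψ₀]
    · rw [ξ.natural, hχz, hz2]

end

end Groth.Agent.Lib.helper19
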