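import Mathlib
import Groth.Prelude.Def_ArtFun5
import Groth.Agent.Lib.helper19.ArtMinVersal
import Groth.Agent.Lib.helper19.ArtVersal2
import Groth.Agent.Lib.helper19.ArtDerFin

set_option autoImplicit false
universe u v
open CategoryTheory IsLocalRing

namespace Groth.Agent.Lib.helper19

section
variable {Λ : Type u} {k : Type u} [CommRing Λ] [Field k] [Algebra Λ k]
open ArtFun ArtFun.Art

/-- The derivation attached to an element of `h_R(k[ε])`. -/
noncomputable def homSetToDeriv (R : CRing Λ k)
    [Algebra R.carrier k] [IsScalarTower Λ R.carrier k]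
    (hres : ∀ a, algebraMap R.carrier k a = R.res a)
    (τ : HomSet R.carrier R.res (dual Λ k)) : Derivation Λ R.carrier k :=
  have hfst : ∀ a, TrivSqZeroExt.fst (τ.1 a : DualNumber k) = R.res a := fun a =>
    DFunLike.congr_fun τ.2 a
  { toFun := fun a => TrivSqZeroExt.snd (τ.1 a : DualNumber k)
    map_add' := fun a b => by
      have : τ.1 (a + b) = τ.1 a + τ.1 b := map_add τ.1 a b
      rw [this]
      rfl
    map_smul' := fun l a => by
      have : τ.1 (l • a) = l • τ.1 a := map_smul τ.1 l a
      rw [this]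
      rfl
    map_one_eq_zero' := by
      have : τ.1 (1 : R.carrier) = 1 := map_one τ.1
      change TrivSqZeroExt.snd (τ.1 (1 : R.carrier) : DualNumber k) = 0
      rw [this]
      rfl
    leibniz' := fun a b => by
      have : τ.1 (a * b) = τ.1 a * τ.1 b := map_mul τ.1 a b
      change TrivSqZeroExt.snd (τ.1 (a * b) : DualNumber k) =
        a • TrivSqZeroExt.snd (τ.1 b : DualNumber k) + b • TrivSqZeroExt.snd (τ.1 a : DualNumber k)
      rw [this]
      have key : ∀ x y : DualNumber k, TrivSqZeroExt.snd (x * y) =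
          TrivSqZeroExt.fst x * TrivSqZeroExt.snd y + TrivSqZeroExt.fst y * TrivSqZeroExt.snd x := by
        intro x y
        rw [TrivSqZeroExt.snd_mul]
        simp [mul_comm]
      refine (key _ _).trans ?_
      rw [hfst, hfst, Algebra.smul_def, Algebra.smul_def, hres, hres] }

theorem derivToHomSet_homSetToDeriv (R : CRing Λ k)
    [Algebra R.carrier k] [IsScalarTower Λ R.carrier k]
    (hres : ∀ a, algebraMap R.carrier k a = R.res a)
    (τ : HomSet R.carrier R.res (dual Λ k)) :
    derivToHomSet R hres (homSetToDeriv R hres τ) = τ := by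
  apply Subtype.ext
  apply AlgHom.ext
  intro a
  apply TrivSqZeroExt.ext
  · rw [derivToHomSet_fst]
    exact (DFunLike.congr_fun τ.2 a).symm
  · rw [derivToHomSet_snd]
    rfl

end

end Groth.Agent.Lib.helper19

namespace Groth.Agent.Lib.helper19

section
variable {Λ : Type u} {k : Type u} [CommRing Λ] [Field k] [Algebra Λ k]
  [IsNoetherianRing Λ] [Module.Finite Λ k]
open ArtFun ArtFun.Art

theorem heps_of_isMiniversal {F : Art Λ k ⥤ Type v} (h0 : H0 F) {R : Type u} [CommRing R]
    [Algebra Λ R] {resR : R →ₐ[Λ] k} (ξ : Family R resR F) (hξ : IsMiniversal ξ) : Heps F := by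
  intro B A' p' p'' h
  have hS1 := s1_of_isVersal h0 ξ hξ.1
  refine ⟨?_, hS1 p' p'' _ _ h (dual Λ k).res_surjective⟩
  intro z₁ z₂ hz
  have e1 : F.map p' z₁ = F.map p' z₂ := congrArg (fun t => t.1.1) hz
  have e2 : F.map p'' z₁ = F.map p'' z₂ := congrArg (fun t => t.1.2) hz
  have hp' : Function.Surjective p' := by
    intro a'
    obtain ⟨b, hb, _⟩ := h.surj a' (TrivSqZeroExt.inl (A'.res a')) rfl
    exact ⟨b, hb⟩
  obtain ⟨φ', hφ'⟩ := IsVersal.app_surjective h0 ξ hξ.1 A' (F.map p' z₁)
  obtain ⟨ψ₁, hψ₁1, hψ₁2⟩ := hξ.1 p' hp' φ' z₁ hφ'.symm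
  obtain ⟨ψ₂, hψ₂1, hψ₂2⟩ := hξ.1 p' hp' φ' z₂ (by rw [← e1]; exact hφ'.symm)
  have hτ : HomSet.map p'' ψ₁ = HomSet.map p'' ψ₂ := by
    apply hξ.2.1
    rw [ξ.natural, ξ.natural, hψ₁2, hψ₂2, e2]
  have hψ : ψ₁ = ψ₂ := by
    apply Subtype.ext
    apply AlgHom.ext
    intro r
    apply h.inj
    · have := congrArg (fun t => t.1 r) (hψ₁1.trans hψ₂1.symm)
      exact this
    · have := congrArg (fun t => t.1 r) hτ
      exact this
  rw [← hψ₁2, ← hψ₂2, hψ]

end

end Groth.Agent.Lib.helper19

namespace Groth.Agent.Lib.helper19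

section
variable {Λ : Type u} {k : Type u} [CommRing Λ] [Field k] [Algebra Λ k]
  [IsNoetherianRing Λ] [Module.Finite Λ k]
open ArtFun ArtFun.Art

theorem hfin_of_isMiniversal {F : Art Λ k ⥤ Type v} [TangentStr F] (R : CRing Λ k)
    (ξ : Family R.carrier R.res F) (hξ : Function.Surjective (ξ.app (dual Λ k))) : Hfin F := by
  letI : Algebra R.carrier k := R.res.toRingHom.toAlgebra
  haveI : IsScalarTower Λ R.carrier k :=
    IsScalarTower.of_algebraMap_eq (fun r => (R.res.commutes r).symm)
  have hresk : ∀ a, algebraMap R.carrier k a = R.res a := fun a => rfl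
  haveI : IsAdicComplete (maximalIdeal R.carrier) R.carrier := R.isAdicComplete
  have hfinD : Module.Finite k (Derivation Λ R.carrier k) :=
    finite_derivation_residueField R.carrier R.res_surjective
  have hadd : ∀ D₁ D₂ : Derivation Λ R.carrier k,
      TangentSpace.mk (ξ.app (dual Λ k) (derivToHomSet R hresk (D₁ + D₂))) =
      TangentSpace.mk (ξ.app (dual Λ k) (derivToHomSet R hresk D₁)) +
        TangentSpace.mk (ξ.app (dual Λ k) (derivToHomSet R hresk D₂)) := by
    intro D₁ D₂
    obtain ⟨χ, hχ1, hχ2⟩ := IsFibreProd.exists_homSet_lift isFibreProd_dual2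
      (derivToHomSet R hresk D₁) (derivToHomSet R hresk D₂) (HomSet.base_subsingleton _ _)
    have hplus : HomSet.map plus χ = derivToHomSet R hresk (D₁ + D₂) := by
      apply Subtype.ext
      apply AlgHom.ext
      intro r
      have h1 := congrArg (fun t => t.1 r) hχ1
      have h2 := congrArg (fun t => t.1 r) hχ2
      have h1f : TrivSqZeroExt.fst (χ.1 r) = R.res r := by
        have := congrArg TrivSqZeroExt.fst h1
        rw [derivToHomSet_fst] at this
        exact this
      have h1s : (TrivSqZeroExt.snd (χ.1 r)).1 = D₁ r := by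
        have := congrArg TrivSqZeroExt.snd h1
        rw [derivToHomSet_snd] at this
        exact this
      have h2s : (TrivSqZeroExt.snd (χ.1 r)).2 = D₂ r := by
        have := congrArg TrivSqZeroExt.snd h2
        rw [derivToHomSet_snd] at this
        exact this
      apply TrivSqZeroExt.ext
      · rw [derivToHomSet_fst]
        exact h1f
      · rw [derivToHomSet_snd]
        change (TrivSqZeroExt.snd (χ.1 r)).1 + (TrivSqZeroExt.snd (χ.1 r)).2 = (D₁ + D₂) r
        rw [h1s, h2s]
        rfl
    have := TangentStr.add_eq (ξ.app (dual2 Λ k) χ)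
    rw [← ξ.natural, ← ξ.natural, ← ξ.natural, hχ1, hχ2, hplus] at this
    exact this.symm
  have hsmul : ∀ (c : k) (D : Derivation Λ R.carrier k),
      TangentSpace.mk (ξ.app (dual Λ k) (derivToHomSet R hresk (c • D))) =
      c • TangentSpace.mk (ξ.app (dual Λ k) (derivToHomSet R hresk D)) := by
    intro c D
    have hscale : HomSet.map (scale c) (derivToHomSet R hresk D) = derivToHomSet R hresk (c • D) := by
      apply Subtype.ext
      apply AlgHom.ext
      intro r
      apply TrivSqZeroExt.ext
      · rw [derivToHomSet_fst]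
        exact derivToHomSet_fst R hresk D r
      · rw [derivToHomSet_snd]
        change c • TrivSqZeroExt.snd ((derivToHomSet R hresk D).1 r) = (c • D) r
        rw [derivToHomSet_snd]
        rfl
    have := TangentStr.smul_eq c (ξ.app (dual Λ k) (derivToHomSet R hresk D))
    rw [← ξ.natural, hscale] at this
    exact this.symm
  let L : Derivation Λ R.carrier k →ₗ[k] TangentSpace F :=
    { toFun := fun D => TangentSpace.mk (ξ.app (dual Λ k) (derivToHomSet R hresk D))
      map_add' := hadd
      map_smul' := hsmul }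
  have hL : Function.Surjective L := by
    intro t
    obtain ⟨τ, hτ⟩ := hξ t
    refine ⟨homSetToDeriv R hresk τ, ?_⟩
    change ξ.app (dual Λ k) (derivToHomSet R hresk (homSetToDeriv R hresk τ)) = t
    rw [derivToHomSet_homSetToDeriv, hτ]
  exact Module.Finite.of_surjective L hL

end

end Groth.Agent.Lib.helper19
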