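import Mathlib
import Groth.Prelude.Def_W4sfdMinVersal
import Groth.Agent.Lib.helper19.ArtMinVersal
import Groth.Agent.Lib.helper19.CRingQuot

set_option autoImplicit false
universe u v
open CategoryTheory IsLocalRing ArtFun ArtFun.Art

namespace Groth.Agent.Lib.helper19

variable {Λ : Type u} {k : Type u} [CommRing Λ] [Field k] [Algebra Λ k]

section artQuot

variable (S : CRing Λ k) (J : Ideal S.carrier) (hJ : J ≤ maximalIdeal S.carrier) (N : ℕ)
  (hN : maximalIdeal S.carrier ^ N ≤ J)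

theorem isArtinianRing_quot_of_pow_le {S : Type*} [CommRing S] [IsLocalRing S] [IsNoetherianRing S]
    (J : Ideal S) (hJ : J ≤ maximalIdeal S) (N : ℕ) (hN : maximalIdeal S ^ N ≤ J)
    [IsLocalRing (S ⧸ J)] : IsArtinianRing (S ⧸ J) := by
  rw [isArtinianRing_iff_isNilpotent_maximalIdeal]
  refine ⟨N, ?_⟩
  rw [Ideal.zero_eq_bot, ← le_bot_iff, ← map_mk_maximalIdeal J, ← Ideal.map_pow]
  rw [Ideal.map_le_iff_le_comap]
  intro x hx
  rw [Ideal.mem_comap]
  exact Ideal.Quotient.eq_zero_iff_mem.mpr (hN hx)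

/-- The quotient of a coefficient ring by an open ideal, as an object of `Art`. -/
noncomputable def artQuot : Art Λ k :=
  haveI : Nontrivial (S.carrier ⧸ J) := Ideal.Quotient.nontrivial_iff.2
    (fun h => (maximalIdeal.isMaximal S.carrier).ne_top (top_le_iff.1 (h ▸ hJ)))
  haveI : IsLocalRing (S.carrier ⧸ J) :=
    IsLocalRing.of_surjective' (Ideal.Quotient.mk J) Ideal.Quotient.mk_surjective
  { carrier := S.carrier ⧸ J
    isArtinianRing := isArtinianRing_quot_of_pow_le J hJ N hN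
    res := Ideal.Quotient.liftₐ J S.res (fun a ha => (S.mem_maximalIdeal_iff a).1 (hJ ha))
    res_surjective := fun c => by
      obtain ⟨a, ha⟩ := S.res_surjective c
      exact ⟨Ideal.Quotient.mk J a, ha⟩ }

/-- The quotient map as an element of `h_S`. -/
noncomputable def artQuotMk : HomSet S.carrier S.res (artQuot S J hJ N hN) :=
  ⟨Ideal.Quotient.mkₐ Λ J, Ideal.Quotient.liftₐ_comp _ _ _⟩

theorem artQuotMk_surjective : Function.Surjective (artQuotMk S J hJ N hN).1 :=
  Ideal.Quotient.mk_surjective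

theorem artQuotMk_eq_zero_iff (s : S.carrier) : (artQuotMk S J hJ N hN).1 s = 0 ↔ s ∈ J :=
  Ideal.Quotient.eq_zero_iff_mem

end artQuot

section factor

variable {S : CRing Λ k}

/-- A map killing the kernel of a surjection factors through it. -/
theorem HomSet.exists_factor_of_surjective {A C : Art Λ k} (π : HomSet S.carrier S.res A)
    (hπ : Function.Surjective π.1) (φ : HomSet S.carrier S.res C)
    (h : RingHom.ker π.1 ≤ RingHom.ker φ.1) : ∃ g : A ⟶ C, HomSet.map g π = φ := by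
  let e := Ideal.quotientKerAlgEquivOfSurjective hπ
  have hk : ∀ a ∈ RingHom.ker π.1, φ.1 a = 0 := fun a ha => h ha
  let g₀ : A →ₐ[Λ] C := (Ideal.Quotient.liftₐ (RingHom.ker π.1) φ.1 hk).comp e.symm
  have hg₀ : ∀ s, g₀ (π.1 s) = φ.1 s := by
    intro s
    have : e.symm (π.1 s) = Ideal.Quotient.mk _ s := by
      rw [AlgEquiv.symm_apply_eq]
      rfl
    change Ideal.Quotient.liftₐ (RingHom.ker π.1) φ.1 hk (e.symm (π.1 s)) = _
    rw [this]
    rfl
  refine ⟨⟨g₀, ?_⟩, ?_⟩
  · apply AlgHom.ext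
    intro a
    obtain ⟨s, rfl⟩ := hπ a
    change C.res (g₀ (π.1 s)) = A.res (π.1 s)
    rw [hg₀]
    exact (DFunLike.congr_fun φ.2 s).trans (DFunLike.congr_fun π.2 s).symm
  · apply Subtype.ext
    apply AlgHom.ext
    intro s
    exact hg₀ s

theorem HomSet.map_apply {A C : Art Λ k} (g : A ⟶ C) (π : HomSet S.carrier S.res A) (s : S.carrier) :
    (HomSet.map g π).1 s = g (π.1 s) := rfl

theorem HomSet.hom_ext_of_surjective {A C : Art Λ k} (π : HomSet S.carrier S.res A)
    (hπ : Function.Surjective π.1) (g₁ g₂ : A ⟶ C) (h : HomSet.map g₁ π = HomSet.map g₂ π) :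
    g₁ = g₂ := by
  apply Art.hom_ext
  apply AlgHom.ext
  intro a
  obtain ⟨s, rfl⟩ := hπ a
  exact DFunLike.congr_fun (congrArg Subtype.val h) s

/-- descent of a map to a quotient coefficient ring -/
theorem HomSet.exists_descend (J : Ideal S.carrier) (hJ : J ≤ maximalIdeal S.carrier) {A : Art Λ k}
    (φ : HomSet S.carrier S.res A) (h : J ≤ RingHom.ker φ.1) :
    ∃ ψ : HomSet (cquot S J hJ).carrier (cquot S J hJ).res A,
      ψ.1.comp (cquotMk S J hJ) = φ.1 := by
  refine ⟨⟨Ideal.Quotient.liftₐ J φ.1 (fun a ha => h ha), ?_⟩, ?_⟩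
  · apply AlgHom.ext
    intro x
    obtain ⟨a, rfl⟩ := Ideal.Quotient.mk_surjective x
    exact DFunLike.congr_fun φ.2 a
  · apply AlgHom.ext
    intro a
    rfl

/-- restriction of a map from a quotient coefficient ring -/
noncomputable def HomSet.restrict (J : Ideal S.carrier) (hJ : J ≤ maximalIdeal S.carrier) {A : Art Λ k}
    (ψ : HomSet (cquot S J hJ).carrier (cquot S J hJ).res A) : HomSet S.carrier S.res A :=
  ⟨ψ.1.comp (cquotMk S J hJ), by rw [← AlgHom.comp_assoc, ψ.2, cquotMk_res]⟩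

theorem HomSet.restrict_ker (J : Ideal S.carrier) (hJ : J ≤ maximalIdeal S.carrier) {A : Art Λ k}
    (ψ : HomSet (cquot S J hJ).carrier (cquot S J hJ).res A) :
    J ≤ RingHom.ker (HomSet.restrict J hJ ψ).1 := by
  intro a ha
  rw [RingHom.mem_ker]
  change ψ.1 (cquotMk S J hJ a) = 0
  have : cquotMk S J hJ a = 0 := Ideal.Quotient.eq_zero_iff_mem.mpr ha
  rw [this, map_zero]

theorem HomSet.restrict_injective (J : Ideal S.carrier) (hJ : J ≤ maximalIdeal S.carrier) {A : Art Λ k}
    (ψ₁ ψ₂ : HomSet (cquot S J hJ).carrier (cquot S J hJ).res A)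
    (h : HomSet.restrict J hJ ψ₁ = HomSet.restrict J hJ ψ₂) : ψ₁ = ψ₂ := by
  apply Subtype.ext
  apply AlgHom.ext
  intro x
  obtain ⟨a, rfl⟩ := cquotMk_surjective S J hJ x
  exact DFunLike.congr_fun (congrArg Subtype.val h) a

theorem HomSet.restrict_map (J : Ideal S.carrier) (hJ : J ≤ maximalIdeal S.carrier) {A C : Art Λ k}
    (g : A ⟶ C) (ψ : HomSet (cquot S J hJ).carrier (cquot S J hJ).res A) :
    HomSet.restrict J hJ (HomSet.map g ψ) = HomSet.map g (HomSet.restrict J hJ ψ) := rfl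

/-- kernels of augmented maps to Artinian objects are open -/
theorem HomSet.exists_pow_le_ker {A : Art Λ k} (φ : HomSet S.carrier S.res A) :
    ∃ N, maximalIdeal S.carrier ^ N ≤ RingHom.ker φ.1 := by
  obtain ⟨N, hN⟩ := art_maximalIdeal_nilpotent A
  have hN' : maximalIdeal A ^ (N + 1) = ⊥ := by
    rw [eq_bot_iff, ← hN]
    exact Ideal.pow_le_pow_right N.le_succ
  exact ⟨N + 1, fun a ha => HomSet.vanish_mpow φ N hN' a ha⟩

theorem HomSet.ker_le_maximalIdeal {A : Art Λ k} (φ : HomSet S.carrier S.res A) :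
    RingHom.ker φ.1 ≤ maximalIdeal S.carrier := by
  intro a ha
  rw [CRing.mem_maximalIdeal_iff]
  have : A.res (φ.1 a) = S.res a := DFunLike.congr_fun φ.2 a
  rw [← this, (RingHom.mem_ker).mp ha, map_zero]

end factor

end Groth.Agent.Lib.helper19
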