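import Mathlib
import Groth.Prelude.Def_W4sfdMinVersal
import Groth.Agent.Lib.helper19.ArtQuotS
import Groth.Agent.Lib.helper19.ArtHull
import Groth.Agent.Lib.helper19.ArtVersal2
import Groth.Agent.Lib.helper19.ArtDerFin

set_option autoImplicit false
universe u v
open CategoryTheory IsLocalRing ArtFun ArtFun.Art

namespace Groth.Agent.Lib.helper19

variable {Λ : Type u} {k : Type u} [CommRing Λ] [Field k] [Algebra Λ k]
  [IsNoetherianRing Λ] [Module.Finite Λ k]

section LinearMap

/-- The tangent map of a family as a linear map on derivations. -/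
theorem exists_tangent_linearMap {F : Art Λ k ⥤ Type v} [TangentStr F] (R : CRing Λ k)
    [Algebra R.carrier k] [IsScalarTower Λ R.carrier k]
    (hresk : ∀ a, algebraMap R.carrier k a = R.res a)
    (ξ : Family R.carrier R.res F) :
    ∃ L : Derivation Λ R.carrier k →ₗ[k] TangentSpace F,
      ∀ D, L D = ξ.app (dual Λ k) (derivToHomSet R hresk D) := by
  have hadd : ∀ D₁ D₂ : Derivation Λ R.carrier k,
      TangentSpace.mk (ξ.app (dual Λ k) (derivToHomSet R hresk (D₁ + D₂))) =
      TangentSpace.mk (ξ.app (dual Λ k) (derivToHomSet R hresk D₁)) +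
        TangentSpace.mk (ξ.app (dual Λ k) (derivToHomSet R hresk D₂)) := by
    intro D₁ D₂
    obtain ⟨χ, hχ1, hχ2⟩ := IsFibreProd.exists_homSet_lift isFibreProd_dual2
      (derivToHomSet R hresk D₁) (derivToHomSet R hresk D₂) (HomSet.base_subsingleton _ _)
    have hplus : HomSet.map plus χ = derivToHomSet R hresk (D₁ + D₂) := by
      apply Subtype.ext
      apply AlgHom.ext
      intro r
      have h1 := congrArg (fun t => t.1 r) hχ1
      have h2 := congrArg (fun t => t.1 r) hχ2
      have h1f : TrivSqZeroExt.fst (χ.1 r) = R.res r := by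
        have := congrArg TrivSqZeroExt.fst h1
        rw [derivToHomSet_fst] at this
        exact this
      have h1s : (TrivSqZeroExt.snd (χ.1 r)).1 = D₁ r := by
        have := congrArg TrivSqZeroExt.snd h1
        rw [derivToHomSet_snd] at this
        exact this
      have h2s : (TrivSqZeroExt.snd (χ.1 r)).2 = D₂ r := by
        have := congrArg TrivSqZeroExt.snd h2
        rw [derivToHomSet_snd] at this
        exact this
      apply TrivSqZeroExt.ext
      · rw [derivToHomSet_fst]
        exact h1f
      · rw [derivToHomSet_snd]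
        change (TrivSqZeroExt.snd (χ.1 r)).1 + (TrivSqZeroExt.snd (χ.1 r)).2 = (D₁ + D₂) r
        rw [h1s, h2s]
        rfl
    have := TangentStr.add_eq (ξ.app (dual2 Λ k) χ)
    rw [← ξ.natural, ← ξ.natural, ← ξ.natural, hχ1, hχ2, hplus] at this
    exact this.symm
  have hsmul : ∀ (c : k) (D : Derivation Λ R.carrier k),
      TangentSpace.mk (ξ.app (dual Λ k) (derivToHomSet R hresk (c • D))) =
      c • TangentSpace.mk (ξ.app (dual Λ k) (derivToHomSet R hresk D)) := by
    intro c D
    have hscale : HomSet.map (scale c) (derivToHomSet R hresk D) = derivToHomSet R hresk (c • D) := by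
      apply Subtype.ext
      apply AlgHom.ext
      intro r
      apply TrivSqZeroExt.ext
      · rw [derivToHomSet_fst]
        exact derivToHomSet_fst R hresk D r
      · rw [derivToHomSet_snd]
        change c • TrivSqZeroExt.snd ((derivToHomSet R hresk D).1 r) = (c • D) r
        rw [derivToHomSet_snd]
        rfl
    have := TangentStr.smul_eq c (ξ.app (dual Λ k) (derivToHomSet R hresk D))
    rw [← ξ.natural, hscale] at this
    exact this.symm
  exact ⟨{ toFun := fun D => TangentSpace.mk (ξ.app (dual Λ k) (derivToHomSet R hresk D))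
           map_add' := hadd
           map_smul' := hsmul }, fun D => rfl⟩

end LinearMap

section NoDeriv

/-- If `k` has no nonzero `Λ`-derivation, a nonzero derivation `R → k` is nonzero on the maximal ideal. -/
theorem exists_mem_maximalIdeal_deriv_eq_one (hk : Subsingleton (Derivation Λ k k)) (R : CRing Λ k)
    [Algebra R.carrier k] [IsScalarTower Λ R.carrier k]
    (hresk : ∀ a, algebraMap R.carrier k a = R.res a)
    (D : Derivation Λ R.carrier k) (hD : D ≠ 0) :
    ∃ x ∈ maximalIdeal R.carrier, D x = 1 := by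
  by_contra hcon
  push Not at hcon
  have hsmul : ∀ (a : R.carrier) (c : k), a • c = R.res a * c := fun a c => by
    rw [Algebra.smul_def, hresk]
  -- D vanishes on the maximal ideal
  have hvan : ∀ x ∈ maximalIdeal R.carrier, D x = 0 := by
    intro x hx
    by_contra hne
    obtain ⟨u, hu⟩ := R.res_surjective (D x)⁻¹
    apply hcon (u * x) (Ideal.mul_mem_left _ _ hx)
    rw [D.leibniz, hsmul, hsmul, hu, inv_mul_cancel₀ hne,
      (R.mem_maximalIdeal_iff x).mp hx, zero_mul, add_zero]
  have hwd : ∀ a b : R.carrier, R.res a = R.res b → D a = D b := by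
    intro a b hab
    have : a - b ∈ maximalIdeal R.carrier := by
      rw [R.mem_maximalIdeal_iff, map_sub, hab, sub_self]
    have := hvan _ this
    rw [map_sub, sub_eq_zero] at this
    exact this
  let s := Function.surjInv R.res_surjective
  have hs : ∀ c, R.res (s c) = c := Function.surjInv_eq R.res_surjective
  have hDs : ∀ a : R.carrier, D (s (R.res a)) = D a := fun a => hwd _ _ (hs _)
  let Dbar : Derivation Λ k k :=
    { toFun := fun c => D (s c)
      map_add' := fun c c' => by
        have : D (s (c + c')) = D (s c + s c') := hwd _ _ (by rw [hs, map_add, hs, hs])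
        rw [this, map_add]
      map_smul' := fun l c => by
        have : D (s (l • c)) = D (l • s c) := hwd _ _ (by rw [hs, map_smul, hs])
        rw [this, D.map_smul]
        rfl
      map_one_eq_zero' := by
        have : D (s 1) = D 1 := hwd _ _ (by rw [hs, map_one])
        change D (s 1) = 0
        rw [this, D.map_one_eq_zero]
      leibniz' := fun c c' => by
        have : D (s (c * c')) = D (s c * s c') := hwd _ _ (by rw [hs, map_mul, hs, hs])
        change D (s (c * c')) = c • D (s c') + c' • D (s c)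
        rw [this, D.leibniz, hsmul, hsmul, hs, hs]
        rfl }
  have hzero : Dbar = 0 := Subsingleton.elim _ _
  apply hD
  ext a
  have : Dbar (R.res a) = 0 := by rw [hzero]; rfl
  rw [← hDs a]
  exact this

end NoDeriv


section AddDeriv

/-- Translate a map `R → B` by a derivation `D : R → k` in the direction of an element `t` killed by
the maximal ideal of `B`. -/
theorem HomSet.exists_add_deriv (R : CRing Λ k)
    [Algebra R.carrier k] [IsScalarTower Λ R.carrier k]
    (hresk : ∀ a, algebraMap R.carrier k a = R.res a) {B : Art Λ k}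
    (ψ : HomSet R.carrier R.res B) (t : B) (ht : t ∈ maximalIdeal B)
    (hmt : ∀ c ∈ maximalIdeal B, c * t = 0) (D : Derivation Λ R.carrier k) :
    ∃ ψ' : HomSet R.carrier R.res B, ∀ (r : R.carrier) (w : B), B.res w = D r →
      ψ'.1 r = ψ.1 r + w * t := by
  have hsmul : ∀ (a : R.carrier) (c : k), a • c = R.res a * c := fun a c => by
    rw [Algebra.smul_def, hresk]
  let s := Function.surjInv B.res_surjective
  have hs : ∀ c, B.res (s c) = c := Function.surjInv_eq B.res_surjective
  have key : ∀ (w : B) (c : k), B.res w = c → s c * t = w * t := by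
    intro w c hw
    have : s c - w ∈ maximalIdeal B := by
      rw [Art.mem_maximalIdeal_iff, map_sub, hs, hw, sub_self]
    have := hmt _ this
    rw [sub_mul, sub_eq_zero] at this
    exact this
  have htt : t * t = 0 := hmt t ht
  have hrest : B.res t = 0 := (Art.mem_maximalIdeal_iff B t).mp ht
  have hψres : ∀ r, B.res (ψ.1 r) = R.res r := fun r => DFunLike.congr_fun ψ.2 r
  let ψA : R.carrier →ₐ[Λ] B :=
    { toFun := fun r => ψ.1 r + s (D r) * t
      map_one' := by
        rw [map_one, D.map_one_eq_zero, key 0 0 (map_zero _), zero_mul, add_zero]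
      map_mul' := fun r r' => by
        have h1 : s (D (r * r')) * t = (ψ.1 r * s (D r') + ψ.1 r' * s (D r)) * t := by
          apply key
          rw [map_add, map_mul, map_mul, hs, hs, hψres, hψres, D.leibniz, hsmul, hsmul]
        rw [h1, map_mul]
        have : (ψ.1 r + s (D r) * t) * (ψ.1 r' + s (D r') * t) =
            ψ.1 r * ψ.1 r' + (ψ.1 r * s (D r') + ψ.1 r' * s (D r)) * t +
              s (D r) * s (D r') * (t * t) := by ring
        rw [this, htt, mul_zero, add_zero]
      map_zero' := by
        rw [map_zero, map_zero, key 0 0 (map_zero _), zero_mul, add_zero]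
      map_add' := fun r r' => by
        have h1 : s (D (r + r')) * t = (s (D r) + s (D r')) * t := by
          apply key
          rw [map_add, hs, hs, map_add]
        rw [h1, map_add]
        ring
      commutes' := fun l => by
        rw [D.map_algebraMap, key 0 0 (map_zero _), zero_mul, add_zero, AlgHom.commutes] }
  refine ⟨⟨ψA, ?_⟩, ?_⟩
  · apply AlgHom.ext
    intro r
    change B.res (ψ.1 r + s (D r) * t) = R.res r
    rw [map_add, map_mul, hrest, mul_zero, add_zero, hψres]
  · intro r w hw
    change ψ.1 r + s (D r) * t = _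
    rw [key w (D r) hw]

end AddDeriv


section Cut

variable {F : Art Λ k ⥤ Type v} (R : CRing Λ k)
  [Algebra R.carrier k] [IsScalarTower Λ R.carrier k]
  (hresk : ∀ a, algebraMap R.carrier k a = R.res a)

/-- the derivations `R → k` vanishing on the ideal `I` -/
def derKill (I : Ideal R.carrier) : Submodule k (Derivation Λ R.carrier k) where
  carrier := {D | ∀ a ∈ I, D a = 0}
  add_mem' := fun {D₁ D₂} h₁ h₂ a ha => by
    change D₁ a + D₂ a = 0
    rw [h₁ a ha, h₂ a ha, add_zero]
  zero_mem' := fun a _ => rfl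
  smul_mem' := fun c D h a ha => by
    change c • D a = 0
    rw [h a ha, smul_zero]

theorem mem_derKill (I : Ideal R.carrier) (D : Derivation Λ R.carrier k) :
    D ∈ derKill R I ↔ ∀ a ∈ I, D a = 0 := Iff.rfl

include hresk in
theorem derKill_sup_span (I : Ideal R.carrier) (x : R.carrier) (hx : x ∈ maximalIdeal R.carrier)
    (D : Derivation Λ R.carrier k) (hD : D ∈ derKill R I) (hDx : D x = 0) :
    D ∈ derKill R (I ⊔ Ideal.span {x}) := by
  intro a ha
  obtain ⟨i, hi, j, hj, rfl⟩ := Submodule.mem_sup.mp ha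
  obtain ⟨r, rfl⟩ := Ideal.mem_span_singleton'.mp hj
  rw [map_add, hD i hi, D.leibniz, hDx, smul_zero, Algebra.smul_def, hresk,
    (R.mem_maximalIdeal_iff x).mp hx, zero_mul, add_zero, add_zero]

theorem derivToHomSet_apply_eq_zero (D : Derivation Λ R.carrier k) (a : R.carrier)
    (ha : a ∈ maximalIdeal R.carrier) (hDa : D a = 0) : (derivToHomSet R hresk D).1 a = 0 := by
  apply TrivSqZeroExt.ext
  · rw [derivToHomSet_fst]
    exact (R.mem_maximalIdeal_iff a).mp ha
  · rw [derivToHomSet_snd]
    exact hDa

theorem homSetToDeriv_mem_derKill (I : Ideal R.carrier) (τ : HomSet R.carrier R.res (dual Λ k))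
    (hτ : I ≤ RingHom.ker τ.1) : homSetToDeriv R hresk τ ∈ derKill R I := by
  intro a ha
  change TrivSqZeroExt.snd (τ.1 a : DualNumber k) = 0
  have : τ.1 a = 0 := hτ ha
  rw [this]
  rfl

variable (ξ : Family R.carrier R.res F)

/-- restriction of the family to the quotient by `I` -/
noncomputable def alongQuot (I : Ideal R.carrier) (hI : I ≤ maximalIdeal R.carrier) :
    Family (cquot R I hI).carrier (cquot R I hI).res F :=
  ξ.along (cquotMk R I hI) (cquotMk_res R I hI)

theorem alongQuot_app (I : Ideal R.carrier) (hI : I ≤ maximalIdeal R.carrier) {A : Art Λ k}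
    (ψ : HomSet (cquot R I hI).carrier (cquot R I hI).res A) :
    (alongQuot R ξ I hI).app A ψ = ξ.app A (HomSet.restrict I hI ψ) := rfl

theorem isVersal_alongQuot_bot (hv : IsVersal ξ) : IsVersal (alongQuot R ξ ⊥ bot_le) := by
  intro B A μ hμ φ y hy
  rw [alongQuot_app] at hy
  obtain ⟨ψ, hψ1, hψ2⟩ := hv μ hμ (HomSet.restrict ⊥ bot_le φ) y hy
  obtain ⟨ψ', hψ'⟩ := HomSet.exists_descend ⊥ bot_le ψ bot_le
  have hr : HomSet.restrict ⊥ bot_le ψ' = ψ := Subtype.ext hψ'
  refine ⟨ψ', ?_, ?_⟩
  · apply HomSet.restrict_injective ⊥ bot_le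
    rw [HomSet.restrict_map, hr, hψ1]
  · rw [alongQuot_app, hr, hψ2]


include hresk in
theorem isVersal_alongQuot_sup [TangentStr F] (h0 : H0 F) (h1 : S1 F) (h2 : Heps F)
    (I : Ideal R.carrier) (hI : I ≤ maximalIdeal R.carrier)
    (hv : IsVersal (alongQuot R ξ I hI)) (D₀ : Derivation Λ R.carrier k) (hD₀I : D₀ ∈ derKill R I)
    (L : Derivation Λ R.carrier k →ₗ[k] TangentSpace F)
    (hL : ∀ D, L D = ξ.app (dual Λ k) (derivToHomSet R hresk D)) (hLD₀ : L D₀ = 0)
    (x : R.carrier) (hx : x ∈ maximalIdeal R.carrier) (hD₀x : D₀ x = 1)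
    (hI' : I ⊔ Ideal.span {x} ≤ maximalIdeal R.carrier) :
    IsVersal (alongQuot R ξ (I ⊔ Ideal.span {x}) hI') := by
  rw [isVersal_iff_tangent_surjective_and_exists_lift h0 h1 h2]
  refine ⟨?_, ?_⟩
  · intro t
    obtain ⟨τ', hτ'⟩ := IsVersal.app_surjective h0 _ hv (dual Λ k) t
    rw [alongQuot_app] at hτ'
    set τ := HomSet.restrict I hI τ' with hτ
    have hτI : I ≤ RingHom.ker τ.1 := HomSet.restrict_ker I hI τ'
    set D := homSetToDeriv R hresk τ with hD
    have hDI : D ∈ derKill R I := homSetToDeriv_mem_derKill R hresk I τ hτI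
    have hDτ : derivToHomSet R hresk D = τ := derivToHomSet_homSetToDeriv R hresk τ
    have hLD : L D = t := by rw [hL, hDτ, hτ']
    set D' := D - (D x) • D₀ with hD'
    have hD'I : D' ∈ derKill R I := Submodule.sub_mem _ hDI (Submodule.smul_mem _ _ hD₀I)
    have hD'x : D' x = 0 := by
      change D x - (D x) • D₀ x = 0
      rw [hD₀x, smul_eq_mul, mul_one, sub_self]
    have hD'I' := derKill_sup_span R hresk I x hx D' hD'I hD'x
    have hker : I ⊔ Ideal.span {x} ≤ RingHom.ker (derivToHomSet R hresk D').1 := by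
      intro a ha
      rw [RingHom.mem_ker]
      exact derivToHomSet_apply_eq_zero R hresk D' a (hI' ha) (hD'I' a ha)
    obtain ⟨ψ, hψ⟩ := HomSet.exists_descend _ hI' _ hker
    refine ⟨ψ, ?_⟩
    change (alongQuot R ξ _ hI').app _ ψ = t
    rw [alongQuot_app]
    have hr : HomSet.restrict _ hI' ψ = derivToHomSet R hresk D' := Subtype.ext hψ
    rw [hr, ← hL, hD', map_sub, map_smul, hLD₀, smul_zero, sub_zero, hLD]
  · intro B A μ hμ φ' y hy
    rw [alongQuot_app] at hy
    set φt := HomSet.restrict _ hI' φ' with hφt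
    have hφtI' : I ⊔ Ideal.span {x} ≤ RingHom.ker φt.1 := HomSet.restrict_ker _ hI' φ'
    obtain ⟨φI, hφI⟩ := HomSet.exists_descend I hI φt (le_trans le_sup_left hφtI')
    have hφIr : HomSet.restrict I hI φI = φt := Subtype.ext hφI
    obtain ⟨ψI, hψI1, -⟩ := hv μ hμ.1 φI y (by rw [alongQuot_app, hφIr, hy])
    set ψt := HomSet.restrict I hI ψI with hψt
    have hψtI : I ≤ RingHom.ker ψt.1 := HomSet.restrict_ker I hI ψI
    have hμψt : HomSet.map μ ψt = φt := by
      rw [hψt, ← HomSet.restrict_map, hψI1, hφIr]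
    have hxI' : x ∈ I ⊔ Ideal.span {x} := Ideal.mem_sup_right (Ideal.mem_span_singleton_self x)
    have hμψtx : ∀ r, μ (ψt.1 r) = φt.1 r := fun r =>
      DFunLike.congr_fun (congrArg Subtype.val hμψt) r
    set t := ψt.1 x with ht
    have htker : t ∈ RingHom.ker μ.toAlgHom := by
      rw [RingHom.mem_ker]
      change μ (ψt.1 x) = 0
      rw [hμψtx]
      exact hφtI' hxI'
    have htm : t ∈ maximalIdeal B := art_ker_le_maximalIdeal μ htker
    have hmt : ∀ c ∈ maximalIdeal B, c * t = 0 := by
      intro c hc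
      have : c * t ∈ maximalIdeal B * RingHom.ker μ.toAlgHom := Ideal.mul_mem_mul hc htker
      rw [hμ.2.2.2] at this
      exact this
    obtain ⟨ψt', hψt'⟩ := HomSet.exists_add_deriv R hresk ψt t htm hmt (-D₀)
    have hkerI : I ≤ RingHom.ker ψt'.1 := by
      intro a ha
      rw [RingHom.mem_ker, hψt' a 0 (by
        change B.res 0 = -(D₀ a)
        rw [map_zero, hD₀I a ha, neg_zero]), zero_mul, add_zero]
      exact hψtI ha
    have hkerx : x ∈ RingHom.ker ψt'.1 := by
      rw [RingHom.mem_ker, hψt' x (-1) (by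
        change B.res (-1) = -(D₀ x)
        rw [map_neg, map_one, hD₀x])]
      rw [← ht]
      ring
    have hkerI' : I ⊔ Ideal.span {x} ≤ RingHom.ker ψt'.1 :=
      sup_le hkerI ((Ideal.span_singleton_le_iff_mem _).mpr hkerx)
    obtain ⟨ψ', hψ'⟩ := HomSet.exists_descend _ hI' ψt' hkerI'
    have hr : HomSet.restrict _ hI' ψ' = ψt' := Subtype.ext hψ'
    refine ⟨ψ', ?_⟩
    apply HomSet.restrict_injective _ hI'
    rw [HomSet.restrict_map, hr, ← hφt, ← hμψt]
    apply Subtype.ext
    apply AlgHom.ext
    intro r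
    obtain ⟨w, hw⟩ := B.res_surjective ((-D₀) r)
    change μ (ψt'.1 r) = μ (ψt.1 r)
    rw [hψt' r w hw, map_add, map_mul]
    have : μ t = 0 := htker
    rw [this, mul_zero, add_zero]


include hresk in
theorem hasHull_of_isVersal_aux [TangentStr F] (h0 : H0 F) (h1 : S1 F) (h2 : Heps F)
    (hk : Subsingleton (Derivation Λ k k)) (n : ℕ) :
    ∀ (I : Ideal R.carrier) (hI : I ≤ maximalIdeal R.carrier), IsVersal (alongQuot R ξ I hI) →
      Module.finrank k (derKill R I) = n → HasHull F := by
  haveI : IsAdicComplete (maximalIdeal R.carrier) R.carrier := R.isAdicComplete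
  have hsurjres : Function.Surjective (algebraMap R.carrier k) := by
    intro c
    obtain ⟨a, ha⟩ := R.res_surjective c
    exact ⟨a, by rw [hresk, ha]⟩
  haveI hfinD : Module.Finite k (Derivation Λ R.carrier k) :=
    finite_derivation_residueField R.carrier hsurjres
  obtain ⟨L, hL⟩ := exists_tangent_linearMap R hresk ξ
  induction n using Nat.strong_induction_on with
  | _ n ih =>
    intro I hI hv hn
    by_cases hinj : Function.Injective ((alongQuot R ξ I hI).app (dual Λ k))
    · exact ⟨⟨cquot R I hI, alongQuot R ξ I hI, hv, hinj,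
        IsVersal.app_surjective h0 _ hv (dual Λ k)⟩⟩
    · rw [Function.Injective] at hinj
      push Not at hinj
      obtain ⟨τ₁', τ₂', heq, hne⟩ := hinj
      rw [alongQuot_app, alongQuot_app] at heq
      set τ₁ := HomSet.restrict I hI τ₁' with hτ₁
      set τ₂ := HomSet.restrict I hI τ₂' with hτ₂
      have hτne : τ₁ ≠ τ₂ := fun h => hne (HomSet.restrict_injective I hI _ _ h)
      set D₁ := homSetToDeriv R hresk τ₁ with hD₁
      set D₂ := homSetToDeriv R hresk τ₂ with hD₂
      have hD₁τ : derivToHomSet R hresk D₁ = τ₁ := derivToHomSet_homSetToDeriv R hresk τ₁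
      have hD₂τ : derivToHomSet R hresk D₂ = τ₂ := derivToHomSet_homSetToDeriv R hresk τ₂
      have hD₁I : D₁ ∈ derKill R I :=
        homSetToDeriv_mem_derKill R hresk I τ₁ (HomSet.restrict_ker I hI τ₁')
      have hD₂I : D₂ ∈ derKill R I :=
        homSetToDeriv_mem_derKill R hresk I τ₂ (HomSet.restrict_ker I hI τ₂')
      set D₀ := D₁ - D₂ with hD₀
      have hD₀ne : D₀ ≠ 0 := by
        intro h
        apply hτne
        rw [← hD₁τ, ← hD₂τ, sub_eq_zero.mp h]
      have hD₀I : D₀ ∈ derKill R I := Submodule.sub_mem _ hD₁I hD₂I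
      have hLD₀ : L D₀ = 0 := by
        rw [hD₀, map_sub, hL, hL, hD₁τ, hD₂τ, sub_eq_zero]
        exact heq
      obtain ⟨x, hx, hD₀x⟩ := exists_mem_maximalIdeal_deriv_eq_one hk R hresk D₀ hD₀ne
      have hI' : I ⊔ Ideal.span {x} ≤ maximalIdeal R.carrier :=
        sup_le hI ((Ideal.span_singleton_le_iff_mem _).mpr hx)
      have hv' := isVersal_alongQuot_sup R hresk ξ h0 h1 h2 I hI hv D₀ hD₀I L hL hLD₀ x hx hD₀x hI'
      have hlt : derKill R (I ⊔ Ideal.span {x}) < derKill R I := by
        refine lt_of_le_of_ne (fun D hD a ha => hD a (Ideal.mem_sup_left ha)) ?_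
        intro h
        have : D₀ ∈ derKill R (I ⊔ Ideal.span {x}) := by rw [h]; exact hD₀I
        have := this x (Ideal.mem_sup_right (Ideal.mem_span_singleton_self x))
        rw [hD₀x] at this
        exact one_ne_zero this
      have hfr := Submodule.finrank_lt_finrank_of_lt hlt
      rw [hn] at hfr
      exact ih _ hfr _ hI' hv' rfl

end Cut

/-- A versal family can be cut down to a hull when `k` has no nonzero `Λ`-derivations. -/
theorem hasHull_of_versalPair {F : Art Λ k ⥤ Type v} [TangentStr F] (h0 : H0 F) (h1 : S1 F)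
    (h2 : Heps F) (hk : Subsingleton (Derivation Λ k k)) (V : VersalPair F) : HasHull F := by
  letI : Algebra V.ring.carrier k := V.ring.res.toRingHom.toAlgebra
  haveI : IsScalarTower Λ V.ring.carrier k :=
    IsScalarTower.of_algebraMap_eq (fun r => (V.ring.res.commutes r).symm)
  have hresk : ∀ a, algebraMap V.ring.carrier k a = V.ring.res a := fun a => rfl
  exact hasHull_of_isVersal_aux V.ring hresk V.family h0 h1 h2 hk _ ⊥ bot_le
    (isVersal_alongQuot_bot V.ring V.family V.versal) rfl

end Groth.Agent.Lib.helper19
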