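import Mathlib
import Groth.Prelude.Def_W4sfdMinVersal
import Groth.Agent.Lib.helper19.ArtCut

set_option autoImplicit false
universe u v
open CategoryTheory IsLocalRing ArtFun ArtFun.Art

namespace Groth.Agent.Lib.helper19

variable {Λ : Type u} {k : Type u} [CommRing Λ] [Field k] [Algebra Λ k]
  [IsNoetherianRing Λ] [Module.Finite Λ k]

section Cut2

variable {F : Art Λ k ⥤ Type v} (R : CRing Λ k)
  [Algebra R.carrier k] [IsScalarTower Λ R.carrier k]
  (hresk : ∀ a, algebraMap R.carrier k a = R.res a)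
  (ξ : Family R.carrier R.res F)

/-- the tangent map of `ξ` on derivations -/
noncomputable def tanD (D : Derivation Λ R.carrier k) : F.obj (dual Λ k) :=
  ξ.app (dual Λ k) (derivToHomSet R hresk D)

/-- the congruence property: the tangent map is compatible with linear combinations -/
def TanCompat : Prop :=
  ∀ (D₁ D₂ D₁' D₂' : Derivation Λ R.carrier k) (c : k),
    tanD R hresk ξ D₁ = tanD R hresk ξ D₁' → tanD R hresk ξ D₂ = tanD R hresk ξ D₂' →
    tanD R hresk ξ (D₁ + c • D₂) = tanD R hresk ξ (D₁' + c • D₂')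

/-- the separation property replacing "k has no derivations" -/
def TanSep : Prop :=
  ∀ D₀ : Derivation Λ R.carrier k, D₀ ≠ 0 → tanD R hresk ξ D₀ = tanD R hresk ξ 0 →
    ∃ x ∈ maximalIdeal R.carrier, D₀ x = 1

theorem tanCompat_of_tangentStr [TangentStr F] : TanCompat R hresk ξ := by
  obtain ⟨L, hL⟩ := exists_tangent_linearMap R hresk ξ
  intro D₁ D₂ D₁' D₂' c h1 h2
  change ξ.app _ _ = ξ.app _ _ at h1 h2
  change ξ.app _ _ = ξ.app _ _
  rw [← hL, ← hL] at h1 h2 ⊢
  rw [map_add, map_add, map_smul, map_smul, h1, h2]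

theorem tanSep_of_subsingleton (hk : Subsingleton (Derivation Λ k k)) : TanSep R hresk ξ :=
  fun D₀ hD₀ _ => exists_mem_maximalIdeal_deriv_eq_one hk R hresk D₀ hD₀

theorem isVersal_alongQuot_sup' (h0 : H0 F) (h1 : S1 F) (h2 : Heps F)
    (hc : TanCompat R hresk ξ)
    (I : Ideal R.carrier) (hI : I ≤ maximalIdeal R.carrier)
    (hv : IsVersal (alongQuot R ξ I hI)) (D₀ : Derivation Λ R.carrier k) (hD₀I : D₀ ∈ derKill R I)
    (hLD₀ : tanD R hresk ξ D₀ = tanD R hresk ξ 0)
    (x : R.carrier) (hx : x ∈ maximalIdeal R.carrier) (hD₀x : D₀ x = 1)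
    (hI' : I ⊔ Ideal.span {x} ≤ maximalIdeal R.carrier) :
    IsVersal (alongQuot R ξ (I ⊔ Ideal.span {x}) hI') := by
  rw [isVersal_iff_tangent_surjective_and_exists_lift h0 h1 h2]
  refine ⟨?_, ?_⟩
  · intro t
    obtain ⟨τ', hτ'⟩ := IsVersal.app_surjective h0 _ hv (dual Λ k) t
    rw [alongQuot_app] at hτ'
    set τ := HomSet.restrict I hI τ' with hτ
    have hτI : I ≤ RingHom.ker τ.1 := HomSet.restrict_ker I hI τ'
    set D := homSetToDeriv R hresk τ with hD
    have hDI : D ∈ derKill R I := homSetToDeriv_mem_derKill R hresk I τ hτI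
    have hDτ : derivToHomSet R hresk D = τ := derivToHomSet_homSetToDeriv R hresk τ
    have hLD : tanD R hresk ξ D = t := by rw [tanD, hDτ, hτ']
    set D' := D + (-(D x)) • D₀ with hD'
    have hD'I : D' ∈ derKill R I := Submodule.add_mem _ hDI (Submodule.smul_mem _ _ hD₀I)
    have hD'x : D' x = 0 := by
      change D x + (-(D x)) • D₀ x = 0
      rw [hD₀x, smul_eq_mul, mul_one, add_neg_cancel]
    have hD'I' := derKill_sup_span R hresk I x hx D' hD'I hD'x
    have hker : I ⊔ Ideal.span {x} ≤ RingHom.ker (derivToHomSet R hresk D').1 := by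
      intro a ha
      rw [RingHom.mem_ker]
      exact derivToHomSet_apply_eq_zero R hresk D' a (hI' ha) (hD'I' a ha)
    obtain ⟨ψ, hψ⟩ := HomSet.exists_descend _ hI' _ hker
    refine ⟨ψ, ?_⟩
    change (alongQuot R ξ _ hI').app _ ψ = t
    rw [alongQuot_app]
    have hr : HomSet.restrict _ hI' ψ = derivToHomSet R hresk D' := Subtype.ext hψ
    rw [hr]
    change tanD R hresk ξ D' = t
    rw [hD', hc D D₀ D 0 (-(D x)) rfl hLD₀, smul_zero, add_zero, hLD]
  · intro B A μ hμ φ' y hy
    rw [alongQuot_app] at hy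
    set φt := HomSet.restrict _ hI' φ' with hφt
    have hφtI' : I ⊔ Ideal.span {x} ≤ RingHom.ker φt.1 := HomSet.restrict_ker _ hI' φ'
    obtain ⟨φI, hφI⟩ := HomSet.exists_descend I hI φt (le_trans le_sup_left hφtI')
    have hφIr : HomSet.restrict I hI φI = φt := Subtype.ext hφI
    obtain ⟨ψI, hψI1, -⟩ := hv μ hμ.1 φI y (by rw [alongQuot_app, hφIr, hy])
    set ψt := HomSet.restrict I hI ψI with hψt
    have hψtI : I ≤ RingHom.ker ψt.1 := HomSet.restrict_ker I hI ψI
    have hμψt : HomSet.map μ ψt = φt := by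
      rw [hψt, ← HomSet.restrict_map, hψI1, hφIr]
    have hxI' : x ∈ I ⊔ Ideal.span {x} := Ideal.mem_sup_right (Ideal.mem_span_singleton_self x)
    have hμψtx : ∀ r, μ (ψt.1 r) = φt.1 r := fun r =>
      DFunLike.congr_fun (congrArg Subtype.val hμψt) r
    set t := ψt.1 x with ht
    have htker : t ∈ RingHom.ker μ.toAlgHom := by
      rw [RingHom.mem_ker]
      change μ (ψt.1 x) = 0
      rw [hμψtx]
      exact hφtI' hxI'
    have htm : t ∈ maximalIdeal B := art_ker_le_maximalIdeal μ htker
    have hmt : ∀ c ∈ maximalIdeal B, c * t = 0 := by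
      intro c hc
      have : c * t ∈ maximalIdeal B * RingHom.ker μ.toAlgHom := Ideal.mul_mem_mul hc htker
      rw [hμ.2.2.2] at this
      exact this
    obtain ⟨ψt', hψt'⟩ := HomSet.exists_add_deriv R hresk ψt t htm hmt (-D₀)
    have hkerI : I ≤ RingHom.ker ψt'.1 := by
      intro a ha
      rw [RingHom.mem_ker, hψt' a 0 (by
        change B.res 0 = -(D₀ a)
        rw [map_zero, hD₀I a ha, neg_zero]), zero_mul, add_zero]
      exact hψtI ha
    have hkerx : x ∈ RingHom.ker ψt'.1 := by
      rw [RingHom.mem_ker, hψt' x (-1) (by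
        change B.res (-1) = -(D₀ x)
        rw [map_neg, map_one, hD₀x])]
      rw [← ht]
      ring
    have hkerI' : I ⊔ Ideal.span {x} ≤ RingHom.ker ψt'.1 :=
      sup_le hkerI ((Ideal.span_singleton_le_iff_mem _).mpr hkerx)
    obtain ⟨ψ', hψ'⟩ := HomSet.exists_descend _ hI' ψt' hkerI'
    have hr : HomSet.restrict _ hI' ψ' = ψt' := Subtype.ext hψ'
    refine ⟨ψ', ?_⟩
    apply HomSet.restrict_injective _ hI'
    rw [HomSet.restrict_map, hr, ← hφt, ← hμψt]
    apply Subtype.ext
    apply AlgHom.ext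
    intro r
    obtain ⟨w, hw⟩ := B.res_surjective ((-D₀) r)
    change μ (ψt'.1 r) = μ (ψt.1 r)
    rw [hψt' r w hw, map_add, map_mul]
    have : μ t = 0 := htker
    rw [this, mul_zero, add_zero]

/-- One cut-down step: if the restriction of `ξ` to `R/I` is versal but not injective on tangent
spaces, there is `x ∈ m_R`, not killed by some derivation vanishing on `I`, such that the restriction
to `R/(I + (x))` is still versal. -/
theorem exists_cut_step (h0 : H0 F) (h1 : S1 F) (h2 : Heps F)
    (hc : TanCompat R hresk ξ) (hs : TanSep R hresk ξ)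
    (I : Ideal R.carrier) (hI : I ≤ maximalIdeal R.carrier)
    (hv : IsVersal (alongQuot R ξ I hI))
    (hinj : ¬ Function.Injective ((alongQuot R ξ I hI).app (dual Λ k))) :
    ∃ (x : R.carrier) (_ : x ∈ maximalIdeal R.carrier) (D₀ : Derivation Λ R.carrier k)
      (hI' : I ⊔ Ideal.span {x} ≤ maximalIdeal R.carrier),
      D₀ ∈ derKill R I ∧ D₀ x = 1 ∧ IsVersal (alongQuot R ξ (I ⊔ Ideal.span {x}) hI') := by
  rw [Function.Injective] at hinj
  push Not at hinj
  obtain ⟨τ₁', τ₂', heq, hne⟩ := hinj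
  rw [alongQuot_app, alongQuot_app] at heq
  set τ₁ := HomSet.restrict I hI τ₁' with hτ₁
  set τ₂ := HomSet.restrict I hI τ₂' with hτ₂
  have hτne : τ₁ ≠ τ₂ := fun h => hne (HomSet.restrict_injective I hI _ _ h)
  set D₁ := homSetToDeriv R hresk τ₁ with hD₁
  set D₂ := homSetToDeriv R hresk τ₂ with hD₂
  have hD₁τ : derivToHomSet R hresk D₁ = τ₁ := derivToHomSet_homSetToDeriv R hresk τ₁
  have hD₂τ : derivToHomSet R hresk D₂ = τ₂ := derivToHomSet_homSetToDeriv R hresk τ₂
  have hD₁I : D₁ ∈ derKill R I :=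
    homSetToDeriv_mem_derKill R hresk I τ₁ (HomSet.restrict_ker I hI τ₁')
  have hD₂I : D₂ ∈ derKill R I :=
    homSetToDeriv_mem_derKill R hresk I τ₂ (HomSet.restrict_ker I hI τ₂')
  set D₀ := D₁ + (-1 : k) • D₂ with hD₀
  have hD₀ne : D₀ ≠ 0 := by
    intro h
    apply hτne
    have : D₁ = D₂ := by
      have h' : D₁ + (-1 : k) • D₂ = 0 := h
      ext a
      have := DFunLike.congr_fun h' a
      change D₁ a + (-1 : k) • D₂ a = 0 at this
      rw [smul_eq_mul, neg_one_mul, ← sub_eq_add_neg, sub_eq_zero] at this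
      exact this
    rw [← hD₁τ, ← hD₂τ, this]
  have hD₀I : D₀ ∈ derKill R I := Submodule.add_mem _ hD₁I (Submodule.smul_mem _ _ hD₂I)
  have hLD₀ : tanD R hresk ξ D₀ = tanD R hresk ξ 0 := by
    have e12 : tanD R hresk ξ D₁ = tanD R hresk ξ D₂ := by
      rw [tanD, tanD, hD₁τ, hD₂τ]; exact heq
    have := hc D₁ D₂ D₂ D₂ (-1) e12 rfl
    rw [hD₀, this]
    congr 1
    ext a
    change D₂ a + (-1 : k) • D₂ a = 0
    rw [smul_eq_mul, neg_one_mul, add_neg_cancel]
  obtain ⟨x, hx, hD₀x⟩ := hs D₀ hD₀ne hLD₀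
  have hI' : I ⊔ Ideal.span {x} ≤ maximalIdeal R.carrier :=
    sup_le hI ((Ideal.span_singleton_le_iff_mem _).mpr hx)
  exact ⟨x, hx, D₀, hI', hD₀I, hD₀x,
    isVersal_alongQuot_sup' R hresk ξ h0 h1 h2 hc I hI hv D₀ hD₀I hLD₀ x hx hD₀x hI'⟩

include hresk in
theorem hasHull_of_isVersal_aux' (h0 : H0 F) (h1 : S1 F) (h2 : Heps F)
    (hc : TanCompat R hresk ξ) (hs : TanSep R hresk ξ) (n : ℕ) :
    ∀ (I : Ideal R.carrier) (hI : I ≤ maximalIdeal R.carrier), IsVersal (alongQuot R ξ I hI) →
      Module.finrank k (derKill R I) = n → HasHull F := by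
  haveI : IsAdicComplete (maximalIdeal R.carrier) R.carrier := R.isAdicComplete
  have hsurjres : Function.Surjective (algebraMap R.carrier k) := by
    intro c
    obtain ⟨a, ha⟩ := R.res_surjective c
    exact ⟨a, by rw [hresk, ha]⟩
  haveI hfinD : Module.Finite k (Derivation Λ R.carrier k) :=
    finite_derivation_residueField R.carrier hsurjres
  induction n using Nat.strong_induction_on with
  | _ n ih =>
    intro I hI hv hn
    by_cases hinj : Function.Injective ((alongQuot R ξ I hI).app (dual Λ k))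
    · exact ⟨⟨cquot R I hI, alongQuot R ξ I hI, hv, hinj,
        IsVersal.app_surjective h0 _ hv (dual Λ k)⟩⟩
    · obtain ⟨x, hx, D₀, hI', hD₀I, hD₀x, hv'⟩ :=
        exists_cut_step R hresk ξ h0 h1 h2 hc hs I hI hv hinj
      have hlt : derKill R (I ⊔ Ideal.span {x}) < derKill R I := by
        refine lt_of_le_of_ne (fun D hD a ha => hD a (Ideal.mem_sup_left ha)) ?_
        intro h
        have : D₀ ∈ derKill R (I ⊔ Ideal.span {x}) := by rw [h]; exact hD₀I
        have := this x (Ideal.mem_sup_right (Ideal.mem_span_singleton_self x))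
        rw [hD₀x] at this
        exact one_ne_zero this
      have hfr := Submodule.finrank_lt_finrank_of_lt hlt
      rw [hn] at hfr
      exact ih _ hfr _ hI' hv' rfl


include hresk in
theorem deriv_vanish_of_not_exists (D : Derivation Λ R.carrier k)
    (hcon : ¬ ∃ x ∈ maximalIdeal R.carrier, D x = 1) :
    ∀ x ∈ maximalIdeal R.carrier, D x = 0 := by
  push Not at hcon
  have hsmul : ∀ (a : R.carrier) (c : k), a • c = R.res a * c := fun a c => by
    rw [Algebra.smul_def, hresk]
  intro x hx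
  by_contra hne
  obtain ⟨u, hu⟩ := R.res_surjective (D x)⁻¹
  apply hcon (u * x) (Ideal.mul_mem_left _ _ hx)
  rw [D.leibniz, hsmul, hsmul, hu, inv_mul_cancel₀ hne,
    (R.mem_maximalIdeal_iff x).mp hx, zero_mul, add_zero]

include hresk in
/-- a derivation `R → k` vanishing on the maximal ideal descends to a derivation of `k` -/
theorem exists_derivation_residue (D : Derivation Λ R.carrier k)
    (hvan : ∀ x ∈ maximalIdeal R.carrier, D x = 0) :
    ∃ Dbar : Derivation Λ k k, ∀ a, Dbar (R.res a) = D a := by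
  have hsmul : ∀ (a : R.carrier) (c : k), a • c = R.res a * c := fun a c => by
    rw [Algebra.smul_def, hresk]
  have hwd : ∀ a b : R.carrier, R.res a = R.res b → D a = D b := by
    intro a b hab
    have : a - b ∈ maximalIdeal R.carrier := by
      rw [R.mem_maximalIdeal_iff, map_sub, hab, sub_self]
    have := hvan _ this
    rw [map_sub, sub_eq_zero] at this
    exact this
  let s := Function.surjInv R.res_surjective
  have hs : ∀ c, R.res (s c) = c := Function.surjInv_eq R.res_surjective
  have hDs : ∀ a : R.carrier, D (s (R.res a)) = D a := fun a => hwd _ _ (hs _)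
  let Dbar : Derivation Λ k k :=
    { toFun := fun c => D (s c)
      map_add' := fun c c' => by
        have : D (s (c + c')) = D (s c + s c') := hwd _ _ (by rw [hs, map_add, hs, hs])
        rw [this, map_add]
      map_smul' := fun l c => by
        have : D (s (l • c)) = D (l • s c) := hwd _ _ (by rw [hs, map_smul, hs])
        rw [this, D.map_smul]
        rfl
      map_one_eq_zero' := by
        have : D (s 1) = D 1 := hwd _ _ (by rw [hs, map_one])
        change D (s 1) = 0
        rw [this, D.map_one_eq_zero]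
      leibniz' := fun c c' => by
        have : D (s (c * c')) = D (s c * s c') := hwd _ _ (by rw [hs, map_mul, hs, hs])
        change D (s (c * c')) = c • D (s c') + c' • D (s c)
        rw [this, D.leibniz, hsmul, hsmul, hs, hs]
        rfl }
  exact ⟨Dbar, hDs⟩

end Cut2

section BaseDual

/-- the algebra map `k → k[ε]` attached to a derivation of `k` -/
noncomputable def derivToBaseDualAlgHom (Dbar : Derivation Λ k k) : k →ₐ[Λ] DualNumber k :=
  { toFun := fun c => (TrivSqZeroExt.inl c + TrivSqZeroExt.inr (Dbar c) : DualNumber k)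
    map_one' := by
      rw [Dbar.map_one_eq_zero]
      simp
    map_mul' := fun a b => by
      rw [Dbar.leibniz, smul_eq_mul, smul_eq_mul]
      apply TrivSqZeroExt.ext
      · simp
      · simp [mul_comm]
    map_zero' := by
      rw [map_zero]
      simp
    map_add' := fun a b => by
      rw [map_add]
      apply TrivSqZeroExt.ext
      · simp
      · simp
    commutes' := fun r => by
      rw [Dbar.map_algebraMap, TrivSqZeroExt.algebraMap_eq_inl']
      simp }

theorem derivToBaseDualAlgHom_apply (Dbar : Derivation Λ k k) (c : k) :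
    derivToBaseDualAlgHom Dbar c = TrivSqZeroExt.inl c + TrivSqZeroExt.inr (Dbar c) := rfl

theorem derivToBaseDualAlgHom_fst (Dbar : Derivation Λ k k) (c : k) :
    TrivSqZeroExt.fst (derivToBaseDualAlgHom Dbar c) = c := by
  rw [derivToBaseDualAlgHom_apply, TrivSqZeroExt.fst_add, TrivSqZeroExt.fst_inl,
    TrivSqZeroExt.fst_inr, add_zero]

theorem derivToBaseDualAlgHom_snd (Dbar : Derivation Λ k k) (c : k) :
    TrivSqZeroExt.snd (derivToBaseDualAlgHom Dbar c) = Dbar c := by
  rw [derivToBaseDualAlgHom_apply, TrivSqZeroExt.snd_add, TrivSqZeroExt.snd_inl,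
    TrivSqZeroExt.snd_inr, zero_add]

/-- the morphism `k → k[ε]` attached to a derivation of `k` -/
noncomputable def derivToBaseDual (Dbar : Derivation Λ k k) : base Λ k ⟶ dual Λ k :=
  let f : k →ₐ[Λ] DualNumber k := derivToBaseDualAlgHom Dbar
  have hf : (TrivSqZeroExt.fstHom Λ k k).comp f = AlgHom.id Λ k :=
    AlgHom.ext fun c => derivToBaseDualAlgHom_fst Dbar c
  Art.Hom.mk (A := base Λ k) (B := dual Λ k) f hf

theorem derivToBaseDual_fst (Dbar : Derivation Λ k k) (c : k) :
    TrivSqZeroExt.fst (derivToBaseDual Dbar c) = c := derivToBaseDualAlgHom_fst Dbar c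

theorem derivToBaseDual_snd (Dbar : Derivation Λ k k) (c : k) :
    TrivSqZeroExt.snd (derivToBaseDual Dbar c) = Dbar c := derivToBaseDualAlgHom_snd Dbar c

end BaseDual

section Sep

variable {F : Art Λ k ⥤ Type v} (R : CRing Λ k)
  [Algebra R.carrier k] [IsScalarTower Λ R.carrier k]
  (hresk : ∀ a, algebraMap R.carrier k a = R.res a)
  (ξ : Family R.carrier R.res F)

theorem tanSep_of_injective
    (hinj : ∀ x₀ : F.obj (base Λ k),
      Function.Injective (fun σ : base Λ k ⟶ dual Λ k => F.map σ x₀)) :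
    TanSep R hresk ξ := by
  intro D₀ hD₀ hL
  by_contra hcon
  have hvan := deriv_vanish_of_not_exists R hresk D₀ hcon
  obtain ⟨Dbar, hDbar⟩ := exists_derivation_residue R hresk D₀ hvan
  let φ₀ : HomSet R.carrier R.res (base Λ k) := ⟨R.res, AlgHom.id_comp _⟩
  have key : ∀ (D : Derivation Λ R.carrier k) (Db : Derivation Λ k k), (∀ a, Db (R.res a) = D a) →
      HomSet.map (derivToBaseDual Db) φ₀ = derivToHomSet R hresk D := by
    intro D Db h
    apply Subtype.ext
    apply AlgHom.ext
    intro a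
    apply TrivSqZeroExt.ext
    · rw [derivToHomSet_fst]
      exact derivToBaseDual_fst Db (R.res a)
    · rw [derivToHomSet_snd, ← h a]
      exact derivToBaseDual_snd Db (R.res a)
  have h1 := key D₀ Dbar hDbar
  have h2 := key 0 0 (fun a => rfl)
  have heq : F.map (derivToBaseDual Dbar) (ξ.app _ φ₀) = F.map (derivToBaseDual 0) (ξ.app _ φ₀) := by
    rw [← ξ.natural, ← ξ.natural, h1, h2]
    exact hL
  have hσ := hinj _ heq
  apply hD₀
  ext a
  rw [← hDbar a, ← derivToBaseDual_snd Dbar (R.res a), hσ, derivToBaseDual_snd]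
  rfl

end Sep

end Groth.Agent.Lib.helper19
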