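import Mathlib
import Groth.Prelude.Def_W4sfdMinVersal
import Groth.Agent.Lib.helper19.ArtCut2

set_option autoImplicit false
universe u v
open CategoryTheory IsLocalRing ArtFun ArtFun.Art

namespace Groth.Agent.Lib.helper19

variable {Λ : Type u} {k : Type u} [CommRing Λ] [Field k] [Algebra Λ k]
  [IsNoetherianRing Λ] [Module.Finite Λ k]

section Cut3

variable {F : Art Λ k ⥤ Type v} (R : CRing Λ k)
  [Algebra R.carrier k] [IsScalarTower Λ R.carrier k]
  (hresk : ∀ a, algebraMap R.carrier k a = R.res a)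
  (ξ : Family R.carrier R.res F)

theorem map_scale_derivToHomSet (c : k) (D : Derivation Λ R.carrier k) :
    HomSet.map (scale c) (derivToHomSet R hresk D) = derivToHomSet R hresk (c • D) := by
  apply Subtype.ext
  apply AlgHom.ext
  intro r
  apply TrivSqZeroExt.ext
  · rw [derivToHomSet_fst]
    exact derivToHomSet_fst R hresk D r
  · rw [derivToHomSet_snd]
    change c • TrivSqZeroExt.snd ((derivToHomSet R hresk D).1 r) = (c • D) r
    rw [derivToHomSet_snd]
    rfl

theorem exists_dual2_lift (D₁ D₂ : Derivation Λ R.carrier k) :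
    ∃ χ : HomSet R.carrier R.res (dual2 Λ k),
      HomSet.map pr₁ χ = derivToHomSet R hresk D₁ ∧
      HomSet.map pr₂ χ = derivToHomSet R hresk D₂ ∧
      HomSet.map plus χ = derivToHomSet R hresk (D₁ + D₂) := by
  obtain ⟨χ, hχ1, hχ2⟩ := IsFibreProd.exists_homSet_lift isFibreProd_dual2
    (derivToHomSet R hresk D₁) (derivToHomSet R hresk D₂) (HomSet.base_subsingleton _ _)
  refine ⟨χ, hχ1, hχ2, ?_⟩
  apply Subtype.ext
  apply AlgHom.ext
  intro r
  have h1 := congrArg (fun t => t.1 r) hχ1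
  have h2 := congrArg (fun t => t.1 r) hχ2
  have h1f : TrivSqZeroExt.fst (χ.1 r) = R.res r := by
    have := congrArg TrivSqZeroExt.fst h1
    rw [derivToHomSet_fst] at this
    exact this
  have h1s : (TrivSqZeroExt.snd (χ.1 r)).1 = D₁ r := by
    have := congrArg TrivSqZeroExt.snd h1
    rw [derivToHomSet_snd] at this
    exact this
  have h2s : (TrivSqZeroExt.snd (χ.1 r)).2 = D₂ r := by
    have := congrArg TrivSqZeroExt.snd h2
    rw [derivToHomSet_snd] at this
    exact this
  apply TrivSqZeroExt.ext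
  · rw [derivToHomSet_fst]
    exact h1f
  · rw [derivToHomSet_snd]
    change (TrivSqZeroExt.snd (χ.1 r)).1 + (TrivSqZeroExt.snd (χ.1 r)).2 = (D₁ + D₂) r
    rw [h1s, h2s]
    rfl

theorem tanD_smul (c : k) (D : Derivation Λ R.carrier k) :
    tanD R hresk ξ (c • D) = F.map (scale c) (tanD R hresk ξ D) := by
  rw [tanD, tanD, ← ξ.natural, map_scale_derivToHomSet]

theorem tanCompat_of_heps (h2 : Heps F) : TanCompat R hresk ξ := by
  intro D₁ D₂ D₁' D₂' c e1 e2
  obtain ⟨χ, hχ1, hχ2, hχp⟩ := exists_dual2_lift R hresk D₁ (c • D₂)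
  obtain ⟨χ', hχ1', hχ2', hχp'⟩ := exists_dual2_lift R hresk D₁' (c • D₂')
  have hz : ξ.app (dual2 Λ k) χ = ξ.app (dual2 Λ k) χ' := by
    apply (h2 (pr₁ : dual2 Λ k ⟶ _) pr₂ isFibreProd_dual2).1
    apply FibProd.ext
    · change F.map pr₁ (ξ.app _ χ) = F.map pr₁ (ξ.app _ χ')
      rw [← ξ.natural, ← ξ.natural, hχ1, hχ1']
      exact e1
    · change F.map pr₂ (ξ.app _ χ) = F.map pr₂ (ξ.app _ χ')
      rw [← ξ.natural, ← ξ.natural, hχ2, hχ2']
      have := tanD_smul R hresk ξ c D₂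
      have := tanD_smul R hresk ξ c D₂'
      change tanD R hresk ξ (c • D₂) = tanD R hresk ξ (c • D₂')
      rw [tanD_smul, tanD_smul, e2]
  change ξ.app _ _ = ξ.app _ _
  rw [← hχp, ← hχp', ξ.natural, ξ.natural, hz]

end Cut3

end Groth.Agent.Lib.helper19
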