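import Mathlib
import Groth.Prelude.Def_ArtFun2
import Groth.Agent.Lib.helper19.ArtBasic
import Groth.Agent.Lib.helper19.ArtInduction
import Groth.Agent.Lib.helper19.ArtFibre
import Groth.Agent.Lib.helper19.ArtTorsor

set_option autoImplicit false
universe u v
open CategoryTheory IsLocalRing

namespace Groth.Agent.Lib.helper19

section
variable {Λ : Type u} {k : Type u} [CommRing Λ] [Field k] [Algebra Λ k]
  [IsNoetherianRing Λ] [Module.Finite Λ k]
open ArtFun ArtFun.Art

/-- The Rim–Schlessinger condition. -/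
def RS (F : Art Λ k ⥤ Type v) : Prop :=
  ∀ ⦃B A A' A'' : Art Λ k⦄ (p' : B ⟶ A') (p'' : B ⟶ A'') (f' : A' ⟶ A) (f'' : A'' ⟶ A)
    (h : IsFibreProd p' p'' f' f''), Function.Surjective f'' → Function.Bijective (cmp F h)

theorem toBase_surjective (A : Art Λ k) : Function.Surjective (toBase A) := A.res_surjective

/-- Lemma U. -/
theorem exists_lift_of_tangent_surjective {F G : Art Λ k ⥤ Type v}
    (hF0 : H0 F) (hF : RS F) (hG : RS G) (φ : F ⟶ G)
    (hd : Function.Surjective (TangentSpace.map φ))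
    {A' A : Art Λ k} (μ : A' ⟶ A) (hμ : IsSmallExt μ) (x'' : F.obj A') (y' : G.obj A')
    (hxy : G.map μ (φ.app A' x'') = G.map μ y') :
    ∃ x' : F.obj A', F.map μ x' = F.map μ x'' ∧ φ.app A' x' = y' := by
  obtain ⟨P, p₁, p₂, hP⟩ := exists_isFibreProd μ μ hμ.1
  obtain ⟨δ, Δ, hsq, hΔ1, hΔ2, hΔδ⟩ := exists_torsor_square μ hμ p₁ p₂ hP
  obtain ⟨zG, hzG⟩ := (hG p₁ p₂ μ μ hP hμ.1).2 ⟨(φ.app A' x'', y'), hxy⟩
  have hzG1 : G.map p₁ zG = φ.app A' x'' := congrArg (fun t => t.1.1) hzG
  have hzG2 : G.map p₂ zG = y' := congrArg (fun t => t.1.2) hzG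
  obtain ⟨v, hv⟩ := hd (G.map δ zG)
  have hv' : φ.app (dual Λ k) v = G.map δ zG := hv
  have hsub : Subsingleton (F.obj (base Λ k)) := hF0.2
  obtain ⟨zF, hzF⟩ := (hF p₁ δ (toBase A') (toBase (dual Λ k)) hsq (toBase_surjective _)).2
    ⟨(x'', v), Subsingleton.elim _ _⟩
  have hzF1 : F.map p₁ zF = x'' := congrArg (fun t => t.1.1) hzF
  have hzF2 : F.map δ zF = v := congrArg (fun t => t.1.2) hzF
  have hφz : φ.app P zF = zG := by
    apply (hG p₁ δ (toBase A') (toBase (dual Λ k)) hsq (toBase_surjective _)).1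
    apply FibProd.ext
    · change G.map p₁ (φ.app P zF) = G.map p₁ zG
      rw [← NatTrans.naturality_apply φ p₁ zF, hzF1, hzG1]
    · change G.map δ (φ.app P zF) = G.map δ zG
      rw [← NatTrans.naturality_apply φ δ zF, hzF2, hv']
  refine ⟨F.map p₂ zF, ?_, ?_⟩
  · rw [← Functor.map_comp_apply, ← hP.w, Functor.map_comp_apply, hzF1]
  · rw [NatTrans.naturality_apply φ p₂ zF, hφz, hzG2]

theorem app_surjective_of_isSmooth {F G : Art Λ k ⥤ Type v} (η : F ⟶ G) (hη : IsSmooth η)
    (h0 : Function.Surjective (η.app (base Λ k))) (A : Art Λ k) :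
    Function.Surjective (η.app A) := by
  intro g
  obtain ⟨x0, hx0⟩ := h0 (G.map (toBase A) g)
  obtain ⟨z, hz⟩ := hη (toBase A) (toBase_surjective A) ⟨(x0, g), hx0⟩
  exact ⟨z, congrArg (fun t => t.1.2) hz⟩

theorem app_base_surjective {F G : Art Λ k ⥤ Type v} (hF0 : H0 F) (hG0 : H0 G) (η : F ⟶ G) :
    Function.Surjective (η.app (base Λ k)) := by
  intro g
  obtain ⟨x⟩ := hF0.1
  have := hG0.2
  exact ⟨x, Subsingleton.elim _ _⟩

/-- injectivity propagates along small extensions -/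
theorem injective_app_of_small {F G : Art Λ k ⥤ Type v}
    (hF : RS F) (hG : RS G) (φ : F ⟶ G)
    (hd : Function.Injective (TangentSpace.map φ))
    {A' A : Art Λ k} (μ : A' ⟶ A) (hμ : IsSmallExt μ)
    (hA : Function.Injective (φ.app A)) : Function.Injective (φ.app A') := by
  intro x' y' hxy
  have hμxy : F.map μ x' = F.map μ y' := by
    apply hA
    rw [NatTrans.naturality_apply φ μ x', NatTrans.naturality_apply φ μ y', hxy]
  obtain ⟨P, p₁, p₂, hP⟩ := exists_isFibreProd μ μ hμ.1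
  obtain ⟨δ, Δ, hsq, hΔ1, hΔ2, hΔδ⟩ := exists_torsor_square μ hμ p₁ p₂ hP
  obtain ⟨z, hz⟩ := (hF p₁ p₂ μ μ hP hμ.1).2 ⟨(x', y'), hμxy⟩
  have hz1 : F.map p₁ z = x' := congrArg (fun t => t.1.1) hz
  have hz2 : F.map p₂ z = y' := congrArg (fun t => t.1.2) hz
  have hφz : φ.app P z = G.map Δ (φ.app A' x') := by
    apply (hG p₁ p₂ μ μ hP hμ.1).1
    apply FibProd.ext
    · change G.map p₁ (φ.app P z) = G.map p₁ (G.map Δ (φ.app A' x'))
      rw [← NatTrans.naturality_apply φ p₁ z, hz1, ← Functor.map_comp_apply, hΔ1,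
        Functor.map_id_apply]
    · change G.map p₂ (φ.app P z) = G.map p₂ (G.map Δ (φ.app A' x'))
      rw [← NatTrans.naturality_apply φ p₂ z, hz2, ← Functor.map_comp_apply, hΔ2,
        Functor.map_id_apply, hxy]
  have hv : F.map δ z = F.map δ (F.map Δ x') := by
    apply hd
    change φ.app (dual Λ k) (F.map δ z) = φ.app (dual Λ k) (F.map δ (F.map Δ x'))
    rw [NatTrans.naturality_apply φ δ z, hφz, NatTrans.naturality_apply φ δ (F.map Δ x'),
      NatTrans.naturality_apply φ Δ x']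
  have hzz : z = F.map Δ x' := by
    apply (hF p₁ δ (toBase A') (toBase (dual Λ k)) hsq (toBase_surjective _)).1
    apply FibProd.ext
    · change F.map p₁ z = F.map p₁ (F.map Δ x')
      rw [hz1, ← Functor.map_comp_apply, hΔ1, Functor.map_id_apply]
    · exact hv
  rw [← hz2, hzz, ← Functor.map_comp_apply, hΔ2, Functor.map_id_apply]

theorem injective_app_of_tangent_injective {F G : Art Λ k ⥤ Type v}
    (hF0 : H0 F) (hF : RS F) (hG : RS G) (φ : F ⟶ G)
    (hd : Function.Injective (TangentSpace.map φ)) (A : Art Λ k) :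
    Function.Injective (φ.app A) := by
  have := art_surjective_induction
    (fun A₁ A₂ f => Function.Surjective f ∧
      (Function.Injective (φ.app A₁) → Function.Injective (φ.app A₂)))
    (fun A₁ A₂ e he => ⟨(@art_bijective_of_isIso _ _ _ _ _ _ _ e he).2, fun h1 x y hxy => by
      have h2 : F.map e x = F.map e y := by
        apply h1
        rw [NatTrans.naturality_apply φ e x, NatTrans.naturality_apply φ e y, hxy]
      have := congrArg (F.map (inv e)) h2
      rwa [← Functor.map_comp_apply, ← Functor.map_comp_apply, IsIso.hom_inv_id,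
        Functor.map_id_apply, Functor.map_id_apply] at this⟩)
    (fun A₁ A₂ p hp => ⟨hp.1, injective_app_of_small hF hG φ hd p hp⟩)
    (fun A₁ A₂ A₃ p q hp hq => ⟨hq.1.comp hp.1, fun h => hp.2 (hq.2 h)⟩)
    (toBase A) (toBase_surjective A)
  apply this.2
  intro x y _
  have := hF0.2
  exact Subsingleton.elim _ _

end

end Groth.Agent.Lib.helper19
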