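import Mathlib
import Groth.Prelude.Def_ArtFun5
import Groth.Agent.Lib.helper19.ArtMinVersal
import Groth.Agent.Lib.helper19.ArtVersal2
import Groth.Agent.Lib.helper19.ArtHull

set_option autoImplicit false
universe u v
open CategoryTheory IsLocalRing

namespace Groth.Agent.Lib.helper19

section
variable {Λ : Type u} {k : Type u} [CommRing Λ] [Field k] [Algebra Λ k]
open ArtFun ArtFun.Art

/-- Every element of `h_R(A)` factors through a truncation. -/
theorem HomSet.exists_factor {R : CRing Λ k} {A : Art Λ k} (ψ : HomSet R.carrier R.res A) :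
    ∃ (n : ℕ) (ψ' : R.trunc n ⟶ A), HomSet.map ψ' (R.truncHom n) = ψ := by
  obtain ⟨N, hN⟩ := art_maximalIdeal_nilpotent A
  have hN' : maximalIdeal A ^ (N + 1) = ⊥ := by
    rw [eq_bot_iff, ← hN]
    exact Ideal.pow_le_pow_right N.le_succ
  obtain ⟨ψ', hψ', _⟩ := HomSet.exists_factor_trunc R N ψ (HomSet.vanish_mpow ψ N hN')
  exact ⟨N, ψ', hψ'⟩

/-- A family is determined by its formal element. -/
theorem Family.app_eq_of_toFormalElt_eq {F : Art Λ k ⥤ Type v} {R : CRing Λ k}
    (ξ₁ ξ₂ : Family R.carrier R.res F) (h : ξ₁.toFormalElt = ξ₂.toFormalElt)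
    (A : Art Λ k) (ψ : HomSet R.carrier R.res A) : ξ₁.app A ψ = ξ₂.app A ψ := by
  obtain ⟨n, ψ', rfl⟩ := HomSet.exists_factor ψ
  rw [ξ₁.natural, ξ₂.natural]
  congr 1
  exact congrArg (fun w => w.elt n) h

theorem isVersal_of_isUniversal {F : Art Λ k ⥤ Type v} {R : Type u} [CommRing R] [Algebra Λ R]
    {resR : R →ₐ[Λ] k} (ξ : Family R resR F) (hξ : IsUniversal ξ) : IsVersal ξ := by
  intro B A μ _ φ y hy
  obtain ⟨ψ, hψ⟩ := (hξ B).2 y
  refine ⟨ψ, ?_, hψ⟩
  apply (hξ A).1
  rw [ξ.natural, hψ, hy]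

end

section
variable {Λ : Type u} {k : Type u} [CommRing Λ] [Field k] [Algebra Λ k]
  [IsNoetherianRing Λ] [Module.Finite Λ k]
open ArtFun ArtFun.Art

theorem h0_of_isUniversal {F : Art Λ k ⥤ Type v} {R : Type u} [CommRing R] [Algebra Λ R]
    {resR : R →ₐ[Λ] k} (ξ : Family R resR F) (hξ : IsUniversal ξ) : H0 F := by
  constructor
  · exact ⟨ξ.app _ ⟨resR, AlgHom.id_comp _⟩⟩
  · constructor
    intro x y
    obtain ⟨a, rfl⟩ := (hξ _).2 x
    obtain ⟨b, rfl⟩ := (hξ _).2 y
    rw [HomSet.base_subsingleton a b]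

theorem bijective_app_of_isProrepresentable_tangent_bijective
    {U : Art Λ k ⥤ Type v} (hU : IsProrepresentable U)
    (φ : U ⟶ U) (hd : Function.Bijective (TangentSpace.map φ)) (A : Art Λ k) :
    Function.Bijective (φ.app A) := by
  obtain ⟨⟨R, ξ, huniv⟩⟩ := hU
  have hvers := isVersal_of_isUniversal ξ huniv
  have h0 := h0_of_isUniversal ξ huniv
  obtain ⟨g, hg, hgξ⟩ := exists_along_toFormalElt_eq h0 R ξ hvers R (ξ.push φ).toFormalElt
  have hfam : ∀ (A : Art Λ k) (ψ : HomSet R.carrier R.res A),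
      ξ.app A ⟨ψ.1.comp g, by rw [← AlgHom.comp_assoc, ψ.2, hg]⟩ = φ.app A (ξ.app A ψ) :=
    fun A ψ => Family.app_eq_of_toFormalElt_eq (ξ.along g hg) (ξ.push φ) hgξ A ψ
  -- g* is injective on the tangent space
  have hginj : ∀ τ₁ τ₂ : HomSet R.carrier R.res (dual Λ k), τ₁.1.comp g = τ₂.1.comp g → τ₁ = τ₂ := by
    intro τ₁ τ₂ h
    apply (huniv _).1
    apply hd.1
    change φ.app _ (ξ.app _ τ₁) = φ.app _ (ξ.app _ τ₂)
    rw [← hfam, ← hfam]
    congr 1
    exact Subtype.ext h
  letI : Algebra R.carrier k := R.res.toRingHom.toAlgebra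
  haveI : IsScalarTower Λ R.carrier k :=
    IsScalarTower.of_algebraMap_eq (fun r => (R.res.commutes r).symm)
  have hresk : ∀ a, algebraMap R.carrier k a = R.res a := fun a => rfl
  have hgsurj : Function.Surjective g := by
    apply surjective_of_derivation_comp_injective R R.carrier R.res_surjective g
      (by rw [← hg]; rfl)
    intro D₁ D₂ hD
    have key : derivToHomSet R hresk D₁ = derivToHomSet R hresk D₂ := by
      apply hginj
      apply AlgHom.ext
      intro r
      apply TrivSqZeroExt.ext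
      · change TrivSqZeroExt.fst ((derivToHomSet R hresk D₁).1 (g r)) =
          TrivSqZeroExt.fst ((derivToHomSet R hresk D₂).1 (g r))
        rw [derivToHomSet_fst, derivToHomSet_fst]
      · change TrivSqZeroExt.snd ((derivToHomSet R hresk D₁).1 (g r)) =
          TrivSqZeroExt.snd ((derivToHomSet R hresk D₂).1 (g r))
        rw [derivToHomSet_snd, derivToHomSet_snd, hD]
    ext a
    rw [← derivToHomSet_snd R hresk D₁, ← derivToHomSet_snd R hresk D₂, key]
  have hginj' : Function.Injective g := ringHom_injective_of_surjective_endo g.toRingHom hgsurj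
  let e : R.carrier ≃ₐ[Λ] R.carrier := AlgEquiv.ofBijective g ⟨hginj', hgsurj⟩
  have hres_symm : R.res.comp (e.symm : R.carrier →ₐ[Λ] R.carrier) = R.res := by
    apply AlgHom.ext
    intro r
    obtain ⟨s, rfl⟩ := hgsurj r
    have h1 : e.symm (g s) = s := e.symm_apply_apply s
    change R.res (e.symm (g s)) = R.res (g s)
    rw [h1]
    exact (DFunLike.congr_fun hg s).symm
  constructor
  · intro x y hxy
    obtain ⟨ψ₁, rfl⟩ := (huniv A).2 x
    obtain ⟨ψ₂, rfl⟩ := (huniv A).2 y
    rw [← hfam, ← hfam] at hxy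
    have h2 := (huniv A).1 hxy
    have h3 : ψ₁.1.comp g = ψ₂.1.comp g := congrArg Subtype.val h2
    congr 1
    apply Subtype.ext
    apply AlgHom.ext
    intro r
    obtain ⟨s, rfl⟩ := hgsurj r
    exact DFunLike.congr_fun h3 s
  · intro y
    obtain ⟨ψ, rfl⟩ := (huniv A).2 y
    let ψ' : HomSet R.carrier R.res A :=
      ⟨ψ.1.comp (e.symm : R.carrier →ₐ[Λ] R.carrier), by
        rw [← AlgHom.comp_assoc, ψ.2, hres_symm]⟩
    refine ⟨ξ.app A ψ', ?_⟩
    rw [← hfam]
    congr 1
    apply Subtype.ext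
    apply AlgHom.ext
    intro r
    change ψ.1 (e.symm (g r)) = ψ.1 r
    have h1 : e.symm (g r) = r := e.symm_apply_apply r
    rw [h1]

end

end Groth.Agent.Lib.helper19
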