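import Mathlib
import Groth.Prelude.Def_W4sfdMinVersal
import Groth.Agent.Lib.helper19.ArtDefFun
import Groth.Agent.Lib.helper19.ArtVersal
import Groth.Agent.Lib.helper19.ArtVersal2
import Groth.Agent.Lib.helper19.ArtProrep
import Groth.Agent.Lib.helper19.ArtHull

set_option autoImplicit false
universe u v
open CategoryTheory IsLocalRing ArtFun ArtFun.Art

namespace Groth.Agent.Lib.helper19

variable {Λ : Type u} {k : Type u} [CommRing Λ] [Field k] [Algebra Λ k]
  [IsNoetherianRing Λ] [Module.Finite Λ k]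

section
variable {R : Type u} [CommRing R] [Algebra Λ R] {resR : R →ₐ[Λ] k}

theorem IsFibreProd.homSet_ext {B A A₁ A₂ : Art Λ k} {p₁ : B ⟶ A₁} {p₂ : B ⟶ A₂} {f₁ : A₁ ⟶ A}
    {f₂ : A₂ ⟶ A} (h : IsFibreProd p₁ p₂ f₁ f₂) (χ χ' : HomSet R resR B)
    (h1 : HomSet.map p₁ χ = HomSet.map p₁ χ') (h2 : HomSet.map p₂ χ = HomSet.map p₂ χ') :
    χ = χ' := by
  apply Subtype.ext
  apply AlgHom.ext
  intro r
  exact h.inj _ _ (DFunLike.congr_fun (congrArg Subtype.val h1) r)
    (DFunLike.congr_fun (congrArg Subtype.val h2) r)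

variable {F : Art Λ k ⥤ Type v}

/-- injectivity of a family propagates along small extensions -/
theorem Family.injective_app_of_small (hF : RS F) (ξ : Family R resR F)
    (hd : Function.Injective (ξ.app (dual Λ k)))
    {A' A : Art Λ k} (μ : A' ⟶ A) (hμ : IsSmallExt μ)
    (hA : Function.Injective (ξ.app A)) : Function.Injective (ξ.app A') := by
  intro x' y' hxy
  have hμxy : HomSet.map μ x' = HomSet.map μ y' := by
    apply hA
    rw [ξ.natural, ξ.natural, hxy]
  obtain ⟨P, p₁, p₂, hP⟩ := exists_isFibreProd μ μ hμ.1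
  obtain ⟨δ, Δ, hsq, hΔ1, hΔ2, hΔδ⟩ := exists_torsor_square μ hμ p₁ p₂ hP
  obtain ⟨z, hz1, hz2⟩ := IsFibreProd.exists_homSet_lift hP x' y' hμxy
  have hξz : ξ.app P z = F.map Δ (ξ.app A' x') := by
    apply (hF p₁ p₂ μ μ hP hμ.1).1
    apply FibProd.ext
    · change F.map p₁ (ξ.app P z) = F.map p₁ (F.map Δ (ξ.app A' x'))
      rw [← ξ.natural, hz1, ← Functor.map_comp_apply, hΔ1, Functor.map_id_apply]
    · change F.map p₂ (ξ.app P z) = F.map p₂ (F.map Δ (ξ.app A' x'))
      rw [← ξ.natural, hz2, ← Functor.map_comp_apply, hΔ2, Functor.map_id_apply, hxy]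
  have hv : HomSet.map δ z = HomSet.map δ (HomSet.map Δ x') := by
    apply hd
    rw [ξ.natural, hξz, ξ.natural, ξ.natural]
  have hzz : z = HomSet.map Δ x' := by
    apply IsFibreProd.homSet_ext hsq
    · rw [hz1, ← HomSet.map_comp, hΔ1, HomSet.map_id]
    · exact hv
  rw [← hz2, hzz, ← HomSet.map_comp, hΔ2, HomSet.map_id]

theorem Family.injective_app_of_tangent_injective (hF : RS F) (ξ : Family R resR F)
    (hd : Function.Injective (ξ.app (dual Λ k))) (A : Art Λ k) :
    Function.Injective (ξ.app A) := by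
  have := art_surjective_induction
    (fun A₁ A₂ f => Function.Surjective f ∧
      (Function.Injective (ξ.app A₁) → Function.Injective (ξ.app A₂)))
    (fun A₁ A₂ e he => ⟨(@art_bijective_of_isIso _ _ _ _ _ _ _ e he).2, fun h1 x y hxy => by
      have h2 : HomSet.map e x = HomSet.map e y := by
        apply h1
        rw [ξ.natural, ξ.natural, hxy]
      have := congrArg (HomSet.map (inv e)) h2
      rwa [← HomSet.map_comp, ← HomSet.map_comp, IsIso.hom_inv_id, HomSet.map_id,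
        HomSet.map_id] at this⟩)
    (fun A₁ A₂ p hp => ⟨hp.1, Family.injective_app_of_small hF ξ hd p hp⟩)
    (fun A₁ A₂ A₃ p q hp hq => ⟨hq.1.comp hp.1, fun h => hp.2 (hq.2 h)⟩)
    (toBase A) (toBase_surjective A)
  apply this.2
  intro x y _
  exact HomSet.base_subsingleton x y

/-- A miniversal family of a functor satisfying (RS) is universal. -/
theorem isUniversal_of_isMiniversal_of_rs (h0 : H0 F) (hF : RS F) (ξ : Family R resR F)
    (hξ : IsMiniversal ξ) : IsUniversal ξ := fun A =>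
  ⟨Family.injective_app_of_tangent_injective hF ξ hξ.2.1 A, IsVersal.app_surjective h0 ξ hξ.1 A⟩

/-- A functor with a universal family is left exact. -/
theorem isLeftExact_of_isUniversal (ξ : Family R resR F) (hξ : IsUniversal ξ) : IsLeftExact F := by
  intro B A A' A'' p' p'' f' f'' h
  constructor
  · intro z₁ z₂ hz
    obtain ⟨χ₁, rfl⟩ := (hξ B).2 z₁
    obtain ⟨χ₂, rfl⟩ := (hξ B).2 z₂
    have e1 : F.map p' (ξ.app B χ₁) = F.map p' (ξ.app B χ₂) := congrArg (fun t => t.1.1) hz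
    have e2 : F.map p'' (ξ.app B χ₁) = F.map p'' (ξ.app B χ₂) := congrArg (fun t => t.1.2) hz
    rw [← ξ.natural, ← ξ.natural] at e1 e2
    rw [IsFibreProd.homSet_ext h χ₁ χ₂ ((hξ A').1 e1) ((hξ A'').1 e2)]
  · rintro ⟨⟨x', x''⟩, hx⟩
    obtain ⟨φ', rfl⟩ := (hξ A').2 x'
    obtain ⟨φ'', rfl⟩ := (hξ A'').2 x''
    have hx' : F.map f' (ξ.app A' φ') = F.map f'' (ξ.app A'' φ'') := hx
    rw [← ξ.natural, ← ξ.natural] at hx'
    obtain ⟨χ, hχ1, hχ2⟩ := IsFibreProd.exists_homSet_lift h φ' φ'' ((hξ A).1 hx')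
    refine ⟨ξ.app B χ, ?_⟩
    apply FibProd.ext
    · change F.map p' (ξ.app B χ) = ξ.app A' φ'
      rw [← ξ.natural, hχ1]
    · change F.map p'' (ξ.app B χ) = ξ.app A'' φ''
      rw [← ξ.natural, hχ2]

end

section Main

variable {F : Art Λ k ⥤ Type v} [TangentStr F]

/-- Schlessinger: (H0), (RS), finite tangent space, no derivations of `k` ⇒ prorepresentable. -/
theorem isProrepresentable_of_rs (hk : Subsingleton (Derivation Λ k k)) (h0 : H0 F) (hF : RS F)
    (h3 : Hfin F) (hull : HasHull F) : IsProrepresentable F := by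
  obtain ⟨⟨R, ξ, hξ⟩⟩ := hull
  exact ⟨⟨R, ξ, isUniversal_of_isMiniversal_of_rs h0 hF ξ hξ⟩⟩

theorem conditions_of_isProrepresentable (hP : IsProrepresentable F) :
    H0 F ∧ IsLeftExact F ∧ Hfin F := by
  obtain ⟨⟨R, ξ, hξ⟩⟩ := hP
  exact ⟨h0_of_isUniversal ξ hξ, isLeftExact_of_isUniversal ξ hξ,
    hfin_of_isMiniversal R ξ (hξ _).2⟩

end Main

end Groth.Agent.Lib.helper19
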