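import Mathlib
import Groth.Prelude.Def_W4sfdMinVersal
import Groth.Agent.Lib.helper19.ArtFibre

set_option autoImplicit false
universe u v
open CategoryTheory IsLocalRing ArtFun ArtFun.Art

namespace Groth.Agent.Lib.helper19

variable {Λ : Type u} {k : Type u} [CommRing Λ] [Field k] [Algebra Λ k]
  [IsNoetherianRing Λ] [Module.Finite Λ k]

/-- the set of tangent vectors reached from `η ∈ F(A)` -/
def reached {F : Art Λ k ⥤ Type v} {A : Art Λ k} (η : F.obj A) : Set (TangentSpace F) :=
  {t | ∃ τ : A ⟶ dual Λ k, F.map τ η = t}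

/-- the tangent vectors reached from a fixed element form a subspace -/
noncomputable def reachedSubmodule {F : Art Λ k ⥤ Type v} [TangentStr F] {A : Art Λ k} (η : F.obj A) :
    Submodule k (TangentSpace F) where
  carrier := reached η
  add_mem' := by
    rintro x y ⟨τ₁, rfl⟩ ⟨τ₂, rfl⟩
    obtain ⟨δ, hδ1, hδ2⟩ := IsFibreProd.exists_lift isFibreProd_dual2 τ₁ τ₂
      (by rw [eq_toBase (τ₁ ≫ _), eq_toBase (τ₂ ≫ _)])
    refine ⟨δ ≫ plus, ?_⟩
    have := TangentStr.add_eq (F.map δ η)
    rw [← Functor.map_comp_apply, ← Functor.map_comp_apply, ← Functor.map_comp_apply, hδ1, hδ2] at this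
    exact this.symm
  zero_mem' := by
    refine ⟨(toBase A ≫ baseToDual) ≫ scale 0, ?_⟩
    have := TangentStr.smul_eq (0 : k) (F.map (toBase A ≫ baseToDual) η)
    rw [← Functor.map_comp_apply] at this
    rw [← this]
    exact zero_smul k (TangentSpace.mk (F.map (toBase A ≫ baseToDual) η))
  smul_mem' := by
    rintro c x ⟨τ, rfl⟩
    refine ⟨τ ≫ scale c, ?_⟩
    have := TangentStr.smul_eq c (F.map τ η)
    rw [← Functor.map_comp_apply] at this
    exact this.symm

theorem exists_seed_finset {F : Art Λ k ⥤ Type v} (h0 : H0 F) (h2 : Heps F)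
    (s : Finset (TangentSpace F)) :
    ∃ (A : Art Λ k) (η : F.obj A), ∀ t ∈ s, ∃ τ : A ⟶ dual Λ k, F.map τ η = t := by
  classical
  induction s using Finset.induction_on with
  | empty =>
    obtain ⟨x⟩ := h0.1
    exact ⟨base Λ k, x, fun t ht => absurd ht (Finset.notMem_empty t)⟩
  | insert t₀ s _ ih =>
    obtain ⟨A, η, hη⟩ := ih
    obtain ⟨B, p', p'', hfib⟩ := exists_isFibreProd (toBase A) (toBase (dual Λ k))
      (dual Λ k).res_surjective
    have hsub : Subsingleton (F.obj (base Λ k)) := h0.2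
    obtain ⟨η', hη'⟩ := (h2 p' p'' hfib).2 ⟨(η, t₀), Subsingleton.elim _ _⟩
    have h1 : F.map p' η' = η := congrArg (fun t => t.1.1) hη'
    have h2' : F.map p'' η' = t₀ := congrArg (fun t => t.1.2) hη'
    refine ⟨B, η', fun t ht => ?_⟩
    rcases Finset.mem_insert.mp ht with rfl | ht
    · exact ⟨p'', h2'⟩
    · obtain ⟨τ, hτ⟩ := hη t ht
      exact ⟨p' ≫ τ, by rw [Functor.map_comp_apply, h1, hτ]⟩

/-- Seed: an element of `F(A)` from which every tangent vector is reached. -/
theorem exists_seed {F : Art Λ k ⥤ Type v} [TangentStr F] (h0 : H0 F) (h2 : Heps F) (h3 : Hfin F) :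
    ∃ (A : Art Λ k) (η : F.obj A), ∀ t : F.obj (dual Λ k), ∃ τ : A ⟶ dual Λ k, F.map τ η = t := by
  have hfin : Module.Finite k (TangentSpace F) := h3
  obtain ⟨s, hs⟩ := hfin.fg_top
  obtain ⟨A, η, hη⟩ := exists_seed_finset h0 h2 s
  refine ⟨A, η, fun t => ?_⟩
  have hle : Submodule.span k (s : Set (TangentSpace F)) ≤ reachedSubmodule η := by
    rw [Submodule.span_le]
    intro t ht
    exact hη t ht
  rw [hs] at hle
  have : TangentSpace.mk t ∈ reachedSubmodule η := hle Submodule.mem_top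
  exact this

end Groth.Agent.Lib.helper19
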