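import Mathlib
import Groth.Prelude.Def_W4sfdMinVersal
import Groth.Agent.Lib.helper19.ArtInduction
import Groth.Agent.Lib.helper19.ArtFibre

set_option autoImplicit false
universe u v
open CategoryTheory IsLocalRing ArtFun ArtFun.Art

namespace Groth.Agent.Lib.helper19

variable {Λ : Type u} {k : Type u} [CommRing Λ] [Field k] [Algebra Λ k]

/-- `x ∈ F(A)` lifts to `F(B/J)` along the factored map `B/J → A`. -/
def LiftsTo (F : Art Λ k ⥤ Type v) {B A : Art Λ k} (p : B ⟶ A) (x : F.obj A) (J : Ideal B) : Prop :=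
  ∃ (hJ : J ≤ RingHom.ker p.toAlgHom) (hJ' : J ≤ maximalIdeal B),
    ∃ y : F.obj (Art.quot B J hJ'), F.map (Art.quotFactor hJ' p hJ) y = x

theorem liftsTo_mono {F : Art Λ k ⥤ Type v} {B A : Art Λ k} (p : B ⟶ A) (x : F.obj A)
    {J J' : Ideal B} (hJJ' : J ≤ J') (hJ'p : J' ≤ RingHom.ker p.toAlgHom)
    (h : LiftsTo F p x J) : LiftsTo F p x J' := by
  obtain ⟨hJ, hJm, y, hy⟩ := h
  have hJ'm : J' ≤ maximalIdeal B := le_trans hJ'p (art_ker_le_maximalIdeal p)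
  refine ⟨hJ'p, hJ'm, F.map (quotQuot B J J' hJm hJ'm hJJ') y, ?_⟩
  rw [← Functor.map_comp_apply]
  have : quotQuot B J J' hJm hJ'm hJJ' ≫ Art.quotFactor hJ'm p hJ'p = Art.quotFactor hJm p hJ := by
    apply Art.hom_ext
    apply AlgHom.ext
    intro z
    obtain ⟨b, rfl⟩ := Art.quotMk_surjective B J hJm z
    rfl
  rw [this, hy]

theorem liftsTo_ker {F : Art Λ k ⥤ Type v} {B A : Art Λ k} (p : B ⟶ A) (hp : Function.Surjective p)
    (x : F.obj A) : LiftsTo F p x (RingHom.ker p.toAlgHom) := by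
  have hm := art_ker_le_maximalIdeal p
  refine ⟨le_rfl, hm, ?_⟩
  set e := Art.quotFactor hm p le_rfl with he
  have hbij : Function.Bijective e := by
    constructor
    · intro z₁ z₂ h
      obtain ⟨b₁, rfl⟩ := Art.quotMk_surjective B _ hm z₁
      obtain ⟨b₂, rfl⟩ := Art.quotMk_surjective B _ hm z₂
      rw [quotMk_eq_iff, RingHom.mem_ker, map_sub, sub_eq_zero]
      exact h
    · intro a
      obtain ⟨b, rfl⟩ := hp a
      exact ⟨Art.quotMk B _ hm b, rfl⟩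
  haveI := art_isIso_of_bijective e hbij
  refine ⟨F.map (inv e) x, ?_⟩
  rw [← Functor.map_comp_apply, IsIso.inv_hom_id, Functor.map_id_apply]

/-- In a semismall situation, an ideal `J₂ ≤ I` can be enlarged to a complement of `J₁` relative to
`J₁ ⊓ J₂`. -/
theorem exists_relative_complement {B : Type*} [CommRing B] [IsLocalRing B] [IsNoetherianRing B]
    (I J₁ J₂ : Ideal B) (hI : maximalIdeal B * I = ⊥) (h₁ : J₁ ≤ I) (h₂ : J₂ ≤ I) :
    ∃ K : Ideal B, J₂ ≤ K ∧ K ≤ I ∧ J₁ ⊓ K = J₁ ⊓ J₂ ∧ J₁ ⊔ K = I := by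
  obtain ⟨K, ⟨hK1, hK2, hK3⟩, hKmax⟩ := (set_has_maximal_iff_noetherian (R := B) (M := B)).mpr
    inferInstance {K : Ideal B | J₂ ≤ K ∧ K ≤ I ∧ J₁ ⊓ K = J₁ ⊓ J₂} ⟨J₂, le_rfl, h₂, rfl⟩
  refine ⟨K, hK1, hK2, hK3, ?_⟩
  apply le_antisymm (sup_le h₁ hK2)
  by_contra hnot
  obtain ⟨t, htI, htn⟩ := SetLike.not_le_iff_exists.mp hnot
  have htK : t ∉ K := fun h => htn (Ideal.mem_sup_right h)
  have hlt : K < K ⊔ Ideal.span {t} := by
    refine lt_of_le_of_ne le_sup_left (fun h => htK ?_)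
    rw [h]
    exact Ideal.mem_sup_right (Ideal.mem_span_singleton_self t)
  apply hKmax (K ⊔ Ideal.span {t}) ⟨le_trans hK1 le_sup_left,
    sup_le hK2 ((Ideal.span_singleton_le_iff_mem _).mpr htI), ?_⟩ hlt
  apply le_antisymm
  · rintro j ⟨hj1, hj2⟩
    obtain ⟨κ, hκ, s, hs, rfl⟩ := Submodule.mem_sup.mp hj2
    obtain ⟨c, rfl⟩ := Ideal.mem_span_singleton'.mp hs
    by_cases hc : c ∈ maximalIdeal B
    · have : c * t = 0 := by
        have : c * t ∈ maximalIdeal B * I := Ideal.mul_mem_mul hc htI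
        rwa [hI] at this
      rw [this, add_zero] at hj1 ⊢
      rw [← hK3]
      exact ⟨hj1, hκ⟩
    · exfalso
      have hu : IsUnit c := by
        by_contra h
        exact hc ((IsLocalRing.mem_maximalIdeal c).mpr h)
      obtain ⟨d, hd⟩ := hu.exists_left_inv
      apply htn
      have : t = d * (κ + c * t) - d * κ := by
        have : d * (κ + c * t) - d * κ = (d * c) * t := by ring
        rw [this, hd, one_mul]
      rw [this]
      exact Ideal.sub_mem _ (Ideal.mem_sup_left (Ideal.mul_mem_left _ _ hj1))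
        (Ideal.mem_sup_right (Ideal.mul_mem_left _ _ hκ))
  · rw [← hK3]
    exact inf_le_inf_left _ le_sup_left


/-- `B/(J₁ ⊓ J₂)` is the fibre product of `B/J₁` and `B/J₂` over `A` when `J₁ ⊔ J₂ = ker p`. -/
theorem isFibreProd_quot_inf {B A : Art Λ k} (p : B ⟶ A) (J₁ J₂ : Ideal B)
    (h₁ : J₁ ≤ RingHom.ker p.toAlgHom) (h₂ : J₂ ≤ RingHom.ker p.toAlgHom)
    (hsup : J₁ ⊔ J₂ = RingHom.ker p.toAlgHom)
    (hm₁ : J₁ ≤ maximalIdeal B) (hm₂ : J₂ ≤ maximalIdeal B) (hm : J₁ ⊓ J₂ ≤ maximalIdeal B) :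
    IsFibreProd (quotQuot B (J₁ ⊓ J₂) J₁ hm hm₁ inf_le_left) (quotQuot B (J₁ ⊓ J₂) J₂ hm hm₂ inf_le_right)
      (Art.quotFactor hm₁ p h₁) (Art.quotFactor hm₂ p h₂) where
  w := by
    apply Art.hom_ext
    apply AlgHom.ext
    intro z
    obtain ⟨b, rfl⟩ := Art.quotMk_surjective B _ hm z
    rfl
  inj := by
    intro z₁ z₂ e₁ e₂
    obtain ⟨b₁, rfl⟩ := Art.quotMk_surjective B _ hm z₁
    obtain ⟨b₂, rfl⟩ := Art.quotMk_surjective B _ hm z₂
    rw [quotQuot_mk, quotQuot_mk, quotMk_eq_iff] at e₁ e₂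
    rw [quotMk_eq_iff]
    exact ⟨e₁, e₂⟩
  surj := by
    intro z₁ z₂ e
    obtain ⟨b₁, rfl⟩ := Art.quotMk_surjective B _ hm₁ z₁
    obtain ⟨b₂, rfl⟩ := Art.quotMk_surjective B _ hm₂ z₂
    rw [quotFactor_mk, quotFactor_mk] at e
    have : b₁ - b₂ ∈ J₁ ⊔ J₂ := by
      rw [hsup, RingHom.mem_ker, map_sub, sub_eq_zero]; exact e
    obtain ⟨j₁, hj₁, j₂, hj₂, hj⟩ := Submodule.mem_sup.mp this
    refine ⟨Art.quotMk B _ hm (b₁ - j₁), ?_, ?_⟩
    · rw [quotQuot_mk, quotMk_eq_iff]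
      simpa using hj₁
    · rw [quotQuot_mk, quotMk_eq_iff]
      have : b₁ - j₁ - b₂ = j₂ := by
        have : b₁ - j₁ - b₂ = (b₁ - b₂) - j₁ := by ring
        rw [this, ← hj]; ring
      rw [this]; exact hj₂

theorem liftsTo_inf {F : Art Λ k ⥤ Type v} (h1 : S1 F) {B A : Art Λ k} (p : B ⟶ A)
    (hp : IsSemismallExt p) (x : F.obj A) {J₁ J₂ : Ideal B}
    (hL₁ : LiftsTo F p x J₁) (hL₂ : LiftsTo F p x J₂) : LiftsTo F p x (J₁ ⊓ J₂) := by
  obtain ⟨K, hK1, hK2, hK3, hK4⟩ := exists_relative_complement (RingHom.ker p.toAlgHom) J₁ J₂ hp.2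
    hL₁.1 hL₂.1
  have hLK : LiftsTo F p x K := liftsTo_mono p x hK1 hK2 hL₂
  obtain ⟨h₁, hm₁, y₁, hy₁⟩ := hL₁
  obtain ⟨hK, hmK, yK, hyK⟩ := hLK
  have hm : J₁ ⊓ K ≤ maximalIdeal B := le_trans inf_le_left hm₁
  have hfib := isFibreProd_quot_inf p J₁ K h₁ hK hK4 hm₁ hmK hm
  have hsurj : Function.Surjective (Art.quotFactor hmK p hK) := by
    intro a
    obtain ⟨b, rfl⟩ := hp.1 a
    exact ⟨Art.quotMk B _ hmK b, rfl⟩
  obtain ⟨z, hz⟩ := h1 _ _ _ _ hfib hsurj ⟨(y₁, yK), by rw [hy₁, hyK]⟩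
  have hz1 : F.map (quotQuot B (J₁ ⊓ K) J₁ hm hm₁ inf_le_left) z = y₁ :=
    congrArg (fun t => t.1.1) hz
  rw [← hK3]
  refine ⟨le_trans inf_le_left h₁, hm, z, ?_⟩
  have : Art.quotFactor hm p (le_trans inf_le_left h₁) =
      quotQuot B (J₁ ⊓ K) J₁ hm hm₁ inf_le_left ≫ Art.quotFactor hm₁ p h₁ := by
    apply Art.hom_ext
    apply AlgHom.ext
    intro w
    obtain ⟨b, rfl⟩ := Art.quotMk_surjective B _ hm w
    rfl
  rw [this, Functor.map_comp_apply, hz1, hy₁]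

/-- S12729: the set of ideals `J ≤ ker p` to which `x` lifts has a least element. -/
theorem exists_least_liftsTo {F : Art Λ k ⥤ Type v} (h1 : S1 F) {B A : Art Λ k} (p : B ⟶ A)
    (hp : IsSemismallExt p) (x : F.obj A) :
    ∃ J₀ : Ideal B, LiftsTo F p x J₀ ∧ ∀ J : Ideal B, LiftsTo F p x J → J₀ ≤ J := by
  obtain ⟨J₀, hJ₀, hmin⟩ := IsArtinian.set_has_minimal {J : Ideal B | LiftsTo F p x J}
    ⟨_, liftsTo_ker p hp.1 x⟩
  refine ⟨J₀, hJ₀, fun J hJ => ?_⟩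
  have h := liftsTo_inf h1 p hp x hJ₀ hJ
  have : ¬ (J₀ ⊓ J < J₀) := hmin _ h
  have heq : J₀ ⊓ J = J₀ := by
    by_contra hne
    exact this (lt_of_le_of_ne inf_le_left hne)
  rw [← heq]
  exact inf_le_right

end Groth.Agent.Lib.helper19
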