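import Mathlib

set_option autoImplicit false
universe u v
open IsLocalRing

namespace Groth.Agent.Lib.helper19

theorem isArtinianRing_quot_pow_succ {S : Type*} [CommRing S] [IsLocalRing S] [IsNoetherianRing S]
    (e : ℕ) : IsArtinianRing (S ⧸ maximalIdeal S ^ (e + 1)) := by
  have hle : maximalIdeal S ^ (e + 1) ≤ maximalIdeal S := Ideal.pow_le_self (Nat.succ_ne_zero e)
  haveI : Nontrivial (S ⧸ maximalIdeal S ^ (e + 1)) := Ideal.Quotient.nontrivial_iff.2
    (fun h => (maximalIdeal.isMaximal S).ne_top (top_le_iff.1 (h ▸ hle)))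
  haveI : IsLocalRing (S ⧸ maximalIdeal S ^ (e + 1)) :=
    IsLocalRing.of_surjective' (Ideal.Quotient.mk _) Ideal.Quotient.mk_surjective
  rw [isArtinianRing_iff_isNilpotent_maximalIdeal]
  refine ⟨e + 1, ?_⟩
  rw [Ideal.zero_eq_bot, ← le_bot_iff]
  have hmax : maximalIdeal (S ⧸ maximalIdeal S ^ (e + 1)) ≤
      (maximalIdeal S).map (Ideal.Quotient.mk (maximalIdeal S ^ (e + 1))) := by
    intro x hx
    obtain ⟨a, rfl⟩ := Ideal.Quotient.mk_surjective x
    have ha : a ∈ maximalIdeal S := by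
      rw [IsLocalRing.mem_maximalIdeal] at hx ⊢
      exact fun hu => hx (hu.map (Ideal.Quotient.mk _))
    exact Ideal.mem_map_of_mem _ ha
  calc maximalIdeal (S ⧸ maximalIdeal S ^ (e + 1)) ^ (e + 1)
      ≤ ((maximalIdeal S).map (Ideal.Quotient.mk (maximalIdeal S ^ (e + 1)))) ^ (e + 1) :=
        Ideal.pow_right_mono hmax _
    _ = (maximalIdeal S ^ (e + 1)).map (Ideal.Quotient.mk (maximalIdeal S ^ (e + 1))) := by
        rw [← Ideal.map_pow]
    _ = ⊥ := Ideal.map_quotient_self _
    _ ≤ ⊥ := le_rfl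

theorem exists_stable_sup_pow {S : Type*} [CommRing S] [IsLocalRing S] [IsNoetherianRing S]
    (J : ℕ → Ideal S) (hJ : Antitone J) (e : ℕ) :
    ∃ n0, ∀ n, n0 ≤ n → J n ⊔ maximalIdeal S ^ e = J n0 ⊔ maximalIdeal S ^ e := by
  cases e with
  | zero => exact ⟨0, fun n _ => by simp⟩
  | succ e =>
    haveI := isArtinianRing_quot_pow_succ (S := S) e
    set q := Ideal.Quotient.mk (maximalIdeal S ^ (e + 1)) with hq
    have hqs : Function.Surjective q := Ideal.Quotient.mk_surjective
    let f : ℕ →o (Ideal (S ⧸ maximalIdeal S ^ (e + 1)))ᵒᵈ :=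
      ⟨fun n => OrderDual.toDual ((J n).map q), fun a b hab => by
        change (J b).map q ≤ (J a).map q
        exact Ideal.map_mono (hJ hab)⟩
    obtain ⟨n0, hn0⟩ := IsArtinian.monotone_stabilizes f
    refine ⟨n0, fun n hn => ?_⟩
    have h1 : (J n0).map q = (J n).map q := hn0 n hn
    have h2 : ∀ I : Ideal S, I ⊔ maximalIdeal S ^ (e + 1) = ((I.map q).comap q) := by
      intro I
      rw [Ideal.comap_map_of_surjective q hqs, ← RingHom.ker_eq_comap_bot, hq, Ideal.mk_ker]
    rw [h2, h2, h1]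

end Groth.Agent.Lib.helper19

namespace Groth.Agent.Lib.helper19

theorem exists_le_iInf_sup_pow {S : Type*} [CommRing S] [IsLocalRing S] [IsNoetherianRing S]
    [IsAdicComplete (maximalIdeal S) S] (J : ℕ → Ideal S) (hJ : Antitone J)
    (hJm : ∀ n, ∃ N, maximalIdeal S ^ N ≤ J n) (e : ℕ) :
    ∃ n, J n ≤ (⨅ n, J n) ⊔ maximalIdeal S ^ e := by
  have hst := fun e => exists_stable_sup_pow J hJ e
  choose n0 hn0 using hst
  let N : ℕ → ℕ := fun e => Nat.rec (n0 0) (fun e r => max r (n0 (e + 1))) e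
  have hN_succ : ∀ e, N (e + 1) = max (N e) (n0 (e + 1)) := fun e => rfl
  have hN_ge : ∀ e, n0 e ≤ N e := by
    intro e
    cases e with
    | zero => exact le_rfl
    | succ e => rw [hN_succ]; exact le_max_right _ _
  have hN_mono : Monotone N := monotone_nat_of_le_succ (fun e => by rw [hN_succ]; exact le_max_left _ _)
  have hNst : ∀ e n, N e ≤ n → J n ⊔ maximalIdeal S ^ e = J (N e) ⊔ maximalIdeal S ^ e := by
    intro e n hn
    rw [hn0 e n (le_trans (hN_ge e) hn), hn0 e (N e) (hN_ge e)]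
  refine ⟨N e, fun x hx => ?_⟩
  have step : ∀ i (xi : S), xi ∈ J (N (e + i)) →
      ∃ xi' ∈ J (N (e + i + 1)), xi - xi' ∈ maximalIdeal S ^ (e + i) := by
    intro i xi hxi
    have : xi ∈ J (N (e + i + 1)) ⊔ maximalIdeal S ^ (e + i) := by
      rw [hNst (e + i) (N (e + i + 1)) (hN_mono (Nat.le_succ _))]
      exact Ideal.mem_sup_left hxi
    obtain ⟨a, ha, b, hb, hab⟩ := Submodule.mem_sup.mp this
    exact ⟨a, ha, by rw [← hab]; simpa using hb⟩
  let seq : ∀ i, {y : S // y ∈ J (N (e + i))} := fun i =>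
    Nat.rec (motive := fun i => {y : S // y ∈ J (N (e + i))}) ⟨x, hx⟩
      (fun i y => ⟨(step i y.1 y.2).choose, (step i y.1 y.2).choose_spec.1⟩) i
  let f : ℕ → S := fun i => (seq i).1
  have hf0 : f 0 = x := rfl
  have hfmem : ∀ i, f i ∈ J (N (e + i)) := fun i => (seq i).2
  have hfsucc : ∀ i, f i - f (i + 1) ∈ maximalIdeal S ^ (e + i) := fun i =>
    (step i (seq i).1 (seq i).2).choose_spec.2
  have hfc : ∀ a b, a ≤ b → f a - f b ∈ maximalIdeal S ^ (e + a) := by
    intro a b hab
    induction b, hab using Nat.le_induction with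
    | base => simp
    | succ b hab ih =>
      have h1 : f b - f (b + 1) ∈ maximalIdeal S ^ (e + a) :=
        Ideal.pow_le_pow_right (by omega) (hfsucc b)
      have : f a - f (b + 1) = (f a - f b) + (f b - f (b + 1)) := by ring
      rw [this]
      exact Ideal.add_mem _ ih h1
  have hcauchy : ∀ {a b}, a ≤ b → f a ≡ f b [SMOD (maximalIdeal S ^ a • ⊤ : Submodule S S)] := by
    intro a b hab
    rw [SModEq.sub_mem]
    have := Ideal.pow_le_pow_right (Nat.le_add_left a e) (hfc a b hab)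
    simpa using this
  obtain ⟨y, hy⟩ := IsPrecomplete.prec (inferInstance : IsPrecomplete (maximalIdeal S) S) hcauchy
  have hy' : ∀ a, f a - y ∈ maximalIdeal S ^ a := by
    intro a
    have := hy a
    rw [SModEq.sub_mem] at this
    simpa using this
  have hyJ : y ∈ ⨅ n, J n := by
    rw [Ideal.mem_iInf]
    intro n
    obtain ⟨M, hM⟩ := hJm n
    have h1 : f M ∈ J n := by
      have h2 : f M ∈ J (max n (N (e + M))) ⊔ maximalIdeal S ^ (e + M) := by
        rw [hNst (e + M) _ (le_max_right _ _)]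
        exact Ideal.mem_sup_left (hfmem M)
      have h3 : J (max n (N (e + M))) ⊔ maximalIdeal S ^ (e + M) ≤ J n :=
        sup_le (hJ (le_max_left _ _)) (le_trans (Ideal.pow_le_pow_right (by omega)) hM)
      exact h3 h2
    have h4 : f M - y ∈ J n := hM (hy' M)
    have : y = f M - (f M - y) := by ring
    rw [this]
    exact (J n).sub_mem h1 h4
  have hxy : x - y ∈ maximalIdeal S ^ e := by
    have h1 : f 0 - f e ∈ maximalIdeal S ^ e := by simpa using hfc 0 e (Nat.zero_le _)
    have h2 := hy' e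
    have : x - y = (f 0 - f e) + (f e - y) := by rw [hf0]; ring
    rw [this]
    exact Ideal.add_mem _ h1 h2
  have : x = y + (x - y) := by ring
  rw [this]
  exact Ideal.add_mem _ (Ideal.mem_sup_left hyJ) (Ideal.mem_sup_right hxy)

end Groth.Agent.Lib.helper19
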