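import Mathlib
import Groth.Prelude.Def_W4sfdMinVersal
import Groth.Agent.Lib.helper19.ArtQuotS
import Groth.Agent.Lib.helper19.ArtLeast
import Groth.Agent.Lib.helper19.ArtVersal2
import Groth.Agent.Lib.helper19.Chevalley
import Groth.Agent.Lib.helper19.ArtProrep
import Groth.Agent.S12711
import Groth.Agent.S12713

set_option autoImplicit false
universe u v
open CategoryTheory IsLocalRing ArtFun ArtFun.Art

namespace Groth.Agent.Lib.helper19

variable {Λ : Type u} {k : Type u} [CommRing Λ] [Field k] [Algebra Λ k]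
  [IsNoetherianRing Λ] [Module.Finite Λ k]

section Step

variable {S : CRing Λ k} {F : Art Λ k ⥤ Type v}

theorem liftsTo_of_surjective {B A C : Art Λ k} (p : B ⟶ A) (g : B ⟶ C)
    (hg : Function.Surjective g) (g' : C ⟶ A) (hgg' : g ≫ g' = p)
    (x : F.obj A) (z : F.obj C) (hz : F.map g' z = x) :
    LiftsTo F p x (RingHom.ker g.toAlgHom) := by
  have hm := art_ker_le_maximalIdeal g
  have hle : RingHom.ker g.toAlgHom ≤ RingHom.ker p.toAlgHom := by
    intro b hb
    rw [RingHom.mem_ker] at hb ⊢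
    rw [← hgg']
    change g' (g b) = 0
    have : g b = 0 := hb
    rw [this, map_zero]
  refine ⟨hle, hm, ?_⟩
  set e := Art.quotFactor hm g le_rfl with he
  have hbij : Function.Bijective e := by
    constructor
    · intro z₁ z₂ h
      obtain ⟨b₁, rfl⟩ := Art.quotMk_surjective B _ hm z₁
      obtain ⟨b₂, rfl⟩ := Art.quotMk_surjective B _ hm z₂
      rw [quotMk_eq_iff, RingHom.mem_ker, map_sub, sub_eq_zero]
      exact h
    · intro c
      obtain ⟨b, rfl⟩ := hg c
      exact ⟨Art.quotMk B _ hm b, rfl⟩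
  haveI := art_isIso_of_bijective e hbij
  have hfac : Art.quotFactor hm p hle = e ≫ g' := by
    apply Art.hom_ext
    apply AlgHom.ext
    intro w
    obtain ⟨b, rfl⟩ := Art.quotMk_surjective B _ hm w
    change p b = g' (g b)
    rw [← hgg']
    rfl
  refine ⟨F.map (inv e) z, ?_⟩
  rw [hfac, ← Functor.map_comp_apply, IsIso.inv_hom_id_assoc, hz]

theorem exists_next_stage (h1 : S1 F) {A : Art Λ k} (π : HomSet S.carrier S.res A)
    (hπ : Function.Surjective π.1) (ξ : F.obj A) :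
    ∃ (A' : Art Λ k) (π' : HomSet S.carrier S.res A') (_ : Function.Surjective π'.1)
      (f : A' ⟶ A) (ξ' : F.obj A'),
      HomSet.map f π' = π ∧ F.map f ξ' = ξ ∧
      ∀ (C : Art Λ k) (σ : HomSet S.carrier S.res C), Function.Surjective σ.1 →
        ∀ g' : C ⟶ A, HomSet.map g' σ = π →
        maximalIdeal S.carrier * RingHom.ker π.1 ≤ RingHom.ker σ.1 →
        ∀ z : F.obj C, F.map g' z = ξ → ∃ h : A' ⟶ C, HomSet.map h π' = σ := by
  obtain ⟨N, hN⟩ := HomSet.exists_pow_le_ker π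
  have hK := HomSet.ker_le_maximalIdeal π
  set J := maximalIdeal S.carrier * RingHom.ker π.1 with hJdef
  have hJ : J ≤ maximalIdeal S.carrier := Ideal.mul_le_left
  have hJK : J ≤ RingHom.ker π.1 := Ideal.mul_le_right
  have hJN : maximalIdeal S.carrier ^ (N + 1) ≤ J := by
    rw [pow_succ']
    exact Ideal.mul_mono_right hN
  set B := artQuot S J hJ (N + 1) hJN with hB
  set q := artQuotMk S J hJ (N + 1) hJN with hq
  have hqs : Function.Surjective q.1 := artQuotMk_surjective S J hJ (N + 1) hJN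
  have hqker : ∀ s, q.1 s = 0 ↔ s ∈ J := artQuotMk_eq_zero_iff S J hJ (N + 1) hJN
  obtain ⟨p, hp⟩ := HomSet.exists_factor_of_surjective q hqs π (by
    intro s hs
    exact hJK ((hqker s).mp hs))
  have hpq : ∀ s, p (q.1 s) = π.1 s := fun s => DFunLike.congr_fun (congrArg Subtype.val hp) s
  have hps : Function.Surjective p := by
    intro a
    obtain ⟨s, rfl⟩ := hπ a
    exact ⟨q.1 s, hpq s⟩
  have hsemi : IsSemismallExt p := by
    refine ⟨hps, ?_⟩
    rw [eq_bot_iff, Ideal.mul_le]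
    intro b hb c hc
    obtain ⟨s, rfl⟩ := hqs b
    obtain ⟨t, rfl⟩ := hqs c
    have hs : s ∈ maximalIdeal S.carrier := by
      rw [CRing.mem_maximalIdeal_iff]
      rw [Art.mem_maximalIdeal_iff] at hb
      rw [← hb]
      exact (DFunLike.congr_fun q.2 s).symm
    have ht : t ∈ RingHom.ker π.1 := by
      rw [RingHom.mem_ker, ← hpq]
      exact hc
    rw [Ideal.mem_bot, ← map_mul, hqker]
    exact Ideal.mul_mem_mul hs ht
  obtain ⟨J₀, ⟨hJ₀, hJ₀', y, hy⟩, hmin⟩ := exists_least_liftsTo h1 p hsemi ξ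
  refine ⟨Art.quot B J₀ hJ₀', HomSet.map (Art.quotMk B J₀ hJ₀') q, ?_, Art.quotFactor hJ₀' p hJ₀, y,
    ?_, hy, ?_⟩
  · intro w
    obtain ⟨b, rfl⟩ := Art.quotMk_surjective B J₀ hJ₀' w
    obtain ⟨s, rfl⟩ := hqs b
    exact ⟨s, rfl⟩
  · rw [← HomSet.map_comp, Art.quotMk_quotFactor, hp]
  · intro C σ hσ g' hg' hle z hz
    obtain ⟨g, hg⟩ := HomSet.exists_factor_of_surjective q hqs σ (by
      intro s hs
      exact hle ((hqker s).mp hs))
    have hgq : ∀ s, g (q.1 s) = σ.1 s := fun s => DFunLike.congr_fun (congrArg Subtype.val hg) s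
    have hgs : Function.Surjective g := by
      intro c
      obtain ⟨s, rfl⟩ := hσ c
      exact ⟨q.1 s, hgq s⟩
    have hgg' : g ≫ g' = p := by
      apply HomSet.hom_ext_of_surjective q hqs
      rw [HomSet.map_comp, hg, hg', hp]
    have hL := liftsTo_of_surjective p g hgs g' hgg' ξ z hz
    have hle₀ := hmin _ hL
    refine ⟨Art.quotFactor hJ₀' g hle₀, ?_⟩
    rw [← HomSet.map_comp, Art.quotMk_quotFactor, hg]

end Step


section Tower

variable (S : CRing Λ k) (F : Art Λ k ⥤ Type v)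

/-- A stage of the construction: an Artinian quotient of `S` with an element of `F` over it. -/
structure Stage where
  A : Art Λ k
  π : HomSet S.carrier S.res A
  surj : Function.Surjective π.1
  ξ : F.obj A

variable {S F}

/-- `s'` is a minimal next stage after `s`. -/
def Stage.IsNext (s s' : Stage S F) : Prop :=
  ∃ f : s'.A ⟶ s.A, HomSet.map f s'.π = s.π ∧ F.map f s'.ξ = s.ξ ∧
    ∀ (C : Art Λ k) (σ : HomSet S.carrier S.res C), Function.Surjective σ.1 →
      ∀ g' : C ⟶ s.A, HomSet.map g' σ = s.π →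
      maximalIdeal S.carrier * RingHom.ker s.π.1 ≤ RingHom.ker σ.1 →
      ∀ z : F.obj C, F.map g' z = s.ξ → ∃ h : s'.A ⟶ C, HomSet.map h s'.π = σ

theorem Stage.exists_isNext (h1 : S1 F) (s : Stage S F) : ∃ s' : Stage S F, s.IsNext s' := by
  obtain ⟨A', π', hπ', f, ξ', h₁, h₂, h₃⟩ := exists_next_stage h1 s.π s.surj s.ξ
  exact ⟨⟨A', π', hπ', ξ'⟩, f, h₁, h₂, h₃⟩

/-- a chosen next stage -/
noncomputable def Stage.next (h1 : S1 F) (s : Stage S F) : Stage S F := (s.exists_isNext h1).choose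

theorem Stage.isNext_next (h1 : S1 F) (s : Stage S F) : s.IsNext (s.next h1) :=
  (s.exists_isNext h1).choose_spec

/-- the tower of stages -/
noncomputable def tower (h1 : S1 F) (s₀ : Stage S F) : ℕ → Stage S F
  | 0 => s₀
  | n + 1 => (tower h1 s₀ n).next h1

theorem tower_isNext (h1 : S1 F) (s₀ : Stage S F) (n : ℕ) :
    (tower h1 s₀ n).IsNext (tower h1 s₀ (n + 1)) := Stage.isNext_next h1 _

/-- the kernels -/
noncomputable def towerKer (h1 : S1 F) (s₀ : Stage S F) (n : ℕ) : Ideal S.carrier :=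
  RingHom.ker (tower h1 s₀ n).π.1

theorem towerKer_antitone (h1 : S1 F) (s₀ : Stage S F) : Antitone (towerKer h1 s₀) := by
  apply antitone_nat_of_succ_le
  intro n a ha
  obtain ⟨f, hf, -, -⟩ := tower_isNext h1 s₀ n
  rw [towerKer, RingHom.mem_ker] at ha ⊢
  rw [← hf, HomSet.map_apply, ha, map_zero]

/-- transport to a higher level -/
theorem tower_raise (h1 : S1 F) (s₀ : Stage S F) (n d : ℕ) {A : Art Λ k}
    (g : (tower h1 s₀ n).A ⟶ A) :
    ∃ g' : (tower h1 s₀ (n + d)).A ⟶ A,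
      HomSet.map g' (tower h1 s₀ (n + d)).π = HomSet.map g (tower h1 s₀ n).π ∧
      F.map g' (tower h1 s₀ (n + d)).ξ = F.map g (tower h1 s₀ n).ξ := by
  induction d with
  | zero => exact ⟨g, rfl, rfl⟩
  | succ d ih =>
    obtain ⟨g', hg1, hg2⟩ := ih
    obtain ⟨f, hf1, hf2, -⟩ := tower_isNext h1 s₀ (n + d)
    change ∃ g' : (tower h1 s₀ (n + d + 1)).A ⟶ A,
      HomSet.map g' (tower h1 s₀ (n + d + 1)).π = HomSet.map g (tower h1 s₀ n).π ∧
      F.map g' (tower h1 s₀ (n + d + 1)).ξ = F.map g (tower h1 s₀ n).ξ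
    refine ⟨f ≫ g', ?_, ?_⟩
    · rw [HomSet.map_comp, hf1, hg1]
    · rw [Functor.map_comp_apply, hf2, hg2]

theorem tower_level_indep (h1 : S1 F) (s₀ : Stage S F) {A : Art Λ k} (n₁ n₂ : ℕ)
    (g₁ : (tower h1 s₀ n₁).A ⟶ A) (g₂ : (tower h1 s₀ n₂).A ⟶ A)
    (h : HomSet.map g₁ (tower h1 s₀ n₁).π = HomSet.map g₂ (tower h1 s₀ n₂).π) :
    F.map g₁ (tower h1 s₀ n₁).ξ = F.map g₂ (tower h1 s₀ n₂).ξ := by
  wlog hle : n₁ ≤ n₂ generalizing n₁ n₂
  · exact (this n₂ n₁ g₂ g₁ h.symm (le_of_not_ge hle)).symm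
  obtain ⟨d, rfl⟩ := Nat.exists_eq_add_of_le hle
  obtain ⟨g', hg1, hg2⟩ := tower_raise h1 s₀ n₁ d g₁
  have : g' = g₂ := HomSet.hom_ext_of_surjective _ (tower h1 s₀ (n₁ + d)).surj _ _ (hg1.trans h)
  rw [← hg2, this]

/-- the intersection of the kernels -/
noncomputable def towerInf (h1 : S1 F) (s₀ : Stage S F) : Ideal S.carrier := ⨅ n, towerKer h1 s₀ n

theorem towerInf_le (h1 : S1 F) (s₀ : Stage S F) : towerInf h1 s₀ ≤ maximalIdeal S.carrier :=
  le_trans (iInf_le _ 0) (HomSet.ker_le_maximalIdeal _)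

/-- every map killing the intersection factors through some level -/
theorem tower_exists_level (h1 : S1 F) (s₀ : Stage S F) {A : Art Λ k}
    (φ : HomSet S.carrier S.res A) (hφ : towerInf h1 s₀ ≤ RingHom.ker φ.1) :
    ∃ (n : ℕ) (g : (tower h1 s₀ n).A ⟶ A), HomSet.map g (tower h1 s₀ n).π = φ := by
  haveI : IsAdicComplete (maximalIdeal S.carrier) S.carrier := S.isAdicComplete
  obtain ⟨e, he⟩ := HomSet.exists_pow_le_ker φ
  obtain ⟨n, hn⟩ := exists_le_iInf_sup_pow (towerKer h1 s₀) (towerKer_antitone h1 s₀)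
    (fun n => HomSet.exists_pow_le_ker _) e
  have hle : RingHom.ker (tower h1 s₀ n).π.1 ≤ RingHom.ker φ.1 :=
    le_trans hn (sup_le hφ he)
  obtain ⟨g, hg⟩ := HomSet.exists_factor_of_surjective _ (tower h1 s₀ n).surj φ hle
  exact ⟨n, g, hg⟩


/-- the coefficient ring of the tower -/
noncomputable abbrev towerRing (h1 : S1 F) (s₀ : Stage S F) : CRing Λ k :=
  cquot S (towerInf h1 s₀) (towerInf_le h1 s₀)

theorem tower_exists_level' (h1 : S1 F) (s₀ : Stage S F) {A : Art Λ k}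
    (φ : HomSet (towerRing h1 s₀).carrier (towerRing h1 s₀).res A) :
    ∃ (n : ℕ) (g : (tower h1 s₀ n).A ⟶ A),
      HomSet.map g (tower h1 s₀ n).π = HomSet.restrict _ (towerInf_le h1 s₀) φ :=
  tower_exists_level h1 s₀ _ (HomSet.restrict_ker _ _ φ)

/-- the family over the tower ring -/
noncomputable def towerFamily (h1 : S1 F) (s₀ : Stage S F) :
    Family (towerRing h1 s₀).carrier (towerRing h1 s₀).res F where
  app A φ := F.map (tower_exists_level' h1 s₀ φ).choose_spec.choose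
    (tower h1 s₀ (tower_exists_level' h1 s₀ φ).choose).ξ
  natural := by
    intro A B f φ
    have h₁ := (tower_exists_level' h1 s₀ φ).choose_spec.choose_spec
    have h₂ := (tower_exists_level' h1 s₀ (HomSet.map f φ)).choose_spec.choose_spec
    rw [← Functor.map_comp_apply]
    apply tower_level_indep
    rw [h₂, HomSet.map_comp, h₁]
    rfl

theorem towerFamily_app_eq (h1 : S1 F) (s₀ : Stage S F) {A : Art Λ k}
    (φ : HomSet (towerRing h1 s₀).carrier (towerRing h1 s₀).res A) (n : ℕ)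
    (g : (tower h1 s₀ n).A ⟶ A)
    (hg : HomSet.map g (tower h1 s₀ n).π = HomSet.restrict _ (towerInf_le h1 s₀) φ) :
    (towerFamily h1 s₀).app A φ = F.map g (tower h1 s₀ n).ξ := by
  have h₁ := (tower_exists_level' h1 s₀ φ).choose_spec.choose_spec
  change F.map _ _ = _
  apply tower_level_indep
  rw [h₁, hg]

theorem towerInf_le_ker (h1 : S1 F) (s₀ : Stage S F) (n : ℕ) {A : Art Λ k}
    (g : (tower h1 s₀ n).A ⟶ A) :
    towerInf h1 s₀ ≤ RingHom.ker (HomSet.map g (tower h1 s₀ n).π).1 := by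
  intro a ha
  have : a ∈ towerKer h1 s₀ n := (iInf_le (towerKer h1 s₀) n) ha
  rw [towerKer, RingHom.mem_ker] at this
  rw [RingHom.mem_ker, HomSet.map_apply, this, map_zero]

/-- descend a map from a level to the tower ring -/
theorem tower_descend (h1 : S1 F) (s₀ : Stage S F) (n : ℕ) {A : Art Λ k}
    (g : (tower h1 s₀ n).A ⟶ A) :
    ∃ ψ : HomSet (towerRing h1 s₀).carrier (towerRing h1 s₀).res A,
      HomSet.restrict _ (towerInf_le h1 s₀) ψ = HomSet.map g (tower h1 s₀ n).π := by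
  obtain ⟨ψ, hψ⟩ := HomSet.exists_descend _ (towerInf_le h1 s₀) _ (towerInf_le_ker h1 s₀ n g)
  exact ⟨ψ, Subtype.ext hψ⟩

theorem towerFamily_isVersal (h0 : H0 F) (h1 : S1 F) (h2 : Heps F)
    (hS : IsSmoothFunctor (hR S.carrier S.res)) (s₀ : Stage S F)
    (hseed : ∀ t : F.obj (dual Λ k), ∃ τ : s₀.A ⟶ dual Λ k, F.map τ s₀.ξ = t) :
    IsVersal (towerFamily h1 s₀) := by
  rw [isVersal_iff_tangent_surjective_and_exists_lift h0 h1 h2]
  refine ⟨?_, ?_⟩
  · intro t
    obtain ⟨τ, hτ⟩ := hseed t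
    obtain ⟨δ, hδ⟩ := tower_descend h1 s₀ 0 τ
    refine ⟨δ, ?_⟩
    change (towerFamily h1 s₀).app _ δ = t
    rw [towerFamily_app_eq h1 s₀ δ 0 τ hδ.symm]
    exact hτ
  · intro B A μ hμ φ y hy
    obtain ⟨n, g, hg⟩ := tower_exists_level' h1 s₀ φ
    rw [towerFamily_app_eq h1 s₀ φ n g hg] at hy
    obtain ⟨C, p₁, p₂, hC⟩ := exists_isFibreProd g μ hμ.1
    have hp₁ : IsSmallExt p₁ := Groth.Agent.S12711.result hC hμ
    obtain ⟨z, hz⟩ := h1 p₁ p₂ g μ hC hμ.1 ⟨((tower h1 s₀ n).ξ, y), hy.symm⟩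
    have hz1 : F.map p₁ z = (tower h1 s₀ n).ξ := congrArg (fun t => t.1.1) hz
    obtain ⟨σ, hσ⟩ := hS p₁ hp₁.1 (tower h1 s₀ n).π
    have hσ : HomSet.map p₁ σ = (tower h1 s₀ n).π := hσ
    have hw : p₁ ≫ g = p₂ ≫ μ := hC.w
    by_cases hsec : ∃ s : (tower h1 s₀ n).A ⟶ C, s ≫ p₁ = 𝟙 _
    · obtain ⟨s, hs⟩ := hsec
      obtain ⟨ψ, hψ⟩ := tower_descend h1 s₀ n (s ≫ p₂)
      refine ⟨ψ, ?_⟩
      apply HomSet.restrict_injective _ (towerInf_le h1 s₀)
      rw [HomSet.restrict_map, hψ, ← HomSet.map_comp, ← hg, Category.assoc, ← hw,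
        ← Category.assoc, hs, Category.id_comp]
    · have hσs : Function.Surjective σ.1 := by
        obtain ⟨M, σ', hσ'⟩ := HomSet.exists_factor σ
        have hσ'a : ∀ a, σ' (Ideal.Quotient.mk _ a) = σ.1 a := fun a =>
          DFunLike.congr_fun (congrArg Subtype.val hσ') a
        have hcomp : Function.Surjective (σ' ≫ p₁) := by
          intro a
          obtain ⟨s, rfl⟩ := (tower h1 s₀ n).surj a
          refine ⟨Ideal.Quotient.mk _ s, ?_⟩
          change p₁ (σ' (Ideal.Quotient.mk _ s)) = _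
          rw [hσ'a, ← hσ]
          rfl
        have hσ's : Function.Surjective σ' := by
          by_contra hns
          exact hsec ((Groth.Agent.S12713.result p₁ hp₁).mp ⟨_, σ', hcomp, hns⟩)
        intro c
        obtain ⟨w, rfl⟩ := hσ's c
        obtain ⟨a, rfl⟩ := Ideal.Quotient.mk_surjective w
        exact ⟨a, (hσ'a a).symm⟩
      obtain ⟨f, -, -, hmin⟩ := tower_isNext h1 s₀ n
      have hle : maximalIdeal S.carrier * RingHom.ker (tower h1 s₀ n).π.1 ≤ RingHom.ker σ.1 := by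
        rw [Ideal.mul_le]
        intro a ha b hb
        rw [RingHom.mem_ker, map_mul]
        have h3 : σ.1 a ∈ maximalIdeal C :=
          HomSet.map_maximalIdeal_le σ (Ideal.mem_map_of_mem _ ha)
        have h4 : σ.1 b ∈ RingHom.ker p₁.toAlgHom := by
          rw [RingHom.mem_ker]
          have : p₁ (σ.1 b) = (tower h1 s₀ n).π.1 b := by rw [← hσ]; rfl
          exact this.trans hb
        have h5 : σ.1 a * σ.1 b ∈ maximalIdeal C * RingHom.ker p₁.toAlgHom :=
          Ideal.mul_mem_mul h3 h4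
        rw [hp₁.2.2.2] at h5
        exact h5
      obtain ⟨h, hh⟩ := hmin C σ hσs p₁ hσ hle z hz1
      obtain ⟨ψ, hψ⟩ := tower_descend h1 s₀ (n + 1) (h ≫ p₂)
      refine ⟨ψ, ?_⟩
      apply HomSet.restrict_injective _ (towerInf_le h1 s₀)
      rw [HomSet.restrict_map, hψ, ← HomSet.map_comp, ← hg, Category.assoc, ← hw,
        HomSet.map_comp, HomSet.map_comp, hh, hσ]

end Tower

end Groth.Agent.Lib.helper19
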