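import Mathlib
import Groth.Prelude.Def_W4sfdMinVersal
import Groth.Agent.Lib.helper19.ArtGlue
import Groth.Agent.Lib.helper19.ArtCut3
import Groth.Agent.Lib.helper19.ArtFormal
import Groth.Agent.Lib.helper19.ArtProrep
import Groth.Agent.Lib.helper19.ArtDerFin
import Groth.Agent.S12734

set_option autoImplicit false
universe u v
open CategoryTheory IsLocalRing ArtFun ArtFun.Art

namespace Groth.Agent.Lib.helper19

variable {Λ : Type u} {k : Type u} [CommRing Λ] [Field k] [Algebra Λ k]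
  [IsNoetherianRing Λ] [Module.Finite Λ k]

section PushF

variable {R₀ : Type u} [CommRing R₀] [Algebra Λ R₀] (S₁ S₂ : CRing Λ k)
  (f₁ : R₀ →ₐ[Λ] S₁.carrier) (f₂ : R₀ →ₐ[Λ] S₂.carrier)

/-- the functor `h_{S₁} ×_{h_{R₀}} h_{S₂}` -/
def pushF : Art Λ k ⥤ Type u where
  obj A := {p : HomSet S₁.carrier S₁.res A × HomSet S₂.carrier S₂.res A //
    p.1.1.comp f₁ = p.2.1.comp f₂}
  map {A B} g := ↾fun p => ⟨(HomSet.map g p.1.1, HomSet.map g p.1.2), by
    change (g.toAlgHom.comp p.1.1.1).comp f₁ = (g.toAlgHom.comp p.1.2.1).comp f₂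
    rw [AlgHom.comp_assoc, AlgHom.comp_assoc, p.2]⟩
  map_id A := ConcreteCategory.hom_ext _ _ fun p => Subtype.ext (Prod.ext
    (Subtype.ext (AlgHom.ext fun _ => rfl)) (Subtype.ext (AlgHom.ext fun _ => rfl)))
  map_comp f g := ConcreteCategory.hom_ext _ _ fun p => Subtype.ext (Prod.ext
    (Subtype.ext (AlgHom.ext fun _ => rfl)) (Subtype.ext (AlgHom.ext fun _ => rfl)))

variable {S₁ S₂ f₁ f₂}

theorem pushF_ext {A : Art Λ k} {x y : (pushF S₁ S₂ f₁ f₂).obj A} (h1 : x.1.1 = y.1.1)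
    (h2 : x.1.2 = y.1.2) : x = y := Subtype.ext (Prod.ext h1 h2)

theorem pushF_map_fst {A B : Art Λ k} (g : A ⟶ B) (x : (pushF S₁ S₂ f₁ f₂).obj A) :
    ((pushF S₁ S₂ f₁ f₂).map g x).1.1 = HomSet.map g x.1.1 := rfl

theorem pushF_map_snd {A B : Art Λ k} (g : A ⟶ B) (x : (pushF S₁ S₂ f₁ f₂).obj A) :
    ((pushF S₁ S₂ f₁ f₂).map g x).1.2 = HomSet.map g x.1.2 := rfl

variable (S₁ S₂ f₁ f₂)

theorem pushF_h0 (h12 : S₁.res.comp f₁ = S₂.res.comp f₂) : H0 (pushF S₁ S₂ f₁ f₂) := by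
  refine ⟨⟨⟨(⟨S₁.res, AlgHom.id_comp _⟩, ⟨S₂.res, AlgHom.id_comp _⟩), h12⟩⟩, ⟨fun x y => ?_⟩⟩
  exact pushF_ext (HomSet.base_subsingleton _ _) (HomSet.base_subsingleton _ _)

theorem hR_isLeftExact (S : CRing Λ k) : IsLeftExact (hR S.carrier S.res) :=
  isLeftExact_of_isUniversal (Family.self S.carrier S.res) (fun _ => Function.bijective_id)

theorem pushF_isLeftExact : IsLeftExact (pushF S₁ S₂ f₁ f₂) := by
  intro B A A' A'' p' p'' f' f'' h
  have hL₁ := hR_isLeftExact S₁ p' p'' f' f'' h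
  have hL₂ := hR_isLeftExact S₂ p' p'' f' f'' h
  constructor
  · intro z₁ z₂ hz
    have e1 : (pushF S₁ S₂ f₁ f₂).map p' z₁ = (pushF S₁ S₂ f₁ f₂).map p' z₂ :=
      congrArg (fun t => t.1.1) hz
    have e2 : (pushF S₁ S₂ f₁ f₂).map p'' z₁ = (pushF S₁ S₂ f₁ f₂).map p'' z₂ :=
      congrArg (fun t => t.1.2) hz
    apply pushF_ext
    · apply hL₁.1
      apply FibProd.ext
      · exact congrArg (fun t => t.1.1) e1
      · exact congrArg (fun t => t.1.1) e2
    · apply hL₂.1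
      apply FibProd.ext
      · exact congrArg (fun t => t.1.2) e1
      · exact congrArg (fun t => t.1.2) e2
  · rintro ⟨⟨x', x''⟩, hx⟩
    have hx' : (pushF S₁ S₂ f₁ f₂).map f' x' = (pushF S₁ S₂ f₁ f₂).map f'' x'' := hx
    obtain ⟨y₁, hy₁⟩ := hL₁.2 ⟨(x'.1.1, x''.1.1), congrArg (fun t => t.1.1) hx'⟩
    obtain ⟨y₂, hy₂⟩ := hL₂.2 ⟨(x'.1.2, x''.1.2), congrArg (fun t => t.1.2) hx'⟩
    have hy₁' : HomSet.map p' y₁ = x'.1.1 := congrArg (fun t => t.1.1) hy₁
    have hy₁'' : HomSet.map p'' y₁ = x''.1.1 := congrArg (fun t => t.1.2) hy₁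
    have hy₂' : HomSet.map p' y₂ = x'.1.2 := congrArg (fun t => t.1.1) hy₂
    have hy₂'' : HomSet.map p'' y₂ = x''.1.2 := congrArg (fun t => t.1.2) hy₂
    have hcond : y₁.1.comp f₁ = y₂.1.comp f₂ := by
      apply AlgHom.ext
      intro r
      apply h.inj
      · have a1 := congrArg (fun t => t.1 (f₁ r)) hy₁'
        have a2 := congrArg (fun t => t.1 (f₂ r)) hy₂'
        have a3 := DFunLike.congr_fun x'.2 r
        exact a1.trans (a3.trans a2.symm)
      · have a1 := congrArg (fun t => t.1 (f₁ r)) hy₁''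
        have a2 := congrArg (fun t => t.1 (f₂ r)) hy₂''
        have a3 := DFunLike.congr_fun x''.2 r
        exact a1.trans (a3.trans a2.symm)
    refine ⟨⟨(y₁, y₂), hcond⟩, ?_⟩
    apply FibProd.ext
    · exact pushF_ext hy₁' hy₂'
    · exact pushF_ext hy₁'' hy₂''


section Tangent

variable [Algebra S₁.carrier k] [IsScalarTower Λ S₁.carrier k]
  (h₁ : ∀ a, algebraMap S₁.carrier k a = S₁.res a)
  [Algebra S₂.carrier k] [IsScalarTower Λ S₂.carrier k]
  (h₂ : ∀ a, algebraMap S₂.carrier k a = S₂.res a)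
  (h12 : S₁.res.comp f₁ = S₂.res.comp f₂)

/-- the tangent space as a subspace of pairs of derivations -/
def pushTan : Submodule k (Derivation Λ S₁.carrier k × Derivation Λ S₂.carrier k) where
  carrier := {p | ∀ r, p.1 (f₁ r) = p.2 (f₂ r)}
  add_mem' := fun {p q} hp hq r => by
    change p.1 (f₁ r) + q.1 (f₁ r) = p.2 (f₂ r) + q.2 (f₂ r)
    rw [hp r, hq r]
  zero_mem' := fun r => rfl
  smul_mem' := fun c p hp r => by
    change c • p.1 (f₁ r) = c • p.2 (f₂ r)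
    rw [hp r]

theorem homSetToDeriv_derivToHomSet' (S : CRing Λ k) [Algebra S.carrier k]
    [IsScalarTower Λ S.carrier k] (h : ∀ a, algebraMap S.carrier k a = S.res a)
    (D : Derivation Λ S.carrier k) : homSetToDeriv S h (derivToHomSet S h D) = D := by
  ext a
  exact derivToHomSet_snd S h D a

/-- the identification of `F(k[ε])` with pairs of compatible derivations -/
noncomputable def pushTanEquiv : (pushF S₁ S₂ f₁ f₂).obj (dual Λ k) ≃ pushTan S₁ S₂ f₁ f₂ where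
  toFun z := ⟨(homSetToDeriv S₁ h₁ z.1.1, homSetToDeriv S₂ h₂ z.1.2), fun r => by
    have := DFunLike.congr_fun z.2 r
    exact congrArg TrivSqZeroExt.snd this⟩
  invFun v := ⟨(derivToHomSet S₁ h₁ v.1.1, derivToHomSet S₂ h₂ v.1.2), by
    apply AlgHom.ext
    intro r
    apply TrivSqZeroExt.ext
    · change TrivSqZeroExt.fst ((derivToHomSet S₁ h₁ v.1.1).1 (f₁ r)) =
        TrivSqZeroExt.fst ((derivToHomSet S₂ h₂ v.1.2).1 (f₂ r))
      rw [derivToHomSet_fst, derivToHomSet_fst]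
      exact DFunLike.congr_fun h12 r
    · change TrivSqZeroExt.snd ((derivToHomSet S₁ h₁ v.1.1).1 (f₁ r)) =
        TrivSqZeroExt.snd ((derivToHomSet S₂ h₂ v.1.2).1 (f₂ r))
      rw [derivToHomSet_snd, derivToHomSet_snd]
      exact v.2 r⟩
  left_inv z := pushF_ext (derivToHomSet_homSetToDeriv S₁ h₁ _) (derivToHomSet_homSetToDeriv S₂ h₂ _)
  right_inv v := Subtype.ext (Prod.ext (homSetToDeriv_derivToHomSet' S₁ h₁ _)
    (homSetToDeriv_derivToHomSet' S₂ h₂ _))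


theorem pushTanEquiv_symm_fst (v : pushTan S₁ S₂ f₁ f₂) :
    ((pushTanEquiv S₁ S₂ f₁ f₂ h₁ h₂ h12).symm v).1.1 = derivToHomSet S₁ h₁ v.1.1 := rfl

theorem pushTanEquiv_symm_snd (v : pushTan S₁ S₂ f₁ f₂) :
    ((pushTanEquiv S₁ S₂ f₁ f₂ h₁ h₂ h12).symm v).1.2 = derivToHomSet S₂ h₂ v.1.2 := rfl

theorem pushTanEquiv_fst (z : (pushF S₁ S₂ f₁ f₂).obj (dual Λ k)) :
    ((pushTanEquiv S₁ S₂ f₁ f₂ h₁ h₂ h12) z).1.1 = homSetToDeriv S₁ h₁ z.1.1 := rfl

theorem pushTanEquiv_snd (z : (pushF S₁ S₂ f₁ f₂).obj (dual Λ k)) :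
    ((pushTanEquiv S₁ S₂ f₁ f₂ h₁ h₂ h12) z).1.2 = homSetToDeriv S₂ h₂ z.1.2 := rfl

/-- `plus` on `h_S(k[ε₁,ε₂])` in terms of derivations -/
theorem map_plus_eq (S : CRing Λ k) [Algebra S.carrier k]
    [IsScalarTower Λ S.carrier k] (h : ∀ a, algebraMap S.carrier k a = S.res a)
    (χ : HomSet S.carrier S.res (dual2 Λ k)) :
    HomSet.map plus χ = derivToHomSet S h (homSetToDeriv S h (HomSet.map pr₁ χ) +
      homSetToDeriv S h (HomSet.map pr₂ χ)) := by
  obtain ⟨χ', h1, h2, h3⟩ := exists_dual2_lift S h (homSetToDeriv S h (HomSet.map pr₁ χ))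
    (homSetToDeriv S h (HomSet.map pr₂ χ))
  rw [derivToHomSet_homSetToDeriv] at h1 h2
  have : χ' = χ := IsFibreProd.homSet_ext isFibreProd_dual2 χ' χ h1 h2
  rw [← h3, this]

/-- the tangent structure of the push functor -/
@[reducible] noncomputable def pushTangentStr : TangentStr (pushF S₁ S₂ f₁ f₂) :=
  letI e := pushTanEquiv S₁ S₂ f₁ f₂ h₁ h₂ h12
  letI acg : AddCommGroup ((pushF S₁ S₂ f₁ f₂).obj (dual Λ k)) := e.addCommGroup
  letI mod : Module k ((pushF S₁ S₂ f₁ f₂).obj (dual Λ k)) := e.module k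
  { addCommGroup := acg
    module := mod
    smul_eq := fun c x => by
      change e.symm (c • e x) = _
      apply pushF_ext
      · rw [pushF_map_fst]
        change derivToHomSet S₁ h₁ (c • homSetToDeriv S₁ h₁ x.1.1) = _
        rw [← map_scale_derivToHomSet, derivToHomSet_homSetToDeriv]
      · rw [pushF_map_snd]
        change derivToHomSet S₂ h₂ (c • homSetToDeriv S₂ h₂ x.1.2) = _
        rw [← map_scale_derivToHomSet, derivToHomSet_homSetToDeriv]
    add_eq := fun z => by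
      change e.symm (e _ + e _) = _
      apply pushF_ext
      · rw [pushF_map_fst, map_plus_eq S₁ h₁]
        rfl
      · rw [pushF_map_snd, map_plus_eq S₂ h₂]
        rfl }


theorem pushF_hfin :
    @Hfin Λ k _ _ _ (pushF S₁ S₂ f₁ f₂) (pushTangentStr S₁ S₂ f₁ f₂ h₁ h₂ h12) := by
  letI T := pushTangentStr S₁ S₂ f₁ f₂ h₁ h₂ h12
  let e := pushTanEquiv S₁ S₂ f₁ f₂ h₁ h₂ h12
  haveI : IsAdicComplete (maximalIdeal S₁.carrier) S₁.carrier := S₁.isAdicComplete
  haveI : IsAdicComplete (maximalIdeal S₂.carrier) S₂.carrier := S₂.isAdicComplete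
  have hs₁ : Function.Surjective (algebraMap S₁.carrier k) := by
    intro c
    obtain ⟨a, ha⟩ := S₁.res_surjective c
    exact ⟨a, by rw [h₁, ha]⟩
  have hs₂ : Function.Surjective (algebraMap S₂.carrier k) := by
    intro c
    obtain ⟨a, ha⟩ := S₂.res_surjective c
    exact ⟨a, by rw [h₂, ha]⟩
  haveI : Module.Finite k (Derivation Λ S₁.carrier k) :=
    finite_derivation_residueField S₁.carrier hs₁
  haveI : Module.Finite k (Derivation Λ S₂.carrier k) :=
    finite_derivation_residueField S₂.carrier hs₂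
  haveI : Module.Finite k (pushTan S₁ S₂ f₁ f₂) := inferInstance
  letI acg : AddCommGroup ((pushF S₁ S₂ f₁ f₂).obj (dual Λ k)) := e.addCommGroup
  letI mod : Module k ((pushF S₁ S₂ f₁ f₂).obj (dual Λ k)) := e.module k
  exact Module.Finite.equiv (Equiv.linearEquiv k e).symm

end Tangent


end PushF

section Ext

/-- algebra maps into a coefficient ring are determined by their truncations -/
theorem CRing.algHom_ext_trunc {X : Type u} [CommRing X] [Algebra Λ X] (T : CRing Λ k)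
    (g g' : X →ₐ[Λ] T.carrier)
    (h : ∀ n, (T.truncHom n).1.comp g = (T.truncHom n).1.comp g') : g = g' := by
  haveI : IsAdicComplete (maximalIdeal T.carrier) T.carrier := T.isAdicComplete
  apply AlgHom.ext
  intro x
  rw [← sub_eq_zero]
  apply IsHausdorff.haus (I := maximalIdeal T.carrier) inferInstance
  intro n
  rw [SModEq.zero, smul_eq_mul, Ideal.mul_top]
  have h1 : maximalIdeal T.carrier ^ (n + 1) ≤ maximalIdeal T.carrier ^ n :=
    Ideal.pow_le_pow_right n.le_succ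
  apply h1
  have := DFunLike.congr_fun (h n) x
  exact Ideal.Quotient.eq.mp this

end Ext

section PushOut

variable {R₀ : Type u} [CommRing R₀] [Algebra Λ R₀] (S₁ S₂ : CRing Λ k)
  (f₁ : R₀ →ₐ[Λ] S₁.carrier) (f₂ : R₀ →ₐ[Λ] S₂.carrier)

/-- from a universal family of the push functor to the pushout in the category of coefficient rings -/
theorem exists_pushout_of_isUniversal (P : CRing Λ k)
    (ξ : Family P.carrier P.res (pushF S₁ S₂ f₁ f₂)) (hξ : IsUniversal ξ) :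
    ∃ (i₁ : S₁.carrier →ₐ[Λ] P.carrier) (i₂ : S₂.carrier →ₐ[Λ] P.carrier),
      P.res.comp i₁ = S₁.res ∧ P.res.comp i₂ = S₂.res ∧ i₁.comp f₁ = i₂.comp f₂ ∧
      ∀ (T : CRing Λ k) (g₁ : S₁.carrier →ₐ[Λ] T.carrier) (g₂ : S₂.carrier →ₐ[Λ] T.carrier),
        T.res.comp g₁ = S₁.res → T.res.comp g₂ = S₂.res → g₁.comp f₁ = g₂.comp f₂ →
          ∃! h : P.carrier →ₐ[Λ] T.carrier, T.res.comp h = P.res ∧ h.comp i₁ = g₁ ∧ h.comp i₂ = g₂ := by
  set η := ξ.toFormalElt with hη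
  have hηelt : ∀ n, η.elt n = ξ.app _ (P.truncHom n) := fun n => rfl
  obtain ⟨i₁, hi₁res, hi₁⟩ := exists_algHom_of_compatible P (fun n => (η.elt n).1.1)
    (fun n => by
      have := η.compat n
      exact congrArg (fun t => t.1.1) this)
  obtain ⟨i₂, hi₂res, hi₂⟩ := exists_algHom_of_compatible P (fun n => (η.elt n).1.2)
    (fun n => by
      have := η.compat n
      exact congrArg (fun t => t.1.2) this)
  have hi12 : i₁.comp f₁ = i₂.comp f₂ := by
    apply CRing.algHom_ext_trunc P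
    intro n
    rw [← AlgHom.comp_assoc, ← AlgHom.comp_assoc, hi₁ n, hi₂ n]
    exact (η.elt n).2
  -- key: the universal family is composition with `i₁, i₂`
  have key₁ : ∀ (B : Art Λ k) (φ : HomSet P.carrier P.res B), (ξ.app B φ).1.1.1 = φ.1.comp i₁ := by
    intro B φ
    obtain ⟨n, ψ', rfl⟩ := HomSet.exists_factor φ
    rw [ξ.natural, pushF_map_fst]
    change ψ'.toAlgHom.comp ((η.elt n).1.1).1 = (ψ'.toAlgHom.comp (P.truncHom n).1).comp i₁
    rw [AlgHom.comp_assoc, hi₁ n]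
  have key₂ : ∀ (B : Art Λ k) (φ : HomSet P.carrier P.res B), (ξ.app B φ).1.2.1 = φ.1.comp i₂ := by
    intro B φ
    obtain ⟨n, ψ', rfl⟩ := HomSet.exists_factor φ
    rw [ξ.natural, pushF_map_snd]
    change ψ'.toAlgHom.comp ((η.elt n).1.2).1 = (ψ'.toAlgHom.comp (P.truncHom n).1).comp i₂
    rw [AlgHom.comp_assoc, hi₂ n]
  refine ⟨i₁, i₂, hi₁res, hi₂res, hi12, ?_⟩
  intro T g₁ g₂ hg₁ hg₂ hg12
  -- the truncated data
  let z : ∀ n, (pushF S₁ S₂ f₁ f₂).obj (T.trunc n) := fun n =>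
    ⟨(⟨(T.truncHom n).1.comp g₁, by rw [← AlgHom.comp_assoc, (T.truncHom n).2, hg₁]⟩,
      ⟨(T.truncHom n).1.comp g₂, by rw [← AlgHom.comp_assoc, (T.truncHom n).2, hg₂]⟩), by
      change ((T.truncHom n).1.comp g₁).comp f₁ = ((T.truncHom n).1.comp g₂).comp f₂
      rw [AlgHom.comp_assoc, AlgHom.comp_assoc, hg12]⟩
  have hzc : ∀ n, (pushF S₁ S₂ f₁ f₂).map (T.truncMap n) (z (n + 1)) = z n := by
    intro n
    have ht := congrArg Subtype.val (T.truncMap_truncHom n)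
    change (T.truncMap n).toAlgHom.comp (T.truncHom (n + 1)).1 = (T.truncHom n).1 at ht
    apply pushF_ext
    · apply Subtype.ext
      change (T.truncMap n).toAlgHom.comp ((T.truncHom (n + 1)).1.comp g₁) = (T.truncHom n).1.comp g₁
      rw [← AlgHom.comp_assoc, ht]
    · apply Subtype.ext
      change (T.truncMap n).toAlgHom.comp ((T.truncHom (n + 1)).1.comp g₂) = (T.truncHom n).1.comp g₂
      rw [← AlgHom.comp_assoc, ht]
  choose φ hφ using fun n => (hξ (T.trunc n)).2 (z n)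
  have hφc : ∀ n, HomSet.map (T.truncMap n) (φ (n + 1)) = φ n := by
    intro n
    apply (hξ (T.trunc n)).1
    rw [ξ.natural, hφ, hφ, hzc]
  obtain ⟨h, hres, hh⟩ := exists_algHom_of_compatible T φ hφc
  refine ⟨h, ⟨hres, ?_, ?_⟩, ?_⟩
  · apply CRing.algHom_ext_trunc T
    intro n
    rw [← AlgHom.comp_assoc, hh n, ← key₁, hφ]
  · apply CRing.algHom_ext_trunc T
    intro n
    rw [← AlgHom.comp_assoc, hh n, ← key₂, hφ]
  · rintro h' ⟨hres', h1', h2'⟩
    apply CRing.algHom_ext_trunc T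
    intro n
    rw [hh n]
    let φ' : HomSet P.carrier P.res (T.trunc n) :=
      ⟨(T.truncHom n).1.comp h', by rw [← AlgHom.comp_assoc, (T.truncHom n).2, hres']⟩
    have : φ' = φ n := by
      apply (hξ (T.trunc n)).1
      rw [hφ]
      apply pushF_ext
      · apply Subtype.ext
        rw [key₁]
        change ((T.truncHom n).1.comp h').comp i₁ = (T.truncHom n).1.comp g₁
        rw [AlgHom.comp_assoc, h1']
      · apply Subtype.ext
        rw [key₂]
        change ((T.truncHom n).1.comp h').comp i₂ = (T.truncHom n).1.comp g₂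
        rw [AlgHom.comp_assoc, h2']
    exact congrArg Subtype.val this

end PushOut

section Rep

variable {R₀ : Type u} [CommRing R₀] [Algebra Λ R₀] (S₁ S₂ : CRing Λ k)
  (f₁ : R₀ →ₐ[Λ] S₁.carrier) (f₂ : R₀ →ₐ[Λ] S₂.carrier)

theorem pushF_isProrepresentable (h12 : S₁.res.comp f₁ = S₂.res.comp f₂) :
    IsProrepresentable (pushF S₁ S₂ f₁ f₂) := by
  letI : Algebra S₁.carrier k := S₁.res.toRingHom.toAlgebra
  haveI : IsScalarTower Λ S₁.carrier k :=
    IsScalarTower.of_algebraMap_eq (fun r => (S₁.res.commutes r).symm)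
  have h₁ : ∀ a, algebraMap S₁.carrier k a = S₁.res a := fun a => rfl
  letI : Algebra S₂.carrier k := S₂.res.toRingHom.toAlgebra
  haveI : IsScalarTower Λ S₂.carrier k :=
    IsScalarTower.of_algebraMap_eq (fun r => (S₂.res.commutes r).symm)
  have h₂ : ∀ a, algebraMap S₂.carrier k a = S₂.res a := fun a => rfl
  letI T := pushTangentStr S₁ S₂ f₁ f₂ h₁ h₂ h12
  rw [Groth.Agent.S12734.result]
  refine ⟨⟨pushF_h0 S₁ S₂ f₁ f₂ h12, fun B A A' A'' p' p'' f' f'' h _ =>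
    pushF_isLeftExact S₁ S₂ f₁ f₂ p' p'' f' f'' h⟩, pushF_hfin S₁ S₂ f₁ f₂ h₁ h₂ h12, ?_⟩
  intro x₀ σ₁ σ₂ hσ
  have hσ' : (pushF S₁ S₂ f₁ f₂).map σ₁ x₀ = (pushF S₁ S₂ f₁ f₂).map σ₂ x₀ := hσ
  have hmap : HomSet.map σ₁ x₀.1.1 = HomSet.map σ₂ x₀.1.1 := congrArg (fun t => t.1.1) hσ'
  have hφ₀ : ∀ a, x₀.1.1.1 a = S₁.res a := fun a => DFunLike.congr_fun x₀.1.1.2 a
  apply ArtFun.Art.hom_ext
  apply AlgHom.ext
  intro c
  obtain ⟨a, rfl⟩ := S₁.res_surjective c
  have := DFunLike.congr_fun (congrArg Subtype.val hmap) a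
  change σ₁ (x₀.1.1.1 a) = σ₂ (x₀.1.1.1 a) at this
  rw [hφ₀] at this
  exact this

theorem exists_pushout (h12 : S₁.res.comp f₁ = S₂.res.comp f₂) :
    ∃ (P : CRing Λ k) (i₁ : S₁.carrier →ₐ[Λ] P.carrier) (i₂ : S₂.carrier →ₐ[Λ] P.carrier),
      P.res.comp i₁ = S₁.res ∧ P.res.comp i₂ = S₂.res ∧ i₁.comp f₁ = i₂.comp f₂ ∧
      ∀ (T : CRing Λ k) (g₁ : S₁.carrier →ₐ[Λ] T.carrier) (g₂ : S₂.carrier →ₐ[Λ] T.carrier),
        T.res.comp g₁ = S₁.res → T.res.comp g₂ = S₂.res → g₁.comp f₁ = g₂.comp f₂ →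
          ∃! h : P.carrier →ₐ[Λ] T.carrier, T.res.comp h = P.res ∧ h.comp i₁ = g₁ ∧ h.comp i₂ = g₂ := by
  obtain ⟨⟨P, ξ, hξ⟩⟩ := pushF_isProrepresentable S₁ S₂ f₁ f₂ h12
  obtain ⟨i₁, i₂, h⟩ := exists_pushout_of_isUniversal S₁ S₂ f₁ f₂ P ξ hξ
  exact ⟨P, i₁, i₂, h⟩

end Rep

section Dummy

end Dummy


end Groth.Agent.Lib.helper19
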