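import Mathlib
import Groth.Prelude.Def_W4sfdMinVersal
import Groth.Agent.Lib.helper19.PSCRing
import Groth.Agent.Lib.helper19.ArtFormal
import Groth.Agent.Lib.helper19.ArtMinVersal
import Groth.Agent.Lib.helper19.CRingPush

set_option autoImplicit false
universe u v
open IsLocalRing MvPowerSeries ArtFun ArtFun.Art CategoryTheory

namespace Groth.Agent.Lib.helper19

variable {Λ : Type u} {k : Type u} [CommRing Λ] [Field k] [Algebra Λ k]

section UP

variable (R : CRing Λ k) (n : ℕ)

/-- notation: the power series ring -/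
abbrev PS : Type u := MvPowerSeries (Fin n) R.carrier

/-- its augmentation -/
noncomputable abbrev PSres : PS R n →ₐ[Λ] k := SmoothBase.ρP (r := n) R.res

theorem PSres_X (i : Fin n) : PSres R n (X i) = 0 := by
  rw [SmoothBase.ρP_apply, constantCoeff_X, map_zero]

theorem PSres_C (r : R.carrier) : PSres R n (C r) = R.res r := by
  rw [SmoothBase.ρP_apply, constantCoeff_C]

variable {R n}

/-- uniqueness of augmented maps from a power series ring to an Artinian ring -/
theorem PS.homSet_ext {B : Art Λ k} (χ₁ χ₂ : HomSet (PS R n) (PSres R n) B)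
    (hC : ∀ r, χ₁.1 (C r) = χ₂.1 (C r)) (hX : ∀ i, χ₁.1 (X i) = χ₂.1 (X i)) : χ₁ = χ₂ := by
  obtain ⟨N, hN⟩ := art_maximalIdeal_nilpotent B
  have hm : ∀ (χ : HomSet (PS R n) (PSres R n) B) i, χ.1 (X i) ∈ maximalIdeal B := by
    intro χ i
    rw [Art.mem_maximalIdeal_iff]
    have : B.res (χ.1 (X i)) = PSres R n (X i) := DFunLike.congr_fun χ.2 (X i)
    rw [this, PSres_X]
  have key : (χ₁.1 : PS R n →+* B) = (χ₂.1 : PS R n →+* B) :=
    ps_ringHom_ext _ _ N
      (ps_ringHom_vanish (χ₁.1 : PS R n →+* B) (maximalIdeal B) (hm χ₁) N hN)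
      (ps_ringHom_vanish (χ₂.1 : PS R n →+* B) (maximalIdeal B) (hm χ₂) N hN) hC hX
  apply Subtype.ext
  apply AlgHom.ext
  intro p
  exact DFunLike.congr_fun key p

/-- existence of augmented maps from a power series ring to an Artinian ring -/
theorem PS.exists_homSet {B : Art Λ k} (y : HomSet R.carrier R.res B) (b : Fin n → B)
    (hb : ∀ i, b i ∈ maximalIdeal B) :
    ∃ χ : HomSet (PS R n) (PSres R n) B, (∀ r, χ.1 (C r) = y.1 r) ∧ ∀ i, χ.1 (X i) = b i := by
  obtain ⟨N, hN⟩ := art_maximalIdeal_nilpotent B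
  have hspan : Ideal.span (Set.range b) ^ N = ⊥ := by
    rw [eq_bot_iff, ← hN]
    apply Ideal.pow_right_mono
    rw [Ideal.span_le]
    rintro _ ⟨i, rfl⟩
    exact hb i
  obtain ⟨χ, hχC, hχX⟩ := SmoothBase.exists_ringHom_of_nilpotent (y.1 : R.carrier →+* B) b N hspan
  let χa : PS R n →ₐ[Λ] B :=
    { χ with
      commutes' := fun l => by
        change χ (algebraMap Λ (PS R n) l) = algebraMap Λ B l
        rw [MvPowerSeries.algebraMap_apply, hχC]
        exact y.1.commutes l }
  have hχa : ∀ p, χa p = χ p := fun p => rfl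
  have haug : B.res.comp χa = PSres R n := by
    have key : ((B.res.comp χa : PS R n →ₐ[Λ] k) : PS R n →+* k) = (PSres R n : PS R n →+* k) := by
      apply ps_ringHom_ext _ _ 1
      · intro p hp
        rw [pow_one] at hp
        refine Submodule.span_induction (p := fun p _ => B.res (χa p) = 0) ?_ ?_ ?_ ?_ hp
        · rintro _ ⟨i, rfl⟩
          rw [hχa, hχX, ← Art.mem_maximalIdeal_iff]
          exact hb i
        · rw [map_zero, map_zero]
        · intro u v _ _ hu hv
          rw [map_add, map_add, hu, hv, add_zero]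
        · intro c u _ hu
          rw [smul_eq_mul, map_mul, map_mul, hu, mul_zero]
      · intro p hp
        rw [pow_one] at hp
        refine Submodule.span_induction (p := fun p _ => PSres R n p = 0) ?_ ?_ ?_ ?_ hp
        · rintro _ ⟨i, rfl⟩
          exact PSres_X R n i
        · rw [map_zero]
        · intro u v _ _ hu hv
          rw [map_add, hu, hv, add_zero]
        · intro c u _ hu
          rw [smul_eq_mul, map_mul, hu, mul_zero]
      · intro r
        change B.res (χa (C r)) = PSres R n (C r)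
        rw [hχa, hχC, PSres_C]
        exact DFunLike.congr_fun y.2 r
      · intro i
        change B.res (χa (X i)) = PSres R n (X i)
        rw [hχa, hχX, PSres_X, ← Art.mem_maximalIdeal_iff]
        exact hb i
    apply AlgHom.ext
    intro p
    exact DFunLike.congr_fun key p
  exact ⟨⟨χa, haug⟩, hχC, hχX⟩


theorem CRing.ext_trunc (S : CRing Λ k) (x y : S.carrier)
    (h : ∀ m, (S.truncHom m).1 x = (S.truncHom m).1 y) : x = y := by
  haveI : IsAdicComplete (maximalIdeal S.carrier) S.carrier := S.isAdicComplete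
  rw [← sub_eq_zero]
  apply IsHausdorff.haus (I := maximalIdeal S.carrier) inferInstance
  intro m
  rw [SModEq.zero, smul_eq_mul, Ideal.mul_top]
  have h1 : maximalIdeal S.carrier ^ (m + 1) ≤ maximalIdeal S.carrier ^ m :=
    Ideal.pow_le_pow_right m.le_succ
  apply h1
  exact Ideal.Quotient.eq.mp (h m)

theorem CRing.truncHom_mem_maximalIdeal (S : CRing Λ k) (m : ℕ) (x : S.carrier)
    (hx : x ∈ maximalIdeal S.carrier) : (S.truncHom m).1 x ∈ maximalIdeal (S.trunc m) := by
  rw [Art.mem_maximalIdeal_iff]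
  have : (S.trunc m).res ((S.truncHom m).1 x) = S.res x := DFunLike.congr_fun (S.truncHom m).2 x
  rw [this, ← CRing.mem_maximalIdeal_iff]
  exact hx

theorem CRing.truncMap_truncHom_apply (S : CRing Λ k) (m : ℕ) (x : S.carrier) :
    S.truncMap m ((S.truncHom (m + 1)).1 x) = (S.truncHom m).1 x :=
  congrArg (fun t => t.1 x) (S.truncMap_truncHom m)

/-- maps from a power series ring to a coefficient ring -/
theorem PS.exists_algHom {S : CRing Λ k} (g₀ : R.carrier →ₐ[Λ] S.carrier)
    (hg₀ : S.res.comp g₀ = R.res) (s : Fin n → S.carrier)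
    (hs : ∀ i, s i ∈ maximalIdeal S.carrier) :
    ∃ φ : PS R n →ₐ[Λ] S.carrier, S.res.comp φ = PSres R n ∧ (∀ r, φ (C r) = g₀ r) ∧
      ∀ i, φ (X i) = s i := by
  let y : ∀ m, HomSet R.carrier R.res (S.trunc m) := fun m =>
    ⟨(S.truncHom m).1.comp g₀, by rw [← AlgHom.comp_assoc, (S.truncHom m).2, hg₀]⟩
  choose χ hχC hχX using fun m => PS.exists_homSet (R := R) (n := n) (y m)
    (fun i => (S.truncHom m).1 (s i)) (fun i => CRing.truncHom_mem_maximalIdeal S m _ (hs i))
  have hcompat : ∀ m, HomSet.map (S.truncMap m) (χ (m + 1)) = χ m := by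
    intro m
    apply PS.homSet_ext
    · intro r
      change S.truncMap m ((χ (m + 1)).1 (C r)) = (χ m).1 (C r)
      rw [hχC, hχC]
      exact CRing.truncMap_truncHom_apply S m (g₀ r)
    · intro i
      change S.truncMap m ((χ (m + 1)).1 (X i)) = (χ m).1 (X i)
      rw [hχX, hχX]
      exact CRing.truncMap_truncHom_apply S m (s i)
  obtain ⟨φ, hφres, hφ⟩ := exists_algHom_of_compatible S χ hcompat
  refine ⟨φ, hφres, fun r => ?_, fun i => ?_⟩
  · apply CRing.ext_trunc
    intro m
    have := DFunLike.congr_fun (hφ m) (C r)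
    change (S.truncHom m).1 (φ (C r)) = (χ m).1 (C r) at this
    rw [this, hχC]
    rfl
  · apply CRing.ext_trunc
    intro m
    have := DFunLike.congr_fun (hφ m) (X i)
    change (S.truncHom m).1 (φ (X i)) = (χ m).1 (X i) at this
    rw [this, hχX]

end UP

section DualN

/-- `k[ε₁, …, εₙ]/(εᵢεⱼ)` -/
noncomputable def dualN (Λ : Type u) (k : Type u) [CommRing Λ] [Field k] [Algebra Λ k] (n : ℕ) :
    Art Λ k :=
  { carrier := TrivSqZeroExt k (Fin n → k)
    isLocalRing := isLocalRing_tsze k (Fin n → k)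
    isArtinianRing := isArtinianRing_tsze k (Fin n → k)
    res := TrivSqZeroExt.fstHom Λ k (Fin n → k)
    res_surjective := fun a => ⟨TrivSqZeroExt.inl a, rfl⟩ }

theorem dualN_res_apply (n : ℕ) (x : dualN Λ k n) : (dualN Λ k n).res x = TrivSqZeroExt.fst x := rfl

theorem tsze_mul_eq_zero (n : ℕ) (x y : TrivSqZeroExt k (Fin n → k)) (hx : TrivSqZeroExt.fst x = 0)
    (hy : TrivSqZeroExt.fst y = 0) : x * y = 0 := by
  apply TrivSqZeroExt.ext
  · rw [TrivSqZeroExt.fst_mul, hx, zero_mul]; rfl
  · rw [TrivSqZeroExt.snd_mul, hx, hy, zero_smul, MulOpposite.op_zero, zero_smul, add_zero]; rfl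

theorem dualN_maximalIdeal_sq (n : ℕ) : maximalIdeal (dualN Λ k n) ^ 2 = ⊥ := by
  rw [eq_bot_iff, pow_two, Ideal.mul_le]
  intro x hx y hy
  rw [Art.mem_maximalIdeal_iff, dualN_res_apply] at hx hy
  rw [Ideal.mem_bot]
  exact tsze_mul_eq_zero n x y hx hy

variable (R : CRing Λ k) (n : ℕ)

/-- the inclusion of the residue field -/
noncomputable def baseToDualN : HomSet R.carrier R.res (dualN Λ k n) :=
  ⟨(TrivSqZeroExt.inlAlgHom Λ k (Fin n → k)).comp R.res, by
    apply AlgHom.ext
    intro r
    rfl⟩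

theorem baseToDualN_apply (r : R.carrier) :
    (baseToDualN R n).1 r = (TrivSqZeroExt.inl (R.res r) : TrivSqZeroExt k (Fin n → k)) := rfl

/-- the tangent projection of the power series ring -/
theorem exists_tangentProj : ∃ q' : HomSet (PS R n) (PSres R n) (dualN Λ k n),
    (∀ r, q'.1 (C r) = (TrivSqZeroExt.inl (R.res r) : TrivSqZeroExt k (Fin n → k))) ∧
    ∀ i, q'.1 (X i) = (TrivSqZeroExt.inr (Pi.single i 1) : TrivSqZeroExt k (Fin n → k)) := by
  obtain ⟨q', h1, h2⟩ := PS.exists_homSet (R := R) (n := n) (baseToDualN R n)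
    (fun i => (TrivSqZeroExt.inr (Pi.single i 1) : TrivSqZeroExt k (Fin n → k)))
    (fun i => by
      rw [Art.mem_maximalIdeal_iff, dualN_res_apply, TrivSqZeroExt.fst_inr])
  exact ⟨q', h1, h2⟩

variable {R n}

theorem tangentProj_vanish (q' : HomSet (PS R n) (PSres R n) (dualN Λ k n)) :
    ∀ y ∈ (Ideal.span (Set.range (X : Fin n → PS R n))) ^ 2, q'.1 y = 0 := by
  apply ps_ringHom_vanish (q'.1 : PS R n →+* dualN Λ k n) (maximalIdeal (dualN Λ k n)) _ 2
    (dualN_maximalIdeal_sq n)
  intro i
  rw [Art.mem_maximalIdeal_iff]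
  have h1 : (dualN Λ k n).res (q'.1 (X i)) = PSres R n (X i) := DFunLike.congr_fun q'.2 (X i)
  exact h1.trans (PSres_X R n i)

/-- a "derivation" on the power series ring vanishing on constants is determined by its values on
the variables (abstract form) -/
theorem PS.deriv_formula_aux (Q : PS R n → TrivSqZeroExt k (Fin n → k))
    (hQadd : ∀ p p', Q (p + p') = Q p + Q p') (hQmul : ∀ p p', Q (p * p') = Q p * Q p')
    (hQfst : ∀ p, TrivSqZeroExt.fst (Q p) = PSres R n p)
    (hQX : ∀ i, Q (X i) = TrivSqZeroExt.inr (Pi.single i 1))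
    (hQC : ∀ r, Q (C r) = TrivSqZeroExt.inl (R.res r))
    (hQ2 : ∀ y ∈ (Ideal.span (Set.range (X : Fin n → PS R n))) ^ 2, Q y = 0)
    (E : PS R n → k) (hadd : ∀ p p', E (p + p') = E p + E p')
    (hmul : ∀ p p', E (p * p') = PSres R n p * E p' + PSres R n p' * E p)
    (hC : ∀ r, E (C r) = 0) (p : PS R n) :
    E p = ∑ i, (TrivSqZeroExt.snd (Q p)) i * E (X i) := by
  classical
  have hspan_res : ∀ u ∈ Ideal.span (Set.range (X : Fin n → PS R n)), PSres R n u = 0 := by
    intro u hu
    refine Submodule.span_induction (p := fun u _ => PSres R n u = 0) ?_ ?_ ?_ ?_ hu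
    · rintro _ ⟨i, rfl⟩
      exact PSres_X R n i
    · rw [map_zero]
    · intro u v _ _ hu hv
      rw [map_add, hu, hv, add_zero]
    · intro c u _ hu
      rw [smul_eq_mul, map_mul, hu, mul_zero]
  have hA : ∀ y ∈ (Ideal.span (Set.range (X : Fin n → PS R n))) ^ 2, E y = 0 := by
    intro y hy
    rw [pow_two] at hy
    refine Submodule.mul_induction_on hy ?_ ?_
    · intro u hu v hv
      rw [hmul, hspan_res u hu, hspan_res v hv, zero_mul, zero_mul, add_zero]
    · intro u v hu hv
      rw [hadd, hu, hv, add_zero]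
  have hB : ∀ f : MvPolynomial (Fin n) R.carrier,
      E (f : PS R n) = ∑ i, (TrivSqZeroExt.snd (Q (f : PS R n))) i * E (X i) := by
    intro f
    induction f using MvPolynomial.induction_on with
    | C a =>
      rw [MvPolynomial.coe_C, hC, hQC, TrivSqZeroExt.snd_inl]
      simp
    | add f g hf hg =>
      rw [MvPolynomial.coe_add, hadd, hf, hg, hQadd, TrivSqZeroExt.snd_add, ← Finset.sum_add_distrib]
      apply Finset.sum_congr rfl
      intro i _
      rw [Pi.add_apply, add_mul]
    | mul_X f j hf =>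
      rw [MvPolynomial.coe_mul, MvPolynomial.coe_X, hmul, PSres_X, zero_mul, add_zero, hQmul,
        hQX, TrivSqZeroExt.snd_mul, TrivSqZeroExt.snd_inr, TrivSqZeroExt.fst_inr,
        MulOpposite.op_zero, zero_smul, add_zero, hQfst]
      rw [Finset.sum_eq_single j]
      · rw [Pi.smul_apply, Pi.single_eq_same, smul_eq_mul, mul_one]
      · intro i _ hij
        rw [Pi.smul_apply, Pi.single_eq_of_ne hij, smul_zero, zero_mul]
      · intro hj
        exact absurd (Finset.mem_univ j) hj
  set f := truncTotal 2 p with hf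
  have hd := sub_truncTotal_mem_span_X_pow 2 p
  have hE0 : E 0 = 0 := by
    have := hadd 0 0
    rw [add_zero] at this
    exact left_eq_add.mp this
  have hQ0 : Q 0 = 0 := by
    have := hQadd 0 0
    rw [add_zero] at this
    exact left_eq_add.mp this
  have h1 : E p = E (f : PS R n) := by
    have : p = (p - (f : PS R n)) + (f : PS R n) := by ring
    rw [this, hadd, hA _ hd, zero_add]
  have h2 : Q p = Q (f : PS R n) := by
    have : p = (p - (f : PS R n)) + (f : PS R n) := by ring
    rw [this, hQadd, hQ2 _ hd, zero_add]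
  rw [h1, h2, hB]

theorem PS.deriv_formula (q' : HomSet (PS R n) (PSres R n) (dualN Λ k n))
    (hq'C : ∀ r, q'.1 (C r) = (TrivSqZeroExt.inl (R.res r) : TrivSqZeroExt k (Fin n → k)))
    (hq'X : ∀ i, q'.1 (X i) = (TrivSqZeroExt.inr (Pi.single i 1) : TrivSqZeroExt k (Fin n → k)))
    (E : PS R n → k) (hadd : ∀ p p', E (p + p') = E p + E p')
    (hmul : ∀ p p', E (p * p') = PSres R n p * E p' + PSres R n p' * E p)
    (hC : ∀ r, E (C r) = 0) (p : PS R n) :
    E p = ∑ i, (TrivSqZeroExt.snd (q'.1 p : TrivSqZeroExt k (Fin n → k))) i * E (X i) :=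
  PS.deriv_formula_aux (fun p => q'.1 p) (fun p p' => map_add q'.1 p p')
    (fun p p' => map_mul q'.1 p p') (fun p => DFunLike.congr_fun q'.2 p) hq'X hq'C
    (tangentProj_vanish q') E hadd hmul hC p

end DualN

end Groth.Agent.Lib.helper19
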