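import Mathlib
import Groth.Prelude.Def_W4sfdMinVersal
import Groth.Agent.Lib.helper19.PSUniv
import Groth.Agent.Lib.helper19.NoethEndo
import Groth.Agent.Lib.helper19.ArtDeriv

set_option autoImplicit false
universe u v
open IsLocalRing MvPowerSeries ArtFun ArtFun.Art CategoryTheory

namespace Groth.Agent.Lib.helper19

variable {Λ : Type u} {k : Type u} [CommRing Λ] [Field k] [Algebra Λ k]


section Main

variable (R S : CRing Λ k) [Algebra R.carrier S.carrier] [IsScalarTower Λ R.carrier S.carrier]

theorem PS.X_mem_maximalIdeal (n : ℕ) (i : Fin n) :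
    (X i : PS R n) ∈ maximalIdeal (PS R n) := by
  have := (CRing.mem_maximalIdeal_iff (psCRing R n) (X i)).mpr (PSres_X R n i)
  exact this

/-- an `R`-isomorphism with a power series ring respects augmentations -/
theorem PS.res_equiv (hRS : S.res.comp (IsScalarTower.toAlgHom Λ R.carrier S.carrier) = R.res)
    (n : ℕ) (e : S.carrier ≃ₐ[R.carrier] PS R n) (s : S.carrier) :
    PSres R n (e s) = S.res s := by
  obtain ⟨r, hr⟩ := R.res_surjective (S.res s)
  have hg : S.res (algebraMap R.carrier S.carrier r) = R.res r := DFunLike.congr_fun hRS r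
  have h1 : s - algebraMap R.carrier S.carrier r ∈ maximalIdeal S.carrier := by
    rw [CRing.mem_maximalIdeal_iff, map_sub, hg, hr, sub_self]
  have h2 : e (s - algebraMap R.carrier S.carrier r) ∈ maximalIdeal (PS R n) := by
    rw [mem_maximalIdeal, mem_nonunits_iff] at h1 ⊢
    intro hu
    apply h1
    have := hu.map e.symm
    rwa [AlgEquiv.symm_apply_apply] at this
  have h3 := (CRing.mem_maximalIdeal_iff (psCRing R n) _).mp h2
  change PSres R n (e (s - algebraMap R.carrier S.carrier r)) = 0 at h3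
  rw [map_sub, map_sub, e.commutes, sub_eq_zero] at h3
  rw [h3, ← hr]
  exact PSres_C R n r

theorem isVersal_of_equiv (hRS : S.res.comp (IsScalarTower.toAlgHom Λ R.carrier S.carrier) = R.res)
    (n : ℕ) (e : S.carrier ≃ₐ[R.carrier] PS R n) :
    IsVersal ((Family.self R.carrier R.res).along
        (IsScalarTower.toAlgHom Λ R.carrier S.carrier) hRS) := by
  intro B A μ hμ φ y hy
  have hy' : HomSet.map μ y =
      ⟨φ.1.comp (IsScalarTower.toAlgHom Λ R.carrier S.carrier), by
        rw [← AlgHom.comp_assoc, φ.2, hRS]⟩ := hy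
  -- images of the variables
  have ha : ∀ i, φ.1 (e.symm (X i)) ∈ maximalIdeal A := by
    intro i
    rw [Art.mem_maximalIdeal_iff]
    have h1 : A.res (φ.1 (e.symm (X i))) = S.res (e.symm (X i)) := DFunLike.congr_fun φ.2 _
    rw [h1, ← PS.res_equiv R S hRS n e, AlgEquiv.apply_symm_apply, PSres_X]
  choose b hb using fun i => hμ (φ.1 (e.symm (X i)))
  have hbm : ∀ i, b i ∈ maximalIdeal B := by
    intro i
    rw [Art.mem_maximalIdeal_iff]
    have h1 : A.res (μ (b i)) = B.res (b i) := DFunLike.congr_fun μ.res_comp (b i)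
    rw [← h1, hb, ← Art.mem_maximalIdeal_iff]
    exact ha i
  obtain ⟨χ, hχC, hχX⟩ := PS.exists_homSet (R := R) (n := n) y b hbm
  let eΛ : S.carrier →ₐ[Λ] PS R n := (e : S.carrier →ₐ[R.carrier] PS R n).restrictScalars Λ
  let eΛs : PS R n →ₐ[Λ] S.carrier := (e.symm : PS R n →ₐ[R.carrier] S.carrier).restrictScalars Λ
  have heΛ : ∀ s, eΛ s = e s := fun s => rfl
  have heΛs : ∀ p, eΛs p = e.symm p := fun s => rfl
  let ψ : HomSet S.carrier S.res B := ⟨χ.1.comp eΛ, by
    rw [← AlgHom.comp_assoc, χ.2]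
    apply AlgHom.ext
    intro s
    exact PS.res_equiv R S hRS n e s⟩
  have hψ : ∀ s, ψ.1 s = χ.1 (e s) := fun s => rfl
  let φ' : HomSet (PS R n) (PSres R n) A := ⟨φ.1.comp eΛs, by
    rw [← AlgHom.comp_assoc, φ.2]
    apply AlgHom.ext
    intro p
    change S.res (e.symm p) = PSres R n p
    rw [← PS.res_equiv R S hRS n e, AlgEquiv.apply_symm_apply]⟩
  have hφ' : ∀ p, φ'.1 p = φ.1 (e.symm p) := fun p => rfl
  have hcmp : HomSet.map μ χ = φ' := by
    apply PS.homSet_ext
    · intro r
      change μ (χ.1 (C r)) = φ'.1 (C r)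
      rw [hχC, hφ']
      have h1 : μ (y.1 r) = (HomSet.map μ y).1 r := rfl
      rw [h1, hy']
      change φ.1 (algebraMap R.carrier S.carrier r) = _
      rw [← e.symm.commutes]
      rfl
    · intro i
      change μ (χ.1 (X i)) = φ'.1 (X i)
      rw [hχX, hb, hφ']
  refine ⟨ψ, ?_, ?_⟩
  · apply Subtype.ext
    apply AlgHom.ext
    intro s
    change μ (ψ.1 s) = φ.1 s
    rw [hψ]
    have h1 : μ (χ.1 (e s)) = (HomSet.map μ χ).1 (e s) := rfl
    rw [h1, hcmp, hφ', AlgEquiv.symm_apply_apply]
  · apply Subtype.ext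
    apply AlgHom.ext
    intro r
    change ψ.1 (algebraMap R.carrier S.carrier r) = y.1 r
    rw [hψ, e.commutes]
    exact hχC r

end Main


section Aux

/-- The algebra map to `k[ε₁..εₙ]` attached to a family of derivations. -/
noncomputable def derivsToAlgHom (B : Type u) [CommRing B] [Algebra Λ B] [Algebra B k]
    [IsScalarTower Λ B k] (res : B →ₐ[Λ] k)
    (hB : ∀ b, algebraMap B k b = res b) (n : ℕ) (D : Fin n → Derivation Λ B k) :
    B →ₐ[Λ] TrivSqZeroExt k (Fin n → k) :=
  { toFun := fun a => TrivSqZeroExt.inl (res a) + TrivSqZeroExt.inr (fun i => D i a)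
    map_one' := by
      apply TrivSqZeroExt.ext
      · simp
      · funext i
        simp
    map_mul' := fun a b => by
      apply TrivSqZeroExt.ext
      · simp
      · funext i
        simp [Algebra.smul_def, hB, mul_comm]
    map_zero' := by
      apply TrivSqZeroExt.ext
      · simp
      · funext i
        simp
    map_add' := fun a b => by
      apply TrivSqZeroExt.ext
      · simp
      · funext i
        simp
    commutes' := fun r => by
      apply TrivSqZeroExt.ext
      · simp [TrivSqZeroExt.algebraMap_eq_inl']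
      · funext i
        simp [TrivSqZeroExt.algebraMap_eq_inl'] }

theorem derivsToAlgHom_fst (B : Type u) [CommRing B] [Algebra Λ B] [Algebra B k]
    [IsScalarTower Λ B k] (res : B →ₐ[Λ] k)
    (hB : ∀ b, algebraMap B k b = res b) (n : ℕ) (D : Fin n → Derivation Λ B k) (a : B) :
    TrivSqZeroExt.fst (derivsToAlgHom B res hB n D a) = res a := by
  change TrivSqZeroExt.fst (TrivSqZeroExt.inl (res a) + TrivSqZeroExt.inr (fun i => D i a) :
    TrivSqZeroExt k (Fin n → k)) = res a
  simp

theorem derivsToAlgHom_snd (B : Type u) [CommRing B] [Algebra Λ B] [Algebra B k]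
    [IsScalarTower Λ B k] (res : B →ₐ[Λ] k)
    (hB : ∀ b, algebraMap B k b = res b) (n : ℕ) (D : Fin n → Derivation Λ B k) (a : B) (i : Fin n) :
    TrivSqZeroExt.snd (derivsToAlgHom B res hB n D a) i = D i a := by
  change TrivSqZeroExt.snd (TrivSqZeroExt.inl (res a) + TrivSqZeroExt.inr (fun i => D i a) :
    TrivSqZeroExt k (Fin n → k)) i = D i a
  simp

theorem CRing.trunc_maximalIdeal_pow (R : CRing Λ k) (n : ℕ) :
    maximalIdeal (R.trunc n) ^ (n + 1) = ⊥ := by
  rw [← le_bot_iff]
  calc IsLocalRing.maximalIdeal (R.carrier ⧸ CRing.mpow R n) ^ (n + 1)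
      ≤ ((IsLocalRing.maximalIdeal R.carrier).map (Ideal.Quotient.mk (CRing.mpow R n))) ^ (n + 1) :=
        Ideal.pow_right_mono (CRing.maximalIdeal_quot_le R n) _
    _ = (CRing.mpow R n).map (Ideal.Quotient.mk (CRing.mpow R n)) := by rw [← Ideal.map_pow]
    _ = ⊥ := Ideal.map_quotient_self _
    _ ≤ ⊥ := le_rfl

end Aux


section DualBasis

theorem derivation_sum_apply {B : Type u} [CommRing B] [Algebra Λ B] [Algebra B k]
    [IsScalarTower Λ B k] {ι : Type*} (t : Finset ι) (D : ι → Derivation Λ B k) (s : B) :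
    (∑ i ∈ t, D i) s = ∑ i ∈ t, D i s := by
  have := map_sum (Derivation.coeFnAddMonoidHom (R := Λ) (A := B) (M := k)) D t
  have h2 := congrFun this s
  rw [Finset.sum_apply] at h2
  exact h2

/-- dual "basis" of the maximal ideal for linearly independent derivations vanishing on a
set of representatives of the residue field -/
theorem exists_dual_elements (S : CRing Λ k) [Algebra S.carrier k] [IsScalarTower Λ S.carrier k]
    (hresk : ∀ a, algebraMap S.carrier k a = S.res a) (n : ℕ)
    (L : Fin n → Derivation Λ S.carrier k) (hL : LinearIndependent k L)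
    (Z : Set S.carrier) (hZ : ∀ s, ∃ z ∈ Z, s - z ∈ maximalIdeal S.carrier)
    (hLZ : ∀ i, ∀ z ∈ Z, L i z = 0) :
    ∃ s : Fin n → S.carrier, (∀ j, s j ∈ maximalIdeal S.carrier) ∧
      ∀ i j, L i (s j) = if i = j then 1 else 0 := by
  classical
  have hEvsmul : ∀ (a s : S.carrier), s ∈ maximalIdeal S.carrier → ∀ i,
      L i (a * s) = S.res a * L i s := by
    intro a s hs i
    rw [(L i).leibniz, Algebra.smul_def, Algebra.smul_def, hresk, hresk,
      (CRing.mem_maximalIdeal_iff S s).mp hs, zero_mul, add_zero]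
  let W : Submodule k (Fin n → k) :=
    { carrier := {w | ∃ s ∈ maximalIdeal S.carrier, (fun i => L i s) = w}
      add_mem' := by
        rintro _ _ ⟨s, hs, rfl⟩ ⟨s', hs', rfl⟩
        refine ⟨s + s', Ideal.add_mem _ hs hs', ?_⟩
        funext i
        rw [map_add]
        rfl
      zero_mem' := ⟨0, Ideal.zero_mem _, by funext i; rw [map_zero]; rfl⟩
      smul_mem' := by
        rintro c _ ⟨s, hs, rfl⟩
        obtain ⟨a, rfl⟩ := S.res_surjective c
        refine ⟨a * s, Ideal.mul_mem_left _ a hs, ?_⟩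
        funext i
        rw [hEvsmul a s hs i]
        rfl }
  have hW : ∀ w, w ∈ W ↔ ∃ s ∈ maximalIdeal S.carrier, (fun i => L i s) = w := fun w => Iff.rfl
  by_cases hWtop : W = ⊤
  · have hmem : ∀ j, (Pi.single j 1 : Fin n → k) ∈ W := fun j => by rw [hWtop]; trivial
    choose s hs hs' using hmem
    refine ⟨s, hs, fun i j => ?_⟩
    have := congrFun (hs' j) i
    rw [this, Pi.single_apply]
  · exfalso
    obtain ⟨f, hf0, hfW⟩ := Submodule.exists_le_ker_of_lt_top W (lt_top_iff_ne_top.mpr hWtop)
    apply hf0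
    set D : Derivation Λ S.carrier k := ∑ i, f (Pi.single i 1) • L i with hD
    have hDapply : ∀ s, D s = f (fun i => L i s) := by
      intro s
      have h1 : (fun i => L i s) = ∑ i, (L i s) • (Pi.single i 1 : Fin n → k) := by
        funext j
        rw [Finset.sum_apply]
        rw [Finset.sum_eq_single j]
        · rw [Pi.smul_apply, Pi.single_eq_same, smul_eq_mul, mul_one]
        · intro i _ hij
          rw [Pi.smul_apply, Pi.single_eq_of_ne hij.symm, smul_zero]
        · intro hj
          exact absurd (Finset.mem_univ j) hj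
      rw [h1, map_sum, hD, derivation_sum_apply]
      apply Finset.sum_congr rfl
      intro i _
      rw [Derivation.smul_apply, map_smul, smul_eq_mul, smul_eq_mul, mul_comm]
    have hDm : ∀ s ∈ maximalIdeal S.carrier, D s = 0 := by
      intro s hs
      rw [hDapply]
      exact hfW ⟨s, hs, rfl⟩
    have hDZ : ∀ z ∈ Z, D z = 0 := by
      intro z hz
      rw [hDapply]
      have : (fun i => L i z) = 0 := by
        funext i
        exact hLZ i z hz
      rw [this, map_zero]
    have hD0 : D = 0 := by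
      apply Derivation.ext
      intro s
      obtain ⟨z, hz, hsz⟩ := hZ s
      have : s = z + (s - z) := by ring
      rw [this, map_add, hDZ z hz, hDm _ hsz, add_zero]
      rfl
    have hc : ∀ i, f (Pi.single i 1) = 0 := by
      have := Fintype.linearIndependent_iff.mp hL (fun i => f (Pi.single i 1)) hD0
      exact this
    apply LinearMap.pi_ext
    intro i x
    have : (Pi.single i x : Fin n → k) = x • Pi.single i 1 := by
      rw [← Pi.single_smul, smul_eq_mul, mul_one]
    rw [this, map_smul, hc, smul_zero, LinearMap.zero_apply]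

end DualBasis


section Surj

variable (R : CRing Λ k) (n : ℕ)

theorem tangentProj_surjective_aux (Q : PS R n → TrivSqZeroExt k (Fin n → k))
    (hQadd : ∀ p p', Q (p + p') = Q p + Q p') (hQmul : ∀ p p', Q (p * p') = Q p * Q p')
    (hQX : ∀ i, Q (X i) = TrivSqZeroExt.inr (Pi.single i 1))
    (hQC : ∀ r, Q (C r) = TrivSqZeroExt.inl (R.res r)) : Function.Surjective Q := by
  classical
  intro x
  obtain ⟨r, hr⟩ := R.res_surjective (TrivSqZeroExt.fst x)
  choose a ha using fun i => R.res_surjective (TrivSqZeroExt.snd x i)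
  have hQ0 : Q 0 = 0 := by
    have := hQadd 0 0
    rw [add_zero] at this
    exact left_eq_add.mp this
  have hsum : ∀ (t : Finset (Fin n)) (f : Fin n → PS R n), Q (∑ i ∈ t, f i) = ∑ i ∈ t, Q (f i) := by
    intro t f
    induction t using Finset.induction_on with
    | empty => rw [Finset.sum_empty, Finset.sum_empty, hQ0]
    | insert i t hi ih => rw [Finset.sum_insert hi, Finset.sum_insert hi, hQadd, ih]
  have hterm : ∀ i, Q (C (a i) * X i) = TrivSqZeroExt.inr (TrivSqZeroExt.snd x i • Pi.single i 1) := by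
    intro i
    rw [hQmul, hQC, hQX, ha]
    apply TrivSqZeroExt.ext
    · simp
    · simp
  refine ⟨C r + ∑ i, C (a i) * X i, ?_⟩
  rw [hQadd, hsum, hQC, hr]
  apply TrivSqZeroExt.ext
  · rw [TrivSqZeroExt.fst_add, TrivSqZeroExt.fst_inl, TrivSqZeroExt.fst_sum]
    have : ∀ i ∈ Finset.univ, TrivSqZeroExt.fst (Q (C (a i) * X i)) = 0 := by
      intro i _
      rw [hterm, TrivSqZeroExt.fst_inr]
    rw [Finset.sum_eq_zero this, add_zero]
  · rw [TrivSqZeroExt.snd_add, TrivSqZeroExt.snd_inl, zero_add, TrivSqZeroExt.snd_sum]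
    funext j
    rw [Finset.sum_apply, Finset.sum_eq_single j]
    · rw [hterm, TrivSqZeroExt.snd_inr, Pi.smul_apply, Pi.single_eq_same, smul_eq_mul, mul_one]
    · intro i _ hij
      rw [hterm, TrivSqZeroExt.snd_inr, Pi.smul_apply, Pi.single_eq_of_ne hij.symm, smul_zero]
    · intro hj
      exact absurd (Finset.mem_univ j) hj

theorem tangentProj_surjective (q' : HomSet (PS R n) (PSres R n) (dualN Λ k n))
    (hq'C : ∀ r, q'.1 (C r) = (TrivSqZeroExt.inl (R.res r) : TrivSqZeroExt k (Fin n → k)))
    (hq'X : ∀ i, q'.1 (X i) = (TrivSqZeroExt.inr (Pi.single i 1) : TrivSqZeroExt k (Fin n → k))) :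
    Function.Surjective q'.1 :=
  tangentProj_surjective_aux R n (fun p => q'.1 p) (fun p p' => map_add q'.1 p p')
    (fun p p' => map_mul q'.1 p p') hq'X hq'C

end Surj

section SurjLift

variable {R : CRing Λ k} {n : ℕ}

theorem surjective_of_tangent {A : Art Λ k} (t : HomSet (PS R n) (PSres R n) A)
    (ht : Function.Surjective t.1) (μ : A ⟶ dualN Λ k n)
    (hq'C : ∀ r, μ (t.1 (C r)) = (TrivSqZeroExt.inl (R.res r) : TrivSqZeroExt k (Fin n → k)))
    (hq'X : ∀ i, μ (t.1 (X i)) = (TrivSqZeroExt.inr (Pi.single i 1) : TrivSqZeroExt k (Fin n → k)))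
    (S : CRing Λ k) (ψ : HomSet S.carrier S.res A)
    (g₀ : R.carrier → S.carrier) (hg₀ : ∀ r, ψ.1 (g₀ r) = t.1 (C r))
    (s : Fin n → S.carrier)
    (hs : ∀ i, μ (ψ.1 (s i)) = (TrivSqZeroExt.inr (Pi.single i 1) : TrivSqZeroExt k (Fin n → k))) :
    Function.Surjective ψ.1 := by
  classical
  letI : Algebra A k := A.res.toRingHom.toAlgebra
  haveI : IsScalarTower Λ A k := IsScalarTower.of_algebraMap_eq (fun r => (A.res.commutes r).symm)
  have hresA : ∀ a, algebraMap A k a = A.res a := fun a => rfl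
  haveI : IsAdicComplete (maximalIdeal S.carrier) S.carrier := S.isAdicComplete
  by_contra hns
  obtain ⟨D, hD1, x, hD2⟩ := exists_derivation_of_not_surjective (R := S.carrier) (S := A)
    S.res S.res_surjective A.res_surjective ψ.1 (by
      apply AlgHom.ext
      intro a
      exact DFunLike.congr_fun ψ.2 a) hns
  let q' : HomSet (PS R n) (PSres R n) (dualN Λ k n) := HomSet.map μ t
  have hq' : ∀ p, q'.1 p = μ (t.1 p) := fun p => rfl
  have htres : ∀ p, A.res (t.1 p) = PSres R n p := fun p => DFunLike.congr_fun t.2 p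
  have hE := PS.deriv_formula q' hq'C hq'X (fun p => D (t.1 p))
    (fun p p' => by rw [map_add, map_add])
    (fun p p' => by
      rw [map_mul, D.leibniz, Algebra.smul_def, Algebra.smul_def, hresA, hresA, htres, htres])
    (fun r => by rw [← hg₀, hD1])
  have hX : ∀ i, D (t.1 (X i)) = 0 := by
    intro i
    obtain ⟨p, hp⟩ := ht (ψ.1 (s i))
    have h1 := hE p
    rw [hq', hp, hs, hD1, TrivSqZeroExt.snd_inr] at h1
    rw [Finset.sum_eq_single i] at h1
    · rw [Pi.single_eq_same, one_mul] at h1
      exact h1.symm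
    · intro j _ hji
      rw [Pi.single_eq_of_ne hji, zero_mul]
    · intro hi
      exact absurd (Finset.mem_univ i) hi
  obtain ⟨p, rfl⟩ := ht x
  have h2 := hE p
  rw [hD2] at h2
  have : ∑ i, (TrivSqZeroExt.snd (q'.1 p : TrivSqZeroExt k (Fin n → k))) i * D (t.1 (X i)) = 0 := by
    apply Finset.sum_eq_zero
    intro i _
    rw [hX, mul_zero]
  rw [this] at h2
  exact one_ne_zero h2

end SurjLift

section Inj

theorem injective_of_trunc_surjective (T S : CRing Λ k) (φ : T.carrier →ₐ[Λ] S.carrier)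
    (hφ : Function.Surjective φ) (hres : S.res.comp φ = T.res)
    (hψ : ∀ j, ∃ ψ : HomSet S.carrier S.res (T.trunc (j + 1)), Function.Surjective ψ.1) :
    Function.Injective φ := by
  rw [injective_iff_map_eq_zero]
  intro p hp
  have key : ∀ j, p ∈ T.mpow (j + 1) := by
    intro j
    obtain ⟨ψ, hψs⟩ := hψ j
    let θ : HomSet T.carrier T.res (T.trunc (j + 1)) := ⟨ψ.1.comp φ, by
      rw [← AlgHom.comp_assoc, ψ.2, hres]⟩
    obtain ⟨θ', -, hθ'⟩ := HomSet.exists_factor_trunc T (j + 1) θ
      (HomSet.vanish_mpow θ (j + 1) (CRing.trunc_maximalIdeal_pow T (j + 1)))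
    have hsurj : Function.Surjective θ'.toAlgHom.toRingHom := by
      intro x
      obtain ⟨s, rfl⟩ := hψs x
      obtain ⟨a, rfl⟩ := hφ s
      exact ⟨Ideal.Quotient.mk _ a, hθ' a⟩
    have hinj := ringHom_injective_of_surjective_endo θ'.toAlgHom.toRingHom hsurj
    have h0 : θ'.toAlgHom.toRingHom (Ideal.Quotient.mk (T.mpow (j + 1)) p) = 0 := by
      have := hθ' p
      change θ'.toAlgHom.toRingHom (Ideal.Quotient.mk (T.mpow (j + 1)) p) = ψ.1 (φ p) at this
      rw [this, hp, map_zero]
    have h1 := hinj (h0.trans (map_zero _).symm)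
    exact Ideal.Quotient.eq_zero_iff_mem.mp h1
  haveI : IsAdicComplete (maximalIdeal T.carrier) T.carrier := T.isAdicComplete
  apply IsHausdorff.haus (I := maximalIdeal T.carrier) inferInstance
  intro m
  rw [SModEq.zero, smul_eq_mul, Ideal.mul_top]
  have h1 : maximalIdeal T.carrier ^ (m + 1 + 1) ≤ maximalIdeal T.carrier ^ m :=
    Ideal.pow_le_pow_right (by omega)
  exact h1 (key m)

end Inj

end Groth.Agent.Lib.helper19
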