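import Mathlib
import Groth.Prelude.Def_W4sfdMinVersal
import Groth.Agent.Lib.helper19.PSUniv2
import Groth.Agent.Lib.helper19.ArtDerFin

set_option autoImplicit false
universe u v
open IsLocalRing MvPowerSeries ArtFun ArtFun.Art CategoryTheory

namespace Groth.Agent.Lib.helper19

theorem exists_fin_basis_submodule {K M : Type*} [Field K] [AddCommGroup M] [Module K M]
    [Module.Finite K M] (V : Submodule K M) :
    ∃ (n : ℕ) (L : Fin n → M), (∀ i, L i ∈ V) ∧ LinearIndependent K L ∧
      ∀ D ∈ V, ∃ c : Fin n → K, D = ∑ i, c i • L i := by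
  let bV : Module.Basis (Fin (Module.finrank K V)) K V := Module.finBasis K V
  refine ⟨_, fun i => (bV i : M), fun i => (bV i).2, ?_, ?_⟩
  · exact bV.linearIndependent.map' V.subtype (Submodule.ker_subtype _)
  · intro D hD
    refine ⟨fun i => bV.repr ⟨D, hD⟩ i, ?_⟩
    have := congrArg (V.subtype) (bV.sum_repr ⟨D, hD⟩)
    rw [map_sum] at this
    simp only [map_smul] at this
    exact this.symm

variable {Λ : Type u} {k : Type u} [CommRing Λ] [Field k] [Algebra Λ k]

section
variable (R S : CRing Λ k) [Algebra R.carrier S.carrier] [Algebra S.carrier k]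
  [IsScalarTower Λ S.carrier k]

/-- derivations killing the image of `R` -/
def derKillBase : Submodule k (Derivation Λ S.carrier k) where
  carrier := {D | ∀ r : R.carrier, D (algebraMap R.carrier S.carrier r) = 0}
  add_mem' := fun {D₁ D₂} h₁ h₂ r => by
    change D₁ _ + D₂ _ = 0
    rw [h₁ r, h₂ r, add_zero]
  zero_mem' := fun r => rfl
  smul_mem' := fun c D h r => by
    change c • D _ = 0
    rw [h r, smul_zero]

theorem mem_derKillBase (D : Derivation Λ S.carrier k) :
    D ∈ derKillBase R S ↔ ∀ r : R.carrier, D (algebraMap R.carrier S.carrier r) = 0 := Iff.rfl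

end

theorem exists_equiv_of_isVersal_aux [IsNoetherianRing Λ] [Module.Finite Λ k]
    (R S : CRing Λ k) [Algebra R.carrier S.carrier] [IsScalarTower Λ R.carrier S.carrier]
    [Algebra S.carrier k] [IsScalarTower Λ S.carrier k]
    (hresk : ∀ a, algebraMap S.carrier k a = S.res a)
    (hRS : S.res.comp (IsScalarTower.toAlgHom Λ R.carrier S.carrier) = R.res)
    (hv : IsVersal ((Family.self R.carrier R.res).along
      (IsScalarTower.toAlgHom Λ R.carrier S.carrier) hRS)) :
    ∃ n : ℕ, Nonempty (S.carrier ≃ₐ[R.carrier] MvPowerSeries (Fin n) R.carrier) := by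
  classical
  haveI : IsAdicComplete (maximalIdeal S.carrier) S.carrier := S.isAdicComplete
  have hsurj : Function.Surjective (algebraMap S.carrier k) := by
    intro c
    obtain ⟨a, ha⟩ := S.res_surjective c
    exact ⟨a, (hresk a).trans ha⟩
  haveI hfinD : Module.Finite k (Derivation Λ S.carrier k) :=
    finite_derivation_residueField S.carrier hsurj
  have hg : ∀ r, S.res (algebraMap R.carrier S.carrier r) = R.res r :=
    fun r => DFunLike.congr_fun hRS r
  obtain ⟨n, L, hLV, hLind, hLspan⟩ := exists_fin_basis_submodule (derKillBase R S)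
  -- dual elements
  obtain ⟨s, hsm, hLs⟩ := exists_dual_elements S hresk n L hLind
    (Set.range (algebraMap R.carrier S.carrier))
    (fun x => by
      obtain ⟨r, hr⟩ := R.res_surjective (S.res x)
      refine ⟨_, ⟨r, rfl⟩, ?_⟩
      rw [CRing.mem_maximalIdeal_iff, map_sub, hg, hr, sub_self])
    (fun i z hz => by
      obtain ⟨r, rfl⟩ := hz
      exact hLV i r)
  -- the map φ
  obtain ⟨φ, hφres, hφC, hφX⟩ := PS.exists_algHom (R := R) (n := n) (S := S)
    (IsScalarTower.toAlgHom Λ R.carrier S.carrier) hRS s hsm
  haveI : IsAdicComplete (maximalIdeal (PS R n)) (PS R n) := (psCRing R n).isAdicComplete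
  have hφsurj : Function.Surjective φ := by
    by_contra hns
    obtain ⟨D, hD1, x, hD2⟩ := exists_derivation_of_not_surjective (R := PS R n) (S := S.carrier)
      (PSres R n) (psCRing R n).res_surjective hsurj φ (by
        apply AlgHom.ext
        intro p
        change algebraMap S.carrier k (φ p) = _
        rw [hresk]
        exact DFunLike.congr_fun hφres p) hns
    have hDV : D ∈ derKillBase R S := fun r => by
      have := hD1 (C r)
      rw [hφC r] at this
      exact this
    obtain ⟨c, hc⟩ := hLspan D hDV
    have hcj : ∀ j, c j = 0 := by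
      intro j
      have h1 : D (s j) = 0 := by
        rw [← hφX j]
        exact hD1 _
      rw [hc, derivation_sum_apply, Finset.sum_eq_single j] at h1
      · rw [Derivation.smul_apply, hLs, if_pos rfl, smul_eq_mul, mul_one] at h1
        exact h1
      · intro i _ hij
        rw [Derivation.smul_apply, hLs, if_neg hij, smul_zero]
      · intro hj
        exact absurd (Finset.mem_univ j) hj
    have hD0 : D = 0 := by
      rw [hc]
      apply Finset.sum_eq_zero
      intro i _
      rw [hcj, zero_smul]
    rw [hD0] at hD2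
    exact zero_ne_one hD2
  obtain ⟨q', hq'C, hq'X⟩ := exists_tangentProj R n
  have hq'surj := tangentProj_surjective R n q' hq'C hq'X
  let g' : HomSet S.carrier S.res (dualN Λ k n) := ⟨derivsToAlgHom S.carrier S.res hresk n L, by
    apply AlgHom.ext
    intro a
    exact derivsToAlgHom_fst S.carrier S.res hresk n L a⟩
  have hψ : ∀ j, ∃ ψ : HomSet S.carrier S.res ((psCRing R n).trunc (j + 1)),
      Function.Surjective ψ.1 := by
    intro j
    have hvan := HomSet.vanish_mpow (R := psCRing R n) q' (j + 1) (by
      rw [← le_bot_iff, ← dualN_maximalIdeal_sq (Λ := Λ) (k := k) n]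
      exact Ideal.pow_le_pow_right (by omega))
    obtain ⟨μ, hμ1, hμ2⟩ := HomSet.exists_factor_trunc (psCRing R n) (j + 1) q' hvan
    have hμsurj : Function.Surjective μ := by
      intro x
      obtain ⟨p, rfl⟩ := hq'surj x
      exact ⟨Ideal.Quotient.mk _ p, hμ2 p⟩
    let y : HomSet R.carrier R.res ((psCRing R n).trunc (j + 1)) :=
      ⟨((psCRing R n).truncHom (j + 1)).1.comp (IsScalarTower.toAlgHom Λ R.carrier (PS R n)), by
        rw [← AlgHom.comp_assoc, ((psCRing R n).truncHom (j + 1)).2]
        apply AlgHom.ext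
        intro r
        change PSres R n (algebraMap R.carrier (PS R n) r) = R.res r
        rw [MvPowerSeries.algebraMap_apply, Algebra.algebraMap_self, RingHom.id_apply, PSres_C]⟩
    have hy : ∀ r, y.1 r = ((psCRing R n).truncHom (j + 1)).1 (C r) := by
      intro r
      change ((psCRing R n).truncHom (j + 1)).1 (algebraMap R.carrier (PS R n) r) = _
      rw [MvPowerSeries.algebraMap_apply, Algebra.algebraMap_self, RingHom.id_apply]
    obtain ⟨ψ, hψ1, hψ2⟩ := hv μ hμsurj g' y (by
      change HomSet.map μ y = ⟨g'.1.comp (IsScalarTower.toAlgHom Λ R.carrier S.carrier), _⟩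
      apply Subtype.ext
      apply AlgHom.ext
      intro r
      change μ (y.1 r) = g'.1 (algebraMap R.carrier S.carrier r)
      rw [hy]
      refine ((hμ2 (C r)).trans (hq'C r)).trans ?_
      apply TrivSqZeroExt.ext
      · rw [TrivSqZeroExt.fst_inl]
        exact ((derivsToAlgHom_fst S.carrier S.res hresk n L _).trans (hg r)).symm
      · funext i
        rw [TrivSqZeroExt.snd_inl]
        exact ((derivsToAlgHom_snd S.carrier S.res hresk n L _ i).trans (hLV i r)).symm)
    refine ⟨ψ, surjective_of_tangent ((psCRing R n).truncHom (j + 1)) Ideal.Quotient.mk_surjective μ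
       (fun r => (hμ2 (C r)).trans (hq'C r)) (fun i => (hμ2 (X i)).trans (hq'X i)) S ψ
       (algebraMap R.carrier S.carrier) (fun r => ?_) s (fun i => ?_)⟩
    · have := congrArg (fun t => t.1 r) hψ2
      exact this.trans (hy r)
    · have := congrArg (fun t => t.1 (s i)) hψ1
      change μ (ψ.1 (s i)) = g'.1 (s i) at this
      rw [this]
      apply TrivSqZeroExt.ext
      · rw [TrivSqZeroExt.fst_inr]
        refine (derivsToAlgHom_fst S.carrier S.res hresk n L _).trans ?_
        rw [← CRing.mem_maximalIdeal_iff]
        exact hsm i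
      · funext l
        rw [TrivSqZeroExt.snd_inr, Pi.single_apply]
        exact (derivsToAlgHom_snd S.carrier S.res hresk n L _ l).trans (hLs l i)
  have hφinj : Function.Injective φ :=
    injective_of_trunc_surjective (psCRing R n) S φ hφsurj hφres hψ
  let φR : PS R n →ₐ[R.carrier] S.carrier :=
    { φ.toRingHom with
      commutes' := fun r => by
        change φ (algebraMap R.carrier (PS R n) r) = algebraMap R.carrier S.carrier r
        rw [MvPowerSeries.algebraMap_apply, Algebra.algebraMap_self, RingHom.id_apply]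
        exact hφC r }
  exact ⟨n, ⟨(AlgEquiv.ofBijective φR ⟨hφinj, hφsurj⟩).symm⟩⟩

theorem exists_equiv_of_isVersal [IsNoetherianRing Λ] [Module.Finite Λ k]
    (R S : CRing Λ k) [Algebra R.carrier S.carrier] [IsScalarTower Λ R.carrier S.carrier]
    (hRS : S.res.comp (IsScalarTower.toAlgHom Λ R.carrier S.carrier) = R.res)
    (hv : IsVersal ((Family.self R.carrier R.res).along
      (IsScalarTower.toAlgHom Λ R.carrier S.carrier) hRS)) :
    ∃ n : ℕ, Nonempty (S.carrier ≃ₐ[R.carrier] MvPowerSeries (Fin n) R.carrier) := by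
  letI : Algebra S.carrier k := S.res.toRingHom.toAlgebra
  haveI : IsScalarTower Λ S.carrier k :=
    IsScalarTower.of_algebraMap_eq (fun r => (S.res.commutes r).symm)
  exact exists_equiv_of_isVersal_aux R S (fun a => rfl) hRS hv

theorem isVersal_along_iff_powerSeries [IsNoetherianRing Λ] [Module.Finite Λ k]
    (R S : CRing Λ k) [Algebra R.carrier S.carrier] [IsScalarTower Λ R.carrier S.carrier]
    (hRS : S.res.comp (IsScalarTower.toAlgHom Λ R.carrier S.carrier) = R.res) :
    IsVersal ((Family.self R.carrier R.res).along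
        (IsScalarTower.toAlgHom Λ R.carrier S.carrier) hRS) ↔
      ∃ n : ℕ, Nonempty (S.carrier ≃ₐ[R.carrier] MvPowerSeries (Fin n) R.carrier) := by
  constructor
  · exact exists_equiv_of_isVersal R S hRS
  · rintro ⟨n, ⟨e⟩⟩
    exact isVersal_of_equiv R S hRS n e

end Groth.Agent.Lib.helper19
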