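import Mathlib
import Groth.Prelude.Def_ArtFun3
import Groth.Agent.Lib.helper19.PSUniv3
import Groth.Agent.Lib.helper19.ObsPS

set_option autoImplicit false
universe u v
open CategoryTheory IsLocalRing ArtFun ArtFun.Art MvPowerSeries
open scoped TensorProduct

namespace Groth.Agent.Lib.helper19

section FieldBase

variable {k : Type u} [Field k]

/-- the field itself as a coefficient ring -/
@[reducible] noncomputable def fieldCRing (k : Type u) [Field k] : CRing k k :=
  { carrier := k
    res := AlgHom.id k k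
    res_surjective := fun c => ⟨c, rfl⟩
    isAdicComplete := by
      rw [IsLocalRing.maximalIdeal_eq_bot]
      infer_instance }

/-- a derivation detecting an element of `m ∖ m²` -/
theorem exists_derivation_eq_one_of_not_mem_sq (T : CRing k k)
    [Algebra T.carrier k] [IsScalarTower k T.carrier k]
    (hresk : ∀ a, algebraMap T.carrier k a = T.res a)
    (x : T.carrier) (hx : x ∈ maximalIdeal T.carrier) (hx2 : x ∉ maximalIdeal T.carrier ^ 2) :
    ∃ D : Derivation k T.carrier k, D x = 1 := by
  have hsurj : Function.Surjective (algebraMap T.carrier k) := by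
    intro c
    obtain ⟨a, ha⟩ := T.res_surjective c
    exact ⟨a, (hresk a).trans ha⟩
  obtain ⟨J, ⟨hJ2, hJm, hxJ⟩, hJmax⟩ := (set_has_maximal_iff_noetherian (R := T.carrier)
    (M := T.carrier)).mpr inferInstance
    {J : Ideal T.carrier | maximalIdeal T.carrier ^ 2 ≤ J ∧ J ≤ maximalIdeal T.carrier ∧ x ∉ J}
    ⟨_, le_rfl, Ideal.pow_le_self (by norm_num), hx2⟩
  have hsup : maximalIdeal T.carrier ≤ J ⊔ Ideal.span {x} := by
    intro y hy
    by_cases hyJ : y ∈ J
    · exact Ideal.mem_sup_left hyJ
    · have hlt : J < J ⊔ Ideal.span {y} := by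
        refine lt_of_le_of_ne le_sup_left ?_
        intro h
        apply hyJ
        rw [h]
        exact Ideal.mem_sup_right (Ideal.mem_span_singleton_self y)
      have hxin : x ∈ J ⊔ Ideal.span {y} := by
        by_contra hxn
        exact hJmax _ ⟨le_trans hJ2 le_sup_left,
          sup_le hJm ((Ideal.span_singleton_le_iff_mem _).mpr hy), hxn⟩ hlt
      obtain ⟨j, hj, z, hz, hjz⟩ := Submodule.mem_sup.mp hxin
      obtain ⟨a, rfl⟩ := Ideal.mem_span_singleton'.mp hz
      have hau : IsUnit a := by
        by_contra hna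
        have ham : a ∈ maximalIdeal T.carrier := (IsLocalRing.mem_maximalIdeal _).2 hna
        apply hxJ
        rw [← hjz]
        refine J.add_mem hj (hJ2 ?_)
        rw [pow_two]
        exact Ideal.mul_mem_mul ham hy
      obtain ⟨b, hb⟩ := hau.exists_left_inv
      have : y = b * x - b * j := by
        rw [← hjz]
        have : b * (j + a * y) - b * j = (b * a) * y := by ring
        rw [this, hb, one_mul]
      rw [this]
      exact Ideal.sub_mem _ (Ideal.mem_sup_right (Ideal.mul_mem_left _ _ (Ideal.mem_span_singleton_self x)))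
        (Ideal.mem_sup_left (Ideal.mul_mem_left J _ hj))
  obtain ⟨D, -, hD⟩ := exists_derivation_of_lt (Λ := k) (R := k) (S := T.carrier)
    (AlgHom.id k k) (fun c => ⟨c, rfl⟩) hsurj (Algebra.ofId k T.carrier)
    (fun r => by
      change algebraMap T.carrier k (algebraMap k T.carrier r) = r
      rw [hresk, AlgHom.commutes]
      rfl) J x
    (fun r hr => by
      have : r = 0 := hr
      rw [this, map_zero]
      exact J.zero_mem) hJ2 hJm hx hxJ hsup
  exact ⟨D, hD⟩

theorem exists_presentation_aux (R : CRing k k)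
    [Algebra R.carrier k] [IsScalarTower k R.carrier k]
    (hresk : ∀ a, algebraMap R.carrier k a = R.res a) :
    ∃ (d : ℕ) (ϖ : MvPowerSeries (Fin d) k →ₐ[k] R.carrier), Function.Surjective ϖ ∧
      RingHom.ker ϖ ≤ maximalIdeal (MvPowerSeries (Fin d) k) ^ 2 := by
  classical
  haveI : IsAdicComplete (maximalIdeal R.carrier) R.carrier := R.isAdicComplete
  have hsurj : Function.Surjective (algebraMap R.carrier k) := by
    intro c
    obtain ⟨a, ha⟩ := R.res_surjective c
    exact ⟨a, (hresk a).trans ha⟩
  haveI hfinD : Module.Finite k (Derivation k R.carrier k) :=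
    finite_derivation_residueField R.carrier hsurj
  obtain ⟨n, L, -, hLind, hLspan⟩ :=
    exists_fin_basis_submodule (⊤ : Submodule k (Derivation k R.carrier k))
  have hresalg : ∀ c : k, R.res (algebraMap k R.carrier c) = c := fun c => by
    rw [AlgHom.commutes]; rfl
  obtain ⟨s, hsm, hLs⟩ := exists_dual_elements R hresk n L hLind
    (Set.range (algebraMap k R.carrier))
    (fun x => ⟨algebraMap k R.carrier (R.res x), ⟨_, rfl⟩, by
      rw [CRing.mem_maximalIdeal_iff, map_sub, hresalg, sub_self]⟩)
    (fun i z hz => by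
      obtain ⟨c, rfl⟩ := hz
      exact (L i).map_algebraMap c)
  obtain ⟨ϖ, hϖres, hϖC, hϖX⟩ := PS.exists_algHom (R := fieldCRing k) (n := n) (S := R)
    (Algebra.ofId k R.carrier) (AlgHom.ext fun c => hresalg c) s hsm
  haveI : IsAdicComplete (maximalIdeal (PS (fieldCRing k) n)) (PS (fieldCRing k) n) :=
    (psCRing (fieldCRing k) n).isAdicComplete
  have hcoef : ∀ (D : Derivation k R.carrier k), ∃ c : Fin n → k, D = ∑ i, c i • L i :=
    fun D => hLspan D Submodule.mem_top
  have hsum_apply : ∀ (c : Fin n → k) (j : Fin n), (∑ i, c i • L i) (s j) = c j := by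
    intro c j
    rw [derivation_sum_apply, Finset.sum_eq_single j]
    · rw [Derivation.smul_apply, hLs, if_pos rfl, smul_eq_mul, mul_one]
    · intro i _ hij
      rw [Derivation.smul_apply, hLs, if_neg hij, smul_zero]
    · intro hj
      exact absurd (Finset.mem_univ j) hj
  have hϖsurj : Function.Surjective ϖ := by
    by_contra hns
    obtain ⟨D, hD1, x, hD2⟩ := exists_derivation_of_not_surjective (R := PS (fieldCRing k) n)
      (S := R.carrier) (PSres (fieldCRing k) n) (psCRing (fieldCRing k) n).res_surjective hsurj ϖ (by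
        apply AlgHom.ext
        intro p
        change algebraMap R.carrier k (ϖ p) = _
        rw [hresk]
        exact DFunLike.congr_fun hϖres p) hns
    obtain ⟨c, hc⟩ := hcoef D
    have hcj : ∀ j, c j = 0 := by
      intro j
      have h1 : D (s j) = 0 := by
        rw [← hϖX j]
        exact hD1 _
      rw [hc, hsum_apply] at h1
      exact h1
    have hD0 : D = 0 := by
      rw [hc]
      apply Finset.sum_eq_zero
      intro i _
      rw [hcj, zero_smul]
    rw [hD0] at hD2
    exact zero_ne_one hD2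
  refine ⟨n, ϖ, hϖsurj, ?_⟩
  intro f hf
  have hf0 : ϖ f = 0 := hf
  by_contra hf2
  have hfm : f ∈ maximalIdeal (PS (fieldCRing k) n) := by
    rw [CRing.mem_maximalIdeal_iff (psCRing (fieldCRing k) n)]
    change PSres (fieldCRing k) n f = 0
    rw [← hϖres]
    change R.res (ϖ f) = 0
    rw [hf0, map_zero]
  letI : Algebra (PS (fieldCRing k) n) k := (PSres (fieldCRing k) n).toRingHom.toAlgebra
  haveI : IsScalarTower k (PS (fieldCRing k) n) k :=
    IsScalarTower.of_algebraMap_eq (fun r => ((PSres (fieldCRing k) n).commutes r).symm)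
  obtain ⟨D, hD⟩ := exists_derivation_eq_one_of_not_mem_sq (psCRing (fieldCRing k) n)
    (fun a => rfl) f hfm hf2
  obtain ⟨q', hq'C, hq'X⟩ := exists_tangentProj (fieldCRing k) n
  have hCalg : ∀ r : k, (MvPowerSeries.C r : PS (fieldCRing k) n) =
      algebraMap k (PS (fieldCRing k) n) r := by
    intro r
    rw [MvPowerSeries.algebraMap_apply, Algebra.algebraMap_self, RingHom.id_apply]
  have h1 := PS.deriv_formula q' hq'C hq'X (fun p => D p) (fun p p' => map_add D p p')
    (fun p p' => by
      change D (p * p') = _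
      rw [D.leibniz, Algebra.smul_def, Algebra.smul_def]
      rfl)
    (fun r => by
      change D (MvPowerSeries.C r) = 0
      rw [hCalg, D.map_algebraMap]) f
  set D' : Derivation k R.carrier k := ∑ i, D (MvPowerSeries.X i) • L i with hD'
  have h2 := PS.deriv_formula q' hq'C hq'X (fun p => D' (ϖ p))
    (fun p p' => by
      change D' (ϖ (p + p')) = D' (ϖ p) + D' (ϖ p')
      rw [map_add, map_add])
    (fun p p' => by
      change D' (ϖ (p * p')) = _
      rw [map_mul, D'.leibniz, Algebra.smul_def, Algebra.smul_def, hresk, hresk]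
      have e1 : R.res (ϖ p) = PSres (fieldCRing k) n p := DFunLike.congr_fun hϖres p
      have e2 : R.res (ϖ p') = PSres (fieldCRing k) n p' := DFunLike.congr_fun hϖres p'
      rw [e1, e2])
    (fun r => by
      change D' (ϖ (MvPowerSeries.C r)) = 0
      rw [hϖC]
      exact D'.map_algebraMap r) f
  have h3 : ∀ i, D' (ϖ (MvPowerSeries.X i)) = D (MvPowerSeries.X i) := by
    intro i
    rw [hϖX, hD', hsum_apply]
  have h4 : D f = D' (ϖ f) := by
    rw [h1, h2]
    apply Finset.sum_congr rfl
    intro i _
    change _ * D (MvPowerSeries.X i) = _ * D' (ϖ (MvPowerSeries.X i))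
    rw [h3]
  rw [hf0, map_zero] at h4
  rw [h4] at hD
  exact zero_ne_one hD

theorem exists_presentation (R : CRing k k) :
    ∃ (d : ℕ) (ϖ : MvPowerSeries (Fin d) k →ₐ[k] R.carrier), Function.Surjective ϖ ∧
      RingHom.ker ϖ ≤ maximalIdeal (MvPowerSeries (Fin d) k) ^ 2 := by
  letI : Algebra R.carrier k := R.res.toRingHom.toAlgebra
  haveI : IsScalarTower k R.carrier k :=
    IsScalarTower.of_algebraMap_eq (fun r => (R.res.commutes r).symm)
  exact exists_presentation_aux R (fun a => rfl)

end FieldBase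

section Transport

universe v₁ v₂

variable {k : Type u} [Field k]

/-- transport of an obstruction theory along a natural bijection and a linear equivalence -/
noncomputable def obsTransport {F : Art k k ⥤ Type v₁} {G : Art k k ⥤ Type v₂} {V W : Type u}
    [AddCommGroup V] [Module k V] [AddCommGroup W] [Module k W]
    (T : ObsTheory F V) (β : ∀ C, F.obj C ≃ G.obj C)
    (hβ : ∀ {C' C : Art k k} (p : C' ⟶ C) (u : F.obj C'), β C (F.map p u) = G.map p (β C' u))
    (e : V ≃ₗ[k] W) : ObsTheory G W where
  obs p hp u := LinearMap.rTensor _ e.toLinearMap (T.obs p hp ((β _).symm u))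
  obs_eq_zero_iff p hp u := by
    have hinj : Function.Injective
        (LinearMap.rTensor (↥(RingHom.ker p.toAlgHom)) e.toLinearMap) :=
      (LinearEquiv.rTensor (↥(RingHom.ker p.toAlgHom)) e).injective
    rw [← map_zero (LinearMap.rTensor (↥(RingHom.ker p.toAlgHom)) e.toLinearMap), hinj.eq_iff,
      T.obs_eq_zero_iff]
    constructor
    · rintro ⟨u', hu'⟩
      exact ⟨β _ u', by rw [← hβ, hu', Equiv.apply_symm_apply]⟩
    · rintro ⟨u', hu'⟩
      refine ⟨(β _).symm u', ?_⟩
      apply (β _).injective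
      rw [hβ, Equiv.apply_symm_apply, Equiv.apply_symm_apply, hu']
  obs_quot p hp K hK hKJ hq u := by
    rw [T.obs_quot p hp K hK hKJ hq]
    rw [← LinearMap.comp_apply, ← LinearMap.comp_apply, LinearMap.rTensor_comp_lTensor,
      LinearMap.lTensor_comp_rTensor]

theorem exists_hasObsTheory_of_isProrepresentable
    (F : Art k k ⥤ Type v) (hF : IsProrepresentable F) :
    ∃ n : ℕ, HasObsTheory F (Fin n → k) := by
  obtain ⟨R, ξ, hξ⟩ := hF
  obtain ⟨d, ϖ, hϖs, hker⟩ := exists_presentation R
  let e : (MvPowerSeries (Fin d) k ⧸ RingHom.ker ϖ) ≃ₐ[k] R.carrier :=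
    Ideal.quotientKerAlgEquivOfSurjective hϖs
  let res' : (MvPowerSeries (Fin d) k ⧸ RingHom.ker ϖ) →ₐ[k] k := R.res.comp e.toAlgHom
  let T := ObsPS.obsTheory (RingHom.ker ϖ) res' hker
  have hres'symm : res'.comp (e.symm : R.carrier →ₐ[k] _) = R.res := by
    apply AlgHom.ext
    intro r
    change R.res (e (e.symm r)) = R.res r
    rw [AlgEquiv.apply_symm_apply]
  let pre : ∀ C : Art k k, HomSet (MvPowerSeries (Fin d) k ⧸ RingHom.ker ϖ) res' C →
      HomSet R.carrier R.res C := fun C ψ =>
    ⟨ψ.1.comp (e.symm : R.carrier →ₐ[k] _), by rw [← AlgHom.comp_assoc, ψ.2, hres'symm]⟩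
  have hpre : ∀ C, Function.Bijective (pre C) := by
    intro C
    constructor
    · intro ψ₁ ψ₂ h
      apply Subtype.ext
      apply AlgHom.ext
      intro x
      have := DFunLike.congr_fun (congrArg Subtype.val h) (e x)
      change ψ₁.1 (e.symm (e x)) = ψ₂.1 (e.symm (e x)) at this
      rwa [AlgEquiv.symm_apply_apply] at this
    · intro χ
      refine ⟨⟨χ.1.comp e.toAlgHom, by rw [← AlgHom.comp_assoc, χ.2]⟩, ?_⟩
      apply Subtype.ext
      apply AlgHom.ext
      intro r
      change χ.1 (e (e.symm r)) = χ.1 r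
      rw [AlgEquiv.apply_symm_apply]
  let β : ∀ C : Art k k, (hR (MvPowerSeries (Fin d) k ⧸ RingHom.ker ϖ) res').obj C ≃ F.obj C :=
    fun C => Equiv.ofBijective (fun ψ => ξ.app C (pre C ψ)) ((hξ C).comp (hpre C))
  have hβ : ∀ {C' C : Art k k} (p : C' ⟶ C)
      (u : (hR (MvPowerSeries (Fin d) k ⧸ RingHom.ker ϖ) res').obj C'),
      β C ((hR (MvPowerSeries (Fin d) k ⧸ RingHom.ker ϖ) res').map p u) = F.map p (β C' u) := by
    intro C' C p u
    change ξ.app C (pre C (HomSet.map p u)) = F.map p (ξ.app C' (pre C' u))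
    rw [← ξ.natural]
    rfl
  haveI : Module.Finite k (Module.Dual k (↥(RingHom.ker ϖ) ⧸ ObsPS.NJ (RingHom.ker ϖ))) :=
    inferInstance
  let eV := (Module.finBasis k
    (Module.Dual k (↥(RingHom.ker ϖ) ⧸ ObsPS.NJ (RingHom.ker ϖ)))).equivFun
  exact ⟨_, ⟨obsTransport T β hβ eV⟩⟩

end Transport

end Groth.Agent.Lib.helper19
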