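import Mathlib
import Groth.Agent.Lib.helper19.ObsProrep

set_option autoImplicit false
universe u
open CategoryTheory IsLocalRing ArtFun ArtFun.Art MvPowerSeries

namespace Groth.Agent.Lib.helper19

theorem maximalIdeal_mvPowerSeries_eq (k : Type u) [Field k] (d : ℕ) :
    maximalIdeal (MvPowerSeries (Fin d) k) =
      Ideal.span (Set.range (X : Fin d → MvPowerSeries (Fin d) k)) := by
  apply le_antisymm
  · intro p hp
    apply SmoothBase.mem_span_X_of_constantCoeff_eq_zero
    rw [mem_maximalIdeal, mem_nonunits_iff, MvPowerSeries.isUnit_iff_constantCoeff] at hp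
    simpa using hp
  · exact PSC.span_X_le_maximalIdeal

theorem ringKrullDim_mvPowerSeries_le (k : Type u) [Field k] (d : ℕ) :
    ringKrullDim (MvPowerSeries (Fin d) k) ≤ d := by
  classical
  refine (ringKrullDim_le_spanFinrank_maximalIdeal _).trans ?_
  rw [maximalIdeal_mvPowerSeries_eq]
  have h1 := Submodule.spanFinrank_span_le_ncard_of_finite (R := MvPowerSeries (Fin d) k)
    (Set.finite_range (X : Fin d → MvPowerSeries (Fin d) k))
  have h2 : (Set.range (X : Fin d → MvPowerSeries (Fin d) k)).ncard ≤ d := by
    rw [← Set.image_univ]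
    refine (Set.ncard_image_le (Set.finite_univ)).trans ?_
    simp
  exact_mod_cast h1.trans h2

theorem injective_of_dim {S R : Type u} [CommRing S] [IsDomain S] [CommRing R] (d : ℕ)
    (hS : ringKrullDim S ≤ d) (hR : ringKrullDim R = d) (ϖ : S →+* R)
    (hϖ : Function.Surjective ϖ) : Function.Injective ϖ := by
  rw [injective_iff_map_eq_zero]
  intro f hf
  by_contra hf0
  have hnzd : f ∈ nonZeroDivisors S := mem_nonZeroDivisors_of_ne_zero hf0
  have h1 := ringKrullDim_quotient_succ_le_of_nonZeroDivisor hnzd
  have h2 : ringKrullDim R ≤ ringKrullDim (S ⧸ Ideal.span {f}) := by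
    refine ringKrullDim_le_of_surjective (Ideal.Quotient.lift (Ideal.span {f}) ϖ ?_) ?_
    · intro a ha
      rw [Ideal.mem_span_singleton'] at ha
      obtain ⟨b, rfl⟩ := ha
      rw [map_mul, hf, mul_zero]
    · exact Ideal.Quotient.lift_surjective_of_surjective _ _ hϖ
  rw [hR] at h2
  have h3 : ((d : ℕ) : WithBot ℕ∞) + 1 ≤ d := 
    (add_le_add_left h2 1).trans (h1.trans hS)
  have h4 : ((d + 1 : ℕ) : WithBot ℕ∞) ≤ (d : ℕ) := by
    push_cast
    exact h3
  have := Nat.cast_le.mp h4
  omega

theorem exists_algEquiv_mvPowerSeries_of_regular_complete (R : Type u)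
    [CommRing R] [IsRegularLocalRing R] [IsAdicComplete (IsLocalRing.maximalIdeal R) R]
    (k : Type u) [Field k] [Algebra k R]
    (hk : Function.Bijective (algebraMap k (IsLocalRing.ResidueField R))) :
    ∃ d : ℕ, Nonempty (R ≃ₐ[k] MvPowerSeries (Fin d) k) := by
  classical
  let e : k ≃ₐ[k] ResidueField R := AlgEquiv.ofBijective (Algebra.ofId k (ResidueField R)) hk
  let resR : R →ₐ[k] k :=
    (e.symm : ResidueField R →ₐ[k] k).comp (IsScalarTower.toAlgHom k R (ResidueField R))
  have hresR_surj : Function.Surjective resR := by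
    intro c
    refine ⟨algebraMap k R c, ?_⟩
    rw [AlgHom.commutes]; rfl
  let T : CRing k k :=
    { carrier := R
      res := resR
      res_surjective := hresR_surj
      isAdicComplete := inferInstance }
  have hresalg : ∀ c : k, T.res (algebraMap k R c) = c := fun c => by
    change resR (algebraMap k R c) = c
    rw [AlgHom.commutes]; rfl
  letI : Algebra R k := resR.toRingHom.toAlgebra
  haveI : IsScalarTower k R k :=
    IsScalarTower.of_algebraMap_eq (fun r => (resR.commutes r).symm)
  have hresk : ∀ a : R, algebraMap R k a = T.res a := fun a => rfl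
  have hsurj : Function.Surjective (algebraMap R k) := hresR_surj
  -- generators of the maximal ideal
  obtain ⟨s, hscard, hsspan⟩ :=
    Submodule.FG.exists_span_finset_card_eq_spanFinrank (p := maximalIdeal R)
      (IsNoetherian.noetherian _)
  set d := (maximalIdeal R).spanFinrank with hd
  let eqv : Fin d ≃ s := (Finset.equivFinOfCardEq hscard).symm
  let r : Fin d → R := fun i => (eqv i).1
  have hrange : Set.range r = (s : Set R) := by
    ext x
    constructor
    · rintro ⟨i, rfl⟩
      exact (eqv i).2
    · intro hx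
      exact ⟨eqv.symm ⟨x, hx⟩, by simp [r]⟩
  have hrspan : Ideal.span (Set.range r) = maximalIdeal R := by
    rw [hrange]; exact hsspan
  have hrm : ∀ i, r i ∈ maximalIdeal T.carrier := by
    intro i
    change r i ∈ maximalIdeal R
    rw [← hrspan]
    exact Ideal.subset_span ⟨i, rfl⟩
  obtain ⟨ϖ, hϖres, hϖC, hϖX⟩ := PS.exists_algHom (R := fieldCRing k) (n := d) (S := T)
    (Algebra.ofId k R) (AlgHom.ext fun c => hresalg c) r hrm
  haveI : IsAdicComplete (maximalIdeal (PS (fieldCRing k) d)) (PS (fieldCRing k) d) :=
    (psCRing (fieldCRing k) d).isAdicComplete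
  have hϖsurj : Function.Surjective ϖ := by
    by_contra hns
    obtain ⟨D, hD1, x, hD2⟩ := exists_derivation_of_not_surjective (R := PS (fieldCRing k) d)
      (S := R) (PSres (fieldCRing k) d) (psCRing (fieldCRing k) d).res_surjective hsurj ϖ (by
        apply AlgHom.ext
        intro p
        change algebraMap R k (ϖ p) = _
        rw [hresk]
        exact DFunLike.congr_fun hϖres p) hns
    have hDr : ∀ i, D (r i) = 0 := fun i => by
      rw [← hϖX i]; exact hD1 _
    have hDm : ∀ y ∈ maximalIdeal R, D y = 0 := by
      intro y hy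
      rw [← hrspan] at hy
      induction hy using Submodule.span_induction with
      | mem y hy =>
        obtain ⟨i, rfl⟩ := hy
        exact hDr i
      | zero => exact map_zero D
      | add a b _ _ ha hb => rw [map_add, ha, hb, add_zero]
      | smul a b hb hDb =>
        rw [smul_eq_mul, D.leibniz, hDb, smul_zero, zero_add]
        have hbm : b ∈ maximalIdeal R := by
          rw [← hrspan]; exact hb
        have : algebraMap R k b = 0 := by
          rw [hresk]
          exact (CRing.mem_maximalIdeal_iff T b).mp hbm
        rw [Algebra.smul_def, this, zero_mul]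
    have hD0 : ∀ y, D y = 0 := by
      intro y
      have hy : y - algebraMap k R (T.res y) ∈ maximalIdeal R := by
        rw [CRing.mem_maximalIdeal_iff T, map_sub, hresalg, sub_self]
      have := hDm _ hy
      rw [map_sub, D.map_algebraMap, sub_zero] at this
      exact this
    rw [hD0] at hD2
    exact zero_ne_one hD2
  haveI : IsDomain (PS (fieldCRing k) d) :=
    (NoZeroDivisors.to_isDomain (MvPowerSeries (Fin d) k) : IsDomain (MvPowerSeries (Fin d) k))
  have hϖinj : Function.Injective ϖ :=
    injective_of_dim (S := PS (fieldCRing k) d) (R := R) d (ringKrullDim_mvPowerSeries_le k d)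
      (IsRegularLocalRing.spanFinrank_maximalIdeal (R := R)).symm ϖ.toRingHom hϖsurj
  exact ⟨d, ⟨(AlgEquiv.ofBijective ϖ ⟨hϖinj, hϖsurj⟩).symm⟩⟩

end Groth.Agent.Lib.helper19
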