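import Mathlib
import Groth.Agent.Lib.helper19.RegComplete

set_option autoImplicit false
universe u
open CategoryTheory IsLocalRing ArtFun ArtFun.Art MvPowerSeries

namespace Groth.Agent.Lib.helper19

section PSLinear

variable {k : Type u} [Field k]

/-- every element of the maximal ideal of `k[[x₁,…,x_d]]` is a linear form modulo `n²` -/
theorem PS.exists_linear_part (d : ℕ) (f : PS (fieldCRing k) d)
    (hf : f ∈ maximalIdeal (PS (fieldCRing k) d)) :
    ∃ c : Fin d → k, f - ∑ i, C (c i) * X i ∈ maximalIdeal (PS (fieldCRing k) d) ^ 2 := by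
  classical
  obtain ⟨q', hq'C, hq'X⟩ := exists_tangentProj (fieldCRing k) d
  set c : Fin d → k := fun i => (TrivSqZeroExt.snd (q'.1 f : TrivSqZeroExt k (Fin d → k))) i with hc
  refine ⟨c, ?_⟩
  set g : PS (fieldCRing k) d := f - ∑ i, C (c i) * X i with hg
  by_contra hg2
  have hXm : ∀ i, (X i : PS (fieldCRing k) d) ∈ maximalIdeal (PS (fieldCRing k) d) := fun i =>
    PSC.span_X_le_maximalIdeal (Ideal.subset_span ⟨i, rfl⟩)
  have hgm : g ∈ maximalIdeal (PS (fieldCRing k) d) := by
    rw [hg]
    refine Ideal.sub_mem _ hf (Ideal.sum_mem _ (fun i _ => Ideal.mul_mem_left _ _ (hXm i)))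
  letI : Algebra (PS (fieldCRing k) d) k := (PSres (fieldCRing k) d).toRingHom.toAlgebra
  haveI : IsScalarTower k (PS (fieldCRing k) d) k :=
    IsScalarTower.of_algebraMap_eq (fun r => ((PSres (fieldCRing k) d).commutes r).symm)
  obtain ⟨D, hD⟩ := exists_derivation_eq_one_of_not_mem_sq (psCRing (fieldCRing k) d)
    (fun a => rfl) g hgm hg2
  have hCalg : ∀ r : k, (MvPowerSeries.C r : PS (fieldCRing k) d) =
      algebraMap k (PS (fieldCRing k) d) r := by
    intro r
    rw [MvPowerSeries.algebraMap_apply, Algebra.algebraMap_self, RingHom.id_apply]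
  have h1 := PS.deriv_formula q' hq'C hq'X (fun p => D p) (fun p p' => map_add D p p')
    (fun p p' => by
      change D (p * p') = _
      rw [D.leibniz, Algebra.smul_def, Algebra.smul_def]
      rfl)
    (fun r => by
      change D (MvPowerSeries.C r) = 0
      rw [hCalg, D.map_algebraMap]) g
  have hsub : ∀ a b : PS (fieldCRing k) d,
      TrivSqZeroExt.snd (q'.1 (a - b) : TrivSqZeroExt k (Fin d → k)) =
        TrivSqZeroExt.snd (q'.1 a : TrivSqZeroExt k (Fin d → k)) -
          TrivSqZeroExt.snd (q'.1 b : TrivSqZeroExt k (Fin d → k)) := by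
    intro a b
    rw [map_sub]
    rfl
  have hsum : ∀ (s : Finset (Fin d)) (F : Fin d → PS (fieldCRing k) d),
      TrivSqZeroExt.snd (q'.1 (∑ i ∈ s, F i) : TrivSqZeroExt k (Fin d → k)) =
        ∑ i ∈ s, TrivSqZeroExt.snd (q'.1 (F i) : TrivSqZeroExt k (Fin d → k)) := by
    intro s F
    induction s using Finset.induction_on with
    | empty =>
      rw [Finset.sum_empty, Finset.sum_empty, map_zero]
      rfl
    | insert a s ha ih =>
      rw [Finset.sum_insert ha, Finset.sum_insert ha, map_add, ← ih]
      rfl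
  have hmul : ∀ (r : k) (i : Fin d),
      TrivSqZeroExt.snd (q'.1 (C r * X i) : TrivSqZeroExt k (Fin d → k)) = r • Pi.single i 1 := by
    intro r i
    rw [map_mul, hq'C, hq'X]
    refine (TrivSqZeroExt.snd_mul (TrivSqZeroExt.inl r : TrivSqZeroExt k (Fin d → k))
      (TrivSqZeroExt.inr (Pi.single i 1))).trans ?_
    rw [TrivSqZeroExt.fst_inl, TrivSqZeroExt.snd_inl,
      TrivSqZeroExt.snd_inr, TrivSqZeroExt.fst_inr]
    simp
  have h2 : ∀ j, (TrivSqZeroExt.snd (q'.1 g : TrivSqZeroExt k (Fin d → k))) j = 0 := by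
    intro j
    rw [hg, hsub, hsum, Pi.sub_apply, Finset.sum_apply]
    simp_rw [hmul]
    have : ∀ i, (c i • (Pi.single i 1 : Fin d → k)) j = if i = j then c i else 0 := by
      intro i
      simp [Pi.single_apply, eq_comm]
    simp_rw [this]
    rw [Finset.sum_ite_eq' Finset.univ j (fun i => c i), if_pos (Finset.mem_univ j), sub_self]
  have h3 : D g = 0 := by
    refine h1.trans ?_
    apply Finset.sum_eq_zero
    intro i _
    rw [h2, zero_mul]
  rw [h3] at hD
  exact zero_ne_one hD

end PSLinear


section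
variable (k : Type u) [Field k] (R : Type u) [CommRing R] [IsLocalRing R] [IsNoetherianRing R]
  [Algebra k R] [IsAdicComplete (IsLocalRing.maximalIdeal R) R]
  (hk : Function.Bijective (algebraMap k (IsLocalRing.ResidueField R)))

/-- the residue map to the coefficient field -/
noncomputable def coeffRes : R →ₐ[k] k :=
  ((AlgEquiv.ofBijective (Algebra.ofId k (ResidueField R)) hk).symm : ResidueField R →ₐ[k] k).comp
    (IsScalarTower.toAlgHom k R (ResidueField R))

theorem coeffRes_algebraMap (c : k) : coeffRes k R hk (algebraMap k R c) = c := by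
  rw [AlgHom.commutes]; rfl

/-- a complete Noetherian local `k`-algebra with residue field `k`, as a coefficient ring -/
@[reducible] noncomputable def coeffCRing : CRing k k :=
  { carrier := R
    res := coeffRes k R hk
    res_surjective := fun c => ⟨algebraMap k R c, coeffRes_algebraMap k R hk c⟩
    isAdicComplete := inferInstance }

variable {k R}
include hk

theorem coeff_local {d : ℕ} (ψ : MvPowerSeries (Fin d) k →ₐ[k] R)
    (hψ : ∀ i : Fin d, ψ (MvPowerSeries.X i) ∈ IsLocalRing.maximalIdeal R) :
    (coeffRes k R hk).comp ψ = PSres (fieldCRing k) d := by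
  have hmap : ∀ g ∈ Ideal.span (Set.range (X : Fin d → MvPowerSeries (Fin d) k)),
      ψ g ∈ maximalIdeal R := by
    intro g hg
    have : Ideal.span (Set.range (X : Fin d → MvPowerSeries (Fin d) k)) ≤
        (maximalIdeal R).comap ψ.toRingHom := by
      rw [Ideal.span_le]
      rintro _ ⟨i, rfl⟩
      exact hψ i
    exact this hg
  apply AlgHom.ext
  intro f
  have hf : f = C (constantCoeff f) + (f - C (constantCoeff f)) := by ring
  have hg : f - C (constantCoeff f) ∈
      Ideal.span (Set.range (X : Fin d → MvPowerSeries (Fin d) k)) := by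
    apply SmoothBase.mem_span_X_of_constantCoeff_eq_zero
    rw [map_sub, constantCoeff_C, sub_self]
  have h1 : coeffRes k R hk (ψ (f - C (constantCoeff f))) = 0 :=
    (CRing.mem_maximalIdeal_iff (coeffCRing k R hk) _).mp (hmap _ hg)
  have h2 : PSres (fieldCRing k) d (f - C (constantCoeff f)) = 0 :=
    (CRing.mem_maximalIdeal_iff (psCRing (fieldCRing k) d) _).mp
      (PSC.span_X_le_maximalIdeal hg)
  have hCalg : ∀ r : k, (MvPowerSeries.C r : MvPowerSeries (Fin d) k) =
      algebraMap k (MvPowerSeries (Fin d) k) r := by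
    intro r
    rw [MvPowerSeries.algebraMap_apply, Algebra.algebraMap_self, RingHom.id_apply]
  change coeffRes k R hk (ψ f) = PSres (fieldCRing k) d f
  rw [hf, map_add, map_add, map_add, h1, h2, hCalg, AlgHom.commutes, AlgHom.commutes,
    AlgHom.commutes]


theorem coeff_surjective_of_span {d : ℕ} (ψ : MvPowerSeries (Fin d) k →ₐ[k] R)
    (hψ : ∀ i : Fin d, ψ (MvPowerSeries.X i) ∈ IsLocalRing.maximalIdeal R)
    (hrspan : Ideal.span (Set.range (fun i => ψ (X i))) = maximalIdeal R) :
    Function.Surjective ψ := by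
  classical
  have hϖres := coeff_local hk ψ hψ
  set resR := coeffRes k R hk with hresR
  let T : CRing k k := coeffCRing k R hk
  have hresalg : ∀ c : k, T.res (algebraMap k R c) = c := coeffRes_algebraMap k R hk
  letI : Algebra R k := resR.toRingHom.toAlgebra
  haveI : IsScalarTower k R k :=
    IsScalarTower.of_algebraMap_eq (fun r => (resR.commutes r).symm)
  have hresk : ∀ a : R, algebraMap R k a = T.res a := fun a => rfl
  have hsurj : Function.Surjective (algebraMap R k) := T.res_surjective
  haveI : IsAdicComplete (maximalIdeal (PS (fieldCRing k) d)) (PS (fieldCRing k) d) :=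
    (psCRing (fieldCRing k) d).isAdicComplete
  by_contra hns
  obtain ⟨D, hD1, x, hD2⟩ := exists_derivation_of_not_surjective (R := PS (fieldCRing k) d)
    (S := R) (PSres (fieldCRing k) d) (psCRing (fieldCRing k) d).res_surjective hsurj ψ (by
      apply AlgHom.ext
      intro p
      change algebraMap R k (ψ p) = _
      rw [hresk]
      exact DFunLike.congr_fun hϖres p) hns
  have hDr : ∀ i, D (ψ (X i)) = 0 := fun i => hD1 _
  have hDm : ∀ y ∈ maximalIdeal R, D y = 0 := by
    intro y hy
    rw [← hrspan] at hy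
    induction hy using Submodule.span_induction with
    | mem y hy =>
      obtain ⟨i, rfl⟩ := hy
      exact hDr i
    | zero => exact map_zero D
    | add a b _ _ ha hb => rw [map_add, ha, hb, add_zero]
    | smul a b hb hDb =>
      rw [smul_eq_mul, D.leibniz, hDb, smul_zero, zero_add]
      have hbm : b ∈ maximalIdeal R := by
        rw [← hrspan]; exact hb
      have : algebraMap R k b = 0 := by
        rw [hresk]
        exact (CRing.mem_maximalIdeal_iff T b).mp hbm
      rw [Algebra.smul_def, this, zero_mul]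
  have hD0 : ∀ y, D y = 0 := by
    intro y
    have hy : y - algebraMap k R (T.res y) ∈ maximalIdeal R := by
      rw [CRing.mem_maximalIdeal_iff T, map_sub, hresalg, sub_self]
    have := hDm _ hy
    rw [map_sub, D.map_algebraMap, sub_zero] at this
    exact this
  rw [hD0] at hD2
  exact zero_ne_one hD2

theorem coeff_ker_le_sq {d : ℕ} (ψ : MvPowerSeries (Fin d) k →ₐ[k] R)
    (hψ : ∀ i : Fin d, ψ (MvPowerSeries.X i) ∈ IsLocalRing.maximalIdeal R)
    (hb : LinearIndependent (IsLocalRing.ResidueField R)
      (fun i : Fin d => (IsLocalRing.maximalIdeal R).toCotangent ⟨ψ (MvPowerSeries.X i), hψ i⟩)) :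
    RingHom.ker ψ.toRingHom ≤ IsLocalRing.maximalIdeal (MvPowerSeries (Fin d) k) ^ 2 := by
  classical
  have hϖres := coeff_local hk ψ hψ
  intro f hf
  have hf0 : ψ f = 0 := hf
  have hfm : f ∈ maximalIdeal (PS (fieldCRing k) d) := by
    rw [CRing.mem_maximalIdeal_iff (psCRing (fieldCRing k) d)]
    change PSres (fieldCRing k) d f = 0
    rw [← hϖres]
    change coeffRes k R hk (ψ f) = 0
    rw [hf0, map_zero]
  obtain ⟨c, hc⟩ := PS.exists_linear_part d f hfm
  -- ψ maps n into m
  have hmapm : ∀ g ∈ maximalIdeal (PS (fieldCRing k) d), ψ g ∈ maximalIdeal R := by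
    intro g hg
    rw [CRing.mem_maximalIdeal_iff (coeffCRing k R hk)]
    change ((coeffRes k R hk).comp ψ) g = 0
    rw [hϖres]
    exact (CRing.mem_maximalIdeal_iff (psCRing (fieldCRing k) d) g).mp hg
  have hmapsq : ∀ g ∈ maximalIdeal (PS (fieldCRing k) d) ^ 2, ψ g ∈ maximalIdeal R ^ 2 := by
    intro g hg
    have h1 : Ideal.map ψ.toRingHom (maximalIdeal (PS (fieldCRing k) d)) ≤ maximalIdeal R := by
      rw [Ideal.map_le_iff_le_comap]
      exact fun g hg => hmapm g hg
    have h2 : Ideal.map ψ.toRingHom (maximalIdeal (PS (fieldCRing k) d) ^ 2) ≤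
        maximalIdeal R ^ 2 := by
      rw [Ideal.map_pow]
      exact Ideal.pow_right_mono h1 2
    exact h2 (Ideal.mem_map_of_mem _ hg)
  have h3 := hmapsq _ hc
  have hCalg : ∀ r : k, (MvPowerSeries.C r : MvPowerSeries (Fin d) k) =
      algebraMap k (MvPowerSeries (Fin d) k) r := by
    intro r
    rw [MvPowerSeries.algebraMap_apply, Algebra.algebraMap_self, RingHom.id_apply]
  have h4 : ψ (f - ∑ i, C (c i) * X i) = - ∑ i, algebraMap k R (c i) * ψ (X i) := by
    rw [map_sub, hf0, zero_sub, map_sum]
    congr 1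
    apply Finset.sum_congr rfl
    intro i _
    rw [map_mul, hCalg, AlgHom.commutes]
  rw [h4, neg_mem_iff] at h3
  -- linear independence
  have h5 : ∑ i, (algebraMap k (ResidueField R) (c i)) •
      (maximalIdeal R).toCotangent ⟨ψ (X i), hψ i⟩ = 0 := by
    have h6 : (maximalIdeal R).toCotangent
        ⟨∑ i, algebraMap k R (c i) * ψ (X i),
          Ideal.sum_mem _ (fun i _ => Ideal.mul_mem_left _ _ (hψ i))⟩ = 0 := by
      rw [Ideal.toCotangent_eq_zero]
      exact h3
    have h7 : (⟨∑ i, algebraMap k R (c i) * ψ (X i),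
          Ideal.sum_mem _ (fun i _ => Ideal.mul_mem_left _ _ (hψ i))⟩ : maximalIdeal R) =
        ∑ i, algebraMap k R (c i) • (⟨ψ (X i), hψ i⟩ : maximalIdeal R) := by
      apply Subtype.ext
      simp [Algebra.smul_def]
    rw [h7, map_sum] at h6
    rw [← h6]
    apply Finset.sum_congr rfl
    intro i _
    rw [map_smul, IsScalarTower.algebraMap_apply k R (ResidueField R), algebraMap_smul]
  have h8 := (Fintype.linearIndependent_iff.mp hb) _ h5
  have hc0 : ∀ i, c i = 0 := by
    intro i
    have := h8 i
    exact (map_eq_zero_iff _ (algebraMap k (ResidueField R)).injective).mp this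
  have : f - ∑ i, C (c i) * X i = f := by
    rw [sub_eq_self]
    apply Finset.sum_eq_zero
    intro i _
    rw [hc0, map_zero, zero_mul]
  rw [this] at hc
  exact hc


omit hk in
theorem coeff_span_eq_of_cotangent_span {d : ℕ} (b : Fin d → R)
    (hψ : ∀ i : Fin d, b i ∈ IsLocalRing.maximalIdeal R)
    (hsp : Submodule.span (IsLocalRing.ResidueField R)
      (Set.range (fun i : Fin d => (IsLocalRing.maximalIdeal R).toCotangent ⟨b i, hψ i⟩)) = ⊤) :
    Ideal.span (Set.range b) = maximalIdeal R := by
  have h1 : Set.range (fun i : Fin d => (IsLocalRing.maximalIdeal R).toCotangent ⟨b i, hψ i⟩) =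
      (maximalIdeal R).toCotangent '' (Set.range (fun i : Fin d => (⟨b i, hψ i⟩ : maximalIdeal R))) := by
    rw [← Set.range_comp]
    rfl
  rw [h1, IsLocalRing.CotangentSpace.span_image_eq_top_iff] at hsp
  have h2 := congrArg (Submodule.map (Submodule.subtype (maximalIdeal R))) hsp
  rw [Submodule.map_span, Submodule.map_top, Submodule.range_subtype, ← Set.range_comp] at h2
  exact h2

omit hk in
theorem coeff_bijective_of_surjective
    (hR : Function.Surjective ((IsLocalRing.residue R).comp (algebraMap k R))) :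
    Function.Bijective (algebraMap k (IsLocalRing.ResidueField R)) :=
  ⟨(algebraMap k (IsLocalRing.ResidueField R)).injective, hR⟩

end

theorem mvPowerSeries_algHom_surjective_and_ker_le_sq (k : Type u) [Field k] (R : Type u) [CommRing R] [IsLocalRing R] [IsNoetherianRing R] [Algebra k R]
    [IsAdicComplete (IsLocalRing.maximalIdeal R) R]
    (hR : Function.Surjective ((IsLocalRing.residue R).comp (algebraMap k R)))
    (d : ℕ) (ψ : MvPowerSeries (Fin d) k →ₐ[k] R)
    (hψ : ∀ i : Fin d, ψ (MvPowerSeries.X i) ∈ IsLocalRing.maximalIdeal R)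
    (hb : LinearIndependent (IsLocalRing.ResidueField R)
      (fun i : Fin d => (IsLocalRing.maximalIdeal R).toCotangent ⟨ψ (MvPowerSeries.X i), hψ i⟩))
    (hsp : Submodule.span (IsLocalRing.ResidueField R)
      (Set.range (fun i : Fin d => (IsLocalRing.maximalIdeal R).toCotangent ⟨ψ (MvPowerSeries.X i), hψ i⟩)) = ⊤) :
    Function.Surjective ψ ∧
      RingHom.ker ψ.toRingHom ≤ IsLocalRing.maximalIdeal (MvPowerSeries (Fin d) k) ^ 2 := by
  have hk := coeff_bijective_of_surjective hR
  exact ⟨coeff_surjective_of_span hk ψ hψ (coeff_span_eq_of_cotangent_span _ hψ hsp),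
    coeff_ker_le_sq hk ψ hψ hb⟩


theorem le_ringKrullDim_mvPowerSeries (k : Type u) [Field k] (d : ℕ) :
    (d : WithBot ℕ∞) ≤ ringKrullDim (MvPowerSeries (Fin d) k) := by
  induction d with
  | zero =>
    simp only [Nat.cast_zero]
    exact ringKrullDim_nonneg_of_nontrivial
  | succ n ih =>
    rw [ringKrullDim_eq_of_ringEquiv (MvPowerSeries.finSuccEquiv k n).toRingEquiv]
    refine le_trans ?_ ringKrullDim_succ_le_ringKrullDim_powerseries
    push_cast
    exact add_le_add_left ih 1

theorem ringKrullDim_mvPowerSeries_eq (k : Type u) [Field k] (d : ℕ) :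
    ringKrullDim (MvPowerSeries (Fin d) k) = d :=
  le_antisymm (ringKrullDim_mvPowerSeries_le k d) (le_ringKrullDim_mvPowerSeries k d)

theorem isRegularLocalRing_mvPowerSeries (k : Type u) [Field k] (d : ℕ) :
    IsRegularLocalRing (MvPowerSeries (Fin d) k) := by
  classical
  apply IsRegularLocalRing.of_spanFinrank_maximalIdeal_le
  rw [ringKrullDim_mvPowerSeries_eq, maximalIdeal_mvPowerSeries_eq]
  have h1 := Submodule.spanFinrank_span_le_ncard_of_finite (R := MvPowerSeries (Fin d) k)
    (Set.finite_range (X : Fin d → MvPowerSeries (Fin d) k))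
  have h2 : (Set.range (X : Fin d → MvPowerSeries (Fin d) k)).ncard ≤ d := by
    rw [← Set.image_univ]
    refine (Set.ncard_image_le (Set.finite_univ)).trans ?_
    simp
  exact_mod_cast h1.trans h2


theorem isRegularLocalRing_iff_mvPowerSeries_algHom_bijective (k : Type u) [Field k] (R : Type u) [CommRing R] [IsLocalRing R] [IsNoetherianRing R] [Algebra k R]
    [IsAdicComplete (IsLocalRing.maximalIdeal R) R]
    (hR : Function.Surjective ((IsLocalRing.residue R).comp (algebraMap k R)))
    (d : ℕ) (ψ : MvPowerSeries (Fin d) k →ₐ[k] R)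
    (hψ : ∀ i : Fin d, ψ (MvPowerSeries.X i) ∈ IsLocalRing.maximalIdeal R)
    (hb : LinearIndependent (IsLocalRing.ResidueField R)
      (fun i : Fin d => (IsLocalRing.maximalIdeal R).toCotangent ⟨ψ (MvPowerSeries.X i), hψ i⟩))
    (hsp : Submodule.span (IsLocalRing.ResidueField R)
      (Set.range (fun i : Fin d => (IsLocalRing.maximalIdeal R).toCotangent ⟨ψ (MvPowerSeries.X i), hψ i⟩)) = ⊤) :
    IsRegularLocalRing R ↔ Function.Bijective ψ := by
  obtain ⟨hsurj, -⟩ := mvPowerSeries_algHom_surjective_and_ker_le_sq k R hR d ψ hψ hb hsp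
  constructor
  · intro hreg
    refine ⟨?_, hsurj⟩
    have hfin : Module.finrank (ResidueField R) (CotangentSpace R) = d := by
      have := Module.finrank_eq_card_basis (Module.Basis.mk hb hsp.ge)
      rw [this, Fintype.card_fin]
    have hdim : ringKrullDim R = d := by
      rw [← (IsRegularLocalRing.iff_finrank_cotangentSpace R).mp hreg, hfin]
    haveI : IsDomain (MvPowerSeries (Fin d) k) := NoZeroDivisors.to_isDomain _
    exact injective_of_dim d (ringKrullDim_mvPowerSeries_le k d) hdim ψ.toRingHom hsurj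
  · intro hbij
    haveI := isRegularLocalRing_mvPowerSeries k d
    exact IsRegularLocalRing.of_ringEquiv (AlgEquiv.ofBijective ψ hbij).toRingEquiv

end Groth.Agent.Lib.helper19
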