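import Mathlib

set_option autoImplicit false
universe u
open IsLocalRing

namespace Groth.Agent.Lib.helper19

/-- "subalgebra Nakayama": a subring `S` of `C` with `C = S + m`, `m ⊆ S + m²` and `m` nilpotent is
everything -/
theorem subring_eq_top_of_add_sq {C : Type*} [CommRing C] (m : Ideal C) (S : Subring C)
    (N : ℕ) (hN : m ^ N = ⊥) (h1 : ∀ c : C, ∃ s ∈ S, c - s ∈ m)
    (h2 : ∀ x ∈ m, ∃ s ∈ S, x - s ∈ m ^ 2) : S = ⊤ := by
  have H : ∀ j : ℕ, ∀ x ∈ m ^ (j + 1), ∃ s ∈ S, x - s ∈ m ^ (j + 2) := by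
    intro j
    induction j with
    | zero =>
      intro x hx
      rw [zero_add, pow_one] at hx
      exact h2 x hx
    | succ j ih =>
      intro x hx
      rw [pow_succ] at hx
      induction hx using Submodule.mul_induction_on' with
      | mem_mul_mem a ha b hb =>
        obtain ⟨s, hs, has⟩ := ih a ha
        obtain ⟨t, ht, hbt⟩ := h2 b hb
        refine ⟨s * t, S.mul_mem hs ht, ?_⟩
        have hsm : s ∈ m ^ (j + 1) := by
          have : s = a - (a - s) := by ring
          rw [this]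
          exact Ideal.sub_mem _ ha (Ideal.pow_le_pow_right (by omega) has)
        have e : a * b - s * t = (a - s) * b + s * (b - t) := by ring
        rw [e]
        refine Ideal.add_mem _ ?_ ?_
        · have : m ^ (j + 1 + 2) = m ^ (j + 2) * m := by rw [← pow_succ]
          rw [this]
          exact Ideal.mul_mem_mul has hb
        · have : m ^ (j + 1 + 2) = m ^ (j + 1) * m ^ 2 := by rw [← pow_add]
          rw [this]
          exact Ideal.mul_mem_mul hsm hbt
      | add x _ y _ hx hy =>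
        obtain ⟨s, hs, hxs⟩ := hx
        obtain ⟨t, ht, hyt⟩ := hy
        refine ⟨s + t, S.add_mem hs ht, ?_⟩
        have : x + y - (s + t) = (x - s) + (y - t) := by ring
        rw [this]
        exact Ideal.add_mem _ hxs hyt
  have H2 : ∀ j : ℕ, ∀ c : C, ∃ s ∈ S, c - s ∈ m ^ (j + 1) := by
    intro j
    induction j with
    | zero =>
      intro c
      rw [zero_add, pow_one]
      exact h1 c
    | succ j ih =>
      intro c
      obtain ⟨s, hs, hcs⟩ := ih c
      obtain ⟨t, ht, hcst⟩ := H j _ hcs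
      refine ⟨s + t, S.add_mem hs ht, ?_⟩
      have : c - (s + t) = c - s - t := by ring
      rw [this]
      exact hcst
  rw [eq_top_iff]
  intro c _
  obtain ⟨s, hs, hcs⟩ := H2 N c
  have : m ^ (N + 1) = ⊥ := by
    rw [pow_succ, hN, Ideal.bot_mul]
  rw [this, Ideal.mem_bot, sub_eq_zero] at hcs
  rw [hcs]
  exact hs


theorem le_ker_of_section {k P C : Type*} [Field k] [CommRing P] [IsLocalRing P] [Algebra k P]
    [CommRing C] [Algebra k C]
    (hres : ∀ x : P, ∃ c : k, x - algebraMap k P c ∈ maximalIdeal P)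
    (I : Ideal P) (hI : I ≤ maximalIdeal P ^ 2) (N : ℕ)
    (pr φ : P →ₐ[k] C) (hpr : Function.Surjective pr)
    (hN : maximalIdeal P ^ N ≤ RingHom.ker pr.toRingHom)
    (hker : RingHom.ker pr.toRingHom ≤ I ⊔ maximalIdeal P ^ N)
    (hφI : ∀ x ∈ I, φ x = 0) (hdiff : ∀ x, φ x - pr x ∈ I.map pr.toRingHom) :
    I ≤ RingHom.ker pr.toRingHom := by
  set m : Ideal C := (maximalIdeal P).map pr.toRingHom with hm
  have hmN : m ^ N = ⊥ := by
    rw [hm, ← Ideal.map_pow, Ideal.map_eq_bot_iff_le_ker]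
    exact hN
  have hIm : I.map pr.toRingHom ≤ m ^ 2 := by
    rw [hm, ← Ideal.map_pow]
    exact Ideal.map_mono hI
  have hφn : ∀ z ∈ maximalIdeal P, φ z ∈ m := by
    intro z hz
    have : φ z = pr z + (φ z - pr z) := by ring
    rw [this]
    refine Ideal.add_mem _ (Ideal.mem_map_of_mem _ hz) ?_
    exact Ideal.pow_le_self (by norm_num) (hIm (hdiff z))
  have hφN : ∀ z ∈ maximalIdeal P ^ N, φ z = 0 := by
    intro z hz
    have h1 : (maximalIdeal P).map φ.toRingHom ≤ m := by
      rw [Ideal.map_le_iff_le_comap]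
      exact fun z hz => hφn z hz
    have h2 : (maximalIdeal P ^ N).map φ.toRingHom ≤ m ^ N := by
      rw [Ideal.map_pow]
      exact Ideal.pow_right_mono h1 N
    have := h2 (Ideal.mem_map_of_mem _ hz)
    rw [hmN] at this
    exact this
  have hS : φ.toRingHom.range = ⊤ := by
    apply subring_eq_top_of_add_sq m _ N hmN
    · intro c
      obtain ⟨x, rfl⟩ := hpr c
      obtain ⟨a, ha⟩ := hres x
      refine ⟨φ (algebraMap k P a), ⟨_, rfl⟩, ?_⟩
      have : pr x - φ (algebraMap k P a) = pr (x - algebraMap k P a) := by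
        rw [map_sub, AlgHom.commutes, AlgHom.commutes]
      rw [this]
      exact Ideal.mem_map_of_mem _ ha
    · intro x hx
      obtain ⟨y, hy, rfl⟩ := (Ideal.mem_map_iff_of_surjective pr.toRingHom hpr).mp hx
      refine ⟨φ y, ⟨y, rfl⟩, ?_⟩
      have : pr.toRingHom y - φ y = -(φ y - pr y) := by
        change pr y - φ y = _
        ring
      rw [this]
      exact Ideal.neg_mem_iff _ |>.mpr (hIm (hdiff y))
  intro i hi
  have hpi : pr i ∈ φ.toRingHom.range := by rw [hS]; trivial
  obtain ⟨y, hy⟩ := hpi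
  have hy' : φ y = pr i := hy
  have h3 : pr y ∈ I.map pr.toRingHom := by
    have : pr y = pr i - (φ y - pr y) := by rw [← hy']; ring
    rw [this]
    exact Ideal.sub_mem _ (Ideal.mem_map_of_mem _ hi) (hdiff y)
  obtain ⟨i', hi', hi'y⟩ := (Ideal.mem_map_iff_of_surjective pr.toRingHom hpr).mp h3
  have h4 : y - i' ∈ RingHom.ker pr.toRingHom := by
    rw [RingHom.mem_ker, map_sub, hi'y]
    exact sub_self _
  have h5 : y ∈ I ⊔ maximalIdeal P ^ N := by
    have : y = (y - i') + i' := by ring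
    rw [this]
    exact Ideal.add_mem _ (hker h4) (Ideal.mem_sup_left hi')
  obtain ⟨a, ha, b, hb, rfl⟩ := Submodule.mem_sup.mp h5
  rw [RingHom.mem_ker]
  change pr i = 0
  rw [← hy', map_add, hφI a ha, hφN b hb, add_zero]

/-- Artin–Rees + Nakayama: generators modulo `n I + n^N` for all `N` generate -/
theorem spanFinrank_le_of_forall_exists {P : Type*} [CommRing P] [IsLocalRing P]
    [IsNoetherianRing P] (I : Ideal P) (r : ℕ)
    (h : ∀ N : ℕ, ∃ s : Finset P, s.card ≤ r ∧ (s : Set P) ⊆ I ∧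
      I ≤ Ideal.span (s : Set P) ⊔ maximalIdeal P • I ⊔ maximalIdeal P ^ N) :
    ∃ s : Finset P, s.card ≤ r ∧ Ideal.span (s : Set P) = I := by
  obtain ⟨c, hc⟩ := Ideal.exists_pow_inf_eq_pow_smul (maximalIdeal P) (I : Submodule P P)
  obtain ⟨s, hsr, hsI, hs⟩ := h (c + 1)
  have hAR : maximalIdeal P ^ (c + 1) ⊓ I ≤ maximalIdeal P • I := by
    have h1 := hc (c + 1) (by omega)
    have h2 : (maximalIdeal P ^ (c + 1) • ⊤ ⊓ I : Submodule P P) = maximalIdeal P ^ (c + 1) ⊓ I := by
      rw [Ideal.smul_top_eq_map]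
      simp
    intro x hx
    have hx' : x ∈ (maximalIdeal P ^ (c + 1) • ⊤ ⊓ I : Submodule P P) := by rw [h2]; exact hx
    rw [h1] at hx'
    have h3 : c + 1 - c = 1 := by omega
    rw [h3, pow_one] at hx'
    exact Submodule.smul_mono le_rfl inf_le_right hx'
  have hspan : Ideal.span (s : Set P) ≤ I := Ideal.span_le.mpr hsI
  have hmI : maximalIdeal P • I ≤ I := by
    rw [smul_eq_mul]
    exact Ideal.mul_le_right (I := maximalIdeal P) (J := I)
  have h6 : I ≤ Ideal.span (s : Set P) ⊔ maximalIdeal P • I := by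
    intro x hx
    obtain ⟨ab, hab, e, he, rfl⟩ := Submodule.mem_sup.mp (hs hx)
    have habI : ab ∈ I := by
      obtain ⟨a, ha, b, hb, rfl⟩ := Submodule.mem_sup.mp hab
      exact Ideal.add_mem _ (hspan ha) (hmI hb)
    have heI : e ∈ I := by
      have : e = (ab + e) - ab := by ring
      rw [this]
      exact Ideal.sub_mem _ hx habI
    exact Ideal.add_mem _ hab (Ideal.mem_sup_right (hAR ⟨he, heI⟩))
  have h7 : I ≤ Ideal.span (s : Set P) :=
    Submodule.le_of_le_smul_of_le_jacobson_bot (IsNoetherian.noetherian I)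
      (IsLocalRing.jacobson_eq_maximalIdeal ⊥ bot_ne_top).ge h6
  exact ⟨s, hsr, le_antisymm hspan h7⟩


/-- abstract form: a lift of `P/I → P/(I+n^N)` to `(P/𝔟)/K`, `K` generated by `r` elements of the
image of `I`, gives `r` generators of `I` modulo `𝔟 = n I + n^N` -/
theorem exists_generators_mod_of_lift {k P : Type u} [Field k] [CommRing P] [IsLocalRing P]
    [Algebra k P]
    (hres : ∀ x : P, ∃ c : k, x - algebraMap k P c ∈ maximalIdeal P)
    (I : Ideal P) (hI : I ≤ maximalIdeal P ^ 2) (N : ℕ) (r : ℕ)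
    (𝔟 : Ideal P) (h𝔟 : 𝔟 = maximalIdeal P • I ⊔ maximalIdeal P ^ N)
    (c : Fin r → P ⧸ 𝔟)
    (hc : ∀ j, c j ∈ I.map (Ideal.Quotient.mk 𝔟))
    (K : Ideal (P ⧸ 𝔟)) (hK : K = Ideal.span (Set.range c))
    (φ : P →ₐ[k] (P ⧸ 𝔟) ⧸ K)
    (hφI : ∀ x ∈ I, φ x = 0)
    (hdiff : ∀ x, φ x - Ideal.Quotient.mk K (Ideal.Quotient.mk 𝔟 x) ∈
      I.map ((Ideal.Quotient.mk K).comp (Ideal.Quotient.mk 𝔟))) :
    ∃ s : Finset P, s.card ≤ r ∧ (s : Set P) ⊆ I ∧
      I ≤ Ideal.span (s : Set P) ⊔ maximalIdeal P • I ⊔ maximalIdeal P ^ N := by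
  classical
  set Jc : Ideal (P ⧸ 𝔟) := I.map (Ideal.Quotient.mk 𝔟) with hJc
  have hKJ : K ≤ Jc := by
    rw [hK, Ideal.span_le]
    rintro _ ⟨j, rfl⟩
    exact hc j
  let pr : P →ₐ[k] (P ⧸ 𝔟) ⧸ K := (Ideal.Quotient.mkₐ k K).comp (Ideal.Quotient.mkₐ k 𝔟)
  have hprsurj : Function.Surjective pr :=
    (Ideal.Quotient.mkₐ_surjective k K).comp (Ideal.Quotient.mkₐ_surjective k 𝔟)
  have hIK : I ≤ RingHom.ker pr.toRingHom := by
    apply le_ker_of_section hres I hI N pr φ hprsurj
    · intro x hx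
      rw [RingHom.mem_ker]
      change Ideal.Quotient.mk K (Ideal.Quotient.mk 𝔟 x) = 0
      have : Ideal.Quotient.mk 𝔟 x = 0 := by
        rw [Ideal.Quotient.eq_zero_iff_mem, h𝔟]
        exact Ideal.mem_sup_right hx
      rw [this, map_zero]
    · intro x hx
      rw [RingHom.mem_ker] at hx
      have hx' : Ideal.Quotient.mk K (Ideal.Quotient.mk 𝔟 x) = 0 := hx
      rw [Ideal.Quotient.eq_zero_iff_mem] at hx'
      obtain ⟨i, hi, hix⟩ := (Ideal.mem_map_iff_of_surjective (Ideal.Quotient.mk 𝔟)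
        Ideal.Quotient.mk_surjective).mp (hKJ hx')
      rw [Ideal.Quotient.eq] at hix
      have h2 : 𝔟 ≤ I ⊔ maximalIdeal P ^ N := by
        rw [h𝔟]
        refine sup_le_sup_right ?_ _
        rw [smul_eq_mul]
        exact Ideal.mul_le_right (I := maximalIdeal P) (J := I)
      have e : x = i - (i - x) := by ring
      rw [e]
      exact Ideal.sub_mem _ (Ideal.mem_sup_left hi) (h2 hix)
    · exact hφI
    · exact hdiff
  have hcI : ∀ j, ∃ f ∈ I, Ideal.Quotient.mk 𝔟 f = c j := by
    intro j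
    exact (Ideal.mem_map_iff_of_surjective (Ideal.Quotient.mk 𝔟)
      Ideal.Quotient.mk_surjective).mp (hc j)
  choose f hfI hf using hcI
  refine ⟨Finset.univ.image f, ?_, ?_, ?_⟩
  · refine Finset.card_image_le.trans ?_
    simp
  · intro x hx
    rw [Finset.coe_image] at hx
    obtain ⟨j, _, rfl⟩ := hx
    exact hfI j
  · intro i hi
    have h1 := hIK hi
    rw [RingHom.mem_ker] at h1
    have h2 : Ideal.Quotient.mk K (Ideal.Quotient.mk 𝔟 i) = 0 := h1
    rw [Ideal.Quotient.eq_zero_iff_mem] at h2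
    have h3 : K = (Ideal.span ((Finset.univ.image f : Finset P) : Set P)).map
        (Ideal.Quotient.mk 𝔟) := by
      rw [hK, Ideal.map_span, Finset.coe_image, Finset.coe_univ, Set.image_univ, ← Set.range_comp]
      congr 2
      ext j
      exact (hf j).symm
    rw [h3] at h2
    obtain ⟨a, ha, hai⟩ := (Ideal.mem_map_iff_of_surjective (Ideal.Quotient.mk 𝔟)
      Ideal.Quotient.mk_surjective).mp h2
    rw [Ideal.Quotient.eq] at hai
    have e : i = a - (a - i) := by ring
    rw [e, sup_assoc, ← h𝔟]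
    exact Ideal.sub_mem _ (Ideal.mem_sup_left ha) (Ideal.mem_sup_right hai)


/-- abstract form with abstract quotients `P → B → C` -/
theorem exists_generators_mod_of_lift' {k P B C : Type*} [Field k] [CommRing P] [IsLocalRing P]
    [Algebra k P] [CommRing B] [Algebra k B] [CommRing C] [Algebra k C]
    (hres : ∀ x : P, ∃ c : k, x - algebraMap k P c ∈ maximalIdeal P)
    (I : Ideal P) (hI : I ≤ maximalIdeal P ^ 2) (N : ℕ) (r : ℕ)
    (πB : P →ₐ[k] B) (hπB : Function.Surjective πB)
    (hkerB : RingHom.ker πB.toRingHom = maximalIdeal P • I ⊔ maximalIdeal P ^ N)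
    (c : Fin r → B) (hc : ∀ j, c j ∈ I.map πB.toRingHom)
    (πC : B →ₐ[k] C) (hπC : Function.Surjective πC)
    (hkerC : RingHom.ker πC.toRingHom = Ideal.span (Set.range c))
    (φ : P →ₐ[k] C)
    (hφI : ∀ x ∈ I, φ x = 0)
    (hdiff : ∀ x, φ x - πC (πB x) ∈ I.map (πC.comp πB).toRingHom) :
    ∃ s : Finset P, s.card ≤ r ∧ (s : Set P) ⊆ I ∧
      I ≤ Ideal.span (s : Set P) ⊔ maximalIdeal P • I ⊔ maximalIdeal P ^ N := by
  classical
  set 𝔟 : Ideal P := maximalIdeal P • I ⊔ maximalIdeal P ^ N with h𝔟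
  set K : Ideal B := Ideal.span (Set.range c) with hK
  set Jc : Ideal B := I.map πB.toRingHom with hJc
  have hKJ : K ≤ Jc := by
    rw [hK, Ideal.span_le]
    rintro _ ⟨j, rfl⟩
    exact hc j
  let pr : P →ₐ[k] C := πC.comp πB
  have hprsurj : Function.Surjective pr := hπC.comp hπB
  have hIK : I ≤ RingHom.ker pr.toRingHom := by
    apply le_ker_of_section hres I hI N pr φ hprsurj
    · intro x hx
      rw [RingHom.mem_ker]
      change πC (πB x) = 0
      have : πB x = 0 := by
        have : x ∈ RingHom.ker πB.toRingHom := by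
          rw [hkerB]; exact Ideal.mem_sup_right hx
        exact this
      rw [this, map_zero]
    · intro x hx
      rw [RingHom.mem_ker] at hx
      have hx' : πB x ∈ RingHom.ker πC.toRingHom := hx
      rw [hkerC] at hx'
      obtain ⟨i, hi, hix⟩ := (Ideal.mem_map_iff_of_surjective πB.toRingHom hπB).mp (hKJ hx')
      have hix' : i - x ∈ RingHom.ker πB.toRingHom := by
        rw [RingHom.mem_ker, map_sub, hix]
        exact sub_self _
      rw [hkerB] at hix'
      have h2 : 𝔟 ≤ I ⊔ maximalIdeal P ^ N := by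
        rw [h𝔟]
        refine sup_le_sup_right ?_ _
        rw [smul_eq_mul]
        exact Ideal.mul_le_right (I := maximalIdeal P) (J := I)
      have e : x = i - (i - x) := by ring
      rw [e]
      exact Ideal.sub_mem _ (Ideal.mem_sup_left hi) (h2 hix')
    · exact hφI
    · exact hdiff
  have hcI : ∀ j, ∃ f ∈ I, πB.toRingHom f = c j := by
    intro j
    exact (Ideal.mem_map_iff_of_surjective πB.toRingHom hπB).mp (hc j)
  choose f hfI hf using hcI
  refine ⟨Finset.univ.image f, ?_, ?_, ?_⟩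
  · refine Finset.card_image_le.trans ?_
    simp
  · intro x hx
    rw [Finset.coe_image] at hx
    obtain ⟨j, _, rfl⟩ := hx
    exact hfI j
  · intro i hi
    have h1 := hIK hi
    rw [RingHom.mem_ker] at h1
    have h2 : πB i ∈ RingHom.ker πC.toRingHom := h1
    rw [hkerC] at h2
    have h3 : K =
        (Ideal.span ((Finset.univ.image f : Finset P) : Set P)).map πB.toRingHom := by
      rw [hK, Ideal.map_span, Finset.coe_image, Finset.coe_univ, Set.image_univ, ← Set.range_comp]
      congr 2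
      ext j
      exact (hf j).symm
    rw [h3] at h2
    obtain ⟨a, ha, hai⟩ := (Ideal.mem_map_iff_of_surjective πB.toRingHom hπB).mp h2
    have hai' : a - i ∈ RingHom.ker πB.toRingHom := by
      rw [RingHom.mem_ker, map_sub, hai]
      exact sub_self _
    rw [hkerB] at hai'
    have e : i = a - (a - i) := by ring
    rw [e, sup_assoc]
    exact Ideal.sub_mem _ (Ideal.mem_sup_left ha) (Ideal.mem_sup_right hai')

end Groth.Agent.Lib.helper19
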