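import Mathlib
import Groth.Prelude.Def_W4bk4hartshdef114Obs
import Groth.Agent.Lib.helper19.ObsGen

set_option autoImplicit false
universe u
open IsLocalRing
open scoped TensorProduct

namespace Groth.Agent.Lib.helper19

open W4bk4hartshdef114

theorem isUnit_of_isUnit_mk {C : Type*} [CommRing C] [IsLocalRing C] (K : Ideal C) (hK : K ≠ ⊤)
    (y : C) (hy : IsUnit (Ideal.Quotient.mk K y)) : IsUnit y := by
  obtain ⟨z, hz⟩ := hy.exists_right_inv
  obtain ⟨z', rfl⟩ := Ideal.Quotient.mk_surjective z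
  rw [← map_mul, ← map_one (Ideal.Quotient.mk K), Ideal.Quotient.eq] at hz
  have h1 : y * z' - 1 ∈ maximalIdeal C := IsLocalRing.le_maximalIdeal hK hz
  have h2 : IsUnit (y * z') := by
    by_contra h
    have h3 : y * z' ∈ maximalIdeal C := h
    have : (1 : C) ∈ maximalIdeal C := by
      have e : (1 : C) = y * z' - (y * z' - 1) := by ring
      rw [e]
      exact Ideal.sub_mem _ h3 h1
    exact (Ideal.ne_top_iff_one _).mp (IsLocalRing.maximalIdeal.isMaximal C).ne_top this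
  exact isUnit_of_mul_isUnit_left h2

theorem IsSmallExt.quot {k : Type u} [Field k] {C' : Type u} [CommRing C'] [Algebra k C']
    {J : Ideal C'} (h : IsSmallExt k C' J) (K : Ideal C') (hK : K ≤ J) :
    IsSmallExt k (C' ⧸ K) (J.map (Ideal.Quotient.mkₐ k K)) := by
  obtain ⟨hloc, hart, hres, hkill, hJ⟩ := h
  haveI := hloc
  haveI := hart
  have hKtop : K ≠ ⊤ := fun e => hJ (top_le_iff.mp (e ▸ hK))
  haveI : Nontrivial (C' ⧸ K) := Ideal.Quotient.nontrivial_iff.mpr hKtop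
  have hloc' : IsLocalRing (C' ⧸ K) :=
    IsLocalRing.of_surjective' (Ideal.Quotient.mk K) Ideal.Quotient.mk_surjective
  have hnu : ∀ y : C', Ideal.Quotient.mk K y ∈ nonunits (C' ⧸ K) → y ∈ nonunits C' := by
    intro y hy hy'
    exact hy (hy'.map (Ideal.Quotient.mk K))
  have hnu' : ∀ y : C', y ∈ nonunits C' → Ideal.Quotient.mk K y ∈ nonunits (C' ⧸ K) := by
    intro y hy hy'
    exact hy (isUnit_of_isUnit_mk K hKtop y hy')
  refine ⟨hloc', inferInstance, ?_, ?_, ?_⟩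
  · intro x
    obtain ⟨y, rfl⟩ := Ideal.Quotient.mk_surjective x
    obtain ⟨c, hc⟩ := hres y
    refine ⟨c, ?_⟩
    have : Ideal.Quotient.mk K y - algebraMap k (C' ⧸ K) c =
        Ideal.Quotient.mk K (y - algebraMap k C' c) := by
      rw [map_sub]; rfl
    rw [this]
    exact hnu' _ hc
  · intro x j hx hj
    obtain ⟨y, rfl⟩ := Ideal.Quotient.mk_surjective x
    obtain ⟨j', hj', rfl⟩ := (Ideal.mem_map_iff_of_surjective (Ideal.Quotient.mkₐ k K)
      (Ideal.Quotient.mkₐ_surjective k K)).mp hj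
    change Ideal.Quotient.mk K y * Ideal.Quotient.mk K j' = 0
    rw [← map_mul, hkill y j' (hnu y hx) hj', map_zero]
  · intro htop
    have h1 : (1 : C' ⧸ K) ∈ J.map (Ideal.Quotient.mkₐ k K) := by rw [htop]; trivial
    obtain ⟨j', hj', hj1⟩ := (Ideal.mem_map_iff_of_surjective (Ideal.Quotient.mkₐ k K)
      (Ideal.Quotient.mkₐ_surjective k K)).mp h1
    have h2 : Ideal.Quotient.mk K j' = Ideal.Quotient.mk K 1 := by
      rw [map_one]; exact hj1
    rw [Ideal.Quotient.eq] at h2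
    have : (1 : C') ∈ J := by
      have e : (1 : C') = j' - (j' - 1) := by ring
      rw [e]
      exact Ideal.sub_mem _ hj' (hK h2)
    exact hJ ((Ideal.eq_top_iff_one _).mpr this)


theorem exists_sub_algebraMap_mem_of_surjective {k P : Type*} [Field k] [CommRing P]
    [IsLocalRing P] [Algebra k P]
    (hres : Function.Surjective (algebraMap k (IsLocalRing.ResidueField P))) (x : P) :
    ∃ c : k, x - algebraMap k P c ∈ maximalIdeal P := by
  obtain ⟨c, hc⟩ := hres (residue P x)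
  refine ⟨c, ?_⟩
  rw [← IsLocalRing.residue_eq_zero_iff, map_sub, ← hc, IsScalarTower.algebraMap_apply k P
    (ResidueField P), IsLocalRing.ResidueField.algebraMap_eq]
  exact sub_self _

theorem isSmallExt_quot_base {k P : Type u} [Field k] [CommRing P] [IsLocalRing P]
    [IsNoetherianRing P] [Algebra k P]
    (hres : ∀ x : P, ∃ c : k, x - algebraMap k P c ∈ maximalIdeal P)
    (I : Ideal P) (hI : I ≤ maximalIdeal P) (N : ℕ) (hN : 1 ≤ N) :
    IsSmallExt k (P ⧸ (maximalIdeal P • I ⊔ maximalIdeal P ^ N))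
      (I.map (Ideal.Quotient.mkₐ k (maximalIdeal P • I ⊔ maximalIdeal P ^ N))) := by
  set 𝔟 : Ideal P := maximalIdeal P • I ⊔ maximalIdeal P ^ N with h𝔟
  have h𝔟le : 𝔟 ≤ maximalIdeal P := by
    rw [h𝔟]
    refine sup_le ?_ (Ideal.pow_le_self (by omega))
    rw [smul_eq_mul]
    exact Ideal.mul_le_right.trans hI
  have h𝔟top : 𝔟 ≠ ⊤ := fun e =>
    (IsLocalRing.maximalIdeal.isMaximal P).ne_top (top_le_iff.mp (e ▸ h𝔟le))
  haveI : Nontrivial (P ⧸ 𝔟) := Ideal.Quotient.nontrivial_iff.mpr h𝔟top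
  have hloc' : IsLocalRing (P ⧸ 𝔟) :=
    IsLocalRing.of_surjective' (Ideal.Quotient.mk 𝔟) Ideal.Quotient.mk_surjective
  have hnu : ∀ y : P, Ideal.Quotient.mk 𝔟 y ∈ nonunits (P ⧸ 𝔟) → y ∈ maximalIdeal P := by
    intro y hy hy'
    exact hy (hy'.map (Ideal.Quotient.mk 𝔟))
  have hnu' : ∀ y : P, y ∈ maximalIdeal P → Ideal.Quotient.mk 𝔟 y ∈ nonunits (P ⧸ 𝔟) := by
    intro y hy hy'
    exact hy (isUnit_of_isUnit_mk 𝔟 h𝔟top y hy')
  have hmax : maximalIdeal (P ⧸ 𝔟) ≤ (maximalIdeal P).map (Ideal.Quotient.mk 𝔟) := by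
    intro x hx
    obtain ⟨y, rfl⟩ := Ideal.Quotient.mk_surjective x
    exact Ideal.mem_map_of_mem _ (hnu y hx)
  have hart : IsArtinianRing (P ⧸ 𝔟) := by
    rw [isArtinianRing_iff_isNilpotent_maximalIdeal]
    refine ⟨N, ?_⟩
    rw [Ideal.zero_eq_bot, eq_bot_iff]
    refine (Ideal.pow_right_mono hmax N).trans ?_
    rw [← Ideal.map_pow, Ideal.map_le_iff_le_comap]
    intro x hx
    rw [Ideal.mem_comap, Ideal.mem_bot, Ideal.Quotient.eq_zero_iff_mem]
    exact Ideal.mem_sup_right hx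
  refine ⟨hloc', hart, ?_, ?_, ?_⟩
  · intro x
    obtain ⟨y, rfl⟩ := Ideal.Quotient.mk_surjective x
    obtain ⟨c, hc⟩ := hres y
    refine ⟨c, ?_⟩
    have : Ideal.Quotient.mk 𝔟 y - algebraMap k (P ⧸ 𝔟) c =
        Ideal.Quotient.mk 𝔟 (y - algebraMap k P c) := by
      rw [map_sub]; rfl
    rw [this]
    exact hnu' _ hc
  · intro x j hx hj
    obtain ⟨y, rfl⟩ := Ideal.Quotient.mk_surjective x
    obtain ⟨j', hj', rfl⟩ := (Ideal.mem_map_iff_of_surjective (Ideal.Quotient.mkₐ k 𝔟)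
      (Ideal.Quotient.mkₐ_surjective k 𝔟)).mp hj
    change Ideal.Quotient.mk 𝔟 y * Ideal.Quotient.mk 𝔟 j' = 0
    rw [← map_mul, Ideal.Quotient.eq_zero_iff_mem]
    exact Ideal.mem_sup_left (Submodule.smul_mem_smul (hnu y hx) hj')
  · intro htop
    have h1 : (1 : P ⧸ 𝔟) ∈ I.map (Ideal.Quotient.mkₐ k 𝔟) := by rw [htop]; trivial
    obtain ⟨j', hj', hj1⟩ := (Ideal.mem_map_iff_of_surjective (Ideal.Quotient.mkₐ k 𝔟)
      (Ideal.Quotient.mkₐ_surjective k 𝔟)).mp h1
    have h2 : Ideal.Quotient.mk 𝔟 j' = Ideal.Quotient.mk 𝔟 1 := by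
      rw [map_one]; exact hj1
    rw [Ideal.Quotient.eq] at h2
    have : (1 : P) ∈ maximalIdeal P := by
      have e : (1 : P) = j' - (j' - 1) := by ring
      rw [e]
      exact Ideal.sub_mem _ (hI hj') (h𝔟le h2)
    exact (Ideal.ne_top_iff_one _).mp (IsLocalRing.maximalIdeal.isMaximal P).ne_top this


theorem exists_generators_mod {k P : Type u} [Field k] [CommRing P] [IsLocalRing P]
    [IsNoetherianRing P] [Algebra k P]
    (hres : ∀ x : P, ∃ c : k, x - algebraMap k P c ∈ maximalIdeal P)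
    (I : Ideal P) (hI : I ≤ maximalIdeal P ^ 2)
    (V : Type u) [AddCommGroup V] [Module k V] [Module.Finite k V]
    (T : ObsTheory k (P ⧸ I) V) (N : ℕ) :
    ∃ s : Finset P, s.card ≤ Module.finrank k V ∧ (s : Set P) ⊆ I ∧
      I ≤ Ideal.span (s : Set P) ⊔ maximalIdeal P • I ⊔ maximalIdeal P ^ N := by
  classical
  rcases Nat.eq_zero_or_pos N with hN0 | hNpos
  · refine ⟨∅, by simp, by simp, ?_⟩
    rw [hN0, pow_zero, Ideal.one_eq_top]
    exact le_sup_right.trans' le_top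
  have hIm : I ≤ maximalIdeal P := hI.trans (Ideal.pow_le_self (by norm_num))
  set 𝔟 : Ideal P := maximalIdeal P • I ⊔ maximalIdeal P ^ N with h𝔟
  set Jc : Ideal (P ⧸ 𝔟) := I.map (Ideal.Quotient.mkₐ k 𝔟) with hJc
  have hsmall : IsSmallExt k (P ⧸ 𝔟) Jc := isSmallExt_quot_base hres I hIm N hNpos
  -- the canonical map
  let u : (P ⧸ I) →ₐ[k] (P ⧸ 𝔟) ⧸ Jc :=
    Ideal.Quotient.liftₐ I ((Ideal.Quotient.mkₐ k Jc).comp (Ideal.Quotient.mkₐ k 𝔟)) (by
      intro a ha
      change Ideal.Quotient.mk Jc (Ideal.Quotient.mk 𝔟 a) = 0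
      rw [Ideal.Quotient.eq_zero_iff_mem]
      exact Ideal.mem_map_of_mem _ ha)
  set ob := T.obs (P ⧸ 𝔟) Jc u with hob
  let bV := Module.finBasis k V
  obtain ⟨c, hc⟩ := TensorProduct.eq_repr_basis_left bV ob
  set K : Ideal (P ⧸ 𝔟) := Ideal.span (Set.range (fun j => ((c j : Jc) : P ⧸ 𝔟))) with hK
  have hKJ : K ≤ Jc := by
    rw [hK, Ideal.span_le]
    rintro _ ⟨j, rfl⟩
    exact (c j).2
  have hq := T.obs_quot (P ⧸ 𝔟) Jc K hsmall hKJ u
  have hzero : LinearMap.lTensor V (idealToQuot k Jc K) ob = 0 := by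
    rw [← hc, Finsupp.sum, map_sum]
    apply Finset.sum_eq_zero
    intro j _
    rw [LinearMap.lTensor_tmul]
    have : idealToQuot k Jc K (c j) = 0 := by
      apply Subtype.ext
      change Ideal.Quotient.mk K ((c j : Jc) : P ⧸ 𝔟) = 0
      rw [Ideal.Quotient.eq_zero_iff_mem]
      exact Ideal.subset_span ⟨j, rfl⟩
    rw [this, TensorProduct.tmul_zero]
  rw [hzero] at hq
  obtain ⟨u'', hu''⟩ := (T.obs_eq_zero_iff ((P ⧸ 𝔟) ⧸ K) (Jc.map (Ideal.Quotient.mkₐ k K))
    (IsSmallExt.quot hsmall K hKJ) _).mp hq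
  -- apply the section lemma
  let pr : P →ₐ[k] (P ⧸ 𝔟) ⧸ K := (Ideal.Quotient.mkₐ k K).comp (Ideal.Quotient.mkₐ k 𝔟)
  let φ : P →ₐ[k] (P ⧸ 𝔟) ⧸ K := u''.comp (Ideal.Quotient.mkₐ k I)
  have hprsurj : Function.Surjective pr :=
    (Ideal.Quotient.mkₐ_surjective k K).comp (Ideal.Quotient.mkₐ_surjective k 𝔟)
  have hIK : I ≤ RingHom.ker pr.toRingHom := by
    apply le_ker_of_section hres I hI N pr φ hprsurj
    · intro x hx
      rw [RingHom.mem_ker]
      change Ideal.Quotient.mk K (Ideal.Quotient.mk 𝔟 x) = 0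
      have : Ideal.Quotient.mk 𝔟 x = 0 := by
        rw [Ideal.Quotient.eq_zero_iff_mem]
        exact Ideal.mem_sup_right hx
      rw [this, map_zero]
    · intro x hx
      rw [RingHom.mem_ker] at hx
      have hx' : Ideal.Quotient.mk K (Ideal.Quotient.mk 𝔟 x) = 0 := hx
      rw [Ideal.Quotient.eq_zero_iff_mem] at hx'
      obtain ⟨i, hi, hix⟩ := (Ideal.mem_map_iff_of_surjective (Ideal.Quotient.mkₐ k 𝔟)
        (Ideal.Quotient.mkₐ_surjective k 𝔟)).mp (hKJ hx')
      have h1 : Ideal.Quotient.mk 𝔟 i = Ideal.Quotient.mk 𝔟 x := hix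
      rw [Ideal.Quotient.eq] at h1
      have h2 : 𝔟 ≤ I ⊔ maximalIdeal P ^ N := by
        rw [h𝔟]
        refine sup_le_sup_right ?_ _
        rw [smul_eq_mul]
        exact Ideal.mul_le_right (I := maximalIdeal P) (J := I)
      have e : x = i - (i - x) := by ring
      rw [e]
      exact Ideal.sub_mem _ (Ideal.mem_sup_left hi) (h2 h1)
    · intro x hx
      change u'' (Ideal.Quotient.mk I x) = 0
      rw [Ideal.Quotient.eq_zero_iff_mem.mpr hx, map_zero]
    · intro x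
      have h1 := DFunLike.congr_fun hu'' (Ideal.Quotient.mk I x)
      have h2 : Ideal.Quotient.mk (Jc.map (Ideal.Quotient.mkₐ k K)) (φ x) =
          Ideal.Quotient.mk (Jc.map (Ideal.Quotient.mkₐ k K)) (pr x) := by
        refine h1.trans ?_
        rfl
      rw [Ideal.Quotient.eq] at h2
      have h3 : Jc.map (Ideal.Quotient.mkₐ k K) = I.map pr.toRingHom := by
        rw [hJc]
        change Ideal.map (Ideal.Quotient.mk K) (Ideal.map (Ideal.Quotient.mk 𝔟) I) =
          Ideal.map ((Ideal.Quotient.mk K).comp (Ideal.Quotient.mk 𝔟)) I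
        rw [Ideal.map_map]
      rw [← h3]
      exact h2
  -- lift the generators
  have hcI : ∀ j, ∃ f ∈ I, Ideal.Quotient.mk 𝔟 f = ((c j : Jc) : P ⧸ 𝔟) := by
    intro j
    obtain ⟨f, hf, hfj⟩ := (Ideal.mem_map_iff_of_surjective (Ideal.Quotient.mkₐ k 𝔟)
      (Ideal.Quotient.mkₐ_surjective k 𝔟)).mp (c j).2
    exact ⟨f, hf, hfj⟩
  choose f hfI hf using hcI
  refine ⟨Finset.univ.image f, ?_, ?_, ?_⟩
  · refine Finset.card_image_le.trans ?_
    simp
  · intro x hx
    rw [Finset.coe_image] at hx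
    obtain ⟨j, _, rfl⟩ := hx
    exact hfI j
  · intro i hi
    have h1 := hIK hi
    rw [RingHom.mem_ker] at h1
    have h2 : Ideal.Quotient.mk K (Ideal.Quotient.mk 𝔟 i) = 0 := h1
    rw [Ideal.Quotient.eq_zero_iff_mem] at h2
    have h3 : K = (Ideal.span ((Finset.univ.image f : Finset P) : Set P)).map
        (Ideal.Quotient.mk 𝔟) := by
      rw [hK, Ideal.map_span, Finset.coe_image, Finset.coe_univ, Set.image_univ, ← Set.range_comp]
      congr 2
      ext j
      exact (hf j).symm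
    rw [h3] at h2
    obtain ⟨a, ha, hai⟩ := (Ideal.mem_map_iff_of_surjective (Ideal.Quotient.mk 𝔟)
      Ideal.Quotient.mk_surjective).mp h2
    rw [Ideal.Quotient.eq] at hai
    have e : i = a - (a - i) := by ring
    rw [e, sup_assoc]
    exact Ideal.sub_mem _ (Ideal.mem_sup_left ha) (Ideal.mem_sup_right hai)


theorem exists_finset_span_eq_of_obsTheory {k P : Type u} [Field k] [CommRing P] [IsLocalRing P]
    [IsNoetherianRing P] [Algebra k P]
    (hres : Function.Surjective (algebraMap k (IsLocalRing.ResidueField P)))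
    (I : Ideal P) (hI : I ≤ maximalIdeal P ^ 2)
    (V : Type u) [AddCommGroup V] [Module k V] [Module.Finite k V]
    (T : ObsTheory k (P ⧸ I) V) :
    ∃ s : Finset P, s.card ≤ Module.finrank k V ∧ Ideal.span (s : Set P) = I :=
  spanFinrank_le_of_forall_exists I _ (fun N =>
    exists_generators_mod (exists_sub_algebraMap_mem_of_surjective hres) I hI V T N)

theorem spanFinrank_le_of_obsTheory {k P : Type u} [Field k] [CommRing P] [IsLocalRing P]
    [IsNoetherianRing P] [Algebra k P]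
    (hres : Function.Surjective (algebraMap k (IsLocalRing.ResidueField P)))
    (I : Ideal P) (hI : I ≤ maximalIdeal P ^ 2)
    (V : Type u) [AddCommGroup V] [Module k V] [Module.Finite k V]
    (T : ObsTheory k (P ⧸ I) V) :
    I.spanFinrank ≤ Module.finrank k V := by
  obtain ⟨s, hs, hsI⟩ := exists_finset_span_eq_of_obsTheory hres I hI V T
  rw [← hsI]
  refine (Submodule.spanFinrank_span_le_ncard_of_finite s.finite_toSet).trans ?_
  rw [Set.ncard_coe_finset]
  exact hs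

end Groth.Agent.Lib.helper19
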