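import Mathlib
import Groth.Prelude.Def_ArtFun3
import Groth.Agent.Lib.helper19.ObsGen2
import Groth.Agent.Lib.helper19.CoeffField

set_option autoImplicit false
universe u v
open CategoryTheory IsLocalRing ArtFun ArtFun.Art MvPowerSeries
open scoped TensorProduct

namespace Groth.Agent.Lib.helper19

section

variable {k : Type u} [Field k]

theorem isSemismallExt_quotFactor {C' C : Art k k} (p : C' ⟶ C) (hp : IsSemismallExt p)
    (K : Ideal C') (hK : K ≤ maximalIdeal C') (hKJ : K ≤ RingHom.ker p.toAlgHom) :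
    IsSemismallExt (quotFactor hK p hKJ) := by
  refine ⟨?_, ?_⟩
  · intro c
    obtain ⟨b, hb⟩ := hp.1 c
    exact ⟨quotMk C' K hK b, hb⟩
  · rw [eq_bot_iff, Ideal.mul_le]
    intro x hx z hz
    obtain ⟨x', rfl⟩ := Ideal.Quotient.mk_surjective x
    obtain ⟨z', rfl⟩ := Ideal.Quotient.mk_surjective z
    have hx' : x' ∈ maximalIdeal C' := by
      rw [Art.mem_maximalIdeal_iff]
      have := (Art.mem_maximalIdeal_iff (quot C' K hK) _).mp hx
      exact this
    have hz' : z' ∈ RingHom.ker p.toAlgHom := by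
      rw [RingHom.mem_ker] at hz ⊢
      exact hz
    have : x' * z' = 0 := by
      have h1 : x' * z' ∈ maximalIdeal C' * RingHom.ker p.toAlgHom := Ideal.mul_mem_mul hx' hz'
      rw [hp.2] at h1
      exact h1
    rw [Ideal.mem_bot]
    exact ((map_mul (Ideal.Quotient.mk K) x' z').symm.trans (by rw [this, map_zero]) :
      Ideal.Quotient.mk K x' * Ideal.Quotient.mk K z' = 0)

theorem PS.hres (d : ℕ) (x : PS (fieldCRing k) d) :
    ∃ c : k, x - algebraMap k (PS (fieldCRing k) d) c ∈ maximalIdeal (PS (fieldCRing k) d) := by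
  refine ⟨PSres (fieldCRing k) d x, ?_⟩
  rw [CRing.mem_maximalIdeal_iff (psCRing (fieldCRing k) d)]
  change PSres (fieldCRing k) d (x - _) = 0
  rw [map_sub, AlgHom.commutes]
  exact sub_self _

theorem exists_generators_mod_of_hull {F : Art k k ⥤ Type v}
    (V : Type u) [AddCommGroup V] [Module k V] [Module.Finite k V] (T : ObsTheory F V)
    (R : CRing k k) (ξ : Family R.carrier R.res F) (hξ : IsVersal ξ)
    (d : ℕ) (ϖ : PS (fieldCRing k) d →ₐ[k] R.carrier)
    (hϖres : R.res.comp ϖ = PSres (fieldCRing k) d) (hϖ : Function.Surjective ϖ)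
    (hJ : RingHom.ker ϖ.toRingHom ≤ maximalIdeal (PS (fieldCRing k) d) ^ 2) (N : ℕ) :
    ∃ s : Finset (PS (fieldCRing k) d), s.card ≤ Module.finrank k V ∧
      (s : Set (PS (fieldCRing k) d)) ⊆ RingHom.ker ϖ.toRingHom ∧
      RingHom.ker ϖ.toRingHom ≤ Ideal.span (s : Set (PS (fieldCRing k) d)) ⊔
        maximalIdeal (PS (fieldCRing k) d) • RingHom.ker ϖ.toRingHom ⊔
          maximalIdeal (PS (fieldCRing k) d) ^ N := by
  classical
  rcases Nat.eq_zero_or_pos N with hN0 | hNpos
  · refine ⟨∅, by simp, by simp, ?_⟩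
    rw [hN0, pow_zero, Ideal.one_eq_top]
    exact le_sup_right.trans' le_top
  set P := PS (fieldCRing k) d with hP
  set J : Ideal P := RingHom.ker ϖ.toRingHom with hJdef
  have hJm : J ≤ maximalIdeal P := hJ.trans (Ideal.pow_le_self (by norm_num))
  set 𝔟 : Ideal P := maximalIdeal P • J ⊔ maximalIdeal P ^ N with h𝔟
  have h𝔟m : 𝔟 ≤ maximalIdeal P := by
    rw [h𝔟]
    refine sup_le ?_ (Ideal.pow_le_self (by omega))
    rw [smul_eq_mul]
    exact Ideal.mul_le_right.trans hJm
  obtain ⟨hloc, hart, -, hkill, -⟩ := isSmallExt_quot_base (PS.hres d) J hJm N hNpos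
  haveI := hloc
  haveI := hart
  -- the object B
  let resB : P ⧸ 𝔟 →ₐ[k] k := Ideal.Quotient.liftₐ 𝔟 (PSres (fieldCRing k) d) (fun a ha =>
    (CRing.mem_maximalIdeal_iff (psCRing (fieldCRing k) d) a).mp (h𝔟m ha))
  have hresB : Function.Surjective resB := fun c =>
    ⟨Ideal.Quotient.mk 𝔟 (algebraMap k P c), by
      change PSres (fieldCRing k) d (algebraMap k P c) = c
      rw [AlgHom.commutes]; rfl⟩
  let B : Art k k := Art.of (P ⧸ 𝔟) resB hresB
  set Jc : Ideal B := J.map (Ideal.Quotient.mk 𝔟) with hJc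
  have hJcm : Jc ≤ maximalIdeal B := by
    rw [hJc, Ideal.map_le_iff_le_comap]
    intro x hx
    rw [Ideal.mem_comap, Art.mem_maximalIdeal_iff]
    exact (CRing.mem_maximalIdeal_iff (psCRing (fieldCRing k) d) x).mp (hJm hx)
  let A : Art k k := Art.quot B Jc hJcm
  let p : B ⟶ A := Art.quotMk B Jc hJcm
  have hkerp : RingHom.ker p.toAlgHom = Jc := Ideal.mk_ker
  have hp : IsSemismallExt p := by
    refine ⟨Art.quotMk_surjective B Jc hJcm, ?_⟩
    rw [hkerp, eq_bot_iff, Ideal.mul_le]
    intro x hx j hj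
    rw [Ideal.mem_bot]
    exact hkill x j hx hj
  -- the map R → A
  let e : (P ⧸ RingHom.ker (ϖ : P →+* R.carrier)) ≃ₐ[k] R.carrier :=
    Ideal.quotientKerAlgEquivOfSurjective hϖ
  let g : P ⧸ RingHom.ker (ϖ : P →+* R.carrier) →ₐ[k] A :=
    Ideal.Quotient.liftₐ _ (p.toAlgHom.comp (Ideal.Quotient.mkₐ k 𝔟)) (by
      intro a ha
      change Ideal.Quotient.mk Jc (Ideal.Quotient.mk 𝔟 a) = 0
      rw [Ideal.Quotient.eq_zero_iff_mem]
      exact Ideal.mem_map_of_mem _ ha)
  have hφA_apply : ∀ x : P, g (e.symm (ϖ x)) = p (Ideal.Quotient.mk 𝔟 x) := by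
    intro x
    have : e.symm (ϖ x) = Ideal.Quotient.mk _ x := by
      rw [AlgEquiv.symm_apply_eq]
      rfl
    rw [this]
    rfl
  let φA : HomSet R.carrier R.res A := ⟨g.comp (e.symm : R.carrier →ₐ[k] _), by
    apply AlgHom.ext
    intro r
    obtain ⟨x, rfl⟩ := hϖ r
    change A.res (g (e.symm (ϖ x))) = R.res (ϖ x)
    rw [hφA_apply, Art.res_app]
    change PSres (fieldCRing k) d x = _
    rw [← hϖres]
    rfl⟩
  set u := ξ.app A φA with hu
  set ob := T.obs p hp u with hob
  let bV := Module.finBasis k V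
  obtain ⟨c, hc⟩ := TensorProduct.eq_repr_basis_left bV ob
  let c' : Fin (Module.finrank k V) → P ⧸ 𝔟 := fun j => ((c j : RingHom.ker p.toAlgHom) : B)
  have hc'J : ∀ j, c' j ∈ J.map (Ideal.Quotient.mk 𝔟) := by
    intro j
    exact hkerp.le (c j).2
  set K : Ideal B := Ideal.span (Set.range c') with hKdef
  have hKJ : K ≤ RingHom.ker p.toAlgHom := by
    rw [hKdef, Ideal.span_le]
    rintro _ ⟨j, rfl⟩
    exact (c j).2
  have hK : K ≤ maximalIdeal B := hKJ.trans (hkerp.le.trans hJcm)
  have hq : IsSemismallExt (quotFactor hK p hKJ) := isSemismallExt_quotFactor p hp K hK hKJ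
  have hoq := T.obs_quot p hp K hK hKJ hq u
  have hzero : LinearMap.lTensor V ((kerToQuot hK p hKJ).restrictScalars k) ob = 0 := by
    rw [← hc, Finsupp.sum, map_sum]
    apply Finset.sum_eq_zero
    intro j _
    rw [LinearMap.lTensor_tmul]
    have : ((kerToQuot hK p hKJ).restrictScalars k) (c j) = 0 := by
      apply Subtype.ext
      change Ideal.Quotient.mk K ((c j : RingHom.ker p.toAlgHom) : B) = 0
      rw [Ideal.Quotient.eq_zero_iff_mem]
      exact Ideal.subset_span ⟨j, rfl⟩
    rw [this, TensorProduct.tmul_zero]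
  rw [hzero] at hoq
  obtain ⟨u', hu'⟩ := (T.obs_eq_zero_iff (quotFactor hK p hKJ) hq u).mp hoq
  have hqsurj : Function.Surjective (quotFactor hK p hKJ) := hq.1
  obtain ⟨ψ, hψ, -⟩ := hξ (quotFactor hK p hKJ) hqsurj φA u' hu'
  -- apply the abstract lemma
  let φ : P →ₐ[k] (Art.quot B K hK) := ψ.1.comp ϖ
  have hkerB : RingHom.ker (Ideal.Quotient.mkₐ k 𝔟).toRingHom =
      maximalIdeal P • J ⊔ maximalIdeal P ^ N := by
    rw [← h𝔟]
    exact Ideal.mk_ker
  have hkerC : RingHom.ker ((Art.quotMk B K hK).toAlgHom).toRingHom = Ideal.span (Set.range c') :=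
    (Ideal.mk_ker (I := K)).trans hKdef
  refine exists_generators_mod_of_lift' (B := B) (C := Art.quot B K hK) (PS.hres d) J hJ N
    (Module.finrank k V) (Ideal.Quotient.mkₐ k 𝔟) (Ideal.Quotient.mkₐ_surjective k 𝔟) hkerB c' hc'J
    (Art.quotMk B K hK).toAlgHom (Art.quotMk_surjective B K hK) hkerC φ ?_ ?_
  · intro x hx
    change ψ.1 (ϖ x) = 0
    have : ϖ x = 0 := hx
    rw [this, map_zero]
  · intro x
    have h1 : (quotFactor hK p hKJ) (φ x) = p (Ideal.Quotient.mk 𝔟 x) := by
      have := congrArg (fun t : HomSet R.carrier R.res A => t.1 (ϖ x)) hψ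
      change (quotFactor hK p hKJ) (ψ.1 (ϖ x)) = g (e.symm (ϖ x)) at this
      rw [hφA_apply] at this
      exact this
    have h2 : (quotFactor hK p hKJ) ((Art.quotMk B K hK) (Ideal.Quotient.mk 𝔟 x)) =
        p (Ideal.Quotient.mk 𝔟 x) := rfl
    have h3 : (quotFactor hK p hKJ).toAlgHom
        (φ x - (Art.quotMk B K hK) (Ideal.Quotient.mk 𝔟 x)) = 0 :=
      (map_sub (quotFactor hK p hKJ).toAlgHom _ _).trans (sub_eq_zero.mpr (h1.trans h2.symm))
    obtain ⟨z, hz⟩ := Art.quotMk_surjective B K hK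
      (φ x - (Art.quotMk B K hK) (Ideal.Quotient.mk 𝔟 x))
    have h4 : p z = 0 := by
      have : (quotFactor hK p hKJ) ((Art.quotMk B K hK) z) = 0 := by
        rw [hz]; exact h3
      exact this
    have h5 : z ∈ Jc := by
      rw [← hkerp, RingHom.mem_ker]
      exact h4
    obtain ⟨j, hj, hjz⟩ := (Ideal.mem_map_iff_of_surjective (Ideal.Quotient.mk 𝔟)
      Ideal.Quotient.mk_surjective).mp h5
    have h6 : φ x - (Art.quotMk B K hK).toAlgHom ((Ideal.Quotient.mkₐ k 𝔟) x) =
        ((Art.quotMk B K hK).toAlgHom.comp (Ideal.Quotient.mkₐ k 𝔟)).toRingHom j := by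
      refine hz.symm.trans ?_
      rw [← hjz]
      rfl
    have h7 : ∀ y : (Art.quot B K hK),
        y = ((Art.quotMk B K hK).toAlgHom.comp (Ideal.Quotient.mkₐ k 𝔟)).toRingHom j →
        y ∈ Ideal.map ((Art.quotMk B K hK).toAlgHom.comp (Ideal.Quotient.mkₐ k 𝔟)).toRingHom J := by
      intro y hy
      rw [hy]
      exact Ideal.mem_map_of_mem _ hj
    exact h7 _ h6

end


theorem exists_presentation_cotangent {k : Type u} [Field k] (R : CRing k k) :
    ∃ ϖ : PS (fieldCRing k) (Module.finrank (ResidueField R.carrier) (CotangentSpace R.carrier))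
        →ₐ[k] R.carrier,
      R.res.comp ϖ = PSres (fieldCRing k) _ ∧ Function.Surjective ϖ ∧
      RingHom.ker ϖ.toRingHom ≤ maximalIdeal (PS (fieldCRing k) _) ^ 2 := by
  classical
  haveI : IsAdicComplete (maximalIdeal R.carrier) R.carrier := R.isAdicComplete
  set d := Module.finrank (ResidueField R.carrier) (CotangentSpace R.carrier) with hd
  let bC := Module.finBasis (ResidueField R.carrier) (CotangentSpace R.carrier)
  choose b hb using fun i => (maximalIdeal R.carrier).toCotangent_surjective (bC i)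
  have hresalg : ∀ c : k, R.res (algebraMap k R.carrier c) = c := fun c => by
    rw [AlgHom.commutes]; rfl
  obtain ⟨ϖ, hϖres, hϖC, hϖX⟩ := PS.exists_algHom (R := fieldCRing k) (n := d) (S := R)
    (Algebra.ofId k R.carrier) (AlgHom.ext fun c => hresalg c) (fun i => (b i : R.carrier))
    (fun i => (b i).2)
  have hR : Function.Surjective ((IsLocalRing.residue R.carrier).comp (algebraMap k R.carrier)) := by
    intro x
    obtain ⟨r, rfl⟩ := IsLocalRing.residue_surjective x
    refine ⟨R.res r, ?_⟩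
    change residue R.carrier (algebraMap k R.carrier (R.res r)) = residue R.carrier r
    rw [← sub_eq_zero, ← map_sub, IsLocalRing.residue_eq_zero_iff, CRing.mem_maximalIdeal_iff R,
      map_sub, hresalg, sub_self]
  have hψ : ∀ i : Fin d, ϖ (MvPowerSeries.X i) ∈ maximalIdeal R.carrier := fun i => by
    rw [hϖX]; exact (b i).2
  have hfam : (fun i : Fin d => (maximalIdeal R.carrier).toCotangent ⟨ϖ (MvPowerSeries.X i), hψ i⟩)
      = bC := by
    funext i
    have : (⟨ϖ (MvPowerSeries.X i), hψ i⟩ : maximalIdeal R.carrier) = b i :=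
      Subtype.ext (hϖX i)
    rw [this, hb]
  obtain ⟨h1, h2⟩ := mvPowerSeries_algHom_surjective_and_ker_le_sq k R.carrier hR d ϖ hψ
    (by rw [hfam]; exact bC.linearIndependent) (by rw [hfam]; exact bC.span_eq)
  exact ⟨ϖ, hϖres, h1, h2⟩


theorem hull_estimates {k : Type u} [Field k] {F : ArtFun.Art k k ⥤ Type v}
    (V : Type u) [AddCommGroup V] [Module k V] [Module.Finite k V] (T : ArtFun.ObsTheory F V)
    (H : ArtFun.Hull F) :
    ringKrullDim H.ring.carrier ≤
        (Module.finrank (IsLocalRing.ResidueField H.ring.carrier) (IsLocalRing.CotangentSpace H.ring.carrier) : WithBot ℕ∞) ∧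
      (Module.finrank (IsLocalRing.ResidueField H.ring.carrier) (IsLocalRing.CotangentSpace H.ring.carrier) : WithBot ℕ∞) ≤
          ringKrullDim H.ring.carrier + (Module.finrank k V : WithBot ℕ∞) ∧
      (Module.finrank k V = 0 → IsRegularLocalRing H.ring.carrier) ∧
      (ringKrullDim H.ring.carrier + (Module.finrank k V : WithBot ℕ∞) =
          (Module.finrank (IsLocalRing.ResidueField H.ring.carrier) (IsLocalRing.CotangentSpace H.ring.carrier) : WithBot ℕ∞) →
        ∃ (P : Type u) (_ : CommRing P) (_ : IsRegularLocalRing P) (π : P →+* H.ring.carrier) (s : Finset P),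
          Function.Surjective π ∧ Ideal.span (s : Set P) = RingHom.ker π ∧
            ringKrullDim P = ringKrullDim H.ring.carrier + (s.card : WithBot ℕ∞)) := by
  classical
  set R := H.ring with hR
  set d := Module.finrank (ResidueField R.carrier) (CotangentSpace R.carrier) with hd
  obtain ⟨ϖ, hϖres, hsurj, hJ⟩ := exists_presentation_cotangent R
  set J : Ideal (PS (fieldCRing k) d) := RingHom.ker ϖ.toRingHom with hJdef
  obtain ⟨s, hsr, hsJ⟩ := spanFinrank_le_of_forall_exists J (Module.finrank k V) (fun N =>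
    exists_generators_mod_of_hull V T R H.family H.miniversal.1 d ϖ hϖres hsurj hJ N)
  have hdimP : ringKrullDim (PS (fieldCRing k) d) = d := ringKrullDim_mvPowerSeries_eq k d
  have hJjac : J ≤ Ring.jacobson (PS (fieldCRing k) d) := by
    rw [IsLocalRing.ringJacobson_eq_maximalIdeal]
    exact hJ.trans (Ideal.pow_le_self (by norm_num))
  have hdimq : ringKrullDim (PS (fieldCRing k) d ⧸ J) = ringKrullDim R.carrier :=
    ringKrullDim_eq_of_ringEquiv (Ideal.quotientKerAlgEquivOfSurjective hsurj).toRingEquiv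
  have hspan : J.spanFinrank ≤ s.card := by
    rw [← hsJ]
    refine (Submodule.spanFinrank_span_le_ncard_of_finite s.finite_toSet).trans ?_
    rw [Set.ncard_coe_finset]
  have h2s : (d : WithBot ℕ∞) ≤ ringKrullDim R.carrier + (s.card : WithBot ℕ∞) := by
    rw [← hdimP, ← hdimq]
    refine (ringKrullDim_le_ringKrullDim_quotient_add_spanFinrank J hJjac).trans ?_
    gcongr
  have h2 : (d : WithBot ℕ∞) ≤ ringKrullDim R.carrier + (Module.finrank k V : WithBot ℕ∞) := by
    refine h2s.trans ?_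
    gcongr
  refine ⟨?_, h2, ?_, ?_⟩
  · refine (ringKrullDim_le_spanFinrank_maximalIdeal R.carrier).trans ?_
    rw [IsLocalRing.spanFinrank_maximalIdeal_eq_finrank_cotangentSpace]
  · intro hr0
    have hs0 : s = ∅ := by
      rw [← Finset.card_eq_zero]
      omega
    have hJbot : J = ⊥ := by
      rw [← hsJ, hs0]
      simp
    have hinj : Function.Injective ϖ := by
      rw [injective_iff_map_eq_zero]
      intro x hx
      have : x ∈ J := hx
      rw [hJbot] at this
      exact this
    haveI := isRegularLocalRing_mvPowerSeries k d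
    exact IsRegularLocalRing.of_ringEquiv (AlgEquiv.ofBijective ϖ ⟨hinj, hsurj⟩).toRingEquiv
  · intro heq
    refine ⟨MvPowerSeries (Fin d) k, inferInstance, isRegularLocalRing_mvPowerSeries k d,
      ϖ.toRingHom, s, hsurj, hsJ, ?_⟩
    refine le_antisymm (hdimP.le.trans h2s) ?_
    rw [hdimP, ← heq]
    gcongr

end Groth.Agent.Lib.helper19
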