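import Mathlib
import Groth.Agent.S0543
import Groth.Agent.S0548
import Groth.Agent.Lib.helper19.ObsHull
import Groth.Agent.Lib.helper19.ArtBasic

set_option autoImplicit false
universe u
open CategoryTheory IsLocalRing ArtFun ArtFun.Art MvPowerSeries

namespace Groth.Agent.Lib.helper19


section Compl

variable (k : Type u) [Field k] (A : Type u) [CommRing A] [IsLocalRing A] [IsNoetherianRing A]
  [Algebra k A]

/-- the completion of a Noetherian local ring -/
abbrev Compl : Type u := AdicCompletion (maximalIdeal A) A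

instance : IsNoetherianRing (Compl A) := Groth.Agent.S0543.result A (maximalIdeal A)

variable {A} in
theorem compl_residue_bijective
    (hres : Function.Surjective (algebraMap k (IsLocalRing.ResidueField A))) :
    Function.Bijective (algebraMap k (IsLocalRing.ResidueField (Compl A))) := by
  refine ⟨(algebraMap k (IsLocalRing.ResidueField (Compl A))).injective, ?_⟩
  intro x
  obtain ⟨y, rfl⟩ := (AdicCompletion.residueField_map_bijective A).2 x
  obtain ⟨c, rfl⟩ := hres y
  refine ⟨c, ?_⟩
  rfl

end Compl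


theorem mem_map_pow_of_evalₐ_eq_zero {R : Type*} [CommRing R] (I : Ideal R) (fg : I.FG) (n : ℕ)
    (z : AdicCompletion I R) (hz : AdicCompletion.evalₐ I n z = 0) :
    z ∈ (I ^ n).map (algebraMap R (AdicCompletion I R)) := by
  have h : I ^ n ≤ (I ^ n • ⊤ : Ideal R) := by simp
  have h1 : AdicCompletion.eval I R n z = 0 := by
    rw [← AdicCompletion.factor_evalₐ_eq_eval I z h, hz, map_zero]
  have h2 : z ∈ (I ^ n • ⊤ : Submodule R (AdicCompletion I R)) := by
    rw [AdicCompletion.pow_smul_top_eq_ker_eval fg]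
    exact h1
  rw [← Submodule.restrictScalars_mem R, ← Ideal.smul_top_eq_map]
  exact h2


section Compl

variable {k : Type u} [Field k] {A : Type u} [CommRing A] [IsLocalRing A] [Algebra k A]

/-- every `k`-algebra map from a local `k`-algebra to an object of `Art k k` is local -/
theorem algHom_art_mem_maximalIdeal (C : Art k k) (f : A →ₐ[k] C) (a : A)
    (ha : a ∈ maximalIdeal A) : f a ∈ maximalIdeal C := by
  rw [Art.mem_maximalIdeal_iff]
  let ρ : A →ₐ[k] k := C.res.comp f
  have hρ : Function.Surjective ρ := fun c => ⟨algebraMap k A c, by rw [AlgHom.commutes]; rfl⟩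
  have hmax : (RingHom.ker (ρ : A →+* k)).IsMaximal := RingHom.ker_isMaximal_of_surjective _ hρ
  have : a ∈ RingHom.ker (ρ : A →+* k) := by
    rw [IsLocalRing.eq_maximalIdeal hmax]; exact ha
  exact this

theorem algHom_art_pow_eq_zero (C : Art k k) (f : A →ₐ[k] C) :
    ∃ N : ℕ, ∀ a ∈ maximalIdeal A ^ N, f a = 0 := by
  obtain ⟨N, hN⟩ := art_maximalIdeal_nilpotent C
  refine ⟨N, fun a ha => ?_⟩
  have h1 : (maximalIdeal A).map f.toRingHom ≤ maximalIdeal C := by
    rw [Ideal.map_le_iff_le_comap]
    exact fun a ha => algHom_art_mem_maximalIdeal C f a ha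
  have h2 : (maximalIdeal A ^ N).map f.toRingHom ≤ maximalIdeal C ^ N := by
    rw [Ideal.map_pow]
    exact Ideal.pow_right_mono h1 N
  have := h2 (Ideal.mem_map_of_mem _ ha)
  rw [hN] at this
  exact this

variable [IsNoetherianRing A]

/-- extension of a map to an Artinian target to the completion -/
theorem exists_extend_compl (C : Art k k) (f : A →ₐ[k] C) :
    ∃ g : AdicCompletion (maximalIdeal A) A →ₐ[k] C,
      ∀ a : A, g (AdicCompletion.of (maximalIdeal A) A a) = f a := by
  obtain ⟨N, hN⟩ := algHom_art_pow_eq_zero C f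
  let f' : A ⧸ maximalIdeal A ^ N →ₐ[k] C := Ideal.Quotient.liftₐ _ f hN
  let ev : AdicCompletion (maximalIdeal A) A →ₐ[k] A ⧸ maximalIdeal A ^ N :=
    (AdicCompletion.evalₐ (maximalIdeal A) N).restrictScalars k
  refine ⟨f'.comp ev, fun a => ?_⟩
  change f' (AdicCompletion.evalₐ (maximalIdeal A) N (AdicCompletion.of (maximalIdeal A) A a)) = f a
  rw [AdicCompletion.evalₐ_of]
  rfl

/-- maps from the completion to an Artinian target are determined on the ring -/
theorem compl_algHom_ext (C : Art k k) (g₁ g₂ : AdicCompletion (maximalIdeal A) A →ₐ[k] C)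
    (h : ∀ a : A, g₁ (AdicCompletion.of (maximalIdeal A) A a) =
      g₂ (AdicCompletion.of (maximalIdeal A) A a)) : g₁ = g₂ := by
  obtain ⟨N₁, hN₁⟩ := algHom_art_pow_eq_zero C g₁
  obtain ⟨N₂, hN₂⟩ := algHom_art_pow_eq_zero C g₂
  set N := max N₁ N₂ with hN
  apply AlgHom.ext
  intro x
  obtain ⟨a, ha⟩ := Ideal.Quotient.mk_surjective (AdicCompletion.evalₐ (maximalIdeal A) N x)
  have hx : x - AdicCompletion.of (maximalIdeal A) A a ∈
      maximalIdeal (AdicCompletion (maximalIdeal A) A) ^ N := by
    rw [AdicCompletion.maximalIdeal_eq_map, ← Ideal.map_pow]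
    have h1 : AdicCompletion.evalₐ (maximalIdeal A) N (x - AdicCompletion.of (maximalIdeal A) A a) = 0 := by
      rw [map_sub, AdicCompletion.evalₐ_of, ha, sub_self]
    exact mem_map_pow_of_evalₐ_eq_zero _ (IsNoetherian.noetherian _) N _ h1
  have e : x = AdicCompletion.of (maximalIdeal A) A a + (x - AdicCompletion.of (maximalIdeal A) A a) := by
    ring
  rw [e, map_add, map_add, h a,
    hN₁ _ (Ideal.pow_le_pow_right (le_max_left N₁ N₂) hx),
    hN₂ _ (Ideal.pow_le_pow_right (le_max_right N₁ N₂) hx)]

end Compl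


end Groth.Agent.Lib.helper19
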