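import Mathlib
import Groth.Agent.S4530

/-!
# Local Jacobian criterion for quotients of formally smooth algebras (EGA 0_IV 22.6)
(S2463, S4576, S4580)
-/

open TensorProduct KaehlerDifferential

namespace Groth.Agent.Lib.helper19.JacLocal

universe u

section LA

variable {T : Type*} [CommRing T] {M N Q : Type*} [AddCommGroup M] [AddCommGroup N] [AddCommGroup Q]
  [Module T M] [Module T N] [Module T Q]

/-- left-invertibility = injective with projective cokernel (for projective target). -/
theorem leftInv_iff [Module.Projective T N] (v : M →ₗ[T] N) (g : N →ₗ[T] Q)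
    (hex : Function.Exact v g) (hg : Function.Surjective g) :
    (∃ w : N →ₗ[T] M, w ∘ₗ v = LinearMap.id) ↔ Function.Injective v ∧ Module.Projective T Q := by
  have h01 := (hex.split_tfae').out 0 1
  rw [Module.Projective.iff_split_of_projective g hg]
  constructor
  · intro h
    exact h01.mpr ⟨hg, h⟩
  · intro h
    exact (h01.mp h).2

end LA

section flat

variable {C : Type*} [CommRing C] (T : Type*) [CommRing T] [Algebra C T] [Module.Flat C T]
  {M N : Type*} [AddCommGroup M] [AddCommGroup N] [Module C M] [Module C N]

theorem baseChange_injective_iff (u : M →ₗ[C] N) :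
    Function.Injective (u.baseChange T) ↔ Subsingleton (T ⊗[C] LinearMap.ker u) := by
  have hex : Function.Exact (LinearMap.ker u).subtype u := LinearMap.exact_subtype_ker_map u
  have hex' := Module.Flat.lTensor_exact T hex
  have hinj : Function.Injective ((LinearMap.ker u).subtype.lTensor T) :=
    Module.Flat.lTensor_preserves_injective_linearMap _ (Submodule.injective_subtype _)
  constructor
  · intro h
    refine ⟨fun x y => ?_⟩
    apply hinj
    have hx : u.lTensor T ((LinearMap.ker u).subtype.lTensor T x) = 0 :=
      (hex' _).mpr ⟨x, rfl⟩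
    have hy : u.lTensor T ((LinearMap.ker u).subtype.lTensor T y) = 0 :=
      (hex' _).mpr ⟨y, rfl⟩
    exact h (hx.trans hy.symm)
  · intro h
    rw [injective_iff_map_eq_zero]
    intro x hx
    obtain ⟨y, rfl⟩ := (hex' x).mp hx
    rw [Subsingleton.elim y 0, map_zero]

end flat

variable {A B C : Type u} [CommRing A] [CommRing B] [CommRing C] [Algebra A B] [Algebra B C]
  [Algebra A C] [IsScalarTower A B C]

/-- the extension `B → C` -/
noncomputable abbrev ext (hsurj : Function.Surjective (algebraMap B C)) : Algebra.Extension.{u} A C :=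
  { Ring := B, σ := Function.surjInv hsurj, algebraMap_σ := Function.surjInv_eq hsurj }

variable (hsurj : Function.Surjective (algebraMap B C))

instance [h : Algebra.FormallySmooth A B] : Algebra.FormallySmooth A (ext (A := A) hsurj).Ring := h

theorem formallySmooth_iff_leftInv [Algebra.FormallySmooth A B] (T : Type u) [CommRing T]
    [Algebra C T] [Algebra A T] [IsScalarTower A C T] (M : Submonoid C) [IsLocalization M T] :
    Algebra.FormallySmooth A T ↔
      ∃ w : T ⊗[C] (ext (A := A) hsurj).CotangentSpace →ₗ[T] T ⊗[C] (ext (A := A) hsurj).Cotangent,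
        w ∘ₗ (ext (A := A) hsurj).cotangentComplex.baseChange T = LinearMap.id := by
  haveI : Module.Flat C T := IsLocalization.flat T M
  haveI : Algebra.FormallyEtale C T := Algebra.FormallyEtale.of_isLocalization M
  let P := ext (A := A) hsurj
  have hex : Function.Exact (P.cotangentComplex.baseChange T) (P.toKaehler.baseChange T) :=
    _root_.lTensor_exact T P.exact_cotangentComplex_toKaehler P.toKaehler_surjective
  have hsurj' : Function.Surjective (P.toKaehler.baseChange T) :=
    LinearMap.lTensor_surjective T P.toKaehler_surjective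
  haveI : Module.Projective T (T ⊗[C] P.CotangentSpace) := inferInstance
  rw [leftInv_iff _ _ hex hsurj', baseChange_injective_iff, Algebra.formallySmooth_iff, and_comm]
  apply and_congr
  · have e1 : T ⊗[C] LinearMap.ker P.cotangentComplex ≃ₗ[T] Algebra.H1Cotangent A T :=
      (AlgebraTensorModule.congr (LinearEquiv.refl T T) P.equivH1CotangentOfFormallySmooth) ≪≫ₗ
        Algebra.tensorH1CotangentOfIsLocalization A T M
    exact e1.subsingleton_congr.symm
  · have e2 := KaehlerDifferential.tensorKaehlerEquivOfFormallyEtale A C T
    exact ⟨fun h => Module.Projective.of_equiv e2.symm, fun h => Module.Projective.of_equiv e2⟩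

section TL

variable {C : Type*} [CommRing C] (T K : Type*) [CommRing T] [CommRing K] [Algebra C T] [Algebra C K]
  [Algebra T K] [IsScalarTower C T K]
  {M N : Type*} [AddCommGroup M] [AddCommGroup N] [Module C M] [Module C N]

theorem lTensor_injective_of_leftInv (u : M →ₗ[C] N)
    (h : ∃ w : T ⊗[C] N →ₗ[T] T ⊗[C] M, w ∘ₗ u.baseChange T = LinearMap.id) :
    Function.Injective (u.lTensor K) := by
  obtain ⟨w, hw⟩ := h
  have h1 : (w.baseChange K) ∘ₗ ((u.baseChange T).baseChange K) = LinearMap.id := by
    rw [← LinearMap.baseChange_comp, hw, LinearMap.baseChange_id]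
  have hinj : Function.Injective ((u.baseChange T).baseChange K) := by
    intro x y hxy
    have := congrArg (w.baseChange K) hxy
    rwa [← LinearMap.comp_apply, ← LinearMap.comp_apply, h1] at this
  have hnat : ((AlgebraTensorModule.cancelBaseChange C T K K N).symm.toLinearMap) ∘ₗ (u.baseChange K) =
      ((u.baseChange T).baseChange K) ∘ₗ
        ((AlgebraTensorModule.cancelBaseChange C T K K M).symm.toLinearMap) := by
    ext m
    simp
  intro x y hxy
  have hxy' : u.baseChange K x = u.baseChange K y := hxy
  have := congrArg (AlgebraTensorModule.cancelBaseChange C T K K N).symm hxy'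
  have h2 : ∀ z, (AlgebraTensorModule.cancelBaseChange C T K K N).symm (u.baseChange K z) =
      ((u.baseChange T).baseChange K) ((AlgebraTensorModule.cancelBaseChange C T K K M).symm z) :=
    fun z => congrArg (fun f => f z) hnat
  rw [h2, h2] at this
  exact (AlgebraTensorModule.cancelBaseChange C T K K M).symm.injective (hinj this)

end TL

section main

variable {A B C : Type u} [CommRing A] [CommRing B] [CommRing C] [Algebra A B] [Algebra B C]
  [Algebra A C] [IsScalarTower A B C] (hsurj : Function.Surjective (algebraMap B C))

/-- (1) ⇒ (2') -/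
theorem injective_of_formallySmooth_atPrime [Algebra.FormallySmooth A B] (p : Ideal C) [p.IsPrime]
    (h : Algebra.FormallySmooth A (Localization.AtPrime p)) :
    Function.Injective ((ext (A := A) hsurj).cotangentComplex.lTensor p.ResidueField) :=
  lTensor_injective_of_leftInv (Localization.AtPrime p) p.ResidueField _
    ((formallySmooth_iff_leftInv hsurj (Localization.AtPrime p) p.primeCompl).mp h)

/-- from `w ∘ u = g • id` to formal smoothness of `C_g` -/
theorem formallySmooth_away_of_comp_eq [Algebra.FormallySmooth A B] (g : C)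
    (w : (ext (A := A) hsurj).CotangentSpace →ₗ[C] (ext (A := A) hsurj).Cotangent)
    (hw : w ∘ₗ (ext (A := A) hsurj).cotangentComplex = g • LinearMap.id) :
    Algebra.FormallySmooth A (Localization.Away g) := by
  rw [formallySmooth_iff_leftInv hsurj (Localization.Away g) (Submonoid.powers g)]
  have hu : IsUnit (algebraMap C (Localization.Away g) g) := IsLocalization.Away.algebraMap_isUnit g
  obtain ⟨v, hv⟩ := hu.exists_left_inv
  refine ⟨v • w.baseChange (Localization.Away g), ?_⟩
  rw [LinearMap.smul_comp, ← LinearMap.baseChange_comp, hw]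
  ext x
  simp only [AlgebraTensorModule.curry_apply, LinearMap.restrictScalars_apply, curry_apply,
    LinearMap.smul_apply, LinearMap.baseChange_tmul, LinearMap.id_apply]
  rw [TensorProduct.tmul_smul, TensorProduct.smul_tmul', TensorProduct.smul_tmul', smul_eq_mul,
    Algebra.smul_def, mul_one, hv]

/-- (2') ⇒ (3) -/
theorem exists_formallySmooth_away [Algebra.FormallySmooth A B]
    [Module.Finite C (ext (A := A) hsurj).Cotangent] (p : Ideal C) [p.IsPrime]
    (h : Function.Injective ((ext (A := A) hsurj).cotangentComplex.lTensor p.ResidueField)) :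
    ∃ f : C, f ∉ p ∧ Algebra.FormallySmooth A (Localization.Away f) := by
  obtain ⟨g, hg, w, hw⟩ := Groth.Agent.S4530.H5S4530.keyK (ext (A := A) hsurj).cotangentComplex p h
  exact ⟨g, hg, formallySmooth_away_of_comp_eq hsurj g w hw⟩

end main

theorem formallySmooth_atPrime_of_away (A C : Type*) [CommRing A] [CommRing C] [Algebra A C]
    (q : Ideal C) [q.IsPrime] (f : C) (hf : f ∉ q)
    [Algebra.FormallySmooth A (Localization.Away f)] :
    Algebra.FormallySmooth A (Localization.AtPrime q) := by
  let Bf := Localization.Away f
  let Bq := Localization.AtPrime q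
  let g : Bf →ₐ[C] Bq := IsLocalization.liftAlgHom (M := Submonoid.powers f)
        (f := Algebra.ofId C Bq) (by
      rintro ⟨_, n, rfl⟩
      have : IsUnit (algebraMap C Bq f) :=
        IsLocalization.map_units (M := q.primeCompl) Bq ⟨f, hf⟩
      simpa using this.pow n)
  algebraize [g.toRingHom]
  have : IsScalarTower A Bf Bq := .to₁₃₄ _ C _ _
  have : IsLocalization (Algebra.algebraMapSubmonoid Bf q.primeCompl) Bq :=
    .isLocalization_of_submonoid_le _ _ (Submonoid.powers f) _
    (by rintro _ ⟨n, rfl⟩; exact q.primeCompl.pow_mem hf n)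
  have : Algebra.FormallySmooth Bf Bq :=
    Algebra.FormallySmooth.of_isLocalization (Algebra.algebraMapSubmonoid Bf q.primeCompl)
  exact Algebra.FormallySmooth.comp A Bf Bq

section compare

variable {A B C : Type u} [CommRing A] [CommRing B] [CommRing C] [Algebra A B] [Algebra B C]
  [Algebra A C] [IsScalarTower A B C] (hsurj : Function.Surjective (algebraMap B C))

theorem cotangentComplex_eq (x : (ext (A := A) hsurj).Cotangent) :
    (ext (A := A) hsurj).cotangentComplex x =
      kerCotangentToTensor A B C ((ext (A := A) hsurj).cotangentEquivCotangentKer x) := rfl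

theorem lTensor_injective_iff (K : Type u) [CommRing K] [Algebra B K] [Algebra C K]
    [IsScalarTower B C K] :
    Function.Injective ((kerCotangentToTensor A B C).lTensor K) ↔
      Function.Injective ((ext (A := A) hsurj).cotangentComplex.lTensor K) := by
  let P := ext (A := A) hsurj
  haveI h1 : TensorProduct.CompatibleSMul B C K P.Cotangent :=
    TensorProduct.CompatibleSMul.of_algebraMap_surjective _ _ hsurj
  haveI h2 : TensorProduct.CompatibleSMul B C K P.CotangentSpace :=
    TensorProduct.CompatibleSMul.of_algebraMap_surjective _ _ hsurj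
  let Ψ1 : K ⊗[B] P.Cotangent ≃ₗ[B] K ⊗[C] P.Cotangent :=
    TensorProduct.equivOfCompatibleSMul C B B K P.Cotangent
  let Ψ2 : K ⊗[B] P.CotangentSpace ≃ₗ[B] K ⊗[C] P.CotangentSpace :=
    TensorProduct.equivOfCompatibleSMul C B B K P.CotangentSpace
  let α : K ⊗[B] P.Cotangent ≃ₗ[B] K ⊗[B] (RingHom.ker (algebraMap B C)).Cotangent :=
    TensorProduct.congr (LinearEquiv.refl B K) P.cotangentEquivCotangentKer
  have hcomm' : Ψ2.toLinearMap ∘ₗ ((kerCotangentToTensor A B C).lTensor K) ∘ₗ α.toLinearMap =
      ((P.cotangentComplex.lTensor K).restrictScalars B) ∘ₗ Ψ1.toLinearMap :=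
    TensorProduct.ext' (fun k x => rfl)
  have hcomm : ∀ z, Ψ2 (((kerCotangentToTensor A B C).lTensor K) (α z)) =
      (P.cotangentComplex.lTensor K) (Ψ1 z) := fun z => congrArg (fun f => f z) hcomm'
  constructor
  · intro h x y hxy
    obtain ⟨x, rfl⟩ := Ψ1.surjective x
    obtain ⟨y, rfl⟩ := Ψ1.surjective y
    rw [← hcomm, ← hcomm] at hxy
    have := α.injective (h (Ψ2.injective hxy))
    rw [this]
  · intro h x y hxy
    obtain ⟨x, rfl⟩ := α.surjective x
    obtain ⟨y, rfl⟩ := α.surjective y
    have := congrArg Ψ2 hxy
    rw [hcomm, hcomm] at this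
    have := Ψ1.injective (h this)
    rw [this]

end compare

section results

variable {A B C : Type u} [CommRing A] [CommRing B] [CommRing C] [Algebra A B] [Algebra B C]
  [Algebra A C] [IsScalarTower A B C]

theorem finite_cotangent (hsurj : Function.Surjective (algebraMap B C))
    [Module.Finite B (RingHom.ker (algebraMap B C)).Cotangent] :
    Module.Finite C (ext (A := A) hsurj).Cotangent := by
  let e : (RingHom.ker (algebraMap B C)).Cotangent ≃ₗ[B] (ext (A := A) hsurj).Cotangent :=
    (ext (A := A) hsurj).cotangentEquivCotangentKer.symm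
  haveI : Module.Finite B (ext (A := A) hsurj).Cotangent := Module.Finite.equiv e
  exact Module.Finite.of_restrictScalars_finite B C _

theorem main2463 [Algebra.FormallySmooth A B] (hsurj : Function.Surjective (algebraMap B C))
    [Module.Finite B (RingHom.ker (algebraMap B C)).Cotangent] (p : Ideal C) [p.IsPrime] :
    [Algebra.FormallySmooth A (Localization.AtPrime p),
     Function.Injective ((kerCotangentToTensor A B C).lTensor p.ResidueField),
     ∃ f : C, f ∉ p ∧ Algebra.FormallySmooth A (Localization.Away f)].TFAE := by
  haveI := finite_cotangent (A := A) hsurj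
  tfae_have 1 → 2 := fun h =>
    (lTensor_injective_iff hsurj p.ResidueField).mpr (injective_of_formallySmooth_atPrime hsurj p h)
  tfae_have 2 → 3 := fun h =>
    exists_formallySmooth_away hsurj p ((lTensor_injective_iff hsurj p.ResidueField).mp h)
  tfae_have 3 → 1 := fun ⟨f, hf, h⟩ => formallySmooth_atPrime_of_away A C p f hf
  tfae_finish

theorem main4576 [Algebra.FormallySmooth A B] (hsurj : Function.Surjective (algebraMap B C))
    [Module.Finite B (RingHom.ker (algebraMap B C)).Cotangent] :
    IsOpen {p : PrimeSpectrum C | Algebra.FormallySmooth A (Localization.AtPrime p.asIdeal)} := by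
  rw [isOpen_iff_forall_mem_open]
  intro p hp
  obtain ⟨f, hf, hfs⟩ := ((main2463 (A := A) hsurj p.asIdeal).out 0 2).mp hp
  refine ⟨PrimeSpectrum.basicOpen f, ?_, (PrimeSpectrum.basicOpen f).2, hf⟩
  intro q hq
  exact formallySmooth_atPrime_of_away A C q.asIdeal f hq

end results

end Groth.Agent.Lib.helper19.JacLocal
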