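import Mathlib

open TensorProduct KaehlerDifferential IsLocalRing

namespace Groth.Agent.Lib.helper19.JacobiAtPrime

universe u

variable (R A : Type u) [CommRing R] [CommRing A] [Algebra R A]
  (I : Ideal A) (P : Ideal (A ⧸ I)) [P.IsPrime]

/-- the preimage prime -/
abbrev qq : Ideal A := P.comap (Ideal.Quotient.mk I)

instance : (qq A I P).IsPrime := Ideal.comap_isPrime _ _

instance liesOver : P.LiesOver (qq A I P) := ⟨rfl⟩

noncomputable instance algS : Algebra (Localization.AtPrime (qq A I P)) (Localization.AtPrime P) :=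
  Localization.AtPrime.algebraOfLiesOver (qq A I P) P

instance : Localization.AtPrime.IsLiesOverAlgebra (qq A I P) P := ⟨rfl⟩

example : IsScalarTower A (Localization.AtPrime (qq A I P)) (Localization.AtPrime P) := inferInstance
example : IsScalarTower R (Localization.AtPrime (qq A I P)) (Localization.AtPrime P) := inferInstance

theorem surj : Function.Surjective (algebraMap (Localization.AtPrime (qq A I P)) (Localization.AtPrime P)) := by
  have h := (RingHom.surjectiveOnStalks_of_surjective (f := Ideal.Quotient.mk I)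
    Ideal.Quotient.mk_surjective).localRingHom_surjective (qq A I P) P rfl
  exact h

theorem ker_eq : RingHom.ker (algebraMap (Localization.AtPrime (qq A I P)) (Localization.AtPrime P)) =
    I.map (algebraMap A (Localization.AtPrime (qq A I P))) := by
  apply le_antisymm
  · intro x hx
    obtain ⟨a, s, rfl⟩ := IsLocalization.exists_mk'_eq (qq A I P).primeCompl x
    rw [RingHom.mem_ker] at hx
    have h1 : algebraMap (Localization.AtPrime (qq A I P)) (Localization.AtPrime P)
        (IsLocalization.mk' _ a s) = IsLocalization.mk' (Localization.AtPrime P)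
          (Ideal.Quotient.mk I a) (⟨Ideal.Quotient.mk I s.1, s.2⟩ : P.primeCompl) := by
      change Localization.localRingHom (qq A I P) P (algebraMap A (A ⧸ I)) _ _ = _
      rw [Localization.localRingHom_mk']
      rfl
    rw [h1, IsLocalization.mk'_eq_zero_iff] at hx
    obtain ⟨⟨t, ht⟩, htx⟩ := hx
    obtain ⟨t', rfl⟩ := Ideal.Quotient.mk_surjective t
    rw [IsLocalization.mk'_mem_map_algebraMap_iff]
    refine ⟨t', ht, ?_⟩
    rw [← Ideal.Quotient.eq_zero_iff_mem, map_mul]
    exact htx
  · rw [Ideal.map_le_iff_le_comap]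
    intro a ha
    rw [Ideal.mem_comap, RingHom.mem_ker, ← IsScalarTower.algebraMap_apply,
      IsScalarTower.algebraMap_apply A (A ⧸ I) (Localization.AtPrime P)]
    have : algebraMap A (A ⧸ I) a = 0 := Ideal.Quotient.eq_zero_iff_mem.mpr ha
    rw [this, map_zero]

/-- the ring map `(A/I)_P → κ(q)` -/
noncomputable def toK : Localization.AtPrime P →+* (qq A I P).ResidueField :=
  IsLocalization.lift (M := P.primeCompl)
    (g := Ideal.Quotient.lift I (algebraMap A (qq A I P).ResidueField) (fun a ha => by
      rw [Ideal.algebraMap_residueField_eq_zero]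
      change Ideal.Quotient.mk I a ∈ P
      rw [Ideal.Quotient.eq_zero_iff_mem.mpr ha]
      exact P.zero_mem)) (by
    rintro ⟨y, hy⟩
    obtain ⟨a, rfl⟩ := Ideal.Quotient.mk_surjective y
    rw [Ideal.Quotient.lift_mk]
    apply IsUnit.mk0
    rw [Ne, Ideal.algebraMap_residueField_eq_zero]
    exact hy)

noncomputable instance algK : Algebra (Localization.AtPrime P) (qq A I P).ResidueField :=
  (toK A I P).toAlgebra

theorem toK_algebraMap (a : A) :
    toK A I P (algebraMap A (Localization.AtPrime P) a) = algebraMap A (qq A I P).ResidueField a := by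
  rw [IsScalarTower.algebraMap_apply A (A ⧸ I) (Localization.AtPrime P)]
  unfold toK
  rw [IsLocalization.lift_eq]
  exact Ideal.Quotient.lift_mk _ _ _

instance towerK : IsScalarTower (Localization.AtPrime (qq A I P)) (Localization.AtPrime P)
    (qq A I P).ResidueField := .of_algebraMap_eq' <| by
  apply IsLocalization.ringHom_ext (qq A I P).primeCompl
  ext a
  simp only [RingHom.comp_apply]
  rw [← IsScalarTower.algebraMap_apply A (Localization.AtPrime (qq A I P)) (qq A I P).ResidueField,
    ← IsScalarTower.algebraMap_apply A (Localization.AtPrime (qq A I P)) (Localization.AtPrime P)]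
  exact (toK_algebraMap A I P a).symm

theorem max_le_ker : maximalIdeal (Localization.AtPrime P) ≤
    RingHom.ker (algebraMap (Localization.AtPrime P) (qq A I P).ResidueField) := by
  intro x hx
  obtain ⟨y, rfl⟩ := surj A I P x
  rw [RingHom.mem_ker, ← IsScalarTower.algebraMap_apply]
  have hy : y ∈ maximalIdeal (Localization.AtPrime (qq A I P)) := by
    rw [mem_maximalIdeal, mem_nonunits_iff] at hx ⊢
    exact fun h => hx (h.map _)
  exact (IsLocalRing.residue_eq_zero_iff y).mpr hy

section general

theorem span_one_tmul {R M K : Type*} [CommRing R] [AddCommGroup M] [Module R M] [Field K]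
    [Algebra R K] (X : Set M) (hX : Submodule.span R X = ⊤) :
    Submodule.span K ((fun x => (1 : K) ⊗ₜ[R] x) '' X) = ⊤ := by
  rw [eq_top_iff]
  rintro x -
  induction x using TensorProduct.induction_on with
  | zero => exact Submodule.zero_mem _
  | add x y hx hy => exact Submodule.add_mem _ hx hy
  | tmul k m =>
    have hm : m ∈ Submodule.span R X := by rw [hX]; trivial
    induction hm using Submodule.span_induction with
    | mem m h =>
      have : k ⊗ₜ[R] m = k • ((1 : K) ⊗ₜ[R] m) := by
        rw [TensorProduct.smul_tmul', smul_eq_mul, mul_one]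
      rw [this]
      exact Submodule.smul_mem _ _ (Submodule.subset_span ⟨m, h, rfl⟩)
    | zero => rw [TensorProduct.tmul_zero]; exact Submodule.zero_mem _
    | add x y _ _ hx hy => rw [TensorProduct.tmul_add]; exact Submodule.add_mem _ hx hy
    | smul a x _ hx =>
      have : k ⊗ₜ[R] (a • x) = (algebraMap R K a) • (k ⊗ₜ[R] x) := by
        rw [TensorProduct.tmul_smul, algebraMap_smul]
      rw [this]
      exact Submodule.smul_mem _ _ hx

theorem span_top_iff {R : Type*} [CommRing R] (J : Ideal R) {ι : Type*} (x : ι → J) :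
    Submodule.span R (Set.range x) = ⊤ ↔ Ideal.span (Set.range fun i => (x i : R)) = J := by
  have h1 : Submodule.map J.subtype (Submodule.span R (Set.range x)) =
      Ideal.span (Set.range fun i => (x i : R)) := by
    rw [Submodule.map_span, ← Set.range_comp]
    rfl
  constructor
  · intro h
    rw [← h1, h, Submodule.map_top, Submodule.range_subtype]
  · intro h
    apply Submodule.map_injective_of_injective J.subtype_injective
    rw [h1, h, Submodule.map_top, Submodule.range_subtype]

theorem injective_of_span_of_li {K V W ι : Type*} [Field K] [AddCommGroup V] [AddCommGroup W]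
    [Module K V] [Module K W] [Finite ι] (f : V →ₗ[K] W) (v : ι → V)
    (hv : Submodule.span K (Set.range v) = ⊤)
    (hli : LinearIndependent K (fun i => f (v i))) : Function.Injective f := by
  haveI := Fintype.ofFinite ι
  rw [injective_iff_map_eq_zero]
  intro x hx
  have hxm : x ∈ Submodule.span K (Set.range v) := by rw [hv]; trivial
  obtain ⟨c, rfl⟩ := (Submodule.mem_span_range_iff_exists_fun K).mp hxm
  rw [map_sum] at hx
  simp only [map_smul] at hx
  have := Fintype.linearIndependent_iff.mp hli c hx
  simp [this]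

end general

local notation "Aq" => Localization.AtPrime (qq A I P)
local notation "SS" => Localization.AtPrime P
local notation "KK" => Ideal.ResidueField (qq A I P)

theorem crit [Algebra.IsSmoothAt R (qq A I P)] [Module.Finite A Ω[A⁄R]] (hI : I.FG) :
    Algebra.IsSmoothAt R P ↔ Function.Injective (cotangentComplexBaseChange R SS Aq KK) := by
  have : Algebra.FormallySmooth R Aq := ‹Algebra.IsSmoothAt R (qq A I P)›
  have : Module.Finite Aq Ω[Aq⁄R] := Module.Finite.equiv (tensorKaehlerEquivOfFormallyEtale R A Aq)
  have : Module.Free Aq Ω[Aq⁄R] := Module.free_of_flat_of_isLocalRing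
  exact Algebra.FormallySmooth.iff_injective_cotangentComplexBaseChange Aq KK (surj A I P)
    (by rw [ker_eq]; exact hI.map _) (max_le_ker A I P)

/-- comparison iso `κ(q) ⊗_A Ω_{A/R} ≃ κ(q) ⊗_{A_q} Ω_{A_q/R}` -/
noncomputable def theta : KK ⊗[A] Ω[A⁄R] ≃ₗ[KK] KK ⊗[Aq] Ω[Aq⁄R] :=
  (AlgebraTensorModule.cancelBaseChange A Aq KK KK Ω[A⁄R]).symm ≪≫ₗ
    (AlgebraTensorModule.congr (LinearEquiv.refl KK KK) (tensorKaehlerEquivOfFormallyEtale R A Aq))

theorem theta_apply (a : A) :
    theta R A I P ((1 : KK) ⊗ₜ[A] D R A a) = (1 : KK) ⊗ₜ[Aq] D R Aq (algebraMap A Aq a) := by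
  simp [theta, tensorKaehlerEquivOfFormallyEtale_apply]

/-- element of the kernel attached to an element of `I` -/
noncomputable def iota (g : I) : RingHom.ker (algebraMap Aq SS) :=
  ⟨algebraMap A Aq g, by rw [ker_eq]; exact Ideal.mem_map_of_mem _ g.2⟩

theorem L_iota (g : I) :
    cotangentComplexBaseChange R SS Aq KK ((1 : KK) ⊗ₜ[Aq] iota A I P g) =
      theta R A I P ((1 : KK) ⊗ₜ[A] D R A (g : A)) := by
  rw [theta_apply, cotangentComplexBaseChange_tmul, one_smul, kerToTensor_apply]
  rfl

theorem core_mpr [Algebra.IsSmoothAt R (qq A I P)] [Module.Finite A Ω[A⁄R]] (hI : I.FG)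
    (s : Finset A) (hs : (↑s : Set A) ⊆ (I : Set A))
    (hgen : Ideal.map (algebraMap A Aq) I = Ideal.span ((algebraMap A Aq) '' (↑s : Set A)))
    (hli : LinearIndependent KK (fun g : ↥s => (1 : KK) ⊗ₜ[A] KaehlerDifferential.D R A (g : A))) :
    Algebra.IsSmoothAt R P := by
  rw [crit R A I P hI]
  let x : ↥s → RingHom.ker (algebraMap Aq SS) := fun g => iota A I P ⟨g.1, hs g.2⟩
  have hx : Submodule.span Aq (Set.range x) = ⊤ := by
    rw [span_top_iff]
    refine Eq.trans ?_ ((ker_eq A I P).trans hgen).symm
    congr 1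
    ext y
    constructor
    · rintro ⟨g, rfl⟩
      exact ⟨g.1, g.2, rfl⟩
    · rintro ⟨g, hg, rfl⟩
      exact ⟨⟨g, hg⟩, rfl⟩
  have hspan := span_one_tmul (K := KK) (Set.range x) hx
  rw [← Set.range_comp] at hspan
  apply injective_of_span_of_li _ _ hspan
  have : (fun i : ↥s => cotangentComplexBaseChange R SS Aq KK
      (((fun y => (1 : KK) ⊗ₜ[Aq] y) ∘ x) i)) =
      fun i : ↥s => theta R A I P ((1 : KK) ⊗ₜ[A] KaehlerDifferential.D R A (i : A)) := by
    funext i
    exact L_iota R A I P ⟨i.1, hs i.2⟩
  rw [this]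
  exact hli.map' (theta R A I P).toLinearMap (LinearEquiv.ker _)

theorem core_mp [Algebra.IsSmoothAt R (qq A I P)] [Module.Finite A Ω[A⁄R]] (hI : I.FG)
    (h : Algebra.IsSmoothAt R P) :
    ∃ s : Finset A, (↑s : Set A) ⊆ (I : Set A) ∧
      Ideal.map (algebraMap A Aq) I = Ideal.span ((algebraMap A Aq) '' (↑s : Set A)) ∧
      LinearIndependent KK (fun g : ↥s => (1 : KK) ⊗ₜ[A] KaehlerDifferential.D R A (g : A)) := by
  classical
  rw [crit R A I P hI] at h
  have hfin : Module.Finite Aq (RingHom.ker (algebraMap Aq SS)) := by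
    rw [Module.Finite.iff_fg, ker_eq]
    exact hI.map _
  have hx : Submodule.span Aq (Set.range (iota A I P)) = ⊤ := by
    rw [span_top_iff]
    refine Eq.trans ?_ (ker_eq A I P).symm
    change _ = Ideal.span _
    congr 1
    ext y
    constructor
    · rintro ⟨g, rfl⟩
      exact ⟨g.1, g.2, rfl⟩
    · rintro ⟨g, hg, rfl⟩
      exact ⟨⟨g, hg⟩, rfl⟩
  have hspan := span_one_tmul (K := KK) (Set.range (iota A I P)) hx
  obtain ⟨f, hfT, hfspan, hfli⟩ := Submodule.exists_fun_fin_finrank_span_eq KK
    ((fun y => (1 : KK) ⊗ₜ[Aq] y) '' Set.range (iota A I P))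
  replace hfspan := hfspan.trans hspan
  have hg : ∀ i, ∃ g : I, (1 : KK) ⊗ₜ[Aq] iota A I P g = f i := by
    intro i
    obtain ⟨_, ⟨g, rfl⟩, hg⟩ := hfT i
    exact ⟨g, hg⟩
  choose g hg using hg
  let b : Module.Basis _ KK (KK ⊗[Aq] RingHom.ker (algebraMap Aq SS)) :=
    Module.Basis.mk hfli (by rw [hfspan])
  have hb : ∀ i, (1 : KK) ⊗ₜ[Aq] (iota A I P ∘ g) i = b i := by
    intro i
    simp only [b, Module.Basis.mk_apply, Function.comp_apply, hg]
  have hgen := IsLocalRing.span_eq_top_of_tmul_eq_basis (R := Aq) (iota A I P ∘ g) b hb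
  rw [span_top_iff] at hgen
  refine ⟨Finset.univ.image (fun i => (g i : A)), ?_, ?_, ?_⟩
  · intro a ha
    simp only [Finset.coe_image, Finset.coe_univ, Set.image_univ, Set.mem_range] at ha
    obtain ⟨i, rfl⟩ := ha
    exact (g i).2
  · refine ((ker_eq A I P).symm.trans hgen.symm).trans ?_
    congr 1
    ext y
    simp only [Finset.coe_image, Finset.coe_univ, Set.image_univ, Set.mem_range, Set.mem_image,
      exists_exists_eq_and, Function.comp_apply]
    rfl
  · have h1 : LinearIndependent KK (fun i => cotangentComplexBaseChange R SS Aq KK (f i)) :=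
      hfli.map' _ (LinearMap.ker_eq_bot.mpr h)
    have h2 : (fun i => cotangentComplexBaseChange R SS Aq KK (f i)) =
        (theta R A I P).toLinearMap ∘ (fun i => (1 : KK) ⊗ₜ[A] KaehlerDifferential.D R A (g i : A)) := by
      funext i
      rw [← hg i]
      exact L_iota R A I P (g i)
    rw [h2] at h1
    have h3 := h1.of_comp
    have he : ∀ x : ↥(Finset.univ.image (fun i => (g i : A))), ∃ i, (g i : A) = x := by
      intro x
      have := x.2
      simp only [Finset.mem_image, Finset.mem_univ, true_and] at this
      exact this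
    choose e he using he
    have hinj : Function.Injective e := by
      intro x y hxy
      apply Subtype.ext
      rw [← he x, ← he y, hxy]
    have h4 := h3.comp e hinj
    convert h4 using 1
    funext x
    simp only [Function.comp_apply, he]

theorem main5998
    (R A : Type u) [CommRing R] [CommRing A] [IsNoetherianRing R] [Algebra R A] [Algebra.Smooth R A]
    (I : Ideal A) (P : Ideal (A ⧸ I)) [P.IsPrime] :
    letI q : Ideal A := P.comap (Ideal.Quotient.mk I)
    Algebra.IsSmoothAt R P ↔ ∃ s : Finset A, (↑s : Set A) ⊆ (I : Set A) ∧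
      Ideal.map (algebraMap A (Localization.AtPrime q)) I =
        Ideal.span ((algebraMap A (Localization.AtPrime q)) '' (↑s : Set A)) ∧
      LinearIndependent q.ResidueField
        (fun g : ↥s => (1 : q.ResidueField) ⊗ₜ[A] KaehlerDifferential.D R A (g : A)) := by
  have hN : IsNoetherianRing A := Algebra.FiniteType.isNoetherianRing R A
  have hsm : Algebra.IsSmoothAt R (qq A I P) :=
    Algebra.FormallySmooth.comp R A (Localization.AtPrime (qq A I P))
  have hI : I.FG := IsNoetherian.noetherian I
  constructor
  · intro h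
    exact core_mp R A I P hI h
  · rintro ⟨s, hs, hgen, hli⟩
    exact core_mpr R A I P hI s hs hgen hli

theorem main5999
    (R A : Type u) [CommRing R] [CommRing A] [IsNoetherianRing R] [Algebra R A] [Algebra.FiniteType R A]
    (F : A) (P : Ideal (A ⧸ Ideal.span ({F} : Set A))) [P.IsPrime]
    (hX : Algebra.IsSmoothAt R (P.comap (Ideal.Quotient.mk (Ideal.span ({F} : Set A))))) :
    letI q : Ideal A := P.comap (Ideal.Quotient.mk (Ideal.span ({F} : Set A)))
    Algebra.IsSmoothAt R P ↔ algebraMap A (Localization.AtPrime q) F = 0 ∨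
      (1 : q.ResidueField) ⊗ₜ[A] KaehlerDifferential.D R A F ≠ 0 := by
  classical
  have hsm : Algebra.IsSmoothAt R (qq A (Ideal.span ({F} : Set A)) P) := hX
  have hI : (Ideal.span ({F} : Set A)).FG := ⟨{F}, by simp⟩
  have hFq : algebraMap A (qq A (Ideal.span ({F} : Set A)) P).ResidueField F = 0 := by
    rw [Ideal.algebraMap_residueField_eq_zero]
    change Ideal.Quotient.mk _ F ∈ P
    rw [Ideal.Quotient.eq_zero_iff_mem.mpr (Ideal.subset_span (Set.mem_singleton F))]
    exact P.zero_mem
  constructor
  · intro h
    obtain ⟨s, hs, hgen, hli⟩ := core_mp R A _ P hI h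
    by_contra hcon
    push Not at hcon
    obtain ⟨hF0, hdF⟩ := hcon
    have hempty : s = ∅ := by
      by_contra hne
      obtain ⟨g, hg⟩ := Finset.nonempty_iff_ne_empty.mpr hne
      have hgI := hs hg
      obtain ⟨a, ha⟩ := Ideal.mem_span_singleton'.mp hgI
      have := hli.ne_zero ⟨g, hg⟩
      apply this
      change (1 : (qq A (Ideal.span ({F} : Set A)) P).ResidueField) ⊗ₜ[A] KaehlerDifferential.D R A g = 0
      rw [← ha, Derivation.leibniz, TensorProduct.tmul_add, TensorProduct.tmul_smul,
        TensorProduct.tmul_smul, hdF, smul_zero, TensorProduct.smul_tmul', Algebra.smul_def, hFq,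
        zero_mul, TensorProduct.zero_tmul, add_zero]
    rw [hempty, Finset.coe_empty, Set.image_empty, Ideal.span_empty] at hgen
    apply hF0
    have : algebraMap A _ F ∈ Ideal.map (algebraMap A (Localization.AtPrime
        (qq A (Ideal.span ({F} : Set A)) P))) (Ideal.span ({F} : Set A)) :=
      Ideal.mem_map_of_mem _ (Ideal.subset_span (Set.mem_singleton F))
    rw [hgen] at this
    exact this
  · rintro (h0 | hne)
    · refine core_mpr R A _ P hI ∅ (by simp) ?_ ?_
      · rw [Ideal.map_span, Set.image_singleton, h0, Finset.coe_empty, Set.image_empty,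
          Ideal.span_empty]
        simp
      · exact linearIndependent_empty_type
    · refine core_mpr R A _ P hI {F} ?_ ?_ ?_
      · rw [Finset.coe_singleton]
        exact Ideal.subset_span
      · rw [Ideal.map_span, Finset.coe_singleton]
      · haveI : Unique ↥({F} : Finset A) :=
          ⟨⟨⟨F, Finset.mem_singleton_self F⟩⟩, fun x => Subtype.ext (Finset.mem_singleton.mp x.2)⟩
        rw [linearIndependent_unique_iff]
        have hd : ((default : ↥({F} : Finset A)) : A) = F := Finset.mem_singleton.mp (default : ↥({F} : Finset A)).2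
        rw [hd]
        exact hne

end Groth.Agent.Lib.helper19.JacobiAtPrime
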