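import Mathlib
import Groth.Agent.Lib.helper19.JacobiAtPrime

/-!
# Smoothness at a prime via lifting along small extensions of Artinian local rings (S2060)
-/

open TensorProduct KaehlerDifferential IsLocalRing
open Groth.Agent.Lib.helper19.JacobiAtPrime

namespace Groth.Agent.Lib.helper19.SmoothAtLift

universe u

theorem forward {R S : Type u} [CommRing R] [CommRing S] [Algebra R S] (q : Ideal S) [q.IsPrime]
    (h : Algebra.IsSmoothAt R q)
    (B' B : Type u) [CommRing B'] [CommRing B] [IsLocalRing B'] [IsLocalRing B]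
    [Algebra R B'] [Algebra R B] (π : B' →ₐ[R] B) (hπ : Function.Surjective π)
    (hker : ∃ t : B', RingHom.ker π.toRingHom = Ideal.span {t} ∧
          ∀ a ∈ IsLocalRing.maximalIdeal B', a * t = 0)
    (g : S →ₐ[R] B) (hg : (IsLocalRing.maximalIdeal B).comap g = q) :
    ∃ g' : S →ₐ[R] B', π.comp g' = g := by
  obtain ⟨t, ht, hmt⟩ := hker
  have htm : t ∈ maximalIdeal B' := by
    by_contra hcon
    have hu : IsUnit t := by
      by_contra h2
      exact hcon ((mem_maximalIdeal t).mpr h2)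
    have : (1 : B') ∈ RingHom.ker π.toRingHom := by
      rw [ht]
      exact (Ideal.span_singleton_eq_top.mpr hu) ▸ Submodule.mem_top
    rw [RingHom.mem_ker, map_one] at this
    exact one_ne_zero this
  have hnil : IsNilpotent (RingHom.ker (π : B' →+* B)) := by
    refine ⟨2, ?_⟩
    change RingHom.ker π.toRingHom ^ 2 = ⊥
    rw [ht, Ideal.span_singleton_pow, pow_two, hmt t htm]
    simp
  haveI : Algebra.FormallySmooth R (Localization.AtPrime q) := h
  let gq : Localization.AtPrime q →ₐ[R] B :=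
    IsLocalization.liftAlgHom (M := q.primeCompl) (f := g) (by
      rintro ⟨y, hy⟩
      have : g y ∉ maximalIdeal B := by
        intro hmem
        apply hy
        rw [← hg]
        exact hmem
      by_contra hnu
      exact this ((mem_maximalIdeal _).mpr hnu))
  let l := Algebra.FormallySmooth.liftOfSurjective gq π hπ hnil
  refine ⟨l.comp (IsScalarTower.toAlgHom R S (Localization.AtPrime q)), ?_⟩
  rw [← AlgHom.comp_assoc, Algebra.FormallySmooth.comp_liftOfSurjective]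
  ext x
  simp [gq]

section general

theorem isUnit_of_isUnit_mk {B' : Type*} [CommRing B'] [IsLocalRing B'] (J : Ideal B') (hJ : J ≠ ⊤)
    (x : B') (h : IsUnit (Ideal.Quotient.mk J x)) : IsUnit x := by
  by_contra hx
  have hxm : x ∈ maximalIdeal B' := (mem_maximalIdeal x).mpr hx
  obtain ⟨w, hw⟩ := h.exists_right_inv
  obtain ⟨w', rfl⟩ := Ideal.Quotient.mk_surjective w
  rw [← map_mul, ← map_one (Ideal.Quotient.mk J), Ideal.Quotient.eq] at hw
  have h1 : x * w' - 1 ∈ maximalIdeal B' := IsLocalRing.le_maximalIdeal hJ hw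
  have h2 : x * w' ∈ maximalIdeal B' := Ideal.mul_mem_right _ _ hxm
  have h3 : (1 : B') ∈ maximalIdeal B' := by
    have := Ideal.sub_mem _ h2 h1
    simpa using this
  exact (maximalIdeal.isMaximal B').ne_top ((Ideal.eq_top_iff_one _).mpr h3)

theorem exists_one_tmul {E K M : Type*} [CommRing E] [CommRing K] [Algebra E K]
    [AddCommGroup M] [Module E M] (hs : Function.Surjective (algebraMap E K)) (x : K ⊗[E] M) :
    ∃ m : M, x = (1 : K) ⊗ₜ[E] m := by
  induction x using TensorProduct.induction_on with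
  | zero => exact ⟨0, by simp⟩
  | tmul k m =>
    obtain ⟨e, rfl⟩ := hs k
    refine ⟨e • m, ?_⟩
    rw [TensorProduct.tmul_smul, TensorProduct.smul_tmul', Algebra.smul_def, mul_one]
  | add x y hx hy =>
    obtain ⟨m1, rfl⟩ := hx
    obtain ⟨m2, rfl⟩ := hy
    exact ⟨m1 + m2, by rw [TensorProduct.tmul_add]⟩

/-- Krull: an element outside an ideal `J` of a Noetherian local ring is outside `J + m^N` for some `N`. -/
theorem exists_notMem_sup_pow {E : Type*} [CommRing E] [IsLocalRing E] [IsNoetherianRing E]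
    (J : Ideal E) (a : E) (ha : a ∉ J) : ∃ N : ℕ, a ∉ J ⊔ maximalIdeal E ^ N := by
  by_contra hcon
  push Not at hcon
  apply ha
  by_cases hJ : J = ⊤
  · rw [hJ]; trivial
  haveI : Nontrivial (E ⧸ J) := Ideal.Quotient.nontrivial_iff.mpr hJ
  haveI : IsLocalRing (E ⧸ J) := IsLocalRing.of_surjective' (Ideal.Quotient.mk J) Ideal.Quotient.mk_surjective
  have hK := Ideal.iInf_pow_eq_bot_of_isLocalRing (maximalIdeal (E ⧸ J)) (maximalIdeal.isMaximal _).ne_top
  have : Ideal.Quotient.mk J a ∈ (⨅ i, maximalIdeal (E ⧸ J) ^ i : Ideal (E ⧸ J)) := by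
    rw [Ideal.mem_iInf]
    intro N
    obtain ⟨j, hj, y, hy, hjy⟩ := Submodule.mem_sup.mp (hcon N)
    rw [← hjy, map_add, Ideal.Quotient.eq_zero_iff_mem.mpr hj, zero_add]
    have : Ideal.map (Ideal.Quotient.mk J) (maximalIdeal E ^ N) ≤ maximalIdeal (E ⧸ J) ^ N := by
      rw [Ideal.map_pow]
      apply Ideal.pow_right_mono
      rw [Ideal.map_le_iff_le_comap]
      intro z hz
      rw [Ideal.mem_comap, mem_maximalIdeal, mem_nonunits_iff]
      intro hu
      exact ((mem_maximalIdeal z).mp hz) (isUnit_of_isUnit_mk J hJ z hu)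
    exact this (Ideal.mem_map_of_mem _ hy)
  rw [hK] at this
  exact Ideal.Quotient.eq_zero_iff_mem.mp this

/-- a maximal ideal between `T₀` and `T` avoiding `a`. -/
theorem exists_maximal_avoiding {E : Type*} [CommRing E] [IsNoetherianRing E]
    (T₀ T : Ideal E) (h0 : T₀ ≤ T) (a : E) (ha : a ∉ T₀) :
    ∃ 𝔟 : Ideal E, T₀ ≤ 𝔟 ∧ 𝔟 ≤ T ∧ a ∉ 𝔟 ∧
      ∀ 𝔠 : Ideal E, 𝔟 ≤ 𝔠 → 𝔠 ≤ T → a ∉ 𝔠 → 𝔠 = 𝔟 := by
  let Sset : Set (Ideal E) := {𝔟 | T₀ ≤ 𝔟 ∧ 𝔟 ≤ T ∧ a ∉ 𝔟}
  have hne : Sset.Nonempty := ⟨T₀, le_refl _, h0, ha⟩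
  obtain ⟨𝔟, h𝔟, hmax⟩ := set_has_maximal_iff_noetherian.mpr (inferInstance : IsNoetherian E E) Sset hne
  refine ⟨𝔟, h𝔟.1, h𝔟.2.1, h𝔟.2.2, fun 𝔠 h1 h2 h3 => ?_⟩
  by_contra hne'
  exact hmax 𝔠 ⟨h𝔟.1.trans h1, h2, h3⟩ (lt_of_le_of_ne h1 (Ne.symm hne'))

end general

/-- the lifting property along small extensions of Artinian local algebras -/
def LiftProp (R S : Type u) [CommRing R] [CommRing S] [Algebra R S] (q : Ideal S) : Prop :=
  ∀ (B' B : Type u) [CommRing B'] [CommRing B] [IsLocalRing B'] [IsLocalRing B]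
        [IsArtinianRing B'] [IsArtinianRing B] [Algebra R B'] [Algebra R B] (π : B' →ₐ[R] B),
        Function.Surjective π →
        (∃ t : B', RingHom.ker π.toRingHom = Ideal.span {t} ∧
          ∀ a ∈ IsLocalRing.maximalIdeal B', a * t = 0) →
        ∀ g : S →ₐ[R] B, (IsLocalRing.maximalIdeal B).comap g = q →
          ∃ g' : S →ₐ[R] B', π.comp g' = g

variable (R A : Type u) [CommRing R] [CommRing A] [Algebra R A]
  (I : Ideal A) (P : Ideal (A ⧸ I)) [P.IsPrime]

local notation "Aq" => Localization.AtPrime (qq A I P)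
local notation "SS" => Localization.AtPrime P
local notation "KK" => Ideal.ResidueField (qq A I P)

theorem one_tmul_eq_zero_iff {M : Type*} [AddCommGroup M] [Module Aq M] (x : M) :
    (1 : KK) ⊗ₜ[Aq] x = 0 ↔ x ∈ maximalIdeal Aq • (⊤ : Submodule Aq M) := by
  rw [← LinearMap.ker_tensorProductMk (I := maximalIdeal Aq) (Q := M), LinearMap.mem_ker]
  rfl

set_option maxHeartbeats 800000 in
theorem core_backward [IsNoetherianRing A] [Algebra.IsSmoothAt R (qq A I P)]
    [Module.Finite A Ω[A⁄R]] (hlift : LiftProp R (A ⧸ I) P) : Algebra.IsSmoothAt R P := by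
  have hI : I.FG := IsNoetherian.noetherian I
  haveI : IsNoetherianRing Aq := IsLocalization.isNoetherianRing (qq A I P).primeCompl Aq inferInstance
  rw [crit R A I P hI, injective_iff_map_eq_zero]
  intro x hx
  by_contra hx0
  obtain ⟨a, rfl⟩ := exists_one_tmul (IsLocalRing.residue_surjective (R := Aq)) x
  -- step 3
  have ha : (a : Aq) ∉ maximalIdeal Aq * RingHom.ker (algebraMap Aq SS) := by
    intro hmem
    apply hx0
    rw [one_tmul_eq_zero_iff, Submodule.mem_smul_top_iff]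
    exact hmem
  -- the differential condition
  have hda : D R Aq (a : Aq) ∈ maximalIdeal Aq • (⊤ : Submodule Aq Ω[Aq⁄R]) := by
    rw [← one_tmul_eq_zero_iff]
    rw [cotangentComplexBaseChange_tmul, one_smul, kerToTensor_apply] at hx
    exact hx
  -- step 4
  obtain ⟨N, hN⟩ := exists_notMem_sup_pow _ (a : Aq) ha
  -- step 5
  obtain ⟨𝔟, h𝔟0, h𝔟T, ha𝔟, h𝔟max⟩ := exists_maximal_avoiding
    (maximalIdeal Aq * RingHom.ker (algebraMap Aq SS) ⊔ maximalIdeal Aq ^ N)
    (RingHom.ker (algebraMap Aq SS) ⊔ maximalIdeal Aq ^ N)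
    (sup_le_sup_right Ideal.mul_le_right _) (a : Aq) hN
  have hN0 : N ≠ 0 := by
    rintro rfl
    apply hN
    rw [pow_zero, Ideal.one_eq_top, sup_top_eq]
    trivial
  have h𝔞m : RingHom.ker (algebraMap Aq SS) ≤ maximalIdeal Aq :=
    IsLocalRing.le_maximalIdeal (RingHom.ker_ne_top _)
  have hTm : RingHom.ker (algebraMap Aq SS) ⊔ maximalIdeal Aq ^ N ≤ maximalIdeal Aq :=
    sup_le h𝔞m (Ideal.pow_le_self hN0)
  have h𝔟m : 𝔟 ≤ maximalIdeal Aq := h𝔟T.trans hTm
  have h𝔟top : 𝔟 ≠ ⊤ := fun h => ha𝔟 (h ▸ Submodule.mem_top)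
  have hma𝔟 : ∀ r ∈ maximalIdeal Aq, ∀ y ∈ RingHom.ker (algebraMap Aq SS) ⊔ maximalIdeal Aq ^ N,
      r * y ∈ 𝔟 := by
    intro r hr y hy
    apply h𝔟0
    have h1 : r * y ∈ maximalIdeal Aq * (RingHom.ker (algebraMap Aq SS) ⊔ maximalIdeal Aq ^ N) :=
      Ideal.mul_mem_mul hr hy
    rw [Ideal.mul_sup] at h1
    have h2 : maximalIdeal Aq * maximalIdeal Aq ^ N ≤ maximalIdeal Aq ^ N := by
      rw [← pow_succ']
      exact Ideal.pow_le_pow_right (Nat.le_succ N)
    exact (sup_le_sup_left h2 _) h1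
  haveI : Nontrivial (Aq ⧸ 𝔟) := Ideal.Quotient.nontrivial_iff.mpr h𝔟top
  haveI : IsLocalRing (Aq ⧸ 𝔟) :=
    IsLocalRing.of_surjective' (Ideal.Quotient.mk 𝔟) Ideal.Quotient.mk_surjective
  have hmB' : ∀ r ∈ maximalIdeal (Aq ⧸ 𝔟), ∃ r' ∈ maximalIdeal Aq, Ideal.Quotient.mk 𝔟 r' = r := by
    intro r hr
    obtain ⟨r', rfl⟩ := Ideal.Quotient.mk_surjective r
    refine ⟨r', ?_, rfl⟩
    rw [mem_maximalIdeal, mem_nonunits_iff] at hr ⊢
    exact fun h => hr (h.map _)
  haveI : IsArtinianRing (Aq ⧸ 𝔟) := by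
    rw [isArtinianRing_iff_isNilpotent_maximalIdeal]
    refine ⟨N, ?_⟩
    rw [Ideal.zero_eq_bot, ← le_bot_iff]
    have h1 : maximalIdeal (Aq ⧸ 𝔟) ≤ Ideal.map (Ideal.Quotient.mk 𝔟) (maximalIdeal Aq) := by
      intro r hr
      obtain ⟨r', hr', rfl⟩ := hmB' r hr
      exact Ideal.mem_map_of_mem _ hr'
    refine (Ideal.pow_right_mono h1 N).trans ?_
    rw [← Ideal.map_pow, Ideal.map_le_iff_le_comap]
    intro z hz
    rw [Ideal.mem_comap, Ideal.mem_bot, Ideal.Quotient.eq_zero_iff_mem]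
    exact h𝔟0 (Ideal.mem_sup_right hz)
  let Iπ : Ideal (Aq ⧸ 𝔟) := Ideal.map (Ideal.Quotient.mk 𝔟)
    (RingHom.ker (algebraMap Aq SS) ⊔ maximalIdeal Aq ^ N)
  have haT : (a : Aq) ∈ RingHom.ker (algebraMap Aq SS) ⊔ maximalIdeal Aq ^ N :=
    Ideal.mem_sup_left a.2
  have hIπ_span : Iπ = Ideal.span {Ideal.Quotient.mk 𝔟 (a : Aq)} := by
    apply le_antisymm
    · rw [Ideal.map_le_iff_le_comap]
      intro y hy
      rw [Ideal.mem_comap]
      by_cases hy𝔟 : y ∈ 𝔟
      · rw [Ideal.Quotient.eq_zero_iff_mem.mpr hy𝔟]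
        exact Ideal.zero_mem _
      · have hne : 𝔟 ⊔ Ideal.span {y} ≠ 𝔟 := by
          intro h
          apply hy𝔟
          rw [← h]
          exact Ideal.mem_sup_right (Ideal.subset_span (Set.mem_singleton y))
        have hamem : (a : Aq) ∈ 𝔟 ⊔ Ideal.span {y} := by
          by_contra hcon
          exact hne (h𝔟max _ le_sup_left
            (sup_le h𝔟T ((Ideal.span_singleton_le_iff_mem _).mpr hy)) hcon)
        obtain ⟨b, hb, z, hz, hbz⟩ := Submodule.mem_sup.mp hamem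
        obtain ⟨e, rfl⟩ := Ideal.mem_span_singleton'.mp hz
        have he : IsUnit e := by
          by_contra hnu
          apply ha𝔟
          rw [← hbz]
          exact Ideal.add_mem _ hb (hma𝔟 e ((mem_maximalIdeal e).mpr hnu) y hy)
        obtain ⟨e', he'⟩ := he.exists_left_inv
        have : Ideal.Quotient.mk 𝔟 y = Ideal.Quotient.mk 𝔟 e' * Ideal.Quotient.mk 𝔟 (a : Aq) := by
          rw [← map_mul, Ideal.Quotient.eq]
          have : y - e' * (a : Aq) = - (e' * b) := by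
            rw [← hbz, mul_add, ← mul_assoc, he']
            ring
          rw [this]
          exact neg_mem (Ideal.mul_mem_left _ _ hb)
        rw [this]
        exact Ideal.mul_mem_left _ _ (Ideal.subset_span (Set.mem_singleton _))
    · rw [Ideal.span_singleton_le_iff_mem]
      exact Ideal.mem_map_of_mem _ haT
  have hsmall : ∀ r ∈ maximalIdeal (Aq ⧸ 𝔟), r * Ideal.Quotient.mk 𝔟 (a : Aq) = 0 := by
    intro r hr
    obtain ⟨r', hr', rfl⟩ := hmB' r hr
    rw [← map_mul, Ideal.Quotient.eq_zero_iff_mem]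
    exact hma𝔟 r' hr' _ haT
  have hIπm : Iπ ≤ maximalIdeal (Aq ⧸ 𝔟) := by
    rw [hIπ_span, Ideal.span_singleton_le_iff_mem, mem_maximalIdeal, mem_nonunits_iff]
    intro hu
    have := isUnit_of_isUnit_mk 𝔟 h𝔟top _ hu
    exact ((mem_maximalIdeal _).mp (h𝔞m a.2)) this
  have hIπtop : Iπ ≠ ⊤ := fun h => (maximalIdeal.isMaximal (Aq ⧸ 𝔟)).ne_top (top_le_iff.mp (h ▸ hIπm))
  have hIπsq : Iπ ^ 2 = ⊥ := by
    rw [hIπ_span, Ideal.span_singleton_pow, pow_two,
      hsmall _ (hIπm (hIπ_span ▸ Ideal.subset_span (Set.mem_singleton _)))]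
    simp
  haveI : Nontrivial ((Aq ⧸ 𝔟) ⧸ Iπ) := Ideal.Quotient.nontrivial_iff.mpr hIπtop
  haveI : IsLocalRing ((Aq ⧸ 𝔟) ⧸ Iπ) :=
    IsLocalRing.of_surjective' (Ideal.Quotient.mk Iπ) Ideal.Quotient.mk_surjective
  haveI : IsArtinianRing ((Aq ⧸ 𝔟) ⧸ Iπ) := inferInstance
  -- the map g
  let g0 : A →ₐ[R] (Aq ⧸ 𝔟) ⧸ Iπ :=
    (Ideal.Quotient.mkₐ R Iπ).comp ((Ideal.Quotient.mkₐ R 𝔟).comp (IsScalarTower.toAlgHom R A Aq))
  have hg0 : ∀ y ∈ I, g0 y = 0 := by
    intro y hy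
    change Ideal.Quotient.mk Iπ (Ideal.Quotient.mk 𝔟 (algebraMap A Aq y)) = 0
    rw [Ideal.Quotient.eq_zero_iff_mem]
    apply Ideal.mem_map_of_mem
    apply Ideal.mem_sup_left
    rw [ker_eq]
    exact Ideal.mem_map_of_mem _ hy
  let g : A ⧸ I →ₐ[R] (Aq ⧸ 𝔟) ⧸ Iπ := Ideal.Quotient.liftₐ I g0 hg0
  have hg_mk : ∀ y : A, g (Ideal.Quotient.mk I y) =
      Ideal.Quotient.mk Iπ (Ideal.Quotient.mk 𝔟 (algebraMap A Aq y)) := fun y => rfl
  have hgcomap : (maximalIdeal ((Aq ⧸ 𝔟) ⧸ Iπ)).comap g = P := by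
    ext y
    obtain ⟨y, rfl⟩ := Ideal.Quotient.mk_surjective y
    rw [Ideal.mem_comap]
    change g (Ideal.Quotient.mk I y) ∈ _ ↔ _
    rw [hg_mk, mem_maximalIdeal, mem_nonunits_iff]
    constructor
    · intro hnu
      by_contra hyP
      apply hnu
      have hyq : y ∈ (qq A I P).primeCompl := hyP
      have : IsUnit (algebraMap A Aq y) := IsLocalization.map_units Aq ⟨y, hyq⟩
      exact (this.map (Ideal.Quotient.mk 𝔟)).map (Ideal.Quotient.mk Iπ)
    · intro hyP hu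
      have h1 := isUnit_of_isUnit_mk Iπ hIπtop _ hu
      have h2 := isUnit_of_isUnit_mk 𝔟 h𝔟top _ h1
      have hyq : y ∈ qq A I P := hyP
      have := (IsLocalization.AtPrime.to_map_mem_maximal_iff Aq (qq A I P) y).mpr hyq
      exact ((mem_maximalIdeal _).mp this) h2
  obtain ⟨g', hg'⟩ := hlift (Aq ⧸ 𝔟) ((Aq ⧸ 𝔟) ⧸ Iπ) (Ideal.Quotient.mkₐ R Iπ)
    Ideal.Quotient.mk_surjective
    ⟨Ideal.Quotient.mk 𝔟 (a : Aq), by
      rw [← hIπ_span]
      exact Ideal.mk_ker, hsmall⟩ g hgcomap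
  have hg'mk : ∀ y : A, Ideal.Quotient.mk Iπ (g' (Ideal.Quotient.mk I y)) =
      Ideal.Quotient.mk Iπ (Ideal.Quotient.mk 𝔟 (algebraMap A Aq y)) := by
    intro y
    exact congrArg (fun f => f (Ideal.Quotient.mk I y)) hg'
  let h : Aq →ₐ[R] Aq ⧸ 𝔟 := IsLocalization.liftAlgHom (M := (qq A I P).primeCompl)
    (f := g'.comp (Ideal.Quotient.mkₐ R I)) (by
      rintro ⟨y, hy⟩
      apply isUnit_of_isUnit_mk Iπ hIπtop
      change IsUnit (Ideal.Quotient.mk Iπ (g' (Ideal.Quotient.mk I y)))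
      rw [hg'mk]
      exact ((IsLocalization.map_units Aq ⟨y, hy⟩).map (Ideal.Quotient.mk 𝔟)).map
        (Ideal.Quotient.mk Iπ))
  have hh_alg : ∀ y : A, h (algebraMap A Aq y) = g' (Ideal.Quotient.mk I y) := by
    intro y
    simp [h]
  have he : (Ideal.Quotient.mkₐ R Iπ).comp h = IsScalarTower.toAlgHom R Aq ((Aq ⧸ 𝔟) ⧸ Iπ) := by
    apply AlgHom.coe_ringHom_injective
    apply IsLocalization.ringHom_ext (qq A I P).primeCompl
    ext y
    change Ideal.Quotient.mk Iπ (h (algebraMap A Aq y)) = _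
    rw [hh_alg, hg'mk]
    rfl
  let d := derivationToSquareZeroOfLift Iπ hIπsq h he
  let φ := d.liftKaehlerDifferential
  have hφ : φ (D R Aq (a : Aq)) = d (a : Aq) := Derivation.liftKaehlerDifferential_comp_D d _
  have hzero : ∀ ω ∈ maximalIdeal Aq • (⊤ : Submodule Aq Ω[Aq⁄R]), φ ω = 0 := by
    intro ω hω
    refine Submodule.smul_induction_on hω (fun r hr n _ => ?_) (fun x y hx hy => ?_)
    · rw [map_smul]
      apply Subtype.ext
      rw [Submodule.coe_smul_of_tower, Algebra.smul_def]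
      have hmem : ((φ n : Iπ) : Aq ⧸ 𝔟) ∈ Ideal.span {Ideal.Quotient.mk 𝔟 (a : Aq)} :=
        hIπ_span ▸ (φ n).2
      obtain ⟨c, hc⟩ := Ideal.mem_span_singleton'.mp hmem
      rw [← hc]
      change Ideal.Quotient.mk 𝔟 r * _ = 0
      rw [mul_left_comm, ← map_mul, Ideal.Quotient.eq_zero_iff_mem.mpr (hma𝔟 r hr _ haT), mul_zero]
    · rw [map_add, hx, hy, add_zero]
  have h0 := hzero _ hda
  rw [hφ] at h0
  have h1 : ((d (a : Aq) : Iπ) : Aq ⧸ 𝔟) = h (a : Aq) - algebraMap Aq (Aq ⧸ 𝔟) (a : Aq) :=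
    derivationToSquareZeroOfLift_apply Iπ hIπsq h he _
  rw [h0] at h1
  have hha : h (a : Aq) = 0 := by
    have hle : RingHom.ker (algebraMap Aq SS) ≤ RingHom.ker h.toRingHom := by
      rw [ker_eq, Ideal.map_le_iff_le_comap]
      intro y hy
      rw [Ideal.mem_comap, RingHom.mem_ker]
      change h (algebraMap A Aq y) = 0
      rw [hh_alg, Ideal.Quotient.eq_zero_iff_mem.mpr hy, map_zero]
    exact hle a.2
  rw [hha, zero_sub] at h1
  apply ha𝔟
  rw [← Ideal.Quotient.eq_zero_iff_mem]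
  have : algebraMap Aq (Aq ⧸ 𝔟) (a : Aq) = 0 := by
    have := h1.symm
    simpa using this
  exact this

theorem backward {R S : Type u} [CommRing R] [IsNoetherianRing R] [CommRing S] [Algebra R S]
    [Algebra.FiniteType R S] (q : Ideal S) [q.IsPrime] (hlift : LiftProp R S q) :
    Algebra.IsSmoothAt R q := by
  obtain ⟨n, f₀, hf₀⟩ := Algebra.FiniteType.iff_quotient_mvPolynomial''.mp
    (inferInstance : Algebra.FiniteType R S)
  let e : (MvPolynomial (Fin n) R ⧸ RingHom.ker f₀.toRingHom) ≃ₐ[R] S :=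
    Ideal.quotientKerAlgEquivOfSurjective hf₀
  let P : Ideal (MvPolynomial (Fin n) R ⧸ RingHom.ker f₀.toRingHom) := q.comap e.toAlgHom
  haveI : P.IsPrime := Ideal.comap_isPrime _ _
  have hP : ∀ y, y ∈ P ↔ e y ∈ q := fun y => Iff.rfl
  have hliftP : LiftProp R (MvPolynomial (Fin n) R ⧸ RingHom.ker f₀.toRingHom) P := by
    intro B' B _ _ _ _ _ _ _ _ π hπ hker g hg
    obtain ⟨g₁, hg₁⟩ := hlift B' B π hπ hker (g.comp e.symm.toAlgHom) (by
      ext s
      rw [Ideal.mem_comap]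
      change g (e.symm s) ∈ _ ↔ _
      have : g (e.symm s) ∈ maximalIdeal B ↔ e.symm s ∈ P := by
        rw [← hg, Ideal.mem_comap]
      rw [this, hP, AlgEquiv.apply_symm_apply])
    refine ⟨g₁.comp e.toAlgHom, ?_⟩
    rw [← AlgHom.comp_assoc, hg₁]
    ext y
    change g (e.symm (e y)) = g y
    rw [e.symm_apply_apply]
  haveI : Algebra.IsSmoothAt R (qq (MvPolynomial (Fin n) R) (RingHom.ker f₀.toRingHom) P) :=
    Algebra.FormallySmooth.comp R (MvPolynomial (Fin n) R) _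
  have hsm := core_backward R (MvPolynomial (Fin n) R) (RingHom.ker f₀.toRingHom) P hliftP
  have H : Submonoid.map e P.primeCompl = q.primeCompl := by
    ext s
    constructor
    · rintro ⟨y, hy, rfl⟩
      exact fun h => hy ((hP y).mpr h)
    · intro hs
      refine ⟨e.symm s, ?_, e.apply_symm_apply s⟩
      intro h
      apply hs
      have := (hP _).mp h
      rwa [AlgEquiv.apply_symm_apply] at this
  haveI : Algebra.FormallySmooth R (Localization.AtPrime P) := hsm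
  let e' : Localization.AtPrime P ≃ₐ[R] Localization.AtPrime q :=
    IsLocalization.algEquivOfAlgEquiv (Localization.AtPrime P) (Localization.AtPrime q) e H
  exact Algebra.FormallySmooth.of_equiv (A := Localization.AtPrime P) (B := Localization.AtPrime q) e'

theorem main {R S : Type u} [CommRing R] [IsNoetherianRing R]
    [CommRing S] [Algebra R S] [Algebra.FiniteType R S] (q : Ideal S) [q.IsPrime] :
    Algebra.IsSmoothAt R q ↔
      ∀ (B' B : Type u) [CommRing B'] [CommRing B] [IsLocalRing B'] [IsLocalRing B]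
        [IsArtinianRing B'] [IsArtinianRing B] [Algebra R B'] [Algebra R B] (π : B' →ₐ[R] B),
        Function.Surjective π →
        (∃ t : B', RingHom.ker π.toRingHom = Ideal.span {t} ∧
          ∀ a ∈ IsLocalRing.maximalIdeal B', a * t = 0) →
        ∀ g : S →ₐ[R] B, (IsLocalRing.maximalIdeal B).comap g = q →
          ∃ g' : S →ₐ[R] B', π.comp g' = g := by
  constructor
  · intro h B' B _ _ _ _ _ _ _ _ π hπ hker g hg
    exact forward q h B' B π hπ hker g hg
  · intro h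
    exact backward q h

end Groth.Agent.Lib.helper19.SmoothAtLift
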