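import Mathlib
import Groth.Prelude.Def_CAlgX
import Groth.Agent.Lib.helper19.SmoothAtLift
import Groth.Agent.Lib.helper19.JacLocal

/-! S9268: smooth at `q` iff `A_p → B_q` is formally smooth for the `m_q`-adic topology. -/

namespace Groth.Agent.Lib.helper19.AdicSmoothAt

open IsLocalRing

universe u

/-- discrete formal smoothness implies adic formal smoothness -/
theorem adic_of_formallySmooth (R S : Type u) [CommRing R] [CommRing S] [Algebra R S]
    [Algebra.FormallySmooth R S] (𝔫 : Ideal S) : CAlgX.IsAdicFormallySmooth R S 𝔫 := by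
  intro A _ _ J hJ ψ _
  exact Algebra.FormallySmooth.exists_lift J ⟨2, hJ⟩ ψ

theorem forward (A B : Type u) [CommRing A] [CommRing B] [Algebra A B] (q : Ideal B) [q.IsPrime]
    (h : ∃ g : B, g ∉ q ∧ Algebra.Smooth A (Localization.Away g)) :
    letI := (Localization.localRingHom (Ideal.comap (algebraMap A B) q) q (algebraMap A B) rfl).toAlgebra
    CAlgX.IsAdicFormallySmooth (Localization.AtPrime (Ideal.comap (algebraMap A B) q))
      (Localization.AtPrime q) (IsLocalRing.maximalIdeal (Localization.AtPrime q)) := by
  obtain ⟨g, hg, hsm⟩ := h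
  letI := (Localization.localRingHom (Ideal.comap (algebraMap A B) q) q (algebraMap A B) rfl).toAlgebra
  haveI : Algebra.FormallySmooth A (Localization.Away g) := hsm.1
  haveI : Algebra.FormallySmooth A (Localization.AtPrime q) :=
    JacLocal.formallySmooth_atPrime_of_away A B q g hg
  haveI : IsScalarTower A (Localization.AtPrime (Ideal.comap (algebraMap A B) q))
      (Localization.AtPrime q) := by
    refine IsScalarTower.of_algebraMap_eq' ?_
    ext a
    rw [RingHom.comp_apply, RingHom.algebraMap_toAlgebra, Localization.localRingHom_to_map,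
      ← IsScalarTower.algebraMap_apply]
  haveI : Algebra.FormallySmooth (Localization.AtPrime (Ideal.comap (algebraMap A B) q))
      (Localization.AtPrime q) :=
    Algebra.FormallySmooth.localization_base (Ideal.comap (algebraMap A B) q).primeCompl
  exact adic_of_formallySmooth _ _ _

set_option maxHeartbeats 800000 in
theorem liftProp_of_adic (A B : Type u) [CommRing A] [CommRing B] [Algebra A B] (q : Ideal B)
    [q.IsPrime]
    (h : letI := (Localization.localRingHom (Ideal.comap (algebraMap A B) q) q
        (algebraMap A B) rfl).toAlgebra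
      CAlgX.IsAdicFormallySmooth (Localization.AtPrime (Ideal.comap (algebraMap A B) q))
      (Localization.AtPrime q) (IsLocalRing.maximalIdeal (Localization.AtPrime q))) :
    SmoothAtLift.LiftProp A B q := by
  intro T' T _ _ _ _ _ _ _ _ π hπ ⟨t, hker, hmt⟩ g hg
  letI := (Localization.localRingHom (Ideal.comap (algebraMap A B) q) q
        (algebraMap A B) rfl).toAlgebra
  have hgunit : ∀ s : q.primeCompl, IsUnit (g s) := by
    intro s
    have : g s ∉ maximalIdeal T := by
      intro hmem
      have h1 : (s : B) ∈ Ideal.comap g (maximalIdeal T) := hmem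
      rw [hg] at h1
      exact s.2 h1
    simpa [IsLocalRing.mem_maximalIdeal, mem_nonunits_iff] using this
  haveI : IsLocalHom π.toRingHom := IsLocalHom.of_surjective _ hπ
  have hAunit : ∀ a : (Ideal.comap (algebraMap A B) q).primeCompl, IsUnit (algebraMap A T' a) := by
    intro a
    have h1 : IsUnit (algebraMap A T a) := by
      have := hgunit ⟨algebraMap A B a, a.2⟩
      simpa using this
    have h2 : π.toRingHom (algebraMap A T' a) = algebraMap A T a := π.commutes a
    rw [← h2] at h1
    exact (isUnit_map_iff π.toRingHom _).mp h1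
  let φ' : Localization.AtPrime (Ideal.comap (algebraMap A B) q) →+* T' := IsLocalization.lift hAunit
  letI : Algebra (Localization.AtPrime (Ideal.comap (algebraMap A B) q)) T' := φ'.toAlgebra
  letI : Algebra (Localization.AtPrime (Ideal.comap (algebraMap A B) q)) T :=
    (π.toRingHom.comp φ').toAlgebra
  haveI : IsScalarTower A (Localization.AtPrime (Ideal.comap (algebraMap A B) q)) T' := by
    refine IsScalarTower.of_algebraMap_eq' ?_
    ext a
    rw [RingHom.comp_apply, RingHom.algebraMap_toAlgebra, IsLocalization.lift_eq]
  let π' : T' →ₐ[Localization.AtPrime (Ideal.comap (algebraMap A B) q)] T :=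
    { π.toRingHom with commutes' := fun r => rfl }
  let gq0 : Localization.AtPrime q →+* T := IsLocalization.lift hgunit
  have hgq : gq0.comp (algebraMap (Localization.AtPrime (Ideal.comap (algebraMap A B) q))
      (Localization.AtPrime q)) =
      algebraMap (Localization.AtPrime (Ideal.comap (algebraMap A B) q)) T := by
    refine IsLocalization.ringHom_ext (Ideal.comap (algebraMap A B) q).primeCompl ?_
    ext a
    simp only [RingHom.comp_apply]
    rw [RingHom.algebraMap_toAlgebra (Localization.localRingHom _ _ _ _),
      Localization.localRingHom_to_map, IsLocalization.lift_eq,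
      RingHom.algebraMap_toAlgebra (π.toRingHom.comp φ'), RingHom.comp_apply,
      IsLocalization.lift_eq]
    change g (algebraMap A B a) = π (algebraMap A T' a)
    rw [g.commutes, π.commutes]
  let gq : Localization.AtPrime q →ₐ[Localization.AtPrime (Ideal.comap (algebraMap A B) q)] T :=
    { gq0 with commutes' := fun r => congr($hgq r) }
  have hgq_b : ∀ b : B, gq (algebraMap B (Localization.AtPrime q) b) = g b := fun b =>
    IsLocalization.lift_eq hgunit b
  -- the kernel
  have htmem : t ∈ maximalIdeal T' := by
    rw [IsLocalRing.mem_maximalIdeal, mem_nonunits_iff]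
    intro hu
    have : t ∈ RingHom.ker π.toRingHom := by rw [hker]; exact Ideal.mem_span_singleton_self t
    have h0 : π t = 0 := this
    have : IsUnit (π t) := hu.map π
    rw [h0] at this
    exact not_isUnit_zero this
  have hJ2 : (RingHom.ker π'.toRingHom) ^ 2 = ⊥ := by
    have : RingHom.ker π'.toRingHom = Ideal.span {t} := hker
    rw [this, Ideal.span_singleton_pow, pow_two, hmt t htmem]
    simp
  let e : (T' ⧸ RingHom.ker π'.toRingHom) ≃ₐ[Localization.AtPrime (Ideal.comap (algebraMap A B) q)] T :=
    Ideal.quotientKerAlgEquivOfSurjective (f := π') hπ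
  let ψ : Localization.AtPrime q →ₐ[Localization.AtPrime (Ideal.comap (algebraMap A B) q)]
      T' ⧸ RingHom.ker π'.toRingHom := e.symm.toAlgHom.comp gq
  have hkill : ∃ k : ℕ, ∀ x ∈ maximalIdeal (Localization.AtPrime q) ^ k, ψ x = 0 := by
    have hnil : IsNilpotent (maximalIdeal T) := by
      have := IsArtinianRing.isNilpotent_jacobson_bot (R := T)
      rwa [IsLocalRing.jacobson_eq_maximalIdeal _ bot_ne_top] at this
    obtain ⟨k, hk⟩ := hnil
    refine ⟨k, fun x hx => ?_⟩
    rw [← Localization.AtPrime.map_eq_maximalIdeal, ← Ideal.map_pow] at hx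
    have hle : (q ^ k).map (algebraMap B (Localization.AtPrime q)) ≤ RingHom.ker ψ.toRingHom := by
      rw [Ideal.map_le_iff_le_comap]
      intro y hy
      rw [Ideal.mem_comap, RingHom.mem_ker]
      change e.symm (gq (algebraMap B _ y)) = 0
      rw [hgq_b]
      have : g y ∈ (maximalIdeal T) ^ k := by
        have h1 : q.map g ≤ maximalIdeal T := by
          rw [Ideal.map_le_iff_le_comap, hg]
        have h2 : g y ∈ (q ^ k).map g := Ideal.mem_map_of_mem _ hy
        rw [Ideal.map_pow] at h2
        exact Ideal.pow_right_mono h1 k h2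
      rw [hk] at this
      have : g y = 0 := this
      rw [this, map_zero]
    exact hle hx
  obtain ⟨χ, hχ⟩ := h T' (RingHom.ker π'.toRingHom) hJ2 ψ hkill
  refine ⟨(χ.restrictScalars A).comp (IsScalarTower.toAlgHom A B (Localization.AtPrime q)), ?_⟩
  ext b
  change π (χ (algebraMap B _ b)) = g b
  have h1 : Ideal.Quotient.mk _ (χ (algebraMap B _ b)) = ψ (algebraMap B _ b) := by
    rw [← hχ]; rfl
  have h2 : e (Ideal.Quotient.mk _ (χ (algebraMap B _ b))) = π (χ (algebraMap B _ b)) := rfl
  rw [← h2, h1]
  change e (e.symm (gq (algebraMap B _ b))) = g b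
  rw [e.apply_symm_apply, hgq_b]

theorem main (A B : Type u) [CommRing A] [IsNoetherianRing A]
    [CommRing B] [Algebra A B] [Algebra.FiniteType A B] (q : Ideal B) [q.IsPrime] :
    (∃ g : B, g ∉ q ∧ Algebra.Smooth A (Localization.Away g)) ↔
      letI := (Localization.localRingHom (Ideal.comap (algebraMap A B) q) q (algebraMap A B) rfl).toAlgebra
      CAlgX.IsAdicFormallySmooth (Localization.AtPrime (Ideal.comap (algebraMap A B) q))
        (Localization.AtPrime q) (IsLocalRing.maximalIdeal (Localization.AtPrime q)) := by
  constructor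
  · exact forward A B q
  · intro h
    haveI : Algebra.IsSmoothAt A q := SmoothAtLift.backward q (liftProp_of_adic A B q h)
    haveI : Algebra.FinitePresentation A B := Algebra.FinitePresentation.of_finiteType.mp inferInstance
    obtain ⟨f, hf, hsm⟩ := Algebra.IsSmoothAt.exists_notMem_smooth A q
    exact ⟨f, hf, hsm⟩

end Groth.Agent.Lib.helper19.AdicSmoothAt
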