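import Mathlib
import Groth.Prelude.Def_CAlgX

/-! S12136: adic Jacobian criterion (EGA 0_IV 22.6-type statement). -/

namespace Groth.Agent.Lib.helper19.AdicJac

open TensorProduct KaehlerDifferential

universe u

section LiftSurj

variable (R S : Type u) [CommRing R] [CommRing S] [Algebra R S] (𝔫 : Ideal S)

/-- surjection formulation of adic formal smoothness -/
def LiftSurj : Prop :=
  ∀ (E F : Type u) [CommRing E] [CommRing F] [Algebra R E] [Algebra R F] (π : E →ₐ[R] F),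
    Function.Surjective π → (∀ x y, π x = 0 → π y = 0 → x * y = 0) →
    ∀ ψ : S →ₐ[R] F, (∃ k : ℕ, ∀ x ∈ 𝔫 ^ k, ψ x = 0) → ∃ χ : S →ₐ[R] E, π.comp χ = ψ

variable {R S 𝔫}

theorem liftSurj_of_adic (h : CAlgX.IsAdicFormallySmooth R S 𝔫) : LiftSurj R S 𝔫 := by
  intro E F _ _ _ _ π hπ hsq ψ ⟨k, hk⟩
  have hJ2 : (RingHom.ker π.toRingHom) ^ 2 = ⊥ := by
    rw [eq_bot_iff, pow_two, Ideal.mul_le]
    intro x hx y hy
    rw [Ideal.mem_bot]
    exact hsq x y hx hy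
  let e : (E ⧸ RingHom.ker π.toRingHom) ≃ₐ[R] F := Ideal.quotientKerAlgEquivOfSurjective hπ
  obtain ⟨χ, hχ⟩ := h E (RingHom.ker π.toRingHom) hJ2 (e.symm.toAlgHom.comp ψ)
    ⟨k, fun x hx => by
      change e.symm (ψ x) = 0
      rw [hk x hx, map_zero]⟩
  refine ⟨χ, ?_⟩
  ext s
  have h1 : Ideal.Quotient.mk _ (χ s) = e.symm (ψ s) := by
    have := congr($hχ s)
    exact this
  have h2 : e (Ideal.Quotient.mk _ (χ s)) = π (χ s) := rfl
  change π (χ s) = ψ s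
  rw [← h2, h1, e.apply_symm_apply]

theorem adic_of_liftSurj (h : LiftSurj R S 𝔫) : CAlgX.IsAdicFormallySmooth R S 𝔫 := by
  intro A _ _ J hJ ψ hk
  refine h A (A ⧸ J) (Ideal.Quotient.mkₐ R J) (Ideal.Quotient.mkₐ_surjective R J) ?_ ψ hk
  intro x y hx hy
  have hx' : x ∈ J := Ideal.Quotient.eq_zero_iff_mem.mp hx
  have hy' : y ∈ J := Ideal.Quotient.eq_zero_iff_mem.mp hy
  have : x * y ∈ J ^ 2 := by rw [pow_two]; exact Ideal.mul_mem_mul hx' hy'
  rwa [hJ] at this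

end LiftSurj

section Factor

theorem exists_factor {B M N W : Type*} [CommRing B] [AddCommGroup M] [AddCommGroup N]
    [AddCommGroup W] [Module B M] [Module B N] [Module B W] {f : M →ₗ[B] N}
    (hf : Function.Surjective f) (h : M →ₗ[B] W) (hk : LinearMap.ker f ≤ LinearMap.ker h) :
    ∃ σ : N →ₗ[B] W, ∀ m, σ (f m) = h m := by
  refine ⟨(LinearMap.ker f).liftQ h hk ∘ₗ (f.quotKerEquivOfSurjective hf).symm.toLinearMap, ?_⟩
  intro m
  have : (f.quotKerEquivOfSurjective hf).symm (f m) = Submodule.Quotient.mk m := by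
    rw [LinearEquiv.symm_apply_eq]
    rfl
  simp only [LinearMap.coe_comp, LinearEquiv.coe_coe, Function.comp_apply, this,
    Submodule.liftQ_apply]

end Factor

section EL

variable {A B C : Type u} [CommRing A] [CommRing B] [CommRing C] [Algebra A B] [Algebra B C]
  [Algebra A C] [IsScalarTower A B C]
  (R : Type u) [CommRing R] [Algebra B R]

theorem exists_extension (hR : Function.Surjective (algebraMap B R))
    (g : R ⊗[B] (C ⊗[B] Ω[B⁄A]) →ₗ[R] R ⊗[B] (RingHom.ker (algebraMap B C)).Cotangent)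
    (hg : g ∘ₗ LinearMap.baseChange R (kerCotangentToTensor A B C) = LinearMap.id)
    {N : Type*} [AddCommGroup N] [Module B N]
    (hN : ∀ b : B, algebraMap B R b = 0 → ∀ n : N, b • n = 0)
    (f : (RingHom.ker (algebraMap B C)).Cotangent →ₗ[B] N) :
    ∃ f' : C ⊗[B] Ω[B⁄A] →ₗ[B] N, ∀ m, f' (kerCotangentToTensor A B C m) = f m := by
  obtain ⟨lam, hlam⟩ := exists_factor (f := Algebra.linearMap B R) hR (LinearMap.lsmul B N) (by
    intro b hb
    rw [LinearMap.mem_ker] at hb ⊢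
    ext n
    exact hN b hb n)
  let ιinv : R ⊗[B] N →ₗ[B] N := TensorProduct.lift lam
  have hι : ∀ n : N, ιinv (1 ⊗ₜ n) = n := by
    intro n
    have := hlam 1
    simp only [Algebra.linearMap_apply, map_one] at this
    simp only [ιinv, TensorProduct.lift.tmul, this, LinearMap.lsmul_apply, one_smul]
  refine ⟨ιinv ∘ₗ (f.lTensor R) ∘ₗ (g.restrictScalars B) ∘ₗ (TensorProduct.mk B R _ 1), ?_⟩
  intro m
  have h1 : g ((1 : R) ⊗ₜ[B] (kerCotangentToTensor A B C m)) = 1 ⊗ₜ m := by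
    have := congr($hg (1 ⊗ₜ m))
    simpa using this
  simp only [LinearMap.coe_comp, Function.comp_apply, TensorProduct.mk_apply,
    LinearMap.restrictScalars_apply, h1, LinearMap.lTensor_tmul, hι]

end EL

section KL

variable {A B : Type u} [CommRing A] [CommRing B] [Algebra A B] (I J : Ideal B)
  (Q : Ideal (B ⧸ J))

theorem algebraMap_RR (b : B) :
    algebraMap B ((B ⧸ J) ⧸ Q) b = Ideal.Quotient.mk Q (Ideal.Quotient.mk J b) := rfl

theorem surj_RR : Function.Surjective (algebraMap B ((B ⧸ J) ⧸ Q)) := by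
  intro r
  obtain ⟨c, rfl⟩ := Ideal.Quotient.mk_surjective r
  obtain ⟨b, rfl⟩ := Ideal.Quotient.mk_surjective c
  exact ⟨b, rfl⟩

set_option maxHeartbeats 800000 in
theorem key_lift (hB : LiftSurj A B I)
    (g : ((B ⧸ J) ⧸ Q) ⊗[B] ((B ⧸ J) ⊗[B] Ω[B⁄A]) →ₗ[(B ⧸ J) ⧸ Q]
      ((B ⧸ J) ⧸ Q) ⊗[B] (RingHom.ker (algebraMap B (B ⧸ J))).Cotangent)
    (hg : g ∘ₗ LinearMap.baseChange ((B ⧸ J) ⧸ Q) (kerCotangentToTensor A B (B ⧸ J)) =
      LinearMap.id)
    (E F : Type u) [CommRing E] [CommRing F] [Algebra A E] [Algebra A F] (π : E →ₐ[A] F)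
    (hπ : Function.Surjective π) (hsq : ∀ x y, π x = 0 → π y = 0 → x * y = 0)
    (ψ : (B ⧸ J) →ₐ[A] F) (hk : ∃ k : ℕ, ∀ x ∈ (I.map (Ideal.Quotient.mk J)) ^ k, ψ x = 0)
    (hkill : ∀ e : E, π e ∈ Q.map ψ.toRingHom → ∀ n, π n = 0 → e * n = 0) :
    ∃ χ : (B ⧸ J) →ₐ[A] E, π.comp χ = ψ := by
  obtain ⟨k, hk⟩ := hk
  let ψB : B →ₐ[A] F := ψ.comp (Ideal.Quotient.mkₐ A J)
  obtain ⟨φ, hφ⟩ := hB E F π hπ hsq ψB ⟨k, fun x hx => hk _ (by
    rw [← Ideal.map_pow]; exact Ideal.mem_map_of_mem _ hx)⟩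
  have hφ' : ∀ b, π (φ b) = ψ (Ideal.Quotient.mk J b) := fun b => congr($hφ b)
  letI : Algebra B E := φ.toRingHom.toAlgebra
  have halg : ∀ b, algebraMap B E b = φ b := fun b => rfl
  let NB : Submodule B E := (RingHom.ker π.toRingHom).restrictScalars B
  have hmemNB : ∀ e, e ∈ NB ↔ π e = 0 := fun e => Iff.rfl
  have hK : ∀ x ∈ RingHom.ker (algebraMap B (B ⧸ J)), Algebra.linearMap B E x ∈ NB := by
    intro x hx
    rw [Algebra.linearMap_apply, halg, hmemNB, hφ']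
    have : Ideal.Quotient.mk J x = 0 := hx
    rw [this, map_zero]
  let f₀ : (RingHom.ker (algebraMap B (B ⧸ J))) →ₗ[B] NB :=
    (Algebra.linearMap B E).restrict hK
  have hf₀ : ∀ x, (f₀ x : E) = φ x := fun x => rfl
  let f : (RingHom.ker (algebraMap B (B ⧸ J))).Cotangent →ₗ[B] NB :=
    Ideal.Cotangent.lift f₀ (by
      intro x y
      ext
      rw [hf₀]
      change φ ((x : B) * (y : B)) = 0
      rw [map_mul]
      exact hsq _ _ ((hmemNB _).mp (hK x x.2)) ((hmemNB _).mp (hK y y.2)))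
  have hN : ∀ b : B, algebraMap B ((B ⧸ J) ⧸ Q) b = 0 → ∀ n : NB, b • n = 0 := by
    intro b hb n
    ext
    change algebraMap B E b * (n : E) = 0
    rw [halg]
    refine hkill (φ b) ?_ n n.2
    rw [hφ']
    refine Ideal.mem_map_of_mem _ ?_
    rw [algebraMap_RR] at hb
    exact Ideal.Quotient.eq_zero_iff_mem.mp hb
  obtain ⟨f', hf'⟩ := exists_extension (A := A) ((B ⧸ J) ⧸ Q) (surj_RR J Q) g hg hN f
  let δ : B → E := fun b => (f' (1 ⊗ₜ D A B b) : E)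
  have hδmem : ∀ b, π (δ b) = 0 := fun b => (f' _).2
  have hδadd : ∀ x y, δ (x + y) = δ x + δ y := by
    intro x y
    simp only [δ, map_add, TensorProduct.tmul_add, Submodule.coe_add]
  have hδmul : ∀ x y, δ (x * y) = φ x * δ y + φ y * δ x := by
    intro x y
    simp only [δ, Derivation.leibniz, TensorProduct.tmul_add, map_add, Submodule.coe_add,
      TensorProduct.tmul_smul, map_smul, Submodule.coe_smul]
    rfl
  have hδalg : ∀ a : A, δ (algebraMap A B a) = 0 := by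
    intro a
    simp only [δ, Derivation.map_algebraMap, TensorProduct.tmul_zero, map_zero,
      ZeroMemClass.coe_zero]
  have hδK : ∀ x ∈ J, δ x = φ x := by
    intro x hx
    have hx' : x ∈ RingHom.ker (algebraMap B (B ⧸ J)) := by
      rw [RingHom.mem_ker]; exact Ideal.Quotient.eq_zero_iff_mem.mpr hx
    have := hf' (Ideal.toCotangent _ ⟨x, hx'⟩)
    rw [kerCotangentToTensor_toCotangent] at this
    change (f' (1 ⊗ₜ D A B x) : E) = _
    rw [this]
    rfl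
  let χ' : B →ₐ[A] E :=
    { toFun := fun b => φ b - δ b
      map_one' := by
        have : δ 1 = 0 := by simpa using hδalg 1
        rw [this, map_one, sub_zero]
      map_mul' := by
        intro x y
        have := hsq _ _ (hδmem x) (hδmem y)
        rw [hδmul, map_mul]
        linear_combination -this
      map_zero' := by
        have : δ 0 = 0 := by simpa using hδalg 0
        rw [this, map_zero, sub_zero]
      map_add' := by
        intro x y
        rw [hδadd, map_add]; ring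
      commutes' := by
        intro a
        rw [hδalg, sub_zero, φ.commutes] }
  have hχ'K : ∀ x ∈ J, χ' x = 0 := by
    intro x hx
    change φ x - δ x = 0
    rw [hδK x hx, sub_self]
  refine ⟨Ideal.Quotient.liftₐ J χ' hχ'K, ?_⟩
  ext c
  obtain ⟨b, rfl⟩ := Ideal.Quotient.mk_surjective c
  change π (φ b - δ b) = ψ _
  rw [map_sub, hδmem, sub_zero, hφ']

set_option maxHeartbeats 800000 in
theorem lift_of_kill (hB : LiftSurj A B I)
    (g : ((B ⧸ J) ⧸ Q) ⊗[B] ((B ⧸ J) ⊗[B] Ω[B⁄A]) →ₗ[(B ⧸ J) ⧸ Q]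
      ((B ⧸ J) ⧸ Q) ⊗[B] (RingHom.ker (algebraMap B (B ⧸ J))).Cotangent)
    (hg : g ∘ₗ LinearMap.baseChange ((B ⧸ J) ⧸ Q) (kerCotangentToTensor A B (B ⧸ J)) =
      LinearMap.id) (t : ℕ) :
    ∀ (E F : Type u) [CommRing E] [CommRing F] [Algebra A E] [Algebra A F] (π : E →ₐ[A] F),
    Function.Surjective π → (∀ x y, π x = 0 → π y = 0 → x * y = 0) →
    ∀ ψ : (B ⧸ J) →ₐ[A] F, (∃ k : ℕ, ∀ x ∈ (I.map (Ideal.Quotient.mk J)) ^ k, ψ x = 0) →
    (∀ e : E, π e ∈ (Q ^ t).map ψ.toRingHom → ∀ n, π n = 0 → e * n = 0) →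
    ∃ χ : (B ⧸ J) →ₐ[A] E, π.comp χ = ψ := by
  induction t with
  | zero =>
    intro E F _ _ _ _ π hπ hsq ψ _ hkill
    have hinj : Function.Injective π := by
      rw [injective_iff_map_eq_zero]
      intro n hn
      have := hkill 1 (by
        rw [pow_zero, Ideal.one_eq_top, map_one]
        have : (1 : F) = ψ.toRingHom 1 := by simp
        rw [this]
        exact Ideal.mem_map_of_mem _ trivial) n hn
      simpa using this
    let e : E ≃ₐ[A] F := AlgEquiv.ofBijective π ⟨hinj, hπ⟩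
    refine ⟨e.symm.toAlgHom.comp ψ, ?_⟩
    ext c
    change π (e.symm (ψ c)) = ψ c
    exact e.apply_symm_apply _
  | succ t ih =>
    intro E F _ _ _ _ π hπ hsq ψ ⟨k, hk⟩ hkill
    let N' : Ideal E := (Ideal.comap π.toRingHom (Q.map ψ.toRingHom)) * (RingHom.ker π.toRingHom)
    have hN'le : N' ≤ RingHom.ker π.toRingHom := Ideal.mul_le_right
    let π₁ : E →ₐ[A] E ⧸ N' := Ideal.Quotient.mkₐ A N'
    let π₂ : E ⧸ N' →ₐ[A] F := Ideal.Quotient.liftₐ N' π (fun x hx => hN'le hx)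
    have hπ₂ : ∀ e : E, π₂ (Ideal.Quotient.mk N' e) = π e := fun e => rfl
    have hπ₂surj : Function.Surjective π₂ := by
      intro y
      obtain ⟨e, rfl⟩ := hπ y
      exact ⟨Ideal.Quotient.mk N' e, rfl⟩
    have hsq₂ : ∀ x y, π₂ x = 0 → π₂ y = 0 → x * y = 0 := by
      intro x y hx hy
      obtain ⟨x, rfl⟩ := Ideal.Quotient.mk_surjective x
      obtain ⟨y, rfl⟩ := Ideal.Quotient.mk_surjective y
      rw [hπ₂] at hx hy
      rw [← map_mul, hsq x y hx hy, map_zero]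
    have hkill₂ : ∀ e, π₂ e ∈ Q.map ψ.toRingHom → ∀ n, π₂ n = 0 → e * n = 0 := by
      intro e he n hn
      obtain ⟨e, rfl⟩ := Ideal.Quotient.mk_surjective e
      obtain ⟨n, rfl⟩ := Ideal.Quotient.mk_surjective n
      rw [hπ₂] at he hn
      rw [← map_mul, Ideal.Quotient.eq_zero_iff_mem]
      exact Ideal.mul_mem_mul he hn
    obtain ⟨χ₁, hχ₁⟩ := key_lift I J Q hB g hg (E ⧸ N') F π₂ hπ₂surj hsq₂ ψ ⟨k, hk⟩ hkill₂
    have hχ₁' : ∀ c, π₂ (χ₁ c) = ψ c := fun c => congr($hχ₁ c)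
    have hk₁ : ∀ x ∈ (I.map (Ideal.Quotient.mk J)) ^ (k + k), χ₁ x = 0 := by
      intro x hx
      rw [pow_add] at hx
      refine Submodule.mul_induction_on hx ?_ ?_
      · intro a ha b hb
        rw [map_mul]
        exact hsq₂ _ _ (by rw [hχ₁', hk a ha]) (by rw [hχ₁', hk b hb])
      · intro a b ha hb
        rw [map_add, ha, hb, add_zero]
    have hπ₁ : ∀ e : E, π₁ e = 0 → e ∈ N' := fun e he => Ideal.Quotient.eq_zero_iff_mem.mp he
    obtain ⟨χ, hχ⟩ := ih E (E ⧸ N') π₁ (Ideal.Quotient.mkₐ_surjective A N')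
      (fun x y hx hy => hsq x y (hN'le (hπ₁ x hx)) (hN'le (hπ₁ y hy))) χ₁ ⟨k + k, hk₁⟩ (by
        intro e he n hn
        have he' : π e ∈ (Q ^ t).map ψ.toRingHom := by
          have h1 : π₂.toRingHom (π₁ e) ∈ ((Q ^ t).map χ₁.toRingHom).map π₂.toRingHom :=
            Ideal.mem_map_of_mem _ he
          rw [Ideal.map_map] at h1
          have h2 : π₂.toRingHom.comp χ₁.toRingHom = ψ.toRingHom := by
            ext c; exact hχ₁' c
          rw [h2] at h1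
          exact h1
        have hn' : n ∈ N' := hπ₁ n hn
        refine Submodule.mul_induction_on hn' ?_ ?_
        · intro a ha b hb
          rw [← mul_assoc]
          refine hkill (e * a) ?_ b hb
          rw [map_mul, pow_succ, Ideal.map_mul]
          exact Ideal.mul_mem_mul he' ha
        · intro a b ha hb
          rw [mul_add, ha, hb, add_zero])
    refine ⟨χ, ?_⟩
    ext c
    have h1 : π₁ (χ c) = χ₁ c := congr($hχ c)
    change π (χ c) = ψ c
    rw [← hπ₂ (χ c), ← hχ₁' c, ← h1]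
    rfl

theorem backward (hB : CAlgX.IsAdicFormallySmooth A B I)
    (hQ' : ∃ m : ℕ, Q ^ m ≤ I.map (Ideal.Quotient.mk J))
    (g : ((B ⧸ J) ⧸ Q) ⊗[B] ((B ⧸ J) ⊗[B] Ω[B⁄A]) →ₗ[(B ⧸ J) ⧸ Q]
      ((B ⧸ J) ⧸ Q) ⊗[B] (RingHom.ker (algebraMap B (B ⧸ J))).Cotangent)
    (hg : g ∘ₗ LinearMap.baseChange ((B ⧸ J) ⧸ Q) (kerCotangentToTensor A B (B ⧸ J)) =
      LinearMap.id) :
    CAlgX.IsAdicFormallySmooth A (B ⧸ J) (I.map (Ideal.Quotient.mk J)) := by
  apply adic_of_liftSurj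
  intro E F _ _ _ _ π hπ hsq ψ ⟨k, hk⟩
  obtain ⟨m, hm⟩ := hQ'
  refine lift_of_kill I J Q (liftSurj_of_adic hB) g hg (m * k) E F π hπ hsq ψ ⟨k, hk⟩ ?_
  intro e he n hn
  refine hsq e n ?_ hn
  have h1 : (Q ^ (m * k)).map ψ.toRingHom ≤ ⊥ := by
    rw [Ideal.map_le_iff_le_comap, pow_mul]
    intro x hx
    rw [Ideal.mem_comap, Ideal.mem_bot]
    exact hk x (Ideal.pow_right_mono hm k hx)
  exact h1 he

end KL

section Forward

variable {A B : Type u} [CommRing A] [CommRing B] [Algebra A B] (I J : Ideal B)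
  (Q : Ideal (B ⧸ J))

theorem artinRees [IsNoetherianRing B] (P : Ideal B) : ∃ s : ℕ, P ^ s ⊓ J ≤ P * J := by
  obtain ⟨k, hk⟩ := Ideal.exists_pow_inf_eq_pow_smul P (M := B) J
  refine ⟨k + 1, ?_⟩
  have := hk (k + 1) (Nat.le_succ k)
  simp only [smul_eq_mul, Ideal.mul_top, add_tsub_cancel_left, pow_one] at this
  rw [this]
  exact Ideal.mul_mono_right inf_le_right

theorem one_tmul_eq_zero (x : B) (hx : x ∈ (Q.comap (Ideal.Quotient.mk J)) * J)
    (hx' : x ∈ RingHom.ker (algebraMap B (B ⧸ J))) :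
    (1 : (B ⧸ J) ⧸ Q) ⊗ₜ[B] (Ideal.toCotangent _ ⟨x, hx'⟩) = 0 := by
  have key : ∀ y ∈ (Q.comap (Ideal.Quotient.mk J)) * J,
      ∃ hy : y ∈ RingHom.ker (algebraMap B (B ⧸ J)),
        (1 : (B ⧸ J) ⧸ Q) ⊗ₜ[B] (Ideal.toCotangent _ ⟨y, hy⟩) = 0 := by
    intro y hy
    refine Submodule.mul_induction_on hy ?_ ?_
    · intro q hq j hj
      have hj' : j ∈ RingHom.ker (algebraMap B (B ⧸ J)) := by
        rw [RingHom.mem_ker]; exact Ideal.Quotient.eq_zero_iff_mem.mpr hj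
      refine ⟨Ideal.mul_mem_left _ q hj', ?_⟩
      have : (⟨q * j, Ideal.mul_mem_left _ q hj'⟩ : RingHom.ker (algebraMap B (B ⧸ J))) =
          q • ⟨j, hj'⟩ := rfl
      have h0 : q • (1 : (B ⧸ J) ⧸ Q) = 0 := by
        have h1 : q • (1 : (B ⧸ J) ⧸ Q) = algebraMap B ((B ⧸ J) ⧸ Q) q :=
          (Algebra.algebraMap_eq_smul_one q).symm
        rw [h1, algebraMap_RR]
        exact Ideal.Quotient.eq_zero_iff_mem.mpr (Ideal.mem_comap.mp hq)
      rw [this, map_smul, TensorProduct.tmul_smul, TensorProduct.smul_tmul', h0,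
        TensorProduct.zero_tmul]
    · rintro a b ⟨ha, ha'⟩ ⟨hb, hb'⟩
      refine ⟨Ideal.add_mem _ ha hb, ?_⟩
      have : (⟨a + b, Ideal.add_mem _ ha hb⟩ : RingHom.ker (algebraMap B (B ⧸ J))) =
          ⟨a, ha⟩ + ⟨b, hb⟩ := rfl
      rw [this, map_add, TensorProduct.tmul_add, ha', hb', add_zero]
  obtain ⟨_, h⟩ := key x hx
  exact h

set_option maxHeartbeats 1600000 in
theorem forward [IsNoetherianRing B]
    (hQ : ∃ n : ℕ, (I.map (Ideal.Quotient.mk J)) ^ n ≤ Q)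
    (hC : CAlgX.IsAdicFormallySmooth A (B ⧸ J) (I.map (Ideal.Quotient.mk J))) :
    ∃ g : ((B ⧸ J) ⧸ Q) ⊗[B] ((B ⧸ J) ⊗[B] Ω[B⁄A]) →ₗ[(B ⧸ J) ⧸ Q]
          ((B ⧸ J) ⧸ Q) ⊗[B] (RingHom.ker (algebraMap B (B ⧸ J))).Cotangent,
        g ∘ₗ LinearMap.baseChange ((B ⧸ J) ⧸ Q) (kerCotangentToTensor A B (B ⧸ J)) =
          LinearMap.id := by
  obtain ⟨n, hn⟩ := hQ
  set P : Ideal B := Q.comap (Ideal.Quotient.mk J) with hP
  have hJP : J ≤ P := by
    intro x hx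
    rw [hP, Ideal.mem_comap, Ideal.Quotient.eq_zero_iff_mem.mpr hx]
    exact Q.zero_mem
  obtain ⟨s, hs⟩ := artinRees J P
  let 𝔞 : Ideal B := P * J ⊔ P ^ s
  let 𝔟 : Ideal B := J ⊔ P ^ s
  have hPJ : P * J ≤ J := Ideal.mul_le_right
  have hab : 𝔞 ≤ 𝔟 := sup_le_sup_right hPJ _
  have hJb : J ≤ 𝔟 := le_sup_left
  have hPa : P ^ s ≤ 𝔞 := le_sup_right
  let π : (B ⧸ 𝔞) →ₐ[A] (B ⧸ 𝔟) := Ideal.Quotient.factorₐ A hab
  let ψ : (B ⧸ J) →ₐ[A] (B ⧸ 𝔟) := Ideal.Quotient.factorₐ A hJb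
  have hπmk : ∀ b : B, π (Ideal.Quotient.mk 𝔞 b) = Ideal.Quotient.mk 𝔟 b := fun b => rfl
  have hψmk : ∀ b : B, ψ (Ideal.Quotient.mk J b) = Ideal.Quotient.mk 𝔟 b := fun b => rfl
  have hπsurj : Function.Surjective π := Ideal.Quotient.factor_surjective hab
  have hbb : ∀ x ∈ 𝔟, ∀ y ∈ 𝔟, x * y ∈ 𝔞 := by
    intro x hx y hy
    obtain ⟨j, hj, p, hp, rfl⟩ := Submodule.mem_sup.mp hx
    obtain ⟨j', hj', p', hp', rfl⟩ := Submodule.mem_sup.mp hy
    have e1 : (j + p) * (j' + p') = j * j' + (j * p' + p * j' + p * p') := by ring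
    rw [e1]
    refine Submodule.add_mem_sup (Ideal.mul_mem_mul (hJP hj) hj') ?_
    exact Ideal.add_mem _ (Ideal.add_mem _ (Ideal.mul_mem_left _ _ hp')
      (Ideal.mul_mem_right _ _ hp)) (Ideal.mul_mem_left _ _ hp')
  have hsq : ∀ x y, π x = 0 → π y = 0 → x * y = 0 := by
    intro x y hx hy
    obtain ⟨x, rfl⟩ := Ideal.Quotient.mk_surjective x
    obtain ⟨y, rfl⟩ := Ideal.Quotient.mk_surjective y
    rw [hπmk, Ideal.Quotient.eq_zero_iff_mem] at hx hy
    rw [← map_mul, Ideal.Quotient.eq_zero_iff_mem]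
    exact hbb x hx y hy
  have hQs : Q ^ s ≤ RingHom.ker ψ.toRingHom := by
    have : Q = P.map (Ideal.Quotient.mk J) := by
      rw [hP, Ideal.map_comap_of_surjective _ Ideal.Quotient.mk_surjective]
    rw [this, ← Ideal.map_pow, Ideal.map_le_iff_le_comap]
    intro b hb
    rw [Ideal.mem_comap, RingHom.mem_ker]
    change ψ (Ideal.Quotient.mk J b) = 0
    rw [hψmk, Ideal.Quotient.eq_zero_iff_mem]
    exact le_sup_right (a := J) hb
  obtain ⟨χ, hχ⟩ := liftSurj_of_adic hC (B ⧸ 𝔞) (B ⧸ 𝔟) π hπsurj hsq ψ ⟨n * s, fun x hx => by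
    rw [pow_mul] at hx
    exact hQs (Ideal.pow_right_mono hn s hx)⟩
  have hχ' : ∀ c, π (χ c) = ψ c := fun c => congr($hχ c)
  -- the square-zero ideal and the derivation
  let N : Ideal (B ⧸ 𝔞) := RingHom.ker π.toRingHom
  have hmemN : ∀ x, x ∈ N ↔ π x = 0 := fun x => Iff.rfl
  have hN2 : N ^ 2 = ⊥ := by
    rw [eq_bot_iff, pow_two, Ideal.mul_le]
    intro x hx y hy
    rw [Ideal.mem_bot]
    exact hsq x y hx hy
  let f : B →ₐ[A] B ⧸ 𝔞 := χ.comp (Ideal.Quotient.mkₐ A J)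
  have he : (Ideal.Quotient.mkₐ A N).comp f = IsScalarTower.toAlgHom A B ((B ⧸ 𝔞) ⧸ N) := by
    ext b
    change Ideal.Quotient.mk N (χ (Ideal.Quotient.mk J b)) =
      Ideal.Quotient.mk N (Ideal.Quotient.mk 𝔞 b)
    rw [Ideal.Quotient.eq, hmemN, map_sub, hχ', hψmk, hπmk, sub_self]
  let D'' : Derivation A B N := derivationToSquareZeroOfLift N hN2 f he
  have hD'' : ∀ b, ((D'' b : N) : B ⧸ 𝔞) = χ (Ideal.Quotient.mk J b) - Ideal.Quotient.mk 𝔞 b :=
    fun b => rfl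
  -- θ
  have hK : ∀ x : B, x ∈ RingHom.ker (algebraMap B (B ⧸ J)) ↔ x ∈ J := by
    intro x
    rw [RingHom.mem_ker]
    exact Ideal.Quotient.eq_zero_iff_mem
  have hθmem : ∀ x ∈ J, Ideal.Quotient.mk 𝔞 x ∈ N := by
    intro x hx
    rw [hmemN, hπmk, Ideal.Quotient.eq_zero_iff_mem]
    exact hJb hx
  let θ₀ : RingHom.ker (algebraMap B (B ⧸ J)) →ₗ[B] N :=
    { toFun := fun x => ⟨Ideal.Quotient.mk 𝔞 x, hθmem x ((hK _).mp x.2)⟩
      map_add' := by intro x y; ext; simp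
      map_smul' := by
        intro b x
        ext
        simp only [SetLike.val_smul, smul_eq_mul, map_mul, RingHom.id_apply, Algebra.smul_def]
        rfl }
  have hθ₀ : ∀ x, ((θ₀ x : N) : B ⧸ 𝔞) = Ideal.Quotient.mk 𝔞 x := fun x => rfl
  let θ' : (RingHom.ker (algebraMap B (B ⧸ J))).Cotangent →ₗ[B] N :=
    Ideal.Cotangent.lift θ₀ (by
      intro x y
      ext
      rw [hθ₀]
      change Ideal.Quotient.mk 𝔞 ((x : B) * (y : B)) = 0
      rw [Ideal.Quotient.eq_zero_iff_mem]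
      exact le_sup_left (b := P ^ s) (Ideal.mul_mem_mul (hJP ((hK _).mp x.2)) ((hK _).mp y.2)))
  have hθ' : ∀ x, θ' (Ideal.toCotangent _ x) = θ₀ x := fun x => rfl
  have hθsurj : Function.Surjective θ' := by
    intro nn
    obtain ⟨b, hb⟩ := Ideal.Quotient.mk_surjective (nn : B ⧸ 𝔞)
    have hb' : b ∈ 𝔟 := by
      have := nn.2
      rw [hmemN, ← hb, hπmk, Ideal.Quotient.eq_zero_iff_mem] at this
      exact this
    obtain ⟨j, hj, p, hp, rfl⟩ := Submodule.mem_sup.mp hb'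
    refine ⟨Ideal.toCotangent _ ⟨j, (hK _).mpr hj⟩, ?_⟩
    ext
    rw [hθ', hθ₀, ← hb, map_add, Ideal.Quotient.eq_zero_iff_mem.mpr (hPa hp), add_zero]
  have hker : LinearMap.ker θ' ≤
      LinearMap.ker (TensorProduct.mk B ((B ⧸ J) ⧸ Q)
        (RingHom.ker (algebraMap B (B ⧸ J))).Cotangent 1) := by
    intro m hm
    obtain ⟨x, rfl⟩ := Ideal.toCotangent_surjective _ m
    rw [LinearMap.mem_ker, hθ'] at hm
    have hx𝔞 : (x : B) ∈ 𝔞 := by
      have := congr_arg Subtype.val hm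
      rw [hθ₀] at this
      exact Ideal.Quotient.eq_zero_iff_mem.mp this
    have hxJ : (x : B) ∈ J := (hK _).mp x.2
    have hxPJ : (x : B) ∈ P * J := by
      obtain ⟨u, hu, v, hv, huv⟩ := Submodule.mem_sup.mp hx𝔞
      have hvJ : v ∈ J := by
        have : v = (x : B) - u := by rw [← huv]; ring
        rw [this]
        exact J.sub_mem hxJ (hPJ hu)
      rw [← huv]
      exact Ideal.add_mem _ hu (hs ⟨hv, hvJ⟩)
    rw [LinearMap.mem_ker, TensorProduct.mk_apply]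
    exact one_tmul_eq_zero J Q x hxPJ x.2
  obtain ⟨σ, hσ⟩ := exists_factor hθsurj _ hker
  let D' : Derivation A B (((B ⧸ J) ⧸ Q) ⊗[B] (RingHom.ker (algebraMap B (B ⧸ J))).Cotangent) :=
    σ.compDer (-D'')
  have hD' : ∀ x : RingHom.ker (algebraMap B (B ⧸ J)),
      D' x = (1 : (B ⧸ J) ⧸ Q) ⊗ₜ[B] Ideal.toCotangent _ x := by
    intro x
    change σ (-(D'' x)) = _
    have : -(D'' x) = θ' (Ideal.toCotangent _ x) := by
      ext
      rw [hθ', hθ₀]
      change -((D'' x : N) : B ⧸ 𝔞) = _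
      rw [hD'']
      have : Ideal.Quotient.mk J (x : B) = 0 := x.2
      rw [this, map_zero, zero_sub, neg_neg]
    rw [this, hσ]
    rfl
  let f₀ : Ω[B⁄A] →ₗ[B] ((B ⧸ J) ⧸ Q) ⊗[B] (RingHom.ker (algebraMap B (B ⧸ J))).Cotangent :=
    D'.liftKaehlerDifferential
  have hf₀ : ∀ b, f₀ (D A B b) = D' b := fun b => Derivation.liftKaehlerDifferential_comp_D D' b
  refine ⟨LinearMap.liftBaseChange ((B ⧸ J) ⧸ Q)
    ((LinearMap.liftBaseChange (B ⧸ J) f₀).restrictScalars B), ?_⟩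
  ext m
  obtain ⟨x, rfl⟩ := Ideal.toCotangent_surjective _ m
  simp only [TensorProduct.AlgebraTensorModule.curry_apply, TensorProduct.curry_apply,
    LinearMap.coe_restrictScalars, LinearMap.coe_comp, Function.comp_apply,
    LinearMap.baseChange_tmul, kerCotangentToTensor_toCotangent, LinearMap.liftBaseChange_tmul,
    LinearMap.restrictScalars_apply, one_smul, hf₀, hD', LinearMap.id_coe, id_eq]

end Forward

theorem main {A B : Type u} [CommRing A]
    [CommRing B] [Algebra A B] [IsNoetherianRing B] (I J : Ideal B)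
    (hB : CAlgX.IsAdicFormallySmooth A B I)
    (Q : Ideal (B ⧸ J)) (hQ : ∃ n : ℕ, (I.map (Ideal.Quotient.mk J)) ^ n ≤ Q)
    (hQ' : ∃ m : ℕ, Q ^ m ≤ I.map (Ideal.Quotient.mk J)) :
    CAlgX.IsAdicFormallySmooth A (B ⧸ J) (I.map (Ideal.Quotient.mk J)) ↔
      ∃ g : ((B ⧸ J) ⧸ Q) ⊗[B] ((B ⧸ J) ⊗[B] Ω[B⁄A]) →ₗ[(B ⧸ J) ⧸ Q]
          ((B ⧸ J) ⧸ Q) ⊗[B] (RingHom.ker (algebraMap B (B ⧸ J))).Cotangent,
        g ∘ₗ LinearMap.baseChange ((B ⧸ J) ⧸ Q)
          (KaehlerDifferential.kerCotangentToTensor A B (B ⧸ J)) = LinearMap.id := by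
  constructor
  · intro hC
    exact forward I J Q hQ hC
  · rintro ⟨g, hg⟩
    exact backward I J Q hB hQ' g hg

end Groth.Agent.Lib.helper19.AdicJac
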