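import Mathlib
import Groth.Prelude.Def_CAlgX
import Groth.Agent.Lib.helper19.AdicJac
import Groth.Agent.Lib.helper19.AdicSmoothAt
import Groth.Agent.Lib.helper19.JacLocal

/-! S4606: Jacobian criterion for adic formal smoothness of `C_p` over `A_r`. -/

namespace Groth.Agent.Lib.helper19.AdicJacLocal

open TensorProduct KaehlerDifferential IsLocalRing

universe u

section loc

variable {B C : Type u} [CommRing B] [CommRing C] [Algebra B C]
  (hsurj : Function.Surjective (algebraMap B C)) (p : Ideal C) [p.IsPrime]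

/-- the local homomorphism `B_q → C_p` -/
noncomputable abbrev rho : Localization.AtPrime (p.comap (algebraMap B C)) →+* Localization.AtPrime p :=
  Localization.localRingHom (p.comap (algebraMap B C)) p (algebraMap B C) rfl

include hsurj in
theorem rho_surjective : Function.Surjective (rho (B := B) p) :=
  (RingHom.surjectiveOnStalks_of_surjective (f := algebraMap B C) hsurj).localRingHom_surjective
    (p.comap (algebraMap B C)) p rfl

theorem rho_algebraMap (b : B) :
    rho (B := B) p (algebraMap B _ b) = algebraMap C (Localization.AtPrime p) (algebraMap B C b) :=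
  Localization.localRingHom_to_map _ _ _ _ _

include hsurj in
theorem ker_rho : RingHom.ker (rho (B := B) p) =
    (RingHom.ker (algebraMap B C)).map
      (algebraMap B (Localization.AtPrime (p.comap (algebraMap B C)))) := by
  apply le_antisymm
  · intro x hx
    obtain ⟨a, s, rfl⟩ := IsLocalization.exists_mk'_eq (p.comap (algebraMap B C)).primeCompl x
    rw [RingHom.mem_ker] at hx
    have h1 : rho (B := B) p (IsLocalization.mk' _ a s) =
        IsLocalization.mk' (Localization.AtPrime p)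
          (algebraMap B C a) (⟨algebraMap B C s.1, s.2⟩ : p.primeCompl) := by
      rw [Localization.localRingHom_mk']
    rw [h1, IsLocalization.mk'_eq_zero_iff] at hx
    obtain ⟨⟨t, ht⟩, htx⟩ := hx
    obtain ⟨t', rfl⟩ := hsurj t
    rw [IsLocalization.mk'_mem_map_algebraMap_iff]
    refine ⟨t', ht, ?_⟩
    rw [RingHom.mem_ker, map_mul]
    exact htx
  · rw [Ideal.map_le_iff_le_comap]
    intro a ha
    rw [Ideal.mem_comap, RingHom.mem_ker, rho_algebraMap, RingHom.mem_ker.mp ha, map_zero]

include hsurj in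
theorem map_rho_maximalIdeal :
    (maximalIdeal (Localization.AtPrime (p.comap (algebraMap B C)))).map (rho (B := B) p) =
      maximalIdeal (Localization.AtPrime p) := by
  apply le_antisymm
  · rw [Ideal.map_le_iff_le_comap]
    intro x hx
    rw [Ideal.mem_comap, mem_maximalIdeal, mem_nonunits_iff]
    intro hu
    haveI : IsLocalHom (rho (B := B) p) := Localization.isLocalHom_localRingHom _ _ _ _
    exact ((mem_maximalIdeal _).mp hx) ((isUnit_map_iff (rho (B := B) p) x).mp hu)
  · intro y hy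
    obtain ⟨x, rfl⟩ := rho_surjective hsurj p y
    refine Ideal.mem_map_of_mem _ ?_
    rw [mem_maximalIdeal, mem_nonunits_iff]
    intro hu
    exact ((mem_maximalIdeal _).mp hy) (hu.map _)

include hsurj in
theorem exists_smul_eq_one_tmul {M : Type*} [AddCommGroup M] [Module B M]
    (x : p.ResidueField ⊗[B] M) :
    ∃ s : C, s ∉ p ∧ ∃ m : M, algebraMap C p.ResidueField s • x = 1 ⊗ₜ m := by
  induction x using TensorProduct.induction_on with
  | zero => exact ⟨1, fun h => ‹p.IsPrime›.ne_top ((Ideal.eq_top_iff_one p).mpr h), 0, by simp⟩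
  | tmul z m =>
    obtain ⟨s, hs, a, ha⟩ := Groth.Agent.S4530.H5S4530.exists_common_denom p (fun _ : Unit => z)
    obtain ⟨b, hb⟩ := hsurj (a ())
    refine ⟨s, hs, b • m, ?_⟩
    rw [TensorProduct.smul_tmul', smul_eq_mul, ← ha (), ← hb, TensorProduct.tmul_smul,
      TensorProduct.smul_tmul', ← IsScalarTower.algebraMap_apply, Algebra.smul_def, mul_one]
  | add x y hx hy =>
    obtain ⟨s₁, hs₁, m₁, h₁⟩ := hx
    obtain ⟨s₂, hs₂, m₂, h₂⟩ := hy
    obtain ⟨b₁, hb₁⟩ := hsurj s₁
    obtain ⟨b₂, hb₂⟩ := hsurj s₂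
    refine ⟨s₁ * s₂, ‹p.IsPrime›.mul_notMem hs₁ hs₂, b₂ • m₁ + b₁ • m₂, ?_⟩
    have e1 : ∀ (b : B) (y : p.ResidueField ⊗[B] M),
        algebraMap C p.ResidueField (algebraMap B C b) • y = b • y := by
      intro b y
      rw [← IsScalarTower.algebraMap_apply, algebraMap_smul]
    have hx' : (algebraMap C p.ResidueField s₁ * algebraMap C p.ResidueField s₂) • x =
        algebraMap C p.ResidueField s₂ • (algebraMap C p.ResidueField s₁ • x) := by
      rw [mul_comm, mul_smul]
    have hy' : (algebraMap C p.ResidueField s₁ * algebraMap C p.ResidueField s₂) • y =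
        algebraMap C p.ResidueField s₁ • (algebraMap C p.ResidueField s₂ • y) := mul_smul _ _ _
    rw [map_mul, smul_add, hx', hy', h₁, h₂, ← hb₁, ← hb₂, e1, e1,
      TensorProduct.tmul_add, TensorProduct.tmul_smul, TensorProduct.tmul_smul]

theorem one_tmul_eq_zero (x : B)
    (hx : x ∈ (p.comap (algebraMap B C)) * RingHom.ker (algebraMap B C))
    (hx' : x ∈ RingHom.ker (algebraMap B C)) :
    (1 : p.ResidueField) ⊗ₜ[B] (Ideal.toCotangent _ ⟨x, hx'⟩) = 0 := by
  have key : ∀ y ∈ (p.comap (algebraMap B C)) * RingHom.ker (algebraMap B C),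
      ∃ hy : y ∈ RingHom.ker (algebraMap B C),
        (1 : p.ResidueField) ⊗ₜ[B] (Ideal.toCotangent _ ⟨y, hy⟩) = 0 := by
    intro y hy
    refine Submodule.mul_induction_on hy ?_ ?_
    · intro q hq j hj
      refine ⟨Ideal.mul_mem_left _ q hj, ?_⟩
      have : (⟨q * j, Ideal.mul_mem_left _ q hj⟩ : RingHom.ker (algebraMap B C)) =
          q • ⟨j, hj⟩ := rfl
      have h0 : q • (1 : p.ResidueField) = 0 := by
        have h1 : q • (1 : p.ResidueField) = algebraMap B p.ResidueField q :=
          (Algebra.algebraMap_eq_smul_one q).symm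
        rw [h1, IsScalarTower.algebraMap_apply B C p.ResidueField,
          Ideal.algebraMap_residueField_eq_zero]
        exact hq
      rw [this, map_smul, TensorProduct.tmul_smul, TensorProduct.smul_tmul', h0,
        TensorProduct.zero_tmul]
    · rintro a b ⟨ha, ha'⟩ ⟨hb, hb'⟩
      refine ⟨Ideal.add_mem _ ha hb, ?_⟩
      have : (⟨a + b, Ideal.add_mem _ ha hb⟩ : RingHom.ker (algebraMap B C)) =
          ⟨a, ha⟩ + ⟨b, hb⟩ := rfl
      rw [this, map_add, TensorProduct.tmul_add, ha', hb', add_zero]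
  obtain ⟨_, h⟩ := key x hx
  exact h

end loc

section fwd

variable {A B C : Type u} [CommRing A] [CommRing B] [CommRing C] [Algebra A B] [Algebra B C]
  [Algebra A C] [IsScalarTower A B C] [IsNoetherianRing B]
  (hsurj : Function.Surjective (algebraMap B C)) (p : Ideal C) [p.IsPrime]
  [Algebra (Localization.AtPrime (p.comap (algebraMap A C))) (Localization.AtPrime p)]
  [IsScalarTower A (Localization.AtPrime (p.comap (algebraMap A C))) (Localization.AtPrime p)]

local notation "Ar" => Localization.AtPrime (Ideal.comap (algebraMap A C) p)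
local notation "Bq" => Localization.AtPrime (Ideal.comap (algebraMap B C) p)
local notation "Cp" => Localization.AtPrime p
local notation "KK" => Ideal.ResidueField p

include hsurj in
set_option maxHeartbeats 1600000 in
theorem injective_of_adic
    (hC : CAlgX.IsAdicFormallySmooth (Localization.AtPrime (p.comap (algebraMap A C)))
      (Localization.AtPrime p) (maximalIdeal (Localization.AtPrime p))) :
    Function.Injective ((kerCotangentToTensor A B C).lTensor p.ResidueField) := by
  have hrq : p.comap (algebraMap A C) = (p.comap (algebraMap B C)).comap (algebraMap A B) := by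
    rw [Ideal.comap_comap, ← IsScalarTower.algebraMap_eq]
  letI algArBq : Algebra (Localization.AtPrime (p.comap (algebraMap A C)))
      (Localization.AtPrime (p.comap (algebraMap B C))) :=
    (Localization.localRingHom (p.comap (algebraMap A C)) (p.comap (algebraMap B C))
      (algebraMap A B) hrq).toAlgebra
  haveI : IsScalarTower A (Localization.AtPrime (p.comap (algebraMap A C)))
      (Localization.AtPrime (p.comap (algebraMap B C))) := by
    refine IsScalarTower.of_algebraMap_eq' ?_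
    ext a
    rw [RingHom.comp_apply, RingHom.algebraMap_toAlgebra, Localization.localRingHom_to_map,
      ← IsScalarTower.algebraMap_apply]
  have hρA : (rho (B := B) p).comp (algebraMap (Localization.AtPrime (p.comap (algebraMap A C)))
      (Localization.AtPrime (p.comap (algebraMap B C)))) =
      algebraMap (Localization.AtPrime (p.comap (algebraMap A C))) (Localization.AtPrime p) := by
    refine IsLocalization.ringHom_ext (p.comap (algebraMap A C)).primeCompl ?_
    ext a
    simp only [RingHom.comp_apply]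
    rw [← IsScalarTower.algebraMap_apply A (Localization.AtPrime (p.comap (algebraMap A C)))
      (Localization.AtPrime (p.comap (algebraMap B C))),
      IsScalarTower.algebraMap_apply A B (Localization.AtPrime (p.comap (algebraMap B C))),
      rho_algebraMap, ← IsScalarTower.algebraMap_apply A B C,
      ← IsScalarTower.algebraMap_apply A C (Localization.AtPrime p),
      ← IsScalarTower.algebraMap_apply A (Localization.AtPrime (p.comap (algebraMap A C)))
        (Localization.AtPrime p)]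
  let ρₐ : Bq →ₐ[Ar] Cp := { rho (B := B) p with commutes' := fun x => congr($hρA x) }
  have hρₐ : ∀ x, ρₐ x = rho (B := B) p x := fun x => rfl
  have hρsurj : Function.Surjective ρₐ := rho_surjective hsurj p
  haveI : IsNoetherianRing Bq :=
    IsLocalization.isNoetherianRing (Ideal.comap (algebraMap B C) p).primeCompl Bq inferInstance
  -- ideals
  have hJm : RingHom.ker ρₐ.toRingHom ≤ maximalIdeal Bq :=
    IsLocalRing.le_maximalIdeal (RingHom.ker_ne_top _)
  obtain ⟨s, hAR⟩ := AdicJac.artinRees (RingHom.ker ρₐ.toRingHom) (maximalIdeal Bq)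
  let 𝔞 : Ideal Bq := maximalIdeal Bq * RingHom.ker ρₐ.toRingHom ⊔ maximalIdeal Bq ^ s
  let 𝔟 : Ideal Bq := RingHom.ker ρₐ.toRingHom ⊔ maximalIdeal Bq ^ s
  have hPJ : maximalIdeal Bq * RingHom.ker ρₐ.toRingHom ≤ RingHom.ker ρₐ.toRingHom :=
    Ideal.mul_le_right
  have hab : 𝔞 ≤ 𝔟 := sup_le_sup_right hPJ _
  have hJb : RingHom.ker ρₐ.toRingHom ≤ 𝔟 := le_sup_left
  have hPa : maximalIdeal Bq ^ s ≤ 𝔞 := le_sup_right
  let π : (Bq ⧸ 𝔞) →ₐ[Ar] (Bq ⧸ 𝔟) := Ideal.Quotient.factorₐ Ar hab
  let e : (Bq ⧸ RingHom.ker ρₐ.toRingHom) ≃ₐ[Ar] Cp :=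
    Ideal.quotientKerAlgEquivOfSurjective hρsurj
  let ψ : Cp →ₐ[Ar] (Bq ⧸ 𝔟) := (Ideal.Quotient.factorₐ Ar hJb).comp e.symm.toAlgHom
  have hπmk : ∀ b : Bq, π (Ideal.Quotient.mk 𝔞 b) = Ideal.Quotient.mk 𝔟 b := fun b => rfl
  have hψρ : ∀ b : Bq, ψ (rho (B := B) p b) = Ideal.Quotient.mk 𝔟 b := by
    intro b
    have : e.symm (rho (B := B) p b) = Ideal.Quotient.mk _ b := by
      rw [AlgEquiv.symm_apply_eq]; rfl
    change (Ideal.Quotient.factorₐ Ar hJb) (e.symm (rho (B := B) p b)) = _
    rw [this]; rfl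
  have hπsurj : Function.Surjective π := Ideal.Quotient.factor_surjective hab
  have hbb : ∀ x ∈ 𝔟, ∀ y ∈ 𝔟, x * y ∈ 𝔞 := by
    intro x hx y hy
    obtain ⟨j, hj, p', hp', rfl⟩ := Submodule.mem_sup.mp hx
    obtain ⟨j', hj', p'', hp'', rfl⟩ := Submodule.mem_sup.mp hy
    have e1 : (j + p') * (j' + p'') = j * j' + (j * p'' + p' * j' + p' * p'') := by ring
    rw [e1]
    refine Submodule.add_mem_sup (Ideal.mul_mem_mul (hJm hj) hj') ?_
    exact Ideal.add_mem _ (Ideal.add_mem _ (Ideal.mul_mem_left _ _ hp'')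
      (Ideal.mul_mem_right _ _ hp')) (Ideal.mul_mem_left _ _ hp'')
  have hmb : ∀ x ∈ maximalIdeal Bq, ∀ y ∈ 𝔟, x * y ∈ 𝔞 := by
    intro x hx y hy
    obtain ⟨j, hj, p', hp', rfl⟩ := Submodule.mem_sup.mp hy
    rw [mul_add]
    exact Submodule.add_mem_sup (Ideal.mul_mem_mul hx hj) (Ideal.mul_mem_left _ _ hp')
  have hsq : ∀ x y, π x = 0 → π y = 0 → x * y = 0 := by
    intro x y hx hy
    obtain ⟨x, rfl⟩ := Ideal.Quotient.mk_surjective x
    obtain ⟨y, rfl⟩ := Ideal.Quotient.mk_surjective y
    rw [hπmk, Ideal.Quotient.eq_zero_iff_mem] at hx hy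
    rw [← map_mul, Ideal.Quotient.eq_zero_iff_mem]
    exact hbb x hx y hy
  have hkill : ∃ k : ℕ, ∀ x ∈ maximalIdeal Cp ^ k, ψ x = 0 := by
    refine ⟨s, fun x hx => ?_⟩
    rw [← map_rho_maximalIdeal hsurj p, ← Ideal.map_pow] at hx
    have hle : (maximalIdeal Bq ^ s).map (rho (B := B) p) ≤ RingHom.ker ψ.toRingHom := by
      rw [Ideal.map_le_iff_le_comap]
      intro y hy
      rw [Ideal.mem_comap, RingHom.mem_ker]
      change ψ (rho (B := B) p y) = 0
      rw [hψρ, Ideal.Quotient.eq_zero_iff_mem]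
      exact le_sup_right (a := RingHom.ker ρₐ.toRingHom) hy
    exact hle hx
  obtain ⟨χ, hχ⟩ := AdicJac.liftSurj_of_adic hC (Bq ⧸ 𝔞) (Bq ⧸ 𝔟) π hπsurj hsq ψ hkill
  have hχ' : ∀ c, π (χ c) = ψ c := fun c => congr($hχ c)
  -- the square-zero ideal
  let N : Ideal (Bq ⧸ 𝔞) := RingHom.ker π.toRingHom
  have hmemN : ∀ x, x ∈ N ↔ π x = 0 := fun x => Iff.rfl
  have hN2 : N ^ 2 = ⊥ := by
    rw [eq_bot_iff, pow_two, Ideal.mul_le]
    intro x hx y hy
    rw [Ideal.mem_bot]
    exact hsq x y hx hy
  have hNN : ∀ x ∈ N, ∀ y ∈ N, x * y = 0 := fun x hx y hy => hsq x y hx hy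
  -- the two maps from `B`
  have hcanB : ∀ b : B, algebraMap B (Bq ⧸ 𝔞) b = Ideal.Quotient.mk 𝔞 (algebraMap B Bq b) :=
    fun b => rfl
  let h : B →ₐ[A] Bq ⧸ 𝔞 :=
    { toFun := fun b => χ (algebraMap C Cp (algebraMap B C b))
      map_one' := by simp
      map_mul' := by intro x y; simp
      map_zero' := by simp
      map_add' := by intro x y; simp
      commutes' := by
        intro a
        rw [← IsScalarTower.algebraMap_apply A B C, ← IsScalarTower.algebraMap_apply A C Cp,
          IsScalarTower.algebraMap_apply A Ar Cp, χ.commutes,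
          ← IsScalarTower.algebraMap_apply A Ar (Bq ⧸ 𝔞)] }
  have hh : ∀ b : B, h b = χ (algebraMap C Cp (algebraMap B C b)) := fun b => rfl
  have hπh : ∀ b : B, π (h b) = π (algebraMap B (Bq ⧸ 𝔞) b) := by
    intro b
    rw [hh, hχ', ← rho_algebraMap, hψρ, hcanB, hπmk]
  have he : (Ideal.Quotient.mkₐ A N).comp h = IsScalarTower.toAlgHom A B ((Bq ⧸ 𝔞) ⧸ N) := by
    ext b
    change Ideal.Quotient.mk N (h b) = Ideal.Quotient.mk N (algebraMap B (Bq ⧸ 𝔞) b)
    rw [Ideal.Quotient.eq, hmemN, map_sub, hπh, sub_self]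
  let D'' : Derivation A B N := derivationToSquareZeroOfLift N hN2 h he
  have hD'' : ∀ b, ((D'' b : N) : Bq ⧸ 𝔞) = h b - algebraMap B (Bq ⧸ 𝔞) b := fun b => rfl
  have hdiff : ∀ b : B, h b - algebraMap B (Bq ⧸ 𝔞) b ∈ N := fun b => (D'' b).2
  -- module structures on `N`
  letI algCpT : Algebra Cp (Bq ⧸ 𝔞) := χ.toRingHom.toAlgebra
  letI algCT : Algebra C (Bq ⧸ 𝔞) := (χ.toRingHom.comp (algebraMap C Cp)).toAlgebra
  have hsmulCp : ∀ (c : Cp) (n : N), ((c • n : N) : Bq ⧸ 𝔞) = χ c * n := fun _ _ => rfl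
  have hsmulC : ∀ (c : C) (n : N), ((c • n : N) : Bq ⧸ 𝔞) = χ (algebraMap C Cp c) * n :=
    fun _ _ => rfl
  have hsmulB : ∀ (b : B) (n : N), ((b • n : N) : Bq ⧸ 𝔞) = algebraMap B (Bq ⧸ 𝔞) b * n :=
    fun b n => by rw [Submodule.coe_smul_of_tower, Algebra.smul_def]
  have hBn : ∀ (b : B) (y : Bq ⧸ 𝔞), y ∈ N → h b * y = algebraMap B (Bq ⧸ 𝔞) b * y := by
    intro b y hy
    have := hNN _ (hdiff b) y hy
    linear_combination this
  haveI towerBC : IsScalarTower B C N := ⟨fun b c n => Subtype.ext (by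
    rw [hsmulC, hsmulB, hsmulC, Algebra.smul_def, map_mul, map_mul, mul_assoc, ← hh]
    exact hBn b _ (N.mul_mem_left _ n.2))⟩
  have hT : Module.IsTorsionBySet Cp N (maximalIdeal Cp : Set Cp) := by
    intro n a
    apply Subtype.ext
    rw [hsmulCp]
    have ha : (a : Cp) ∈ (maximalIdeal Bq).map (rho (B := B) p) := by
      rw [map_rho_maximalIdeal hsurj p]; exact a.2
    obtain ⟨y, hy, hya⟩ := (Ideal.mem_map_iff_of_surjective _ (rho_surjective hsurj p)).mp ha
    have h1 : χ (a : Cp) - Ideal.Quotient.mk 𝔞 y ∈ N := by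
      rw [hmemN, map_sub, hχ', ← hya, hψρ, hπmk, sub_self]
    obtain ⟨x, hx⟩ := Ideal.Quotient.mk_surjective (n : Bq ⧸ 𝔞)
    have hx𝔟 : x ∈ 𝔟 := by
      have := n.2
      rw [hmemN, ← hx, hπmk, Ideal.Quotient.eq_zero_iff_mem] at this
      exact this
    have h2 : Ideal.Quotient.mk 𝔞 y * (n : Bq ⧸ 𝔞) = 0 := by
      rw [← hx, ← map_mul, Ideal.Quotient.eq_zero_iff_mem]
      exact hmb y hy x hx𝔟
    have h3 := hNN _ h1 _ n.2
    change χ (a : Cp) * (n : Bq ⧸ 𝔞) = 0
    linear_combination h3 + h2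
  letI modK : Module KK N := hT.module
  have hsmulK : ∀ (c : Cp) (n : N), (IsLocalRing.residue Cp c : KK) • n = c • n := fun c n => rfl
  haveI towerBK : IsScalarTower B KK N := ⟨fun b z n => by
    obtain ⟨c, rfl⟩ := IsLocalRing.residue_surjective z
    have e1 : b • (IsLocalRing.residue Cp c : KK) = IsLocalRing.residue Cp (algebraMap B Cp b * c) := by
      rw [Algebra.smul_def, map_mul]; rfl
    rw [e1, hsmulK, hsmulK]
    apply Subtype.ext
    rw [hsmulCp, hsmulB, hsmulCp, map_mul, mul_assoc,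
      IsScalarTower.algebraMap_apply B C Cp, ← hh]
    exact hBn b _ (N.mul_mem_left _ n.2)⟩
  let f₀ : Ω[B⁄A] →ₗ[B] N := D''.liftKaehlerDifferential
  have hf₀ : ∀ b, f₀ (D A B b) = D'' b := fun b => Derivation.liftKaehlerDifferential_comp_D D'' b
  let Ψ : KK ⊗[B] (C ⊗[B] Ω[B⁄A]) →ₗ[KK] N :=
    LinearMap.liftBaseChange KK ((LinearMap.liftBaseChange C f₀).restrictScalars B)
  have hΨ : ∀ b : B, Ψ (1 ⊗ₜ (1 ⊗ₜ D A B b)) = D'' b := by
    intro b
    simp only [Ψ, LinearMap.liftBaseChange_tmul, LinearMap.restrictScalars_apply, one_smul, hf₀]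
  -- the chase
  rw [injective_iff_map_eq_zero]
  intro x hx
  obtain ⟨c, hc, m, hm⟩ := exists_smul_eq_one_tmul hsurj p x
  obtain ⟨j, rfl⟩ := Ideal.toCotangent_surjective _ m
  have hc0 : algebraMap C KK c ≠ 0 := by
    rw [Ne, Ideal.algebraMap_residueField_eq_zero]; exact hc
  have h1 : (1 : KK) ⊗ₜ[B] ((1 : C) ⊗ₜ[B] D A B (j : B)) = 0 := by
    have e1 : (kerCotangentToTensor A B C).lTensor KK (algebraMap C KK c • x) = 0 := by
      have : (kerCotangentToTensor A B C).lTensor KK (algebraMap C KK c • x) =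
          (kerCotangentToTensor A B C).baseChange KK (algebraMap C KK c • x) := rfl
      rw [this, map_smul]
      have : (kerCotangentToTensor A B C).baseChange KK x =
          (kerCotangentToTensor A B C).lTensor KK x := rfl
      rw [this, hx, smul_zero]
    rw [hm, LinearMap.lTensor_tmul, kerCotangentToTensor_toCotangent] at e1
    exact e1
  have h2 : D'' (j : B) = 0 := by rw [← hΨ, h1, map_zero]
  have hj0 : algebraMap B C (j : B) = 0 := j.2
  have h3 : Ideal.Quotient.mk 𝔞 (algebraMap B Bq (j : B)) = 0 := by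
    have := congr_arg Subtype.val h2
    rw [hD'', hh, hj0, map_zero, map_zero, zero_sub, ZeroMemClass.coe_zero, neg_eq_zero, hcanB]
      at this
    exact this
  have hj𝔞 : algebraMap B Bq (j : B) ∈ 𝔞 := Ideal.Quotient.eq_zero_iff_mem.mp h3
  have hjJ : algebraMap B Bq (j : B) ∈ RingHom.ker ρₐ.toRingHom := by
    rw [RingHom.mem_ker]
    change rho (B := B) p _ = 0
    rw [rho_algebraMap, hj0, map_zero]
  have hjmJ : algebraMap B Bq (j : B) ∈ maximalIdeal Bq * RingHom.ker ρₐ.toRingHom := by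
    obtain ⟨u, hu, v, hv, huv⟩ := Submodule.mem_sup.mp hj𝔞
    have hvJ : v ∈ RingHom.ker ρₐ.toRingHom := by
      have : v = algebraMap B Bq (j : B) - u := by rw [← huv]; ring
      rw [this]
      exact Ideal.sub_mem _ hjJ (hPJ hu)
    rw [← huv]
    exact Ideal.add_mem _ hu (hAR ⟨hv, hvJ⟩)
  have hmJ : maximalIdeal Bq * RingHom.ker ρₐ.toRingHom =
      ((Ideal.comap (algebraMap B C) p) * RingHom.ker (algebraMap B C)).map (algebraMap B Bq) := by
    rw [Ideal.map_mul, Localization.AtPrime.map_eq_maximalIdeal, ← ker_rho hsurj p]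
  rw [hmJ, IsLocalization.mem_map_algebraMap_iff (Ideal.comap (algebraMap B C) p).primeCompl]
    at hjmJ
  obtain ⟨⟨⟨a, ha⟩, ⟨t, ht⟩⟩, hat⟩ := hjmJ
  rw [← map_mul, IsLocalization.eq_iff_exists (Ideal.comap (algebraMap B C) p).primeCompl] at hat
  obtain ⟨⟨t', ht'⟩, htt⟩ := hat
  have hw : (t' * t) * (j : B) ∈
      (Ideal.comap (algebraMap B C) p) * RingHom.ker (algebraMap B C) := by
    have : (t' * t) * (j : B) = t' * a := by
      simp only at htt
      rw [← htt]; ring
    rw [this]
    exact Ideal.mul_mem_left _ _ ha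
  have hwq : t' * t ∉ Ideal.comap (algebraMap B C) p :=
    (Ideal.comap (algebraMap B C) p).primeCompl.mul_mem ht' ht
  have h5 := one_tmul_eq_zero p ((t' * t) * (j : B)) hw (Ideal.mul_mem_left _ _ j.2)
  have e2 : (⟨(t' * t) * (j : B), Ideal.mul_mem_left _ _ j.2⟩ : RingHom.ker (algebraMap B C)) =
      (t' * t) • j := rfl
  rw [e2, map_smul, TensorProduct.tmul_smul] at h5
  have h6 : algebraMap B KK (t' * t) • ((1 : KK) ⊗ₜ[B] Ideal.toCotangent _ j) = 0 := by
    rw [algebraMap_smul]; exact h5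
  have h7 : algebraMap B KK (t' * t) ≠ 0 := by
    rw [IsScalarTower.algebraMap_apply B C KK, Ne, Ideal.algebraMap_residueField_eq_zero]
    exact hwq
  have h8 : (1 : KK) ⊗ₜ[B] Ideal.toCotangent _ j = 0 := (smul_eq_zero.mp h6).resolve_left h7
  rw [h8] at hm
  exact (smul_eq_zero.mp hm).resolve_left hc0

include hsurj in
theorem adic_of_injective [Algebra.FormallySmooth A B]
    (hinj : Function.Injective ((kerCotangentToTensor A B C).lTensor p.ResidueField)) :
    CAlgX.IsAdicFormallySmooth (Localization.AtPrime (p.comap (algebraMap A C)))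
      (Localization.AtPrime p) (maximalIdeal (Localization.AtPrime p)) := by
  haveI : Module.Finite B (RingHom.ker (algebraMap B C)) :=
    Module.Finite.of_fg (IsNoetherian.noetherian _)
  haveI : Module.Finite B (RingHom.ker (algebraMap B C)).Cotangent :=
    Module.Finite.of_surjective _ (Ideal.toCotangent_surjective _)
  haveI : Algebra.FormallySmooth A (Localization.AtPrime p) :=
    ((JacLocal.main2463 (A := A) hsurj p).out 1 0).mp hinj
  haveI : Algebra.FormallySmooth (Localization.AtPrime (p.comap (algebraMap A C)))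
      (Localization.AtPrime p) :=
    Algebra.FormallySmooth.localization_base (p.comap (algebraMap A C)).primeCompl
  exact AdicSmoothAt.adic_of_formallySmooth _ _ _

include hsurj in
theorem main [Algebra.FormallySmooth A B] :
    CAlgX.IsAdicFormallySmooth (Localization.AtPrime (p.comap (algebraMap A C)))
        (Localization.AtPrime p) (maximalIdeal (Localization.AtPrime p)) ↔
      Function.Injective ((kerCotangentToTensor A B C).lTensor p.ResidueField) :=
  ⟨injective_of_adic hsurj p, adic_of_injective hsurj p⟩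

end fwd

end Groth.Agent.Lib.helper19.AdicJacLocal
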