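import Mathlib

/-!
# Finite length from support in maximal ideals; quasi-regular forms (S12916)
-/

namespace Groth.Agent.Lib.helper19.FinLen

open PrimeSpectrum

universe u v

/-- A finite module over a Noetherian ring whose support consists of maximal ideals has finite
length. -/
theorem isFiniteLength_of_support_maximal {A : Type u} [CommRing A] [IsNoetherianRing A]
    (N : Type v) [AddCommGroup N] [Module A N] [hN : Module.Finite A N]
    (h : ∀ p ∈ Module.support A N, p.asIdeal.IsMaximal) : IsFiniteLength A N := by
  revert h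
  induction hN using IsNoetherianRing.induction_on_isQuotientEquivQuotientPrime A with
  | subsingleton N => intro _; exact IsFiniteLength.of_subsingleton
  | quotient N p e =>
    intro h
    have hp : p ∈ Module.support A N := by
      rw [e.support_eq, Module.mem_support_iff_exists_annihilator]
      refine ⟨Ideal.Quotient.mk _ 1, fun r hr => ?_⟩
      rw [Submodule.mem_annihilator_span_singleton] at hr
      have h2 : Ideal.Quotient.mk p.asIdeal (r • (1 : A)) = 0 := hr
      rw [smul_eq_mul, mul_one] at h2
      exact Ideal.Quotient.eq_zero_iff_mem.1 h2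
    have hmax := h p hp
    have : IsSimpleModule A N := isSimpleModule_iff_quot_maximal.2 ⟨p.asIdeal, hmax, ⟨e⟩⟩
    rw [isFiniteLength_iff_isNoetherian_isArtinian]
    exact ⟨inferInstance, inferInstance⟩
  | exact N₁ N₂ N₃ f g hf hg hfg h1 h3 =>
    intro h
    rw [Module.support_of_exact hfg hf hg] at h
    have h1' := h1 (fun p hp => h p (Or.inl hp))
    have h3' := h3 (fun p hp => h p (Or.inr hp))
    rw [isFiniteLength_iff_isNoetherian_isArtinian] at h1' h3' ⊢
    haveI := h1'.2
    haveI := h3'.2
    exact ⟨inferInstance, isArtinian_of_range_eq_ker f g (LinearMap.exact_iff.1 hfg).symm⟩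

theorem isMaximal_of_X_mem {k : Type*} [Field k] {σ : Type*} (P : Ideal (MvPolynomial σ k))
    [hP : P.IsPrime] (h : ∀ i, (MvPolynomial.X i : MvPolynomial σ k) ∈ P) : P.IsMaximal := by
  have hker : RingHom.ker (MvPolynomial.constantCoeff : MvPolynomial σ k →+* k) ≤ P := by
    intro g hg
    rw [RingHom.mem_ker] at hg
    have hg' : g ∈ Ideal.span (MvPolynomial.X '' (Set.univ : Set σ) : Set (MvPolynomial σ k)) := by
      rw [MvPolynomial.mem_ideal_span_X_image]
      intro m hm
      have hm0 : m ≠ 0 := by
        rintro rfl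
        rw [MvPolynomial.mem_support_iff] at hm
        apply hm
        rw [← hg, MvPolynomial.constantCoeff_eq]
      obtain ⟨i, hi⟩ : ∃ i, m i ≠ 0 := by
        by_contra hcon
        push Not at hcon
        exact hm0 (Finsupp.ext hcon)
      exact ⟨i, Set.mem_univ i, hi⟩
    refine (Ideal.span_le.2 ?_) hg'
    rintro _ ⟨i, _, rfl⟩
    exact h i
  have hmax : (RingHom.ker (MvPolynomial.constantCoeff : MvPolynomial σ k →+* k)).IsMaximal :=
    RingHom.ker_isMaximal_of_surjective _ (fun c => ⟨MvPolynomial.C c, by simp⟩)
  rw [← hmax.eq_of_le hP.ne_top hker]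
  exact hmax

theorem main12916 (k : Type u) [Field k] [Infinite k] (r d : ℕ)
    (M : Type u) [AddCommGroup M] [Module (MvPolynomial (Fin (r + 1)) k) M]
    [Module.Finite (MvPolynomial (Fin (r + 1)) k) M] :
    ∃ f : MvPolynomial (Fin (r + 1)) k, f.IsHomogeneous d ∧ f ≠ 0 ∧
      IsFiniteLength (MvPolynomial (Fin (r + 1)) k)
        ↥(Submodule.torsionBy (MvPolynomial (Fin (r + 1)) k) M f) := by
  classical
  let V : Submodule k (MvPolynomial (Fin (r + 1)) k) :=
    MvPolynomial.homogeneousSubmodule (Fin (r + 1)) k d
  have hfin : (associatedPrimes (MvPolynomial (Fin (r + 1)) k) M).Finite :=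
    associatedPrimes.finite _ M
  let Ps : Set (Ideal (MvPolynomial (Fin (r + 1)) k)) :=
    {P | P ∈ associatedPrimes (MvPolynomial (Fin (r + 1)) k) M ∧ ¬ P.IsMaximal}
  have hPsfin : Ps.Finite := hfin.subset (fun P hP => hP.1)
  haveI : Finite Ps := hPsfin.to_subtype
  let W : Option Ps → Submodule k V := fun o => match o with
    | none => ⊥
    | some P => Submodule.comap V.subtype (P.1.restrictScalars k)
  have hXd : ∀ i : Fin (r + 1), (MvPolynomial.X i : MvPolynomial (Fin (r + 1)) k) ^ d ∈ V := by
    intro i
    have := (MvPolynomial.isHomogeneous_X k i).pow d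
    rw [one_mul] at this
    exact this
  have hW : ∀ o, W o ≠ ⊤ := by
    intro o
    cases o with
    | none =>
      intro h
      have h1 : (⟨MvPolynomial.X 0 ^ d, hXd 0⟩ : V) ∈ (⊥ : Submodule k V) := by
        rw [show (⊥ : Submodule k V) = ⊤ from h]
        trivial
      rw [Submodule.mem_bot] at h1
      have h2 := congrArg Subtype.val h1
      exact pow_ne_zero d (MvPolynomial.X_ne_zero 0) h2
    | some P =>
      intro h
      have hP : P.1 ∈ associatedPrimes (MvPolynomial (Fin (r + 1)) k) M := P.2.1
      haveI : P.1.IsPrime := hP.isPrime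
      apply P.2.2
      apply isMaximal_of_X_mem
      intro i
      have h1 : (⟨MvPolynomial.X i ^ d, hXd i⟩ : V) ∈ W (some P) := by
        rw [h]
        trivial
      exact Ideal.IsPrime.mem_of_pow_mem ‹_› d h1
  obtain ⟨x, hx⟩ := Submodule.exists_forall_notMem_of_forall_ne_top W hW
  refine ⟨x.1, x.2, ?_, ?_⟩
  · intro h0
    apply hx none
    show x ∈ (⊥ : Submodule k V)
    rw [Submodule.mem_bot]
    exact Subtype.ext h0
  · apply isFiniteLength_of_support_maximal
    intro p hp
    rw [Module.support_eq_zeroLocus, PrimeSpectrum.mem_zeroLocus] at hp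
    obtain ⟨q, hq, hqp⟩ := Ideal.exists_minimalPrimes_le hp
    have hqT := Module.associatedPrimes.minimalPrimes_annihilator_subset_associatedPrimes _ _ hq
    have hqM : q ∈ associatedPrimes (MvPolynomial (Fin (r + 1)) k) M :=
      associatedPrimes.subset_of_injective (f := Submodule.subtype _)
        (Submodule.subtype_injective _) hqT
    have hfq : x.1 ∈ q := by
      obtain ⟨hqprime, t, rfl⟩ := isAssociatedPrime_iff.1 hqT
      refine Submodule.mem_colon_singleton.2 ?_
      have h0 : x.1 • t = 0 := Subtype.ext t.2
      rw [h0]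
      exact Submodule.zero_mem _
    have hqmax : q.IsMaximal := by
      by_contra hne
      apply hx (some ⟨q, hqM, hne⟩)
      exact hfq
    have hqeq : q = p.asIdeal := hqmax.eq_of_le p.2.ne_top hqp
    rw [← hqeq]
    exact hqmax

end Groth.Agent.Lib.helper19.FinLen
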