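import Mathlib
import Groth.Prelude.Def_CAlgX

/-! Descent of adic formal smoothness along a ring map with a linear retraction (S2095). -/

namespace Groth.Agent.Lib.helper19.AdicDescent

open TensorProduct

universe u

section
variable {R A R' : Type u} [CommRing R] [CommRing A] [Algebra R A] [CommRing R'] [Algebra R R']

/-- The `R`-linear map `R' ⊗ A → A` induced by a retraction `ρ`. -/
noncomputable def rr (ρ : R' →ₗ[R] R) : R' ⊗[R] A →ₗ[R] A :=
  (TensorProduct.lid R A).toLinearMap ∘ₗ ρ.rTensor A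

@[simp] lemma rr_tmul (ρ : R' →ₗ[R] R) (x : R') (a : A) : rr ρ (x ⊗ₜ[R] a) = ρ x • a := by
  simp [rr]

lemma rr_one_tmul_mul (ρ : R' →ₗ[R] R) (a : A) (x : R' ⊗[R] A) :
    rr ρ ((1 ⊗ₜ[R] a) * x) = a * rr ρ x := by
  induction x using TensorProduct.induction_on with
  | zero => simp
  | tmul y b => simp [Algebra.TensorProduct.tmul_mul_tmul]
  | add x y hx hy => rw [mul_add, map_add, map_add, hx, hy, mul_add]

lemma rr_lTensor_mem (ρ : R' →ₗ[R] R) (J : Ideal A)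
    (y : R' ⊗[R] (J.restrictScalars R)) :
    rr ρ (LinearMap.lTensor R' (Submodule.subtype (J.restrictScalars R)) y) ∈ J := by
  induction y using TensorProduct.induction_on with
  | zero => simp
  | tmul y b =>
    simp only [LinearMap.lTensor_tmul, Submodule.subtype_apply, rr_tmul]
    exact Submodule.smul_of_tower_mem J _ b.2
  | add x y hx hy => rw [map_add, map_add]; exact J.add_mem hx hy

lemma rr_mem (ρ : R' →ₗ[R] R) (J : Ideal A) (x : R' ⊗[R] A)
    (hx : x ∈ J.map (Algebra.TensorProduct.includeRight : A →ₐ[R] R' ⊗[R] A)) :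
    rr ρ x ∈ J := by
  have h := Ideal.map_includeRight_eq (R := R) (A := R') J
  have hx' : x ∈ (J.map (Algebra.TensorProduct.includeRight : A →ₐ[R] R' ⊗[R] A)).restrictScalars R :=
    hx
  rw [h] at hx'
  obtain ⟨y, rfl⟩ := hx'
  exact rr_lTensor_mem ρ J y

end

theorem main {R S R' : Type u} [CommRing R] [CommRing S] [Algebra R S]
    (𝔫 : Ideal S) [CommRing R'] [Algebra R R'] (ρ : R' →ₗ[R] R)
    (hρ : ∀ r : R, ρ (algebraMap R R' r) = r)
    (h : CAlgX.IsAdicFormallySmooth R' (R' ⊗[R] S)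
      (𝔫.map (Algebra.TensorProduct.includeRight : S →ₐ[R] R' ⊗[R] S))) :
    CAlgX.IsAdicFormallySmooth R S 𝔫 := by
  intro A _ _ J hJ ψ ⟨k, hk⟩
  -- the base-changed data
  let incl : A →ₐ[R] R' ⊗[R] A := Algebra.TensorProduct.includeRight
  let J' : Ideal (R' ⊗[R] A) := J.map incl
  have hJ' : J' ^ 2 = ⊥ := by
    rw [← Ideal.map_pow, hJ, Ideal.map_bot]
  have hle : J ≤ J'.comap incl := Ideal.le_comap_map
  let g : S →ₐ[R] (R' ⊗[R] A) ⧸ J' := (Ideal.quotientMapₐ J' incl hle).comp ψ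
  let ψ' : R' ⊗[R] S →ₐ[R'] (R' ⊗[R] A) ⧸ J' :=
    Algebra.TensorProduct.lift (Algebra.ofId R' _) g (fun _ _ => Commute.all _ _)
  have hψ' : ∀ s : S, ψ' (1 ⊗ₜ s) = g s := by
    intro s; simp [ψ']
  have hkill : ∃ k : ℕ, ∀ x ∈ (𝔫.map (Algebra.TensorProduct.includeRight : S →ₐ[R] R' ⊗[R] S)) ^ k,
      ψ' x = 0 := by
    refine ⟨k, fun x hx => ?_⟩
    rw [← Ideal.map_pow] at hx
    have : (𝔫 ^ k).map (Algebra.TensorProduct.includeRight : S →ₐ[R] R' ⊗[R] S) ≤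
        RingHom.ker ψ'.toRingHom := by
      rw [Ideal.map_le_iff_le_comap]
      intro y hy
      rw [Ideal.mem_comap, RingHom.mem_ker]
      change ψ' (1 ⊗ₜ y) = 0
      rw [hψ']
      simp only [g, AlgHom.comp_apply, hk y hy, map_zero]
    exact this hx
  obtain ⟨χ', hχ'⟩ := h (R' ⊗[R] A) J' hJ' ψ' hkill
  -- key facts
  have key : ∀ (s : S) (a : A), Ideal.Quotient.mk J a = ψ s → χ' (1 ⊗ₜ s) - 1 ⊗ₜ a ∈ J' := by
    intro s a ha
    rw [← Ideal.Quotient.eq]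
    have h1 : Ideal.Quotient.mk J' (χ' (1 ⊗ₜ s)) = ψ' (1 ⊗ₜ s) := by
      rw [← hχ']; rfl
    rw [h1, hψ']
    simp only [g, AlgHom.comp_apply, ← ha]
    rfl
  have hsurj : ∀ s : S, ∃ a : A, Ideal.Quotient.mk J a = ψ s := fun s =>
    Ideal.Quotient.mk_surjective _
  have sq0 : ∀ x ∈ J, ∀ y ∈ J, x * y = 0 := by
    intro x hx y hy
    have : x * y ∈ J ^ 2 := by rw [pow_two]; exact Ideal.mul_mem_mul hx hy
    rwa [hJ] at this
  have sq0' : ∀ x ∈ J', ∀ y ∈ J', x * y = 0 := by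
    intro x hx y hy
    have : x * y ∈ J' ^ 2 := by rw [pow_two]; exact Ideal.mul_mem_mul hx hy
    rwa [hJ'] at this
  have hρ1 : ρ 1 = 1 := by simpa using hρ 1
  let σ : S → A := fun s => rr ρ (χ' (1 ⊗ₜ s))
  have hσ : ∀ (s : S) (a : A), Ideal.Quotient.mk J a = ψ s →
      ∃ d ∈ J', χ' (1 ⊗ₜ s) = 1 ⊗ₜ a + d ∧ σ s = a + rr ρ d := by
    intro s a ha
    refine ⟨_, key s a ha, by ring, ?_⟩
    change rr ρ (χ' (1 ⊗ₜ s)) = _
    rw [map_sub, rr_tmul, hρ1, one_smul]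
    ring
  have hσmk : ∀ s : S, Ideal.Quotient.mk J (σ s) = ψ s := by
    intro s
    obtain ⟨a, ha⟩ := hsurj s
    obtain ⟨d, hd, -, h2⟩ := hσ s a ha
    rw [h2, map_add, ha, Ideal.Quotient.eq_zero_iff_mem.mpr (rr_mem ρ J d hd), add_zero]
  have hσmul : ∀ s t : S, σ (s * t) = σ s * σ t := by
    intro s t
    obtain ⟨a, ha⟩ := hsurj s
    obtain ⟨b, hb⟩ := hsurj t
    obtain ⟨d, hd, h1, h2⟩ := hσ s a ha
    obtain ⟨e, he, h3, h4⟩ := hσ t b hb
    rw [h2, h4]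
    change rr ρ (χ' (1 ⊗ₜ (s * t))) = _
    have : (1 : R') ⊗ₜ[R] (s * t) = (1 ⊗ₜ s) * (1 ⊗ₜ t) := by
      rw [Algebra.TensorProduct.tmul_mul_tmul, one_mul]
    rw [this, map_mul, h1, h3]
    have e1 : ((1 : R') ⊗ₜ[R] a + d) * (1 ⊗ₜ[R] b + e) =
        (1 ⊗ₜ[R] a) * (1 ⊗ₜ[R] b) + (1 ⊗ₜ[R] a) * e + (1 ⊗ₜ[R] b) * d := by
      have := sq0' d hd e he
      linear_combination this
    rw [e1, map_add, map_add, rr_one_tmul_mul, rr_one_tmul_mul, rr_one_tmul_mul, rr_tmul, hρ1,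
      one_smul]
    have := sq0 _ (rr_mem ρ J d hd) _ (rr_mem ρ J e he)
    linear_combination -this
  have hσ1 : σ 1 = 1 := by
    change rr ρ (χ' (1 ⊗ₜ 1)) = 1
    rw [← Algebra.TensorProduct.one_def, map_one, Algebra.TensorProduct.one_def, rr_tmul, hρ1,
      one_smul]
  have hσadd : ∀ s t : S, σ (s + t) = σ s + σ t := by
    intro s t
    change rr ρ (χ' (1 ⊗ₜ (s + t))) = _
    rw [TensorProduct.tmul_add, map_add, map_add]
  have hσalg : ∀ r : R, σ (algebraMap R S r) = algebraMap R A r := by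
    intro r
    change rr ρ (χ' (1 ⊗ₜ (algebraMap R S r))) = _
    have e1 : (1 : R') ⊗ₜ[R] (algebraMap R S r) = algebraMap R' (R' ⊗[R] S) (algebraMap R R' r) := by
      rw [Algebra.TensorProduct.algebraMap_apply, Algebra.algebraMap_self, RingHom.id_apply,
        Algebra.algebraMap_eq_smul_one, Algebra.algebraMap_eq_smul_one, ← TensorProduct.smul_tmul]
    rw [e1, χ'.commutes, Algebra.TensorProduct.algebraMap_apply, rr_tmul]
    simp only [Algebra.algebraMap_self, RingHom.id_apply, hρ]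
    rw [Algebra.algebraMap_eq_smul_one]
  let χ : S →ₐ[R] A :=
    { toFun := σ
      map_one' := hσ1
      map_mul' := hσmul
      map_zero' := by simpa using hσalg 0
      map_add' := hσadd
      commutes' := hσalg }
  refine ⟨χ, ?_⟩
  ext s
  exact hσmk s

end Groth.Agent.Lib.helper19.AdicDescent
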