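import Mathlib
import Groth.Prelude.Def_EGA41
import Groth.Agent.Lib.helper19.AdicDescent

/-! S4554: formal smoothness for adic topologies and finite projective faithfully flat base change. -/

namespace Groth.Agent.Lib.helper19.AdicFF

open TensorProduct

universe u

/-- a faithfully flat finite projective algebra admits a linear retraction -/
theorem exists_retraction (A A' : Type u) [CommRing A] [CommRing A'] [Algebra A A']
    [Module.FaithfullyFlat A A'] [Module.Projective A A'] [Module.Finite A A'] :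
    ∃ ρ : A' →ₗ[A] A, ∀ r : A, ρ (algebraMap A A' r) = r := by
  obtain ⟨n, f, g, -, -, hfg⟩ := Module.Finite.exists_comp_eq_id_of_projective A A'
  let ev : (A' →ₗ[A] A) →ₗ[A] A := LinearMap.applyₗ (1 : A')
  by_cases h : LinearMap.range ev = ⊤
  · obtain ⟨ρ, hρ⟩ : (1 : A) ∈ LinearMap.range ev := h ▸ Submodule.mem_top
    refine ⟨ρ, fun r => ?_⟩
    have hρ1 : ρ 1 = 1 := hρ
    rw [Algebra.algebraMap_eq_smul_one, map_smul, hρ1, smul_eq_mul, mul_one]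
  · exfalso
    obtain ⟨𝔪, h𝔪, hle⟩ := Ideal.exists_le_maximal (LinearMap.range ev) h
    apply Module.FaithfullyFlat.submodule_ne_top (M := A') h𝔪
    rw [eq_top_iff]
    intro a' _
    have hc : ∀ i, g 1 i ∈ 𝔪 := fun i => hle ⟨(LinearMap.proj i) ∘ₗ g, rfl⟩
    have h1 : (1 : A') = ∑ i, g 1 i • f (fun j => if i = j then 1 else 0) := by
      have : (1 : A') = f (g 1) := (congr($hfg 1)).symm
      exact this.trans (LinearMap.pi_apply_eq_sum_univ f (g 1))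
    have h2 : a' = ∑ i, g 1 i • (a' * f (fun j => if i = j then 1 else 0)) := by
      conv_lhs => rw [← mul_one a', h1, Finset.mul_sum]
      simp only [mul_smul_comm]
    rw [h2]
    exact Submodule.sum_mem _ (fun i _ => Submodule.smul_mem_smul (hc i) Submodule.mem_top)

section defs

variable (A : Type u) [CommRing A] (𝔞 : Ideal A) (B : Type u) [CommRing B] [Algebra A B]
  (𝔟 : Ideal B)

/-- square-zero version of `EGA41.IsFormallySmoothAdic` -/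
def SqAdic : Prop :=
  ∀ (C : Type u) [CommRing C] [Algebra A C] (J : Ideal C), J ^ 2 = ⊥ →
    (∃ k : ℕ, (𝔞 ^ k).map (algebraMap A C) = ⊥) →
    ∀ u : B →ₐ[A] C ⧸ J, (∃ k : ℕ, ∀ x ∈ 𝔟 ^ k, u x = 0) →
      ∃ v : B →ₐ[A] C, (Ideal.Quotient.mkₐ A J).comp v = u

/-- surjection version with nilpotent kernel of order `n` -/
def LiftSurjN (n : ℕ) : Prop :=
  ∀ (E F : Type u) [CommRing E] [CommRing F] [Algebra A E] [Algebra A F] (π : E →ₐ[A] F),
    Function.Surjective π → (RingHom.ker π.toRingHom) ^ n = ⊥ →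
    (∃ k : ℕ, (𝔞 ^ k).map (algebraMap A E) = ⊥) →
    ∀ ψ : B →ₐ[A] F, (∃ k : ℕ, ∀ x ∈ 𝔟 ^ k, ψ x = 0) → ∃ χ : B →ₐ[A] E, π.comp χ = ψ

variable {A 𝔞 B 𝔟}

theorem sqAdic_of_adic (h : EGA41.IsFormallySmoothAdic A 𝔞 B 𝔟) : SqAdic A 𝔞 B 𝔟 :=
  fun C _ _ J hJ hk u hu => h C J ⟨2, hJ⟩ hk u hu

theorem liftSurjN_two (h : SqAdic A 𝔞 B 𝔟) : LiftSurjN A 𝔞 B 𝔟 2 := by
  intro E F _ _ _ _ π hπ hJ2 hkE ψ ⟨k, hk⟩
  let e : (E ⧸ RingHom.ker π.toRingHom) ≃ₐ[A] F := Ideal.quotientKerAlgEquivOfSurjective hπ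
  obtain ⟨χ, hχ⟩ := h E (RingHom.ker π.toRingHom) hJ2 hkE (e.symm.toAlgHom.comp ψ)
    ⟨k, fun x hx => by
      change e.symm (ψ x) = 0
      rw [hk x hx, map_zero]⟩
  refine ⟨χ, ?_⟩
  ext s
  have h1 : Ideal.Quotient.mk _ (χ s) = e.symm (ψ s) := congr($hχ s)
  have h2 : e (Ideal.Quotient.mk _ (χ s)) = π (χ s) := rfl
  change π (χ s) = ψ s
  rw [← h2, h1, e.apply_symm_apply]

theorem liftSurjN_succ (h : SqAdic A 𝔞 B 𝔟) : ∀ n : ℕ, LiftSurjN A 𝔞 B 𝔟 (n + 2) := by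
  intro n
  induction n with
  | zero => exact liftSurjN_two h
  | succ n ih =>
    intro E F _ _ _ _ π hπ hN hkE ψ ⟨k, hk⟩
    let N : Ideal E := RingHom.ker π.toRingHom
    let π₁ : E →ₐ[A] E ⧸ N ^ (n + 2) := Ideal.Quotient.mkₐ A (N ^ (n + 2))
    have hle : N ^ (n + 2) ≤ N := Ideal.pow_le_self (by omega)
    let π₂ : E ⧸ N ^ (n + 2) →ₐ[A] F := Ideal.Quotient.liftₐ (N ^ (n + 2)) π (fun x hx => hle hx)
    have hπ₂ : ∀ e : E, π₂ (Ideal.Quotient.mk _ e) = π e := fun e => rfl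
    have hπ₂surj : Function.Surjective π₂ := by
      intro y
      obtain ⟨e, rfl⟩ := hπ y
      exact ⟨Ideal.Quotient.mk _ e, rfl⟩
    have hker₂ : RingHom.ker π₂.toRingHom = N.map (Ideal.Quotient.mk (N ^ (n + 2))) := by
      ext x
      obtain ⟨x, rfl⟩ := Ideal.Quotient.mk_surjective x
      rw [RingHom.mem_ker]
      change π₂ (Ideal.Quotient.mk _ x) = 0 ↔ _
      rw [hπ₂]
      constructor
      · intro hx
        exact Ideal.mem_map_of_mem _ hx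
      · intro hx
        rw [Ideal.mem_map_iff_of_surjective _ Ideal.Quotient.mk_surjective] at hx
        obtain ⟨y, hy, hyx⟩ := hx
        have : x - y ∈ N ^ (n + 2) := by
          rw [← Ideal.Quotient.eq]; exact hyx.symm
        have hxN : x ∈ N := by
          have := N.add_mem (hle this) hy
          simpa using this
        exact hxN
    have hN₂ : (RingHom.ker π₂.toRingHom) ^ (n + 2) = ⊥ := by
      rw [hker₂, ← Ideal.map_pow, Ideal.map_quotient_self]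
    have hkE₁ : ∃ k : ℕ, (𝔞 ^ k).map (algebraMap A (E ⧸ N ^ (n + 2))) = ⊥ := by
      obtain ⟨k', hk'⟩ := hkE
      refine ⟨k', ?_⟩
      have : algebraMap A (E ⧸ N ^ (n + 2)) =
          (Ideal.Quotient.mk (N ^ (n + 2))).comp (algebraMap A E) := rfl
      rw [this, ← Ideal.map_map, hk', Ideal.map_bot]
    obtain ⟨χ₁, hχ₁⟩ := ih (E ⧸ N ^ (n + 2)) F π₂ hπ₂surj hN₂ hkE₁ ψ ⟨k, hk⟩
    have hχ₁' : ∀ b, π₂ (χ₁ b) = ψ b := fun b => congr($hχ₁ b)
    have hk₁ : ∀ x ∈ 𝔟 ^ (k * (n + 2)), χ₁ x = 0 := by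
      intro x hx
      have h1 : 𝔟 ^ k ≤ Ideal.comap χ₁.toRingHom (RingHom.ker π₂.toRingHom) := by
        intro y hy
        rw [Ideal.mem_comap, RingHom.mem_ker]
        change π₂ (χ₁ y) = 0
        rw [hχ₁', hk y hy]
      have h2 : (𝔟 ^ k) ^ (n + 2) ≤
          Ideal.comap χ₁.toRingHom ((RingHom.ker π₂.toRingHom) ^ (n + 2)) :=
        (Ideal.pow_right_mono h1 _).trans (Ideal.le_comap_pow _ _)
      rw [hN₂, ← pow_mul] at h2
      exact h2 hx
    have hker₁ : (RingHom.ker π₁.toRingHom) ^ 2 = ⊥ := by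
      have : RingHom.ker π₁.toRingHom = N ^ (n + 2) := Ideal.mk_ker
      rw [this, ← pow_mul, eq_bot_iff, ← hN]
      exact Ideal.pow_le_pow_right (by omega)
    obtain ⟨χ, hχ⟩ := liftSurjN_two h E (E ⧸ N ^ (n + 2)) π₁
      (Ideal.Quotient.mkₐ_surjective A _) hker₁ hkE χ₁ ⟨k * (n + 2), hk₁⟩
    refine ⟨χ, ?_⟩
    ext b
    have h1 : π₁ (χ b) = χ₁ b := congr($hχ b)
    change π (χ b) = ψ b
    rw [← hπ₂ (χ b), ← hχ₁' b, ← h1]
    rfl

theorem adic_of_sqAdic (h : SqAdic A 𝔞 B 𝔟) : EGA41.IsFormallySmoothAdic A 𝔞 B 𝔟 := by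
  intro C _ _ J ⟨n, hn⟩ hk u hu
  have hker : RingHom.ker (Ideal.Quotient.mkₐ A J).toRingHom = J := Ideal.mk_ker
  refine liftSurjN_succ h n C (C ⧸ J) (Ideal.Quotient.mkₐ A J) (Ideal.Quotient.mkₐ_surjective A J)
    ?_ hk u hu
  rw [hker, eq_bot_iff]
  have : J ^ (n + 2) ≤ J ^ n := Ideal.pow_le_pow_right (by omega)
  exact this.trans (le_of_eq (hn.trans Ideal.zero_eq_bot))

end defs

section descend

open Groth.Agent.Lib.helper19.AdicDescent

variable {R S R' : Type u} [CommRing R] [CommRing S] [Algebra R S] [CommRing R'] [Algebra R R']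
  {A : Type u} [CommRing A] [Algebra R A] (J : Ideal A)

variable (R R') in
/-- the base-changed ideal -/
noncomputable def bcIdeal : Ideal (R' ⊗[R] A) :=
  J.map (Algebra.TensorProduct.includeRight : A →ₐ[R] R' ⊗[R] A)

variable (R R') in
/-- the base-changed map -/
noncomputable def bc (ψ : S →ₐ[R] A ⧸ J) : R' ⊗[R] S →ₐ[R'] (R' ⊗[R] A) ⧸ bcIdeal R R' J :=
  Algebra.TensorProduct.lift (Algebra.ofId R' _)
    ((Ideal.quotientMapₐ (bcIdeal R R' J) (Algebra.TensorProduct.includeRight : A →ₐ[R] R' ⊗[R] A)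
      Ideal.le_comap_map).comp ψ) (fun _ _ => Commute.all _ _)

theorem bc_one_tmul (ψ : S →ₐ[R] A ⧸ J) (s : S) :
    bc R R' J ψ (1 ⊗ₜ s) = (Ideal.quotientMapₐ (bcIdeal R R' J)
      (Algebra.TensorProduct.includeRight : A →ₐ[R] R' ⊗[R] A) Ideal.le_comap_map) (ψ s) := by
  simp [bc]

theorem bcIdeal_sq (hJ : J ^ 2 = ⊥) : (bcIdeal R R' J) ^ 2 = ⊥ := by
  rw [bcIdeal, ← Ideal.map_pow, hJ, Ideal.map_bot]

theorem descend_lift (ρ : R' →ₗ[R] R) (hρ : ∀ r : R, ρ (algebraMap R R' r) = r)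
    (hJ : J ^ 2 = ⊥) (ψ : S →ₐ[R] A ⧸ J) (χ' : R' ⊗[R] S →ₐ[R'] R' ⊗[R] A)
    (hχ' : (Ideal.Quotient.mkₐ R' (bcIdeal R R' J)).comp χ' = bc R R' J ψ) :
    ∃ χ : S →ₐ[R] A, (Ideal.Quotient.mkₐ R J).comp χ = ψ := by
  let incl : A →ₐ[R] R' ⊗[R] A := Algebra.TensorProduct.includeRight
  let J' : Ideal (R' ⊗[R] A) := bcIdeal R R' J
  have hJ' : J' ^ 2 = ⊥ := bcIdeal_sq J hJ
  have hle : J ≤ J'.comap incl := Ideal.le_comap_map
  let g : S →ₐ[R] (R' ⊗[R] A) ⧸ J' := (Ideal.quotientMapₐ J' incl hle).comp ψ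
  obtain ⟨ψ', hψ'def⟩ : ∃ ψ' : R' ⊗[R] S →ₐ[R'] (R' ⊗[R] A) ⧸ J', ψ' = bc R R' J ψ := ⟨_, rfl⟩
  rw [← hψ'def] at hχ'
  have hψ' : ∀ s : S, ψ' (1 ⊗ₜ s) = g s := fun s => by rw [hψ'def]; exact bc_one_tmul J ψ s
  -- key facts
  have key : ∀ (s : S) (a : A), Ideal.Quotient.mk J a = ψ s → χ' (1 ⊗ₜ s) - 1 ⊗ₜ a ∈ J' := by
    intro s a ha
    rw [← Ideal.Quotient.eq]
    have h1 : Ideal.Quotient.mk J' (χ' (1 ⊗ₜ s)) = ψ' (1 ⊗ₜ s) := by
      rw [← hχ']; rfl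
    rw [h1, hψ']
    simp only [g, AlgHom.comp_apply, ← ha]
    rfl
  have hsurj : ∀ s : S, ∃ a : A, Ideal.Quotient.mk J a = ψ s := fun s =>
    Ideal.Quotient.mk_surjective _
  have sq0 : ∀ x ∈ J, ∀ y ∈ J, x * y = 0 := by
    intro x hx y hy
    have : x * y ∈ J ^ 2 := by rw [pow_two]; exact Ideal.mul_mem_mul hx hy
    rwa [hJ] at this
  have sq0' : ∀ x ∈ J', ∀ y ∈ J', x * y = 0 := by
    intro x hx y hy
    have : x * y ∈ J' ^ 2 := by rw [pow_two]; exact Ideal.mul_mem_mul hx hy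
    rwa [hJ'] at this
  have hρ1 : ρ 1 = 1 := by simpa using hρ 1
  let σ : S → A := fun s => rr ρ (χ' (1 ⊗ₜ s))
  have hσ : ∀ (s : S) (a : A), Ideal.Quotient.mk J a = ψ s →
      ∃ d ∈ J', χ' (1 ⊗ₜ s) = 1 ⊗ₜ a + d ∧ σ s = a + rr ρ d := by
    intro s a ha
    refine ⟨_, key s a ha, by ring, ?_⟩
    change rr ρ (χ' (1 ⊗ₜ s)) = _
    rw [map_sub, rr_tmul, hρ1, one_smul]
    ring
  have hσmk : ∀ s : S, Ideal.Quotient.mk J (σ s) = ψ s := by
    intro s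
    obtain ⟨a, ha⟩ := hsurj s
    obtain ⟨d, hd, -, h2⟩ := hσ s a ha
    rw [h2, map_add, ha, Ideal.Quotient.eq_zero_iff_mem.mpr (rr_mem ρ J d hd), add_zero]
  have hσmul : ∀ s t : S, σ (s * t) = σ s * σ t := by
    intro s t
    obtain ⟨a, ha⟩ := hsurj s
    obtain ⟨b, hb⟩ := hsurj t
    obtain ⟨d, hd, h1, h2⟩ := hσ s a ha
    obtain ⟨e, he, h3, h4⟩ := hσ t b hb
    rw [h2, h4]
    change rr ρ (χ' (1 ⊗ₜ (s * t))) = _
    have : (1 : R') ⊗ₜ[R] (s * t) = (1 ⊗ₜ s) * (1 ⊗ₜ t) := by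
      rw [Algebra.TensorProduct.tmul_mul_tmul, one_mul]
    rw [this, map_mul, h1, h3]
    have e1 : ((1 : R') ⊗ₜ[R] a + d) * (1 ⊗ₜ[R] b + e) =
        (1 ⊗ₜ[R] a) * (1 ⊗ₜ[R] b) + (1 ⊗ₜ[R] a) * e + (1 ⊗ₜ[R] b) * d := by
      have := sq0' d hd e he
      linear_combination this
    rw [e1, map_add, map_add, rr_one_tmul_mul, rr_one_tmul_mul, rr_one_tmul_mul, rr_tmul, hρ1,
      one_smul]
    have := sq0 _ (rr_mem ρ J d hd) _ (rr_mem ρ J e he)
    linear_combination -this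
  have hσ1 : σ 1 = 1 := by
    change rr ρ (χ' (1 ⊗ₜ 1)) = 1
    rw [← Algebra.TensorProduct.one_def, map_one, Algebra.TensorProduct.one_def, rr_tmul, hρ1,
      one_smul]
  have hσadd : ∀ s t : S, σ (s + t) = σ s + σ t := by
    intro s t
    change rr ρ (χ' (1 ⊗ₜ (s + t))) = _
    rw [TensorProduct.tmul_add, map_add, map_add]
  have hσalg : ∀ r : R, σ (algebraMap R S r) = algebraMap R A r := by
    intro r
    change rr ρ (χ' (1 ⊗ₜ (algebraMap R S r))) = _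
    have e1 : (1 : R') ⊗ₜ[R] (algebraMap R S r) = algebraMap R' (R' ⊗[R] S) (algebraMap R R' r) := by
      rw [Algebra.TensorProduct.algebraMap_apply, Algebra.algebraMap_self, RingHom.id_apply,
        Algebra.algebraMap_eq_smul_one, Algebra.algebraMap_eq_smul_one, ← TensorProduct.smul_tmul]
    rw [e1, χ'.commutes, Algebra.TensorProduct.algebraMap_apply, rr_tmul]
    simp only [Algebra.algebraMap_self, RingHom.id_apply, hρ]
    rw [Algebra.algebraMap_eq_smul_one]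
  let χ : S →ₐ[R] A :=
    { toFun := σ
      map_one' := hσ1
      map_mul' := hσmul
      map_zero' := by simpa using hσalg 0
      map_add' := hσadd
      commutes' := hσalg }
  refine ⟨χ, ?_⟩
  ext s
  exact hσmk s


end descend

section main

variable {A B A' : Type u} [CommRing A] [CommRing B] [CommRing A'] [Algebra A B] [Algebra A A']
  (𝔞 : Ideal A) (𝔟 : Ideal B)

theorem algebraMap_comp_eq (C : Type u) [CommRing C] [Algebra A C] :
    (algebraMap A' (A' ⊗[A] C)).comp (algebraMap A A') =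
      (Algebra.TensorProduct.includeRight : C →ₐ[A] A' ⊗[A] C).toRingHom.comp (algebraMap A C) := by
  ext a
  simp only [RingHom.comp_apply]
  change algebraMap A' (A' ⊗[A] C) (algebraMap A A' a) = (1 : A') ⊗ₜ[A] (algebraMap A C a)
  rw [Algebra.TensorProduct.algebraMap_apply, Algebra.algebraMap_self, RingHom.id_apply,
    Algebra.algebraMap_eq_smul_one, Algebra.algebraMap_eq_smul_one, ← TensorProduct.smul_tmul]

set_option maxHeartbeats 800000 in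
theorem descent (ρ : A' →ₗ[A] A) (hρ : ∀ r : A, ρ (algebraMap A A' r) = r)
    (h : SqAdic A' (𝔞.map (algebraMap A A')) (A' ⊗[A] B)
        ((𝔞.map (algebraMap A A')).map (algebraMap A' (A' ⊗[A] B)) ⊔
          𝔟.map (Algebra.TensorProduct.includeRight : B →ₐ[A] A' ⊗[A] B).toRingHom)) :
    SqAdic A 𝔞 B 𝔟 := by
  intro C _ _ J hJ ⟨k₁, hk₁⟩ u ⟨k₂, hk₂⟩
  have hkE' : ∃ k : ℕ, ((𝔞.map (algebraMap A A')) ^ k).map (algebraMap A' (A' ⊗[A] C)) = ⊥ := by
    refine ⟨k₁, ?_⟩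
    rw [← Ideal.map_pow, Ideal.map_map, algebraMap_comp_eq, ← Ideal.map_map, hk₁, Ideal.map_bot]
  have hkill' : ∃ k : ℕ, ∀ x ∈ ((𝔞.map (algebraMap A A')).map (algebraMap A' (A' ⊗[A] B)) ⊔
      𝔟.map (Algebra.TensorProduct.includeRight : B →ₐ[A] A' ⊗[A] B).toRingHom) ^ k,
      bc A A' J u x = 0 := by
    refine ⟨k₁ + k₂, fun x hx => ?_⟩
    have hx' := Ideal.sup_pow_add_le_pow_sup_pow hx
    have hle : ((𝔞.map (algebraMap A A')).map (algebraMap A' (A' ⊗[A] B))) ^ k₁ ⊔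
        (𝔟.map (Algebra.TensorProduct.includeRight : B →ₐ[A] A' ⊗[A] B).toRingHom) ^ k₂ ≤
        RingHom.ker (bc A A' J u).toRingHom := by
      refine sup_le ?_ ?_
      · rw [← Ideal.map_pow, Ideal.map_le_iff_le_comap]
        intro a' ha'
        rw [Ideal.mem_comap, RingHom.mem_ker]
        change bc A A' J u (algebraMap A' _ a') = 0
        rw [(bc A A' J u).commutes]
        change Ideal.Quotient.mk _ (algebraMap A' (A' ⊗[A] C) a') = 0
        have : algebraMap A' (A' ⊗[A] C) a' ∈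
            ((𝔞.map (algebraMap A A')) ^ k₁).map (algebraMap A' (A' ⊗[A] C)) :=
          Ideal.mem_map_of_mem _ ha'
        rw [← Ideal.map_pow, Ideal.map_map, algebraMap_comp_eq, ← Ideal.map_map, hk₁,
          Ideal.map_bot] at this
        rw [(Ideal.mem_bot.mp this), map_zero]
      · rw [← Ideal.map_pow, Ideal.map_le_iff_le_comap]
        intro y hy
        rw [Ideal.mem_comap, RingHom.mem_ker]
        change bc A A' J u (1 ⊗ₜ y) = 0
        rw [bc_one_tmul, hk₂ y hy, map_zero]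
    exact hle hx'
  obtain ⟨χ', hχ'⟩ := h (A' ⊗[A] C) (bcIdeal A A' J) (bcIdeal_sq J hJ) hkE' (bc A A' J u) hkill'
  exact descend_lift J ρ hρ hJ u χ' hχ'

set_option maxHeartbeats 800000 in
theorem baseChange (h : EGA41.IsFormallySmoothAdic A 𝔞 B 𝔟) :
    EGA41.IsFormallySmoothAdic A' (𝔞.map (algebraMap A A')) (A' ⊗[A] B)
      ((𝔞.map (algebraMap A A')).map (algebraMap A' (A' ⊗[A] B)) ⊔
        𝔟.map (Algebra.TensorProduct.includeRight : B →ₐ[A] A' ⊗[A] B).toRingHom) := by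
  intro C' _ _ J hJnil ⟨k₁, hk₁⟩ u ⟨k₂, hk₂⟩
  letI : Algebra A C' := ((algebraMap A' C').comp (algebraMap A A')).toAlgebra
  haveI : IsScalarTower A A' C' := IsScalarTower.of_algebraMap_eq' rfl
  have hkA : ∃ k : ℕ, (𝔞 ^ k).map (algebraMap A C') = ⊥ := by
    refine ⟨k₁, ?_⟩
    have : algebraMap A C' = (algebraMap A' C').comp (algebraMap A A') := rfl
    rw [this, ← Ideal.map_map, Ideal.map_pow, hk₁]
  let u₀ : B →ₐ[A] C' ⧸ J :=
    (u.restrictScalars A).comp (Algebra.TensorProduct.includeRight : B →ₐ[A] A' ⊗[A] B)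
  have hu₀ : ∀ b, u₀ b = u (1 ⊗ₜ b) := fun b => rfl
  obtain ⟨v₀, hv₀⟩ := h C' J hJnil hkA u₀ ⟨k₂, fun x hx => by
    rw [hu₀]
    refine hk₂ _ (Ideal.pow_right_mono le_sup_right k₂ ?_)
    rw [← Ideal.map_pow]
    exact Ideal.mem_map_of_mem _ hx⟩
  have hv₀' : ∀ b, Ideal.Quotient.mk J (v₀ b) = u (1 ⊗ₜ b) := fun b => congr($hv₀ b)
  let v : A' ⊗[A] B →ₐ[A'] C' :=
    Algebra.TensorProduct.lift (Algebra.ofId A' C') v₀ (fun _ _ => Commute.all _ _)
  refine ⟨v, ?_⟩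
  apply Algebra.TensorProduct.ext'
  intro a' b
  change Ideal.Quotient.mk J (v (a' ⊗ₜ b)) = u (a' ⊗ₜ b)
  have h1 : v (a' ⊗ₜ b) = algebraMap A' C' a' * v₀ b := by
    simp [v, Algebra.ofId_apply]
  have h2 : (a' ⊗ₜ[A] b : A' ⊗[A] B) = a' • (1 ⊗ₜ b) := by
    rw [TensorProduct.smul_tmul', smul_eq_mul, mul_one]
  rw [h1, map_mul, hv₀', h2, map_smul, Algebra.smul_def]
  rfl

theorem main [Module.FaithfullyFlat A A'] [Module.Projective A A'] [Module.Finite A A'] :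
    EGA41.IsFormallySmoothAdic A' (𝔞.map (algebraMap A A')) (A' ⊗[A] B)
        ((𝔞.map (algebraMap A A')).map (algebraMap A' (A' ⊗[A] B)) ⊔
          𝔟.map (Algebra.TensorProduct.includeRight : B →ₐ[A] A' ⊗[A] B).toRingHom) ↔
      EGA41.IsFormallySmoothAdic A 𝔞 B 𝔟 := by
  constructor
  · intro h
    obtain ⟨ρ, hρ⟩ := exists_retraction A A'
    exact adic_of_sqAdic (descent 𝔞 𝔟 ρ hρ (sqAdic_of_adic h))
  · exact baseChange 𝔞 𝔟

end main

end Groth.Agent.Lib.helper19.AdicFF
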