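import Mathlib
import Groth.Prelude.Def_CAlgX
import Groth.Agent.Lib.helper19.AdicJac

/-! S9282: for an adic formally smooth local hom `A → B`, `H₁(L_{K/A}) → H₁(L_{K/B})` is injective. -/

namespace Groth.Agent.Lib.helper19.AdicH1

open IsLocalRing MvPolynomial Algebra

universe u

set_option maxHeartbeats 800000 in
theorem main (A B : Type u) [CommRing A]
    [CommRing B] [IsLocalRing B] [Algebra A B]
    (hfs : CAlgX.IsAdicFormallySmooth A B (IsLocalRing.maximalIdeal B)) :
    Function.Injective
      (Algebra.H1Cotangent.map A B (IsLocalRing.ResidueField B) (IsLocalRing.ResidueField B)) := by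
  let K := IsLocalRing.ResidueField B
  let P : Algebra.Extension A K := (Algebra.Generators.self A K).toExtension
  let P' : Algebra.Extension B K := (Algebra.Generators.self B K).toExtension
  let f : P.Hom P' := (Algebra.Generators.defaultHom (Algebra.Generators.self A K)
    (Algebra.Generators.self B K)).toExtensionHom
  -- the test extension
  let φP : P.Ring →ₐ[A] K := IsScalarTower.toAlgHom A P.Ring K
  have hφP : ∀ x, φP x = algebraMap P.Ring K x := fun x => rfl
  have hφPsurj : Function.Surjective φP := P.algebraMap_surjective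
  let π := φP.kerSquareLift
  have hπsurj : Function.Surjective π := by
    intro k
    obtain ⟨x, rfl⟩ := hφPsurj k
    exact ⟨Ideal.Quotient.mk _ x, rfl⟩
  have hsq : ∀ x y, π x = 0 → π y = 0 → x * y = 0 := by
    intro x y hx hy
    have hx' : x ∈ RingHom.ker π.toRingHom := hx
    have hy' : y ∈ RingHom.ker π.toRingHom := hy
    rw [AlgHom.ker_kerSquareLift] at hx' hy'
    have h := Ideal.mul_mem_mul hx' hy'
    rw [← sq, Ideal.cotangentIdeal_square] at h
    exact h
  let ψ : B →ₐ[A] K := IsScalarTower.toAlgHom A B K
  obtain ⟨χ, hχ⟩ := AdicJac.liftSurj_of_adic hfs _ K π hπsurj hsq ψ ⟨1, fun x hx => by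
    rw [pow_one] at hx
    exact (IsLocalRing.residue_eq_zero_iff x).mpr hx⟩
  have hχ' : ∀ b, π (χ b) = algebraMap B K b := fun b => congr($hχ b)
  let Φ : P'.Ring →+* (P.Ring ⧸ RingHom.ker φP.toRingHom ^ 2) :=
    MvPolynomial.eval₂Hom χ.toRingHom (fun k => Ideal.Quotient.mk _ (X k))
  have hΦC : ∀ b : B, Φ (C b) = χ b := fun b => MvPolynomial.eval₂_C _ _ _
  have hΦX : ∀ k : K, Φ (X k) = Ideal.Quotient.mk _ (X k) := fun k => MvPolynomial.eval₂_X _ _ _
  have hΦ1 : Φ.comp f.toRingHom = Ideal.Quotient.mk (RingHom.ker φP.toRingHom ^ 2) := by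
    apply MvPolynomial.ringHom_ext
    · intro a
      show Φ (f.toRingHom (C a)) = _
      have : f.toRingHom (C a) = C (algebraMap A B a) := f.toRingHom_algebraMap a
      rw [this, hΦC, χ.commutes]
      rfl
    · intro k
      show Φ (f.toRingHom (X k)) = _
      have : f.toRingHom (X k) = X k := by
        have h1 : f.toRingHom (X k) = (Algebra.Generators.defaultHom (Algebra.Generators.self A K)
          (Algebra.Generators.self B K)).toAlgHom (X k) := rfl
        rw [h1, Algebra.Generators.Hom.toAlgHom_X]
        rfl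
      rw [this, hΦX]
      rfl
  have hΦ2 : ∀ z, π (Φ z) = algebraMap P'.Ring K z := by
    have : π.toRingHom.comp Φ = algebraMap P'.Ring K := by
      apply MvPolynomial.ringHom_ext
      · intro b
        show π (Φ (C b)) = _
        rw [hΦC, hχ']
        have h1 : algebraMap P'.Ring K (C b) =
            MvPolynomial.aeval (Algebra.Generators.self B K).val (C b) :=
          Algebra.Generators.algebraMap_apply _ _
        exact (h1.trans (MvPolynomial.aeval_C _ _)).symm
      · intro k
        show π (Φ (X k)) = _
        rw [hΦX]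
        show φP (X k) = algebraMap P'.Ring K (X k)
        rw [hφP]
        have h1 : algebraMap P'.Ring K (X k) =
            MvPolynomial.aeval (Algebra.Generators.self B K).val (X k) :=
          Algebra.Generators.algebraMap_apply _ _
        have h2 : algebraMap P.Ring K (X k) =
            MvPolynomial.aeval (Algebra.Generators.self A K).val (X k) :=
          Algebra.Generators.algebraMap_apply _ _
        exact (h2.trans (MvPolynomial.aeval_X _ _)).trans (h1.trans (MvPolynomial.aeval_X _ _)).symm
    intro z
    exact congr($this z)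
  have hΦker : ∀ z ∈ P'.ker ^ 2, Φ z = 0 := by
    intro z hz
    rw [pow_two] at hz
    refine Submodule.mul_induction_on hz ?_ ?_
    · intro a ha b hb
      rw [map_mul]
      refine hsq _ _ ?_ ?_
      · exact (hΦ2 a).trans ha
      · exact (hΦ2 b).trans hb
    · intro a b ha hb
      rw [map_add, ha, hb, add_zero]
  -- injectivity
  rw [injective_iff_map_eq_zero]
  intro x hx
  have hx1 : Algebra.Extension.Cotangent.map f x.1 = 0 := by
    have := congr_arg Subtype.val hx
    exact this
  obtain ⟨y, hy⟩ := Algebra.Extension.Cotangent.mk_surjective x.1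
  rw [← hy, Algebra.Extension.Cotangent.map_mk, Algebra.Extension.Cotangent.mk_eq_zero_iff] at hx1
  have h1 : Φ (f.toRingHom y) = 0 := hΦker _ hx1
  have h2 : Ideal.Quotient.mk (RingHom.ker φP.toRingHom ^ 2) (y : P.Ring) = 0 := by
    rw [← hΦ1]; exact h1
  have h3 : (y : P.Ring) ∈ P.ker ^ 2 := Ideal.Quotient.eq_zero_iff_mem.mp h2
  have h4 : Algebra.Extension.Cotangent.mk y = 0 :=
    (Algebra.Extension.Cotangent.mk_eq_zero_iff y).mpr h3
  apply Subtype.ext
  rw [← hy, h4]
  rfl

end Groth.Agent.Lib.helper19.AdicH1
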