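import Mathlib
import Groth.Prelude.Def_EGA41
import Groth.Agent.Lib.helper19.SmoothAtLift

/-! S3436: formal smoothness of local rings for adic vs discrete topologies (abstract localizations). -/

namespace Groth.Agent.Lib.helper19.AdicStalk

open IsLocalRing

universe u

/-- discrete formal smoothness implies formal smoothness for any adic topologies -/
theorem adic_of_formallySmooth (R S : Type u) [CommRing R] [CommRing S] [Algebra R S]
    [Algebra.FormallySmooth R S] (𝔞 : Ideal R) (𝔫 : Ideal S) :
    EGA41.IsFormallySmoothAdic R 𝔞 S 𝔫 := by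
  intro C _ _ J hJ _ u _
  exact Algebra.FormallySmooth.exists_lift J hJ u

section

variable {A B : Type u} [CommRing A] [CommRing B] [Algebra A B] (q : Ideal B) [q.IsPrime]
  (p : Ideal A) [p.IsPrime] (hp : p = q.comap (algebraMap A B))
  (Sp Sq : Type u) [CommRing Sp] [CommRing Sq] [Algebra A Sp] [Algebra B Sq] [Algebra Sp Sq]
  [IsLocalization.AtPrime Sp p] [IsLocalization.AtPrime Sq q] [IsLocalRing Sp] [IsLocalRing Sq]
  (hcomm : ∀ a : A, algebraMap Sp Sq (algebraMap A Sp a) = algebraMap B Sq (algebraMap A B a))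

include hp hcomm in
set_option maxHeartbeats 800000 in
theorem liftProp_of_adic
    (h : EGA41.IsFormallySmoothAdic Sp (maximalIdeal Sp) Sq (maximalIdeal Sq)) :
    SmoothAtLift.LiftProp A B q := by
  intro T' T _ _ _ _ _ _ _ _ π hπ ⟨t, hker, hmt⟩ g hg
  have hpmem : ∀ a : A, a ∈ p ↔ algebraMap A B a ∈ q := fun a => by rw [hp]; rfl
  have hgunit : ∀ s : q.primeCompl, IsUnit (g s) := by
    intro s
    have : g s ∉ maximalIdeal T := by
      intro hmem
      have h1 : (s : B) ∈ Ideal.comap g (maximalIdeal T) := hmem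
      rw [hg] at h1
      exact s.2 h1
    simpa [IsLocalRing.mem_maximalIdeal, mem_nonunits_iff] using this
  haveI : IsLocalHom π.toRingHom := IsLocalHom.of_surjective _ hπ
  have hAunit : ∀ a : p.primeCompl, IsUnit (algebraMap A T' a) := by
    intro a
    have h1 : IsUnit (algebraMap A T a) := by
      have ha : algebraMap A B a ∈ q.primeCompl := by
        intro hmem
        exact a.2 ((hpmem _).mpr hmem)
      have := hgunit ⟨algebraMap A B a, ha⟩
      simpa using this
    have h2 : π.toRingHom (algebraMap A T' a) = algebraMap A T a := π.commutes a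
    rw [← h2] at h1
    exact (isUnit_map_iff π.toRingHom _).mp h1
  let φ' : Sp →+* T' := IsLocalization.lift hAunit
  letI : Algebra Sp T' := φ'.toAlgebra
  letI : Algebra Sp T := (π.toRingHom.comp φ').toAlgebra
  have hφ'A : ∀ a : A, algebraMap Sp T' (algebraMap A Sp a) = algebraMap A T' a := fun a =>
    IsLocalization.lift_eq hAunit a
  let π' : T' →ₐ[Sp] T := { π.toRingHom with commutes' := fun r => rfl }
  let gq0 : Sq →+* T := IsLocalization.lift hgunit
  have hgq : gq0.comp (algebraMap Sp Sq) = algebraMap Sp T := by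
    refine IsLocalization.ringHom_ext p.primeCompl ?_
    ext a
    simp only [RingHom.comp_apply]
    rw [hcomm, IsLocalization.lift_eq]
    change g (algebraMap A B a) = π (φ' (algebraMap A Sp a))
    rw [g.commutes]
    have : φ' (algebraMap A Sp a) = algebraMap A T' a := hφ'A a
    rw [this, π.commutes]
  let gq : Sq →ₐ[Sp] T := { gq0 with commutes' := fun r => congr($hgq r) }
  have hgq_b : ∀ b : B, gq (algebraMap B Sq b) = g b := fun b => IsLocalization.lift_eq hgunit b
  have htmem : t ∈ maximalIdeal T' := by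
    rw [IsLocalRing.mem_maximalIdeal, mem_nonunits_iff]
    intro hu
    have : t ∈ RingHom.ker π.toRingHom := by rw [hker]; exact Ideal.mem_span_singleton_self t
    have h0 : π t = 0 := this
    have : IsUnit (π t) := hu.map π
    rw [h0] at this
    exact not_isUnit_zero this
  have hJ2 : (RingHom.ker π'.toRingHom) ^ 2 = ⊥ := by
    have : RingHom.ker π'.toRingHom = Ideal.span {t} := hker
    rw [this, Ideal.span_singleton_pow, pow_two, hmt t htmem]
    simp
  let e : (T' ⧸ RingHom.ker π'.toRingHom) ≃ₐ[Sp] T :=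
    Ideal.quotientKerAlgEquivOfSurjective (f := π') hπ
  let ψ : Sq →ₐ[Sp] T' ⧸ RingHom.ker π'.toRingHom := e.symm.toAlgHom.comp gq
  have hkill : ∃ k : ℕ, ∀ x ∈ maximalIdeal Sq ^ k, ψ x = 0 := by
    have hnil : IsNilpotent (maximalIdeal T) := by
      have := IsArtinianRing.isNilpotent_jacobson_bot (R := T)
      rwa [IsLocalRing.jacobson_eq_maximalIdeal _ bot_ne_top] at this
    obtain ⟨k, hk⟩ := hnil
    refine ⟨k, fun x hx => ?_⟩
    rw [← IsLocalization.AtPrime.map_eq_maximalIdeal q Sq, ← Ideal.map_pow] at hx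
    have hle : (q ^ k).map (algebraMap B Sq) ≤ RingHom.ker ψ.toRingHom := by
      rw [Ideal.map_le_iff_le_comap]
      intro y hy
      rw [Ideal.mem_comap, RingHom.mem_ker]
      change e.symm (gq (algebraMap B _ y)) = 0
      rw [hgq_b]
      have : g y ∈ (maximalIdeal T) ^ k := by
        have h1 : q.map g ≤ maximalIdeal T := by
          rw [Ideal.map_le_iff_le_comap, hg]
        have h2 : g y ∈ (q ^ k).map g := Ideal.mem_map_of_mem _ hy
        rw [Ideal.map_pow] at h2
        exact Ideal.pow_right_mono h1 k h2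
      rw [hk] at this
      have : g y = 0 := this
      rw [this, map_zero]
    exact hle hx
  have hkillA : ∃ k : ℕ, ((maximalIdeal Sp) ^ k).map (algebraMap Sp T') = ⊥ := by
    have hnil : IsNilpotent (maximalIdeal T') := by
      have := IsArtinianRing.isNilpotent_jacobson_bot (R := T')
      rwa [IsLocalRing.jacobson_eq_maximalIdeal _ bot_ne_top] at this
    obtain ⟨k, hk⟩ := hnil
    refine ⟨k, ?_⟩
    rw [eq_bot_iff, ← IsLocalization.AtPrime.map_eq_maximalIdeal p Sp, ← Ideal.map_pow,
      Ideal.map_map, Ideal.map_pow]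
    refine le_trans (Ideal.pow_right_mono ?_ k) (le_of_eq (hk.trans Ideal.zero_eq_bot))
    rw [Ideal.map_le_iff_le_comap]
    intro a ha
    rw [Ideal.mem_comap, RingHom.comp_apply]
    change algebraMap Sp T' (algebraMap A Sp a) ∈ _
    rw [hφ'A, IsLocalRing.mem_maximalIdeal, mem_nonunits_iff]
    intro hu
    have h1 : IsUnit (algebraMap A T a) := by
      rw [← π.commutes]; exact hu.map π
    have h2 : algebraMap A B a ∈ q := (hpmem a).mp ha
    rw [← hg, Ideal.mem_comap, g.commutes, IsLocalRing.mem_maximalIdeal, mem_nonunits_iff] at h2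
    exact h2 h1
  obtain ⟨χ, hχ⟩ := h T' (RingHom.ker π'.toRingHom) ⟨2, hJ2⟩ hkillA ψ hkill
  let g' : B →ₐ[A] T' :=
    { toFun := fun b => χ (algebraMap B Sq b)
      map_one' := by simp
      map_mul' := by intro x y; simp
      map_zero' := by simp
      map_add' := by intro x y; simp
      commutes' := by
        intro a
        rw [← hcomm, χ.commutes]
        exact hφ'A a }
  refine ⟨g', ?_⟩
  ext b
  change π (χ (algebraMap B _ b)) = g b
  have h1 : Ideal.Quotient.mk _ (χ (algebraMap B _ b)) = ψ (algebraMap B _ b) := by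
    rw [← hχ]; rfl
  have h2 : e (Ideal.Quotient.mk _ (χ (algebraMap B _ b))) = π (χ (algebraMap B _ b)) := rfl
  rw [← h2, h1]
  change e (e.symm (gq (algebraMap B _ b))) = g b
  rw [e.apply_symm_apply, hgq_b]

include hp hcomm in
theorem formallySmooth_of_adic [IsNoetherianRing A] [Algebra.FiniteType A B]
    (h : EGA41.IsFormallySmoothAdic Sp (maximalIdeal Sp) Sq (maximalIdeal Sq)) :
    Algebra.FormallySmooth Sp Sq := by
  haveI : Algebra.IsSmoothAt A q :=
    SmoothAtLift.backward q (liftProp_of_adic q p hp Sp Sq hcomm h)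
  letI : Algebra A Sq := ((algebraMap B Sq).comp (algebraMap A B)).toAlgebra
  haveI : IsScalarTower A B Sq := IsScalarTower.of_algebraMap_eq' rfl
  let e : Localization.AtPrime q ≃ₐ[B] Sq := IsLocalization.algEquiv q.primeCompl _ _
  haveI : Algebra.FormallySmooth A Sq :=
    Algebra.FormallySmooth.of_equiv (A := Localization.AtPrime q) (B := Sq) (e.restrictScalars A)
  haveI : IsScalarTower A Sp Sq := IsScalarTower.of_algebraMap_eq (fun a => by
    rw [hcomm]; rfl)
  exact Algebra.FormallySmooth.localization_base p.primeCompl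

include hp hcomm in
theorem main [IsNoetherianRing A] [Algebra.FiniteType A B] :
    EGA41.IsFormallySmoothAdic Sp (maximalIdeal Sp) Sq (maximalIdeal Sq) ↔
      Algebra.FormallySmooth Sp Sq :=
  ⟨formallySmooth_of_adic q p hp Sp Sq hcomm, fun _ => adic_of_formallySmooth _ _ _ _⟩

end

end Groth.Agent.Lib.helper19.AdicStalk
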