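import Mathlib
import Groth.Prelude.Def_ArtFun2
import Groth.Agent.Lib.helper19.ArtBasic
import Groth.Agent.Lib.helper19.ArtInduction
import Groth.Agent.Lib.helper19.ArtFibre

set_option autoImplicit false
universe u v
open CategoryTheory

namespace Groth.Agent.Lib.helper19

section
variable {Λ : Type u} {k : Type u} [CommRing Λ] [Field k] [Algebra Λ k]
  [IsNoetherianRing Λ] [Module.Finite Λ k]

open ArtFun ArtFun.Art

theorem IsFibreProd.decompose {B A A' A'' M : Art Λ k} {p' : B ⟶ A'} {p'' : B ⟶ A''} {f' : A' ⟶ A}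
    {g : A'' ⟶ M} {q : M ⟶ A} (h : IsFibreProd p' p'' f' (g ≫ q)) (hq : Function.Surjective q) :
    ∃ (B₁ : Art Λ k) (r₁ : B₁ ⟶ A') (r₂ : B₁ ⟶ M) (w : B ⟶ B₁),
      IsFibreProd r₁ r₂ f' q ∧ IsFibreProd w p'' r₂ g ∧ w ≫ r₁ = p' := by
  obtain ⟨B₁, r₁, r₂, h₁⟩ := exists_isFibreProd f' q hq
  obtain ⟨w, hw1, hw2⟩ := IsFibreProd.exists_lift h₁ p' (p'' ≫ g) (by rw [h.w, Category.assoc])
  refine ⟨B₁, r₁, r₂, w, h₁, ⟨hw2, ?_, ?_⟩, hw1⟩
  · intro b₁ b₂ e1 e2
    apply h.inj _ _ _ e2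
    rw [← hw1]
    change r₁ (w b₁) = r₁ (w b₂)
    rw [e1]
  · intro b' a'' e
    have e' : f' (r₁ b') = (g ≫ q) a'' := by
      rw [h₁.w_apply]
      change q (r₂ b') = q (g a'')
      rw [e]
    obtain ⟨b, hb1, hb2⟩ := h.surj (r₁ b') a'' e'
    refine ⟨b, ?_, hb2⟩
    apply h₁.inj
    · change (w ≫ r₁) b = r₁ b'
      rw [hw1, hb1]
    · change (w ≫ r₂) b = r₂ b'
      rw [hw2]
      change g (p'' b) = r₂ b'
      rw [hb2, e]

end

end Groth.Agent.Lib.helper19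

namespace Groth.Agent.Lib.helper19

section
variable {Λ : Type u} {k : Type u} [CommRing Λ] [Field k] [Algebra Λ k]
  [IsNoetherianRing Λ] [Module.Finite Λ k]

open ArtFun ArtFun.Art

/-- Surjectivity of all comparison maps over a fixed `f''`. -/
def SurjOver (F : Art Λ k ⥤ Type v) {A'' A : Art Λ k} (f'' : A'' ⟶ A) : Prop :=
  ∀ ⦃B A' : Art Λ k⦄ (p' : B ⟶ A') (p'' : B ⟶ A'') (f' : A' ⟶ A) (h : IsFibreProd p' p'' f' f''),
    Function.Surjective (cmp F h)

/-- Injectivity of all comparison maps over a fixed `f''`. -/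
def InjOver (F : Art Λ k ⥤ Type v) {A'' A : Art Λ k} (f'' : A'' ⟶ A) : Prop :=
  ∀ ⦃B A' : Art Λ k⦄ (p' : B ⟶ A') (p'' : B ⟶ A'') (f' : A' ⟶ A) (h : IsFibreProd p' p'' f' f''),
    Function.Injective (cmp F h)

theorem cmp_fst (F : Art Λ k ⥤ Type v) {B A A' A'' : Art Λ k} {p' : B ⟶ A'} {p'' : B ⟶ A''}
    {f' : A' ⟶ A} {f'' : A'' ⟶ A} (h : IsFibreProd p' p'' f' f'') (z : F.obj B) :
    (cmp F h z).1.1 = F.map p' z := rfl

theorem cmp_snd (F : Art Λ k ⥤ Type v) {B A A' A'' : Art Λ k} {p' : B ⟶ A'} {p'' : B ⟶ A''}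
    {f' : A' ⟶ A} {f'' : A'' ⟶ A} (h : IsFibreProd p' p'' f' f'') (z : F.obj B) :
    (cmp F h z).1.2 = F.map p'' z := rfl

theorem surjOver_comp (F : Art Λ k ⥤ Type v) {A A'' M : Art Λ k} (g : A'' ⟶ M) (q : M ⟶ A)
    (hq : Function.Surjective q) (Hg : SurjOver F g) (Hq : SurjOver F q) : SurjOver F (g ≫ q) := by
  intro B A' p' p'' f' h
  obtain ⟨B₁, r₁, r₂, w, h₁, h₂, hw⟩ := IsFibreProd.decompose h hq
  rintro ⟨⟨x', x''⟩, hx⟩
  have hx' : F.map f' x' = F.map (g ≫ q) x'' := hx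
  obtain ⟨z₁, hz₁⟩ := Hq r₁ r₂ f' h₁ ⟨(x', F.map g x''), by
    change F.map f' x' = F.map q (F.map g x'')
    rw [hx', Functor.map_comp_apply]⟩
  have hz₁1 : F.map r₁ z₁ = x' := congrArg (fun t => t.1.1) hz₁
  have hz₁2 : F.map r₂ z₁ = F.map g x'' := congrArg (fun t => t.1.2) hz₁
  obtain ⟨z, hz⟩ := Hg w p'' r₂ h₂ ⟨(z₁, x''), hz₁2⟩
  have hz1 : F.map w z = z₁ := congrArg (fun t => t.1.1) hz
  have hz2 : F.map p'' z = x'' := congrArg (fun t => t.1.2) hz
  refine ⟨z, ?_⟩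
  apply FibProd.ext
  · change F.map p' z = x'
    rw [← hw, Functor.map_comp_apply, hz1, hz₁1]
  · exact hz2

theorem injOver_comp (F : Art Λ k ⥤ Type v) {A A'' M : Art Λ k} (g : A'' ⟶ M) (q : M ⟶ A)
    (hq : Function.Surjective q) (Hg : InjOver F g) (Hq : InjOver F q) : InjOver F (g ≫ q) := by
  intro B A' p' p'' f' h
  obtain ⟨B₁, r₁, r₂, w, h₁, h₂, hw⟩ := IsFibreProd.decompose h hq
  intro z z' hzz
  have e1 : F.map p' z = F.map p' z' := congrArg (fun t => t.1.1) hzz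
  have e2 : F.map p'' z = F.map p'' z' := congrArg (fun t => t.1.2) hzz
  have e3 : F.map w z = F.map w z' := by
    apply Hq r₁ r₂ f' h₁
    apply FibProd.ext
    · change F.map r₁ (F.map w z) = F.map r₁ (F.map w z')
      rw [← Functor.map_comp_apply, ← Functor.map_comp_apply, hw, e1]
    · change F.map r₂ (F.map w z) = F.map r₂ (F.map w z')
      rw [← Functor.map_comp_apply, ← Functor.map_comp_apply, h₂.w, Functor.map_comp_apply,
        Functor.map_comp_apply, e2]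
  apply Hg w p'' r₂ h₂
  apply FibProd.ext
  · exact e3
  · exact e2

theorem bijOver_iso (F : Art Λ k ⥤ Type v) {A A'' : Art Λ k} (e : A'' ⟶ A) (he : IsIso e) :
    SurjOver F e ∧ InjOver F e := by
  have hebij : Function.Bijective e := @art_bijective_of_isIso _ _ _ _ _ _ _ e he
  have p'iso : ∀ ⦃B A' : Art Λ k⦄ (p' : B ⟶ A') (p'' : B ⟶ A'') (f' : A' ⟶ A)
      (h : IsFibreProd p' p'' f' e), IsIso p' := by
    intro B A' p' p'' f' h
    apply art_isIso_of_bijective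
    constructor
    · intro b₁ b₂ hb
      apply h.inj _ _ hb
      apply hebij.1
      rw [← h.w_apply, ← h.w_apply, hb]
    · intro a'
      obtain ⟨a'', ha''⟩ := hebij.2 (f' a')
      obtain ⟨b, hb, _⟩ := h.surj a' a'' ha''.symm
      exact ⟨b, hb⟩
  have hFe : Function.Injective (F.map e) := by
    intro x y hxy
    have := congrArg (F.map (inv e)) hxy
    rwa [← Functor.map_comp_apply, ← Functor.map_comp_apply, IsIso.hom_inv_id,
      Functor.map_id_apply, Functor.map_id_apply] at this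
  constructor
  · intro B A' p' p'' f' h
    have := p'iso p' p'' f' h
    rintro ⟨⟨x', x''⟩, hx⟩
    have hx' : F.map f' x' = F.map e x'' := hx
    refine ⟨F.map (inv p') x', ?_⟩
    have h1 : F.map p' (F.map (inv p') x') = x' := by
      rw [← Functor.map_comp_apply, IsIso.inv_hom_id, Functor.map_id_apply]
    apply FibProd.ext
    · exact h1
    · change F.map p'' (F.map (inv p') x') = x''
      apply hFe
      rw [← Functor.map_comp_apply F p'' e, ← h.w, Functor.map_comp_apply, h1, hx']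
  · intro B A' p' p'' f' h
    have := p'iso p' p'' f' h
    intro z z' hzz
    have e1 : F.map p' z = F.map p' z' := congrArg (fun t => t.1.1) hzz
    have := congrArg (F.map (inv p')) e1
    rwa [← Functor.map_comp_apply, ← Functor.map_comp_apply, IsIso.hom_inv_id,
      Functor.map_id_apply, Functor.map_id_apply] at this

theorem surjOver_of_small (F : Art Λ k ⥤ Type v)
    (h : ∀ ⦃A'' A : Art Λ k⦄ (f'' : A'' ⟶ A), IsSmallExt f'' → SurjOver F f'')
    ⦃A'' A : Art Λ k⦄ (f'' : A'' ⟶ A) (hf : Function.Surjective f'') : SurjOver F f'' := by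
  have := art_surjective_induction
    (fun A A'' f'' => Function.Surjective f'' ∧ SurjOver F f'')
    (fun A B e he => ⟨(@art_bijective_of_isIso _ _ _ _ _ _ _ e he).2, (bijOver_iso F e he).1⟩)
    (fun A B p hp => ⟨hp.1, h p hp⟩)
    (fun A B C p q hp hq => ⟨hq.1.comp hp.1, surjOver_comp F p q hq.1 hp.2 hq.2⟩)
    f'' hf
  exact this.2

theorem bijOver_of_small (F : Art Λ k ⥤ Type v)
    (h : ∀ ⦃A'' A : Art Λ k⦄ (f'' : A'' ⟶ A), IsSmallExt f'' → SurjOver F f'' ∧ InjOver F f'')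
    ⦃A'' A : Art Λ k⦄ (f'' : A'' ⟶ A) (hf : Function.Surjective f'') :
    SurjOver F f'' ∧ InjOver F f'' := by
  have := art_surjective_induction
    (fun A A'' f'' => Function.Surjective f'' ∧ SurjOver F f'' ∧ InjOver F f'')
    (fun A B e he => ⟨(@art_bijective_of_isIso _ _ _ _ _ _ _ e he).2, bijOver_iso F e he⟩)
    (fun A B p hp => ⟨hp.1, h p hp⟩)
    (fun A B C p q hp hq => ⟨hq.1.comp hp.1, surjOver_comp F p q hq.1 hp.2.1 hq.2.1,
      injOver_comp F p q hq.1 hp.2.2 hq.2.2⟩)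
    f'' hf
  exact this.2

end

end Groth.Agent.Lib.helper19
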