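import Mathlib
import Groth.Prelude.Def_ArtFun
import Groth.Prelude.Def_ArtFun2
import Groth.Prelude.Def_ArtFun3
import Groth.Agent.Lib.helper19.ArtFibre

/-! (H2') implies condition (L). -/

set_option autoImplicit false
universe u v
open CategoryTheory

namespace Groth.Agent.Lib.helper19.ArtCondL

open ArtFun ArtFun.Art

variable {k : Type u} [Field k]

theorem main15134 (F : ArtFun.Art k k ⥤ Type v)
    (h2' : ∀ ⦃P A' A'' : ArtFun.Art k k⦄ (p' : P ⟶ A') (p'' : P ⟶ A'')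
      (h : ArtFun.Art.IsFibreProd p' p'' (ArtFun.Art.toBase A') (ArtFun.Art.toBase A'')),
      Function.Bijective (ArtFun.cmp F h))
    ⦃B A : ArtFun.Art k k⦄ (f : B ⟶ A) (hf : ArtFun.Art.IsSmallExt f)
    ⦃P : ArtFun.Art k k⦄ (p₁ p₂ : P ⟶ B)
    (hP : ArtFun.Art.IsFibreProd p₁ p₂ (ArtFun.Art.toBase B) (ArtFun.Art.toBase B))
    ⦃Q : ArtFun.Art k k⦄ (q₁ q₂ : Q ⟶ A)
    (hQ : ArtFun.Art.IsFibreProd q₁ q₂ (ArtFun.Art.toBase A) (ArtFun.Art.toBase A))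
    (r : P ⟶ Q) (hr₁ : r ≫ q₁ = p₁ ≫ f) (hr₂ : r ≫ q₂ = p₂ ≫ f)
    (hK : Ideal.span {z : P | p₁ z = p₂ z ∧ f (p₁ z) = 0} ≤ IsLocalRing.maximalIdeal P)
    (hKr : Ideal.span {z : P | p₁ z = p₂ z ∧ f (p₁ z) = 0} ≤ RingHom.ker r.toAlgHom)
    (y : F.obj Q) (hy : F.map q₁ y = F.map q₂ y) :
    ∃ z : F.obj (ArtFun.Art.quot P (Ideal.span {z : P | p₁ z = p₂ z ∧ f (p₁ z) = 0}) hK),
      F.map (ArtFun.Art.quotFactor hK r hKr) z = y := by
  obtain ⟨dB, hdB1, hdB2⟩ := Groth.Agent.Lib.helper19.IsFibreProd.exists_lift hP (𝟙 B) (𝟙 B) rfl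
  obtain ⟨dA, hdA1, hdA2⟩ := Groth.Agent.Lib.helper19.IsFibreProd.exists_lift hQ (𝟙 A) (𝟙 A) rfl
  have hdB1' : ∀ b : B, p₁ (dB b) = b := fun b => by
    change (dB ≫ p₁) b = b
    rw [hdB1]; rfl
  have hdB2' : ∀ b : B, p₂ (dB b) = b := fun b => by
    change (dB ≫ p₂) b = b
    rw [hdB2]; rfl
  set K := Ideal.span {z : P | p₁ z = p₂ z ∧ f (p₁ z) = 0} with hKdef
  let g : B ⟶ quot P K hK := dB ≫ quotMk P K hK
  have hker : RingHom.ker f.toAlgHom.toRingHom ≤ RingHom.ker g.toAlgHom.toRingHom := by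
    intro b hb
    rw [RingHom.mem_ker] at hb ⊢
    change Ideal.Quotient.mk K (dB b) = 0
    rw [Ideal.Quotient.eq_zero_iff_mem]
    refine Ideal.subset_span ⟨by rw [hdB1', hdB2'], ?_⟩
    rw [hdB1']
    exact hb
  let δa : A →ₐ[k] quot P K hK := AlgHom.liftOfSurjective f.toAlgHom hf.1 g.toAlgHom hker
  have hδa : ∀ b : B, δa (f b) = g b := fun b =>
    AlgHom.liftOfSurjective_apply f.toAlgHom hf.1 g.toAlgHom hker b
  let δ : A ⟶ quot P K hK := ⟨δa, by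
    apply AlgHom.ext
    intro a
    obtain ⟨b, rfl⟩ := hf.1 a
    change (quot P K hK).res (δa (f b)) = A.res (f b)
    rw [hδa, res_app, res_app]⟩
  have hδ : ∀ b : B, δ (f b) = g b := hδa
  have hcomp : δ ≫ quotFactor hK r hKr = dA := by
    apply hom_ext
    apply AlgHom.ext
    intro a
    apply hQ.inj
    · obtain ⟨b, rfl⟩ := hf.1 a
      change q₁ (quotFactor hK r hKr (δ (f b))) = (dA ≫ q₁) (f b)
      rw [hδ, hdA1]
      change (r ≫ q₁) (dB b) = f b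
      rw [hr₁]
      change f (p₁ (dB b)) = f b
      rw [hdB1']
    · obtain ⟨b, rfl⟩ := hf.1 a
      change q₂ (quotFactor hK r hKr (δ (f b))) = (dA ≫ q₂) (f b)
      rw [hδ, hdA2]
      change (r ≫ q₂) (dB b) = f b
      rw [hr₂]
      change f (p₂ (dB b)) = f b
      rw [hdB2']
  have hy' : y = F.map dA (F.map q₁ y) := by
    apply (h2' q₁ q₂ hQ).1
    apply FibProd.ext
    · change F.map q₁ y = F.map q₁ (F.map dA (F.map q₁ y))
      rw [← Functor.map_comp_apply, hdA1, Functor.map_id_apply]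
    · change F.map q₂ y = F.map q₂ (F.map dA (F.map q₁ y))
      rw [← Functor.map_comp_apply, hdA2, Functor.map_id_apply, hy]
  refine ⟨F.map δ (F.map q₁ y), ?_⟩
  rw [← Functor.map_comp_apply, hcomp, ← hy']

end Groth.Agent.Lib.helper19.ArtCondL
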