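import Mathlib
import Groth.Prelude.Def_ArtFun2
import Groth.Agent.Lib.helper19.ArtCotangent
import Groth.Agent.Lib.helper19.ArtFibre

set_option autoImplicit false
universe u v
open CategoryTheory IsLocalRing

namespace Groth.Agent.Lib.helper19

section
variable {Λ : Type u} {k : Type u} [CommRing Λ] [Field k] [Algebra Λ k]
  [IsNoetherianRing Λ] [Module.Finite Λ k]
open ArtFun ArtFun.Art

/-- Lemma E: surjectivity can be tested after passing to the relative cotangent quotient. -/
theorem surjective_of_comp_quot {B B' C : Art Λ k} (qB : B ⟶ B')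
    (hkB : RingHom.ker qB.toAlgHom = Ideal.map (algebraMap Λ B) (RingHom.ker (algebraMap Λ k)) ⊔
      IsLocalRing.maximalIdeal B ^ 2) (g : C ⟶ B) (h : Function.Surjective (g ≫ qB)) :
    Function.Surjective g := by
  obtain ⟨N, hN⟩ := art_maximalIdeal_nilpotent C
  have : IsPrecomplete (IsLocalRing.maximalIdeal C) C := isPrecomplete_of_pow_eq_bot _ N hN
  have tfae := tfae_cotangent C.res B.res C.res_surjective B.res_surjective g.toAlgHom g.res_comp
  apply (tfae.out 2 0).mp
  have hΛ : Ideal.map (algebraMap Λ B) (RingHom.ker (algebraMap Λ k)) ≤ maximalIdeal B := by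
    rw [Ideal.map_le_iff_le_comap]
    intro r hr
    rw [Ideal.mem_comap, Art.mem_maximalIdeal_iff, B.res.commutes]
    exact hr
  have hle : Ideal.map g.toAlgHom (maximalIdeal C) ≤ maximalIdeal B := by
    rw [Ideal.map_le_iff_le_comap]
    intro c hc
    rw [Ideal.mem_comap, Art.mem_maximalIdeal_iff]
    change B.res (g c) = 0
    rw [Art.res_app, ← Art.mem_maximalIdeal_iff]
    exact hc
  have hsq : maximalIdeal B ^ 2 ≤ maximalIdeal B := Ideal.pow_le_self (by norm_num)
  apply le_antisymm (sup_le (sup_le hΛ hle) hsq)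
  intro b hb
  obtain ⟨c, hc⟩ := h (qB b)
  have hc' : qB (g c) = qB b := hc
  have hcm : c ∈ maximalIdeal C := by
    rw [Art.mem_maximalIdeal_iff, ← Art.res_app g, ← Art.res_app qB, hc', Art.res_app,
      ← Art.mem_maximalIdeal_iff]
    exact hb
  have hker : b - g c ∈ RingHom.ker qB.toAlgHom := by
    rw [RingHom.mem_ker, map_sub]
    change qB b - qB (g c) = 0
    rw [hc', sub_self]
  rw [hkB] at hker
  have hb' : b = g c + (b - g c) := by ring
  rw [hb']
  obtain ⟨y, hy, z, hz, hyz⟩ := Submodule.mem_sup.mp hker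
  rw [← hyz]
  have h1 : g c ∈ Ideal.map g.toAlgHom (maximalIdeal C) := Ideal.mem_map_of_mem _ hcm
  have e : g c + (y + z) = (y + g c) + z := by ring
  rw [e]
  exact Ideal.add_mem _ (Ideal.mem_sup_left (Ideal.add_mem _ (Ideal.mem_sup_left hy)
    (Ideal.mem_sup_right h1))) (Ideal.mem_sup_right hz)

/-- Essential surjection. -/
def IsEssential {A B : Art Λ k} (f : B ⟶ A) : Prop :=
  Function.Surjective f ∧ ∀ (C : Art Λ k) (g : C ⟶ B), Function.Surjective (g ≫ f) → Function.Surjective g

theorem isEssential_iff_relCotangent_quot {A B A' B' : Art Λ k} (f : B ⟶ A)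
    (qB : B ⟶ B') (hqB : Function.Surjective qB)
    (hkB : RingHom.ker qB.toAlgHom = Ideal.map (algebraMap Λ B) (RingHom.ker (algebraMap Λ k)) ⊔ IsLocalRing.maximalIdeal B ^ 2)
    (qA : A ⟶ A') (hqA : Function.Surjective qA)
    (hkA : RingHom.ker qA.toAlgHom = Ideal.map (algebraMap Λ A) (RingHom.ker (algebraMap Λ k)) ⊔ IsLocalRing.maximalIdeal A ^ 2)
    (f' : B' ⟶ A') (hf' : qB ≫ f' = f ≫ qA) :
    IsEssential f ↔ IsEssential f' := by
  constructor
  · rintro ⟨hf, hess⟩
    have hf's : Function.Surjective f' := by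
      have h1 : Function.Surjective (qB ≫ f') := by
        rw [hf']
        exact hqA.comp hf
      exact Function.Surjective.of_comp (g := qB) h1
    refine ⟨hf's, ?_⟩
    intro C g hg
    obtain ⟨P, π₁, π₂, hP⟩ := exists_isFibreProd g qB hqB
    have hπ₁ : Function.Surjective π₁ := by
      intro c
      obtain ⟨b, hb⟩ := hqB (g c)
      obtain ⟨p, hp, _⟩ := hP.surj c b hb.symm
      exact ⟨p, hp⟩
    have h1 : Function.Surjective ((π₂ ≫ f) ≫ qA) := by
      rw [Category.assoc, ← hf', ← Category.assoc, ← hP.w, Category.assoc]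
      exact (hg.comp hπ₁)
    have h2 : Function.Surjective (π₂ ≫ f) := surjective_of_comp_quot qA hkA _ h1
    have h3 : Function.Surjective π₂ := hess P π₂ h2
    have h4 : Function.Surjective (π₁ ≫ g) := by
      rw [hP.w]
      exact hqB.comp h3
    exact Function.Surjective.of_comp (g := π₁) h4
  · rintro ⟨hf's, hess⟩
    have hfs : Function.Surjective f := by
      apply surjective_of_comp_quot qA hkA
      rw [← hf']
      exact hf's.comp hqB
    refine ⟨hfs, ?_⟩
    intro C g hg
    apply surjective_of_comp_quot qB hkB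
    apply hess
    rw [Category.assoc, hf', ← Category.assoc]
    exact hqA.comp hg

end

end Groth.Agent.Lib.helper19
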