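import Mathlib
import Groth.Prelude.Def_ArtFun5
import Groth.Prelude.Def_CAlgX
import Groth.Agent.Lib.helper19.ArtMinVersal
import Groth.Agent.Lib.helper19.ArtVersal2
import Groth.Agent.Lib.helper19.ArtFinite

set_option autoImplicit false
universe u v
open CategoryTheory IsLocalRing

namespace Groth.Agent.Lib.helper19

section
variable {Λ : Type u} {k : Type u} [CommRing Λ] [Field k] [Algebra Λ k]
  [IsNoetherianRing Λ] [Module.Finite Λ k]
open ArtFun ArtFun.Art

/-- A surjective ring hom with square-zero kernel is a local hom. -/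
theorem isLocalHom_of_surjective_of_ker_sq {P T : Type u} [CommRing P] [CommRing T]
    (f : P →+* T) (hf : Function.Surjective f)
    (hK : ∀ x y : P, f x = 0 → f y = 0 → x * y = 0) : IsLocalHom f := by
  refine ⟨fun a ha => ?_⟩
  obtain ⟨t', ht'⟩ := ha.exists_right_inv
  obtain ⟨b, rfl⟩ := hf t'
  have hκ : f (a * b - 1) = 0 := by rw [map_sub, map_mul, ht', map_one, sub_self]
  have hnil : IsNilpotent (a * b - 1) := ⟨2, by rw [pow_two]; exact hK _ _ hκ hκ⟩
  have hu : IsUnit (a * b) := by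
    have := hnil.isUnit_add_one
    rwa [sub_add_cancel] at this
  exact isUnit_of_mul_isUnit_left hu

/-- Square-zero thickenings of Artinian local rings which are Noetherian are Artinian local. -/
theorem isArtinian_local_of_sqZero_ext {P T : Type u} [CommRing P] [CommRing T] [IsNoetherianRing P]
    [IsLocalRing T] [IsArtinianRing T]
    (f : P →+* T) (hf : Function.Surjective f)
    (hK : ∀ x y : P, f x = 0 → f y = 0 → x * y = 0) :
    ∃ _ : IsLocalRing P, IsArtinianRing P := by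
  haveI := isLocalHom_of_surjective_of_ker_sq f hf hK
  haveI hloc : IsLocalRing P := f.domain_isLocalRing
  refine ⟨hloc, ?_⟩
  rw [isArtinianRing_iff_isNilpotent_maximalIdeal]
  obtain ⟨N, hN⟩ := IsArtinianRing.isNilpotent_jacobson_bot (R := T)
  rw [IsLocalRing.jacobson_eq_maximalIdeal ⊥ bot_ne_top] at hN
  have h1 : Ideal.map f (maximalIdeal P) ≤ maximalIdeal T := by
    rw [Ideal.map_le_iff_le_comap]
    intro x hx
    rw [Ideal.mem_comap, IsLocalRing.mem_maximalIdeal, mem_nonunits_iff]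
    intro hu
    exact (IsLocalRing.mem_maximalIdeal x).1 hx (isUnit_of_map_unit f x hu)
  have h2 : maximalIdeal P ^ N ≤ RingHom.ker f := by
    intro x hx
    rw [RingHom.mem_ker]
    have h3 : f x ∈ Ideal.map f (maximalIdeal P ^ N) := Ideal.mem_map_of_mem f hx
    rw [Ideal.map_pow] at h3
    have h4 := Ideal.pow_right_mono h1 N h3
    rw [hN] at h4
    exact h4
  refine ⟨N * 2, ?_⟩
  rw [pow_mul, Ideal.zero_eq_bot, eq_bot_iff, pow_two, Ideal.mul_le]
  intro x hx y hy
  rw [Submodule.mem_bot]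
  exact hK x y (h2 hx) (h2 hy)

end

end Groth.Agent.Lib.helper19

namespace Groth.Agent.Lib.helper19

section
variable {Λ : Type u} {k : Type u} [CommRing Λ] [Field k] [Algebra Λ k]
  [IsNoetherianRing Λ] [Module.Finite Λ k]
open ArtFun ArtFun.Art

theorem isAdicFormallySmooth_of_isSmoothFunctor (R : CRing Λ k)
    (hsm : IsSmoothFunctor (hR R.carrier R.res)) :
    CAlgX.IsAdicFormallySmooth Λ R.carrier (maximalIdeal R.carrier) := by
  intro A _ _ J hJ ψ ⟨k₀, hk₀⟩
  have hkill : ∀ a ∈ R.mpow k₀, ψ a = 0 :=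
    fun a ha => hk₀ a (Ideal.pow_le_pow_right (Nat.le_succ _) ha)
  let T : Art Λ k := R.trunc k₀
  let ψ' : T.carrier →ₐ[Λ] A ⧸ J := Ideal.Quotient.liftₐ (R.mpow k₀) ψ hkill
  have hψ' : ∀ r : R.carrier, ψ' (Ideal.Quotient.mk (R.mpow k₀) r) = ψ r := fun r => rfl
  have hfl : IsFiniteLength Λ T := art_isFiniteLength T
  have hnoeth : IsNoetherian Λ T := (isFiniteLength_iff_isNoetherian_isArtinian.mp hfl).1
  have hfin : Module.Finite Λ T := inferInstance
  obtain ⟨s, hs⟩ := hfin.fg_top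
  let lift : T → A := fun t => Function.surjInv Ideal.Quotient.mk_surjective (ψ' t)
  have hlift : ∀ t, Ideal.Quotient.mk J (lift t) = ψ' t := fun t => Function.surjInv_eq _ _
  let S : Set (A × T) := (fun t => (lift t, t)) '' (s : Set T)
  let P : Subalgebra Λ (A × T) := Algebra.adjoin Λ S
  let E : Subalgebra Λ (A × T) := AlgHom.equalizer
    ((Ideal.Quotient.mkₐ Λ J).comp (AlgHom.fst Λ A T)) (ψ'.comp (AlgHom.snd Λ A T))
  have hPE : P ≤ E := by
    apply Algebra.adjoin_le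
    rintro _ ⟨t, _, rfl⟩
    exact hlift t
  have F1 : ∀ p : P, Ideal.Quotient.mk J p.1.1 = ψ' p.1.2 := fun p => hPE p.2
  let pr₂ : P →ₐ[Λ] T := (AlgHom.snd Λ A T).comp P.val
  have hpr₂ : ∀ p : P, pr₂ p = p.1.2 := fun p => rfl
  have hsurj : Function.Surjective pr₂ := by
    intro t
    have ht : t ∈ Submodule.span Λ (s : Set T) := by rw [hs]; trivial
    induction ht using Submodule.span_induction with
    | mem t ht => exact ⟨⟨(lift t, t), Algebra.subset_adjoin ⟨t, ht, rfl⟩⟩, rfl⟩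
    | zero => exact ⟨0, map_zero _⟩
    | add a b _ _ ha hb =>
      obtain ⟨p, hp⟩ := ha
      obtain ⟨q, hq⟩ := hb
      exact ⟨p + q, by rw [map_add, hp, hq]⟩
    | smul l a _ ha =>
      obtain ⟨p, hp⟩ := ha
      exact ⟨l • p, by rw [map_smul, hp]⟩
  have hK : ∀ x y : P, pr₂.toRingHom x = 0 → pr₂.toRingHom y = 0 → x * y = 0 := by
    intro x y hx hy
    have hx2 : x.1.2 = 0 := hx
    have hy2 : y.1.2 = 0 := hy
    have hxJ : x.1.1 ∈ J := by
      rw [← Ideal.Quotient.eq_zero_iff_mem, F1 x, hx2, map_zero]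
    have hyJ : y.1.1 ∈ J := by
      rw [← Ideal.Quotient.eq_zero_iff_mem, F1 y, hy2, map_zero]
    apply Subtype.ext
    apply Prod.ext
    · change x.1.1 * y.1.1 = 0
      have : x.1.1 * y.1.1 ∈ J ^ 2 := by rw [pow_two]; exact Ideal.mul_mem_mul hxJ hyJ
      rw [hJ] at this
      exact this
    · change x.1.2 * y.1.2 = 0
      rw [hx2, zero_mul]
  have hSfin : S.Finite := (s.finite_toSet).image _
  have hPfg : P.FG := Subalgebra.fg_def.mpr ⟨S, hSfin, rfl⟩
  haveI hft : Algebra.FiniteType Λ P := (Subalgebra.fg_iff_finiteType P).mp hPfg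
  haveI hPnoeth : IsNoetherianRing P := Algebra.FiniteType.isNoetherianRing Λ P
  obtain ⟨hloc, hart⟩ := isArtinian_local_of_sqZero_ext pr₂.toRingHom hsurj hK
  let PArt : Art Λ k :=
    { carrier := P
      isLocalRing := hloc
      isArtinianRing := hart
      res := T.res.comp pr₂
      res_surjective := T.res_surjective.comp hsurj }
  let μ : PArt ⟶ T := ⟨pr₂, rfl⟩
  obtain ⟨ψ₂, hψ₂⟩ := hsm μ hsurj (R.truncHom k₀)
  have hψ₂' : HomSet.map μ ψ₂ = R.truncHom k₀ := hψ₂
  refine ⟨(AlgHom.fst Λ A T).comp (P.val.comp ψ₂.1), ?_⟩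
  apply AlgHom.ext
  intro r
  change Ideal.Quotient.mk J ((ψ₂.1 r).1.1) = ψ r
  rw [F1, ← hψ']
  congr 1
  exact congrArg (fun w => w.1 r) hψ₂'

end

end Groth.Agent.Lib.helper19

namespace Groth.Agent.Lib.helper19

section
variable {Λ : Type u} {k : Type u} [CommRing Λ] [Field k] [Algebra Λ k]
  [IsNoetherianRing Λ] [Module.Finite Λ k]
open ArtFun ArtFun.Art

theorem isSmoothFunctor_of_isAdicFormallySmooth (R : CRing Λ k)
    (hfs : CAlgX.IsAdicFormallySmooth Λ R.carrier (maximalIdeal R.carrier)) :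
    IsSmoothFunctor (hR R.carrier R.res) := by
  intro B A μ hμ
  have key : ∀ φ : HomSet R.carrier R.res A, ∃ ψ : HomSet R.carrier R.res B, HomSet.map μ ψ = φ := by
    refine art_surjective_induction
      (fun A B μ => ∀ φ : HomSet R.carrier R.res A, ∃ ψ : HomSet R.carrier R.res B,
        HomSet.map μ ψ = φ) ?_ ?_ ?_ μ hμ
    · intro A B e he φ
      exact ⟨HomSet.map (inv e) φ, by rw [← HomSet.map_comp, IsIso.inv_hom_id, HomSet.map_id]⟩
    · intro A B p hp φ
      obtain ⟨hsurj, _, _, hkill⟩ := hp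
      set J := RingHom.ker p.toAlgHom with hJdef
      have hJ2 : J ^ 2 = ⊥ := by
        rw [eq_bot_iff, pow_two, ← hkill]
        exact Ideal.mul_mono_left (art_ker_le_maximalIdeal p)
      let e : (B ⧸ J) ≃ₐ[Λ] A := Ideal.quotientKerAlgEquivOfSurjective hsurj
      have he : ∀ b : B, e (Ideal.Quotient.mk J b) = p b := fun b => rfl
      let ψ₀ : R.carrier →ₐ[Λ] B ⧸ J := (e.symm : A →ₐ[Λ] B ⧸ J).comp φ.1
      obtain ⟨N, hN⟩ := art_maximalIdeal_nilpotent A
      have hN' : maximalIdeal A ^ (N + 1) = ⊥ := by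
        rw [eq_bot_iff, ← hN]
        exact Ideal.pow_le_pow_right N.le_succ
      have hv := HomSet.vanish_mpow φ N hN'
      obtain ⟨χ, hχ⟩ := hfs B J hJ2 ψ₀ ⟨N + 1, fun x hx => by
        change e.symm (φ.1 x) = 0
        rw [hv x hx, map_zero]⟩
      have hpχ : p.toAlgHom.comp χ = φ.1 := by
        apply AlgHom.ext
        intro r
        have h1 : Ideal.Quotient.mk J (χ r) = e.symm (φ.1 r) := DFunLike.congr_fun hχ r
        change p (χ r) = φ.1 r
        rw [← he, h1, AlgEquiv.apply_symm_apply]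
      refine ⟨⟨χ, ?_⟩, Subtype.ext hpχ⟩
      rw [← φ.2, ← hpχ, ← AlgHom.comp_assoc, p.res_comp]
    · intro A B C p q hp hq φ
      obtain ⟨ψB, hψB⟩ := hq φ
      obtain ⟨ψ, hψ⟩ := hp ψB
      exact ⟨ψ, by rw [HomSet.map_comp, hψ, hψB]⟩
  intro φ
  obtain ⟨ψ, hψ⟩ := key φ
  exact ⟨ψ, hψ⟩

theorem isSmoothFunctor_hR_iff_isAdicFormallySmooth (R : CRing Λ k) :
    IsSmoothFunctor (hR R.carrier R.res) ↔
      CAlgX.IsAdicFormallySmooth Λ R.carrier (maximalIdeal R.carrier) :=
  ⟨isAdicFormallySmooth_of_isSmoothFunctor R, isSmoothFunctor_of_isAdicFormallySmooth R⟩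

theorem isSmoothFunctor_iff_hR_of_isVersal {F : Art Λ k ⥤ Type v} (h0 : H0 F)
    (R : CRing Λ k) (ξ : Family R.carrier R.res F) (hξ : IsVersal ξ) :
    IsSmoothFunctor F ↔ IsSmoothFunctor (hR R.carrier R.res) := by
  constructor
  · intro hF B A μ hμ φ
    obtain ⟨y, hy⟩ := hF μ hμ (ξ.app A φ)
    obtain ⟨ψ, hψ, _⟩ := hξ μ hμ φ y hy
    exact ⟨ψ, hψ⟩
  · intro hR' B A μ hμ x
    obtain ⟨φ, hφ⟩ := IsVersal.app_surjective h0 ξ hξ A x
    obtain ⟨ψ, hψ⟩ := hR' μ hμ φ
    have hψ' : HomSet.map μ ψ = φ := hψ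
    exact ⟨ξ.app B ψ, by rw [← ξ.natural, hψ', hφ]⟩

end

end Groth.Agent.Lib.helper19
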