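import Mathlib
import Groth.Prelude.Def_ArtFun2
import Groth.Agent.Lib.helper19.ArtDefFun

set_option autoImplicit false
universe u v w
open CategoryTheory CategoryTheory.Limits

namespace Groth.Agent.Lib.helper19

section FunPullback
variable {C : Type w} [Category.{u} C] {F G H : C ⥤ Type v} (f : H ⟶ F) (g : G ⟶ F)

theorem funPullback_isPullback (A : C) :
    IsPullback ((pullback.fst f g).app A) ((pullback.snd f g).app A) (f.app A) (g.app A) :=
  (IsPullback.of_hasPullback f g).map ((evaluation C (Type v)).obj A)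

theorem funPullback_ext (A : C) (z z' : (pullback f g).obj A)
    (h1 : (pullback.fst f g).app A z = (pullback.fst f g).app A z')
    (h2 : (pullback.snd f g).app A z = (pullback.snd f g).app A z') : z = z' :=
  Types.ext_of_isPullback (funPullback_isPullback f g A) h1 h2

theorem funPullback_exists (A : C) (x : H.obj A) (y : G.obj A) (e : f.app A x = g.app A y) :
    ∃ z : (pullback f g).obj A, (pullback.fst f g).app A z = x ∧ (pullback.snd f g).app A z = y :=
  Types.exists_of_isPullback (funPullback_isPullback f g A) x y e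

theorem funPullback_condition (A : C) (z : (pullback f g).obj A) :
    f.app A ((pullback.fst f g).app A z) = g.app A ((pullback.snd f g).app A z) := by
  have := congrArg (fun η => η.app A z) (pullback.condition (f := f) (g := g))
  exact this

end FunPullback

end Groth.Agent.Lib.helper19

namespace Groth.Agent.Lib.helper19

section
variable {Λ : Type u} {k : Type u} [CommRing Λ] [Field k] [Algebra Λ k]
  [IsNoetherianRing Λ] [Module.Finite Λ k]
open ArtFun ArtFun.Art

theorem rs_pullback {F G H : Art Λ k ⥤ Type v} (f : H ⟶ F) (g : G ⟶ F)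
    (hF : RS F) (hG : RS G) (hH : RS H) : RS (pullback f g) := by
  intro B A A' A'' p' p'' f' f'' h hs
  set K := pullback f g with hK
  set π₁ := pullback.fst f g with hπ₁
  set π₂ := pullback.snd f g with hπ₂
  constructor
  · intro z z' hzz
    have e1 : K.map p' z = K.map p' z' := congrArg (fun t => t.1.1) hzz
    have e2 : K.map p'' z = K.map p'' z' := congrArg (fun t => t.1.2) hzz
    apply funPullback_ext f g B
    · apply (hH p' p'' f' f'' h hs).1
      apply FibProd.ext
      · change H.map p' (π₁.app B z) = H.map p' (π₁.app B z')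
        rw [← NatTrans.naturality_apply π₁ p' z, ← NatTrans.naturality_apply π₁ p' z', e1]
      · change H.map p'' (π₁.app B z) = H.map p'' (π₁.app B z')
        rw [← NatTrans.naturality_apply π₁ p'' z, ← NatTrans.naturality_apply π₁ p'' z', e2]
    · apply (hG p' p'' f' f'' h hs).1
      apply FibProd.ext
      · change G.map p' (π₂.app B z) = G.map p' (π₂.app B z')
        rw [← NatTrans.naturality_apply π₂ p' z, ← NatTrans.naturality_apply π₂ p' z', e1]
      · change G.map p'' (π₂.app B z) = G.map p'' (π₂.app B z')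
        rw [← NatTrans.naturality_apply π₂ p'' z, ← NatTrans.naturality_apply π₂ p'' z', e2]
  · rintro ⟨⟨x', x''⟩, hx⟩
    have hx' : K.map f' x' = K.map f'' x'' := hx
    obtain ⟨hB, hhB⟩ := (hH p' p'' f' f'' h hs).2 ⟨(π₁.app A' x', π₁.app A'' x''), by
      change H.map f' (π₁.app A' x') = H.map f'' (π₁.app A'' x'')
      rw [← NatTrans.naturality_apply π₁ f' x', ← NatTrans.naturality_apply π₁ f'' x'', hx']⟩
    have hhB1 : H.map p' hB = π₁.app A' x' := congrArg (fun t => t.1.1) hhB
    have hhB2 : H.map p'' hB = π₁.app A'' x'' := congrArg (fun t => t.1.2) hhB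
    obtain ⟨gB, hgB⟩ := (hG p' p'' f' f'' h hs).2 ⟨(π₂.app A' x', π₂.app A'' x''), by
      change G.map f' (π₂.app A' x') = G.map f'' (π₂.app A'' x'')
      rw [← NatTrans.naturality_apply π₂ f' x', ← NatTrans.naturality_apply π₂ f'' x'', hx']⟩
    have hgB1 : G.map p' gB = π₂.app A' x' := congrArg (fun t => t.1.1) hgB
    have hgB2 : G.map p'' gB = π₂.app A'' x'' := congrArg (fun t => t.1.2) hgB
    have hfg : f.app B hB = g.app B gB := by
      apply (hF p' p'' f' f'' h hs).1
      apply FibProd.ext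
      · change F.map p' (f.app B hB) = F.map p' (g.app B gB)
        rw [← NatTrans.naturality_apply f p' hB, ← NatTrans.naturality_apply g p' gB, hhB1, hgB1]
        exact funPullback_condition f g A' x'
      · change F.map p'' (f.app B hB) = F.map p'' (g.app B gB)
        rw [← NatTrans.naturality_apply f p'' hB, ← NatTrans.naturality_apply g p'' gB, hhB2, hgB2]
        exact funPullback_condition f g A'' x''
    obtain ⟨z, hz1, hz2⟩ := funPullback_exists f g B hB gB hfg
    refine ⟨z, ?_⟩
    apply FibProd.ext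
    · change K.map p' z = x'
      apply funPullback_ext f g A'
      · rw [NatTrans.naturality_apply π₁ p' z, hz1, hhB1]
      · rw [NatTrans.naturality_apply π₂ p' z, hz2, hgB1]
    · change K.map p'' z = x''
      apply funPullback_ext f g A''
      · rw [NatTrans.naturality_apply π₁ p'' z, hz1, hhB2]
      · rw [NatTrans.naturality_apply π₂ p'' z, hz2, hgB2]

end

end Groth.Agent.Lib.helper19

namespace Groth.Agent.Lib.helper19

section
variable {Λ : Type u} {k : Type u} [CommRing Λ] [Field k] [Algebra Λ k]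
  [IsNoetherianRing Λ] [Module.Finite Λ k]
open ArtFun ArtFun.Art

/-- relative injectivity along a small extension -/
theorem injective_rel_of_small {F G : Art Λ k ⥤ Type v}
    (hF : RS F) (hG : RS G) (φ : F ⟶ G)
    (hd : Function.Injective (TangentSpace.map φ))
    {A' A : Art Λ k} (μ : A' ⟶ A) (hμ : IsSmallExt μ)
    (x' y' : F.obj A') (hμxy : F.map μ x' = F.map μ y') (hxy : φ.app A' x' = φ.app A' y') :
    x' = y' := by
  obtain ⟨P, p₁, p₂, hP⟩ := exists_isFibreProd μ μ hμ.1
  obtain ⟨δ, Δ, hsq, hΔ1, hΔ2, hΔδ⟩ := exists_torsor_square μ hμ p₁ p₂ hP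
  obtain ⟨z, hz⟩ := (hF p₁ p₂ μ μ hP hμ.1).2 ⟨(x', y'), hμxy⟩
  have hz1 : F.map p₁ z = x' := congrArg (fun t => t.1.1) hz
  have hz2 : F.map p₂ z = y' := congrArg (fun t => t.1.2) hz
  have hφz : φ.app P z = G.map Δ (φ.app A' x') := by
    apply (hG p₁ p₂ μ μ hP hμ.1).1
    apply FibProd.ext
    · change G.map p₁ (φ.app P z) = G.map p₁ (G.map Δ (φ.app A' x'))
      rw [← NatTrans.naturality_apply φ p₁ z, hz1, ← Functor.map_comp_apply, hΔ1,
        Functor.map_id_apply]
    · change G.map p₂ (φ.app P z) = G.map p₂ (G.map Δ (φ.app A' x'))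
      rw [← NatTrans.naturality_apply φ p₂ z, hz2, ← Functor.map_comp_apply, hΔ2,
        Functor.map_id_apply, hxy]
  have hv : F.map δ z = F.map δ (F.map Δ x') := by
    apply hd
    change φ.app (dual Λ k) (F.map δ z) = φ.app (dual Λ k) (F.map δ (F.map Δ x'))
    rw [NatTrans.naturality_apply φ δ z, hφz, NatTrans.naturality_apply φ δ (F.map Δ x'),
      NatTrans.naturality_apply φ Δ x']
  have hzz : z = F.map Δ x' := by
    apply (hF p₁ δ (toBase A') (toBase (dual Λ k)) hsq (toBase_surjective _)).1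
    apply FibProd.ext
    · change F.map p₁ z = F.map p₁ (F.map Δ x')
      rw [hz1, ← Functor.map_comp_apply, hΔ1, Functor.map_id_apply]
    · exact hv
  rw [← hz2, hzz, ← Functor.map_comp_apply, hΔ2, Functor.map_id_apply]

/-- relative injectivity along any surjection -/
theorem injective_rel {F G : Art Λ k ⥤ Type v}
    (hF : RS F) (hG : RS G) (φ : F ⟶ G)
    (hd : Function.Injective (TangentSpace.map φ))
    {B A : Art Λ k} (μ : B ⟶ A) (hμ : Function.Surjective μ)
    (x y : F.obj B) (hμxy : F.map μ x = F.map μ y) (hxy : φ.app B x = φ.app B y) : x = y := by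
  have := art_surjective_induction
    (fun A₁ A₂ f => ∀ x y : F.obj A₂, F.map f x = F.map f y → φ.app A₂ x = φ.app A₂ y → x = y)
    (fun A₁ A₂ e he x y h1 _ => by
      have := congrArg (F.map (inv e)) h1
      rwa [← Functor.map_comp_apply, ← Functor.map_comp_apply, IsIso.hom_inv_id,
        Functor.map_id_apply, Functor.map_id_apply] at this)
    (fun A₁ A₂ p hp x y h1 h2 => injective_rel_of_small hF hG φ hd p hp x y h1 h2)
    (fun A₁ A₂ A₃ p q hp hq x y h1 h2 => by
      apply hp x y _ h2
      apply hq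
      · rw [← Functor.map_comp_apply, ← Functor.map_comp_apply, h1]
      · rw [NatTrans.naturality_apply φ p x, NatTrans.naturality_apply φ p y, h2])
    μ hμ
  exact this x y hμxy hxy

theorem isSmooth_pullback_map_of_tangent_injective
    {F G H₁ H₂ : Art Λ k ⥤ Type v} (p₁ : H₁ ⟶ G) (p₂ : H₂ ⟶ G) (q : G ⟶ F)
    (hF : RS F) (hG : RS G)
    (hq : Function.Injective (TangentSpace.map q)) :
    IsSmooth (pullback.map p₁ p₂ (p₁ ≫ q) (p₂ ≫ q) (𝟙 H₁) (𝟙 H₂) q
      (Category.id_comp _).symm (Category.id_comp _).symm) := by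
  intro B A μ hμ
  set Φ := pullback.map p₁ p₂ (p₁ ≫ q) (p₂ ≫ q) (𝟙 H₁) (𝟙 H₂) q
      (Category.id_comp _).symm (Category.id_comp _).symm with hΦ
  have hΦ1 : ∀ (C : Art Λ k) (z : (pullback p₁ p₂).obj C),
      (pullback.fst (p₁ ≫ q) (p₂ ≫ q)).app C (Φ.app C z) = (pullback.fst p₁ p₂).app C z := by
    intro C z
    have h : Φ ≫ pullback.fst (p₁ ≫ q) (p₂ ≫ q) = pullback.fst p₁ p₂ ≫ 𝟙 H₁ :=
      pullback.lift_fst _ _ _
    rw [Category.comp_id] at h
    have := congrArg (fun η => η.app C z) h
    exact this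
  have hΦ2 : ∀ (C : Art Λ k) (z : (pullback p₁ p₂).obj C),
      (pullback.snd (p₁ ≫ q) (p₂ ≫ q)).app C (Φ.app C z) = (pullback.snd p₁ p₂).app C z := by
    intro C z
    have h : Φ ≫ pullback.snd (p₁ ≫ q) (p₂ ≫ q) = pullback.snd p₁ p₂ ≫ 𝟙 H₂ :=
      pullback.lift_snd _ _ _
    rw [Category.comp_id] at h
    have := congrArg (fun η => η.app C z) h
    exact this
  rintro ⟨⟨x, y⟩, hxy⟩
  have hxy' : Φ.app A x = (pullback (p₁ ≫ q) (p₂ ≫ q)).map μ y := hxy
  set h₁ := (pullback.fst (p₁ ≫ q) (p₂ ≫ q)).app B y with hh₁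
  set h₂ := (pullback.snd (p₁ ≫ q) (p₂ ≫ q)).app B y with hh₂
  have hcond : q.app B (p₁.app B h₁) = q.app B (p₂.app B h₂) :=
    funPullback_condition (p₁ ≫ q) (p₂ ≫ q) B y
  have hA1 : H₁.map μ h₁ = (pullback.fst p₁ p₂).app A x := by
    rw [hh₁, ← NatTrans.naturality_apply (pullback.fst (p₁ ≫ q) (p₂ ≫ q)) μ y, ← hxy', hΦ1]
  have hA2 : H₂.map μ h₂ = (pullback.snd p₁ p₂).app A x := by
    rw [hh₂, ← NatTrans.naturality_apply (pullback.snd (p₁ ≫ q) (p₂ ≫ q)) μ y, ← hxy', hΦ2]
  have hG12 : p₁.app B h₁ = p₂.app B h₂ := by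
    apply injective_rel hG hF q hq μ hμ _ _ _ hcond
    rw [← NatTrans.naturality_apply p₁ μ h₁, ← NatTrans.naturality_apply p₂ μ h₂, hA1, hA2]
    exact funPullback_condition p₁ p₂ A x
  obtain ⟨z, hz1, hz2⟩ := funPullback_exists p₁ p₂ B h₁ h₂ hG12
  refine ⟨z, ?_⟩
  apply Subtype.ext
  apply Prod.ext
  · change (pullback p₁ p₂).map μ z = x
    apply funPullback_ext p₁ p₂ A
    · rw [NatTrans.naturality_apply (pullback.fst p₁ p₂) μ z, hz1, hA1]
    · rw [NatTrans.naturality_apply (pullback.snd p₁ p₂) μ z, hz2, hA2]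
  · change Φ.app B z = y
    apply funPullback_ext (p₁ ≫ q) (p₂ ≫ q) B
    · rw [hΦ1, hz1]
    · rw [hΦ2, hz2]

end

end Groth.Agent.Lib.helper19
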