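import Mathlib
import Groth.Prelude.Def_ArtFun2
import Groth.Agent.Lib.helper19.ArtCmp
import Groth.Agent.Lib.helper19.ArtTorsor
import Groth.Agent.S12711

set_option autoImplicit false
universe u v
open CategoryTheory IsLocalRing

namespace Groth.Agent.Lib.helper19

section
variable {Λ : Type u} {k : Type u} [CommRing Λ] [Field k] [Algebra Λ k]
  [IsNoetherianRing Λ] [Module.Finite Λ k]
open ArtFun ArtFun.Art

theorem injOver_small_of_hbar_heps_hsq (F : Art Λ k ⥤ Type v) (h1 : Hbar F) (h2 : Heps F)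
    (h4 : HSq F) ⦃A'' A : Art Λ k⦄ (f'' : A'' ⟶ A) (hf'' : IsSmallExt f'') : InjOver F f'' := by
  intro B A' p' p'' f' h z z' hzz
  have e1 : F.map p' z = F.map p' z' := congrArg (fun t => t.1.1) hzz
  have e2 : F.map p'' z = F.map p'' z' := congrArg (fun t => t.1.2) hzz
  have hp' : IsSmallExt p' := Groth.Agent.S12711.result h hf''
  obtain ⟨PB, r₁, r₂, hPB⟩ := exists_isFibreProd p' p' hp'.1
  obtain ⟨P'', s₁, s₂, hP''⟩ := exists_isFibreProd f'' f'' hf''.1
  obtain ⟨δ'', Δ'', hsq'', hΔ''1, hΔ''2, hΔ''δ⟩ := exists_torsor_square f'' hf'' s₁ s₂ hP''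
  obtain ⟨w, hw⟩ := h1 r₁ r₂ p' p' hPB hp' ⟨(z, z'), e1⟩
  have hw1 : F.map r₁ w = z := congrArg (fun t => t.1.1) hw
  have hw2 : F.map r₂ w = z' := congrArg (fun t => t.1.2) hw
  obtain ⟨c, hc1, hc2⟩ := IsFibreProd.exists_lift hP'' (r₁ ≫ p'') (r₂ ≫ p'') (by
    rw [Category.assoc, Category.assoc, ← h.w, ← Category.assoc, ← Category.assoc, hPB.w])
  obtain ⟨ΔB, hΔB1, hΔB2⟩ := IsFibreProd.exists_lift hPB (𝟙 B) (𝟙 B) rfl
  have hc1' : ∀ u : PB, s₁ (c u) = p'' (r₁ u) := fun u => by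
    change (c ≫ s₁) u = _
    rw [hc1]; rfl
  have hc2' : ∀ u : PB, s₂ (c u) = p'' (r₂ u) := fun u => by
    change (c ≫ s₂) u = _
    rw [hc2]; rfl
  have hsqB : IsFibreProd r₁ (c ≫ δ'') (toBase B) (toBase (dual Λ k)) := by
    refine ⟨?_, ?_, ?_⟩
    · rw [eq_toBase (r₁ ≫ toBase B), eq_toBase ((c ≫ δ'') ≫ toBase _)]
    · intro u₁ u₂ a1 a2
      apply hPB.inj _ _ a1
      have a2' : δ'' (c u₁) = δ'' (c u₂) := a2
      have hcu : c u₁ = c u₂ := by
        apply hsq''.inj _ _ _ a2'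
        rw [hc1', hc1', a1]
      apply h.inj
      · rw [← hPB.w_apply, ← hPB.w_apply, a1]
      · rw [← hc2', ← hc2', hcu]
    · intro b e hbe
      have hbe' : B.res b = (dual Λ k).res e := hbe
      obtain ⟨v, hv1, hv2⟩ := hsq''.surj (p'' b) e (by
        change A''.res (p'' b) = (dual Λ k).res e
        rw [Art.res_app, hbe'])
      have hf : f' (p' b) = f'' (s₂ v) := by
        rw [h.w_apply, ← hv1, hP''.w_apply]
      obtain ⟨b₂, hb₂1, hb₂2⟩ := h.surj (p' b) (s₂ v) hf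
      obtain ⟨u, hu1, hu2⟩ := hPB.surj b b₂ hb₂1.symm
      refine ⟨u, hu1, ?_⟩
      have hcu : c u = v := by
        apply hP''.inj
        · rw [hc1', hu1, hv1]
        · rw [hc2', hu2, hb₂2]
      change δ'' (c u) = e
      rw [hcu, hv2]
  have hcw : F.map c w = F.map Δ'' (F.map p'' z) := by
    apply (h4 s₁ s₂ f'' hP'' hf'').1
    apply FibProd.ext
    · change F.map s₁ (F.map c w) = F.map s₁ (F.map Δ'' (F.map p'' z))
      rw [← Functor.map_comp_apply F c s₁, hc1, Functor.map_comp_apply, hw1,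
        ← Functor.map_comp_apply F Δ'' s₁, hΔ''1, Functor.map_id_apply]
    · change F.map s₂ (F.map c w) = F.map s₂ (F.map Δ'' (F.map p'' z))
      rw [← Functor.map_comp_apply F c s₂, hc2, Functor.map_comp_apply, hw2,
        ← Functor.map_comp_apply F Δ'' s₂, hΔ''2, Functor.map_id_apply, e2]
  have hΔc : ΔB ≫ c = p'' ≫ Δ'' := by
    apply Art.hom_ext
    apply AlgHom.ext
    intro b
    apply hP''.inj
    · change s₁ (c (ΔB b)) = (Δ'' ≫ s₁) (p'' b)
      rw [hc1', hΔ''1]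
      change p'' ((ΔB ≫ r₁) b) = p'' b
      rw [hΔB1]; rfl
    · change s₂ (c (ΔB b)) = (Δ'' ≫ s₂) (p'' b)
      rw [hc2', hΔ''2]
      change p'' ((ΔB ≫ r₂) b) = p'' b
      rw [hΔB2]; rfl
  have hwz : w = F.map ΔB z := by
    apply (h2 r₁ (c ≫ δ'') hsqB).1
    apply FibProd.ext
    · change F.map r₁ w = F.map r₁ (F.map ΔB z)
      rw [hw1, ← Functor.map_comp_apply, hΔB1, Functor.map_id_apply]
    · change F.map (c ≫ δ'') w = F.map (c ≫ δ'') (F.map ΔB z)
      rw [Functor.map_comp_apply, hcw, ← Functor.map_comp_apply F ΔB, ← Category.assoc, hΔc,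
        Functor.map_comp_apply, Functor.map_comp_apply]
  rw [← hw2, hwz, ← Functor.map_comp_apply, hΔB2, Functor.map_id_apply]

theorem rs_of_hbar_heps_hsq (F : Art Λ k ⥤ Type v) (h1 : Hbar F) (h2 : Heps F) (h4 : HSq F)
    ⦃B A A' A'' : Art Λ k⦄ (p' : B ⟶ A') (p'' : B ⟶ A'') (f' : A' ⟶ A) (f'' : A'' ⟶ A)
    (h : IsFibreProd p' p'' f' f'') (hf : Function.Surjective f'') :
    Function.Bijective (cmp F h) := by
  have := bijOver_of_small F
    (fun A'' A f'' hf'' => ⟨fun B A' p' p'' f' h' => h1 p' p'' f' f'' h' hf'',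
      injOver_small_of_hbar_heps_hsq F h1 h2 h4 f'' hf''⟩) f'' hf
  exact ⟨this.2 p' p'' f' h, this.1 p' p'' f' h⟩

end

end Groth.Agent.Lib.helper19
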