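import Mathlib
import Groth.Prelude.Def_ArtFun2
import Groth.Agent.Lib.helper19.ArtDeriv
import Groth.Agent.Lib.helper19.ArtFibre
import Groth.Agent.Lib.helper19.ArtCut2

set_option autoImplicit false
universe u v
open CategoryTheory IsLocalRing TensorProduct

namespace Groth.Agent.Lib.helper19

section
variable {Λ : Type u} {k : Type u} [CommRing Λ] [Field k] [Algebra Λ k]
  [IsNoetherianRing Λ] [Module.Finite Λ k]
open ArtFun ArtFun.Art

/-- `k ⊗ Ω` is dual to the derivations into `k` -/
theorem exists_dual_kaehler_equiv (B : Type u) [CommRing B] [Algebra Λ B] [Algebra B k]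
    [IsScalarTower Λ B k] :
    Nonempty (Module.Dual k (k ⊗[B] Ω[B⁄Λ]) ≃ₗ[k] Derivation Λ B k) := by
  let e1 : (Ω[B⁄Λ] →ₗ[B] k) ≃ₗ[k] (k ⊗[B] Ω[B⁄Λ] →ₗ[k] k) := LinearMap.liftBaseChangeEquiv k
  let φ : (Ω[B⁄Λ] →ₗ[B] k) →ₗ[k] Derivation Λ B k :=
    { toFun := fun l => l.compDer (KaehlerDifferential.D Λ B)
      map_add' := fun l₁ l₂ => by ext; rfl
      map_smul' := fun c l => by ext; rfl }
  have hφ : Function.Bijective φ := (KaehlerDifferential.linearMapEquivDerivation Λ B (M := k)).bijective
  exact ⟨e1.symm.trans (LinearEquiv.ofBijective φ hφ)⟩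

end
end Groth.Agent.Lib.helper19

namespace Groth.Agent.Lib.helper19

section
variable {Λ : Type u} {k : Type u} [CommRing Λ] [Field k] [Algebra Λ k]
  [IsNoetherianRing Λ] [Module.Finite Λ k]
open ArtFun ArtFun.Art

instance art_moduleFinite (B : Art Λ k) : Module.Finite Λ B := by
  have hfl : IsFiniteLength Λ B := art_isFiniteLength B
  have hnoeth : IsNoetherian Λ B := (isFiniteLength_iff_isNoetherian_isArtinian.mp hfl).1
  infer_instance

theorem art_finrank_kaehler (B : Art Λ k) [Algebra B k] [IsScalarTower Λ B k] :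
    Module.Finite k (Derivation Λ B k) ∧
      Module.finrank k (k ⊗[B] Ω[B⁄Λ]) = Module.finrank k (Derivation Λ B k) := by
  obtain ⟨e⟩ := exists_dual_kaehler_equiv (Λ := Λ) (k := k) B
  haveI : Module.Finite k (k ⊗[B] Ω[B⁄Λ]) := inferInstance
  refine ⟨Module.Finite.equiv e, ?_⟩
  rw [← e.finrank_eq, Subspace.dual_finrank_eq]

/-- The algebra map to the dual numbers attached to a derivation. -/
noncomputable def derivToAlgHom' (B : Type u) [CommRing B] [Algebra Λ B] [Algebra B k]
    [IsScalarTower Λ B k] (res : B →ₐ[Λ] k)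
    (hB : ∀ b, algebraMap B k b = res b) (D : Derivation Λ B k) : B →ₐ[Λ] DualNumber k :=
  { toFun := fun a => TrivSqZeroExt.inl (res a) + TrivSqZeroExt.inr (D a)
    map_one' := by
      rw [D.map_one_eq_zero, map_one]
      simp
    map_mul' := fun a b => by
      rw [D.leibniz, map_mul, Algebra.smul_def, Algebra.smul_def, hB, hB]
      apply TrivSqZeroExt.ext
      · simp
      · simp [mul_comm]
    map_zero' := by
      rw [map_zero, map_zero]
      simp
    map_add' := fun a b => by
      rw [map_add, map_add]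
      apply TrivSqZeroExt.ext
      · simp
      · simp
    commutes' := fun r => by
      rw [D.map_algebraMap, res.commutes, TrivSqZeroExt.algebraMap_eq_inl']
      simp }

theorem derivToAlgHom'_fst (B : Type u) [CommRing B] [Algebra Λ B] [Algebra B k]
    [IsScalarTower Λ B k] (res : B →ₐ[Λ] k)
    (hB : ∀ b, algebraMap B k b = res b) (D : Derivation Λ B k) (a : B) :
    TrivSqZeroExt.fst (derivToAlgHom' B res hB D a) = res a := by
  change TrivSqZeroExt.fst (TrivSqZeroExt.inl (res a) + TrivSqZeroExt.inr (D a) : DualNumber k) = res a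
  simp

theorem derivToAlgHom'_snd (B : Type u) [CommRing B] [Algebra Λ B] [Algebra B k]
    [IsScalarTower Λ B k] (res : B →ₐ[Λ] k)
    (hB : ∀ b, algebraMap B k b = res b) (D : Derivation Λ B k) (a : B) :
    TrivSqZeroExt.snd (derivToAlgHom' B res hB D a) = D a := by
  change TrivSqZeroExt.snd (TrivSqZeroExt.inl (res a) + TrivSqZeroExt.inr (D a) : DualNumber k) = D a
  simp

/-- The Art morphism to the dual numbers attached to a derivation. -/
noncomputable def Art.derivToHom (B : Art Λ k) [Algebra B k] [IsScalarTower Λ B k]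
    (hB : ∀ b, algebraMap B k b = B.res b) (D : Derivation Λ B k) : B ⟶ dual Λ k :=
  let f : B →ₐ[Λ] DualNumber k := derivToAlgHom' B B.res hB D
  have hf : (TrivSqZeroExt.fstHom Λ k k).comp f = B.res :=
    AlgHom.ext fun c => derivToAlgHom'_fst B B.res hB D c
  Art.Hom.mk (A := B) (B := dual Λ k) f hf

theorem Art.derivToHom_snd (B : Art Λ k) [Algebra B k] [IsScalarTower Λ B k]
    (hB : ∀ b, algebraMap B k b = B.res b) (D : Derivation Λ B k) (a : B) :
    TrivSqZeroExt.snd (Art.derivToHom B hB D a) = D a := derivToAlgHom'_snd B B.res hB D a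

theorem Art.derivToHom_fst (B : Art Λ k) [Algebra B k] [IsScalarTower Λ B k]
    (hB : ∀ b, algebraMap B k b = B.res b) (D : Derivation Λ B k) (a : B) :
    TrivSqZeroExt.fst (Art.derivToHom B hB D a) = B.res a := derivToAlgHom'_fst B B.res hB D a

section Pull
variable {A B : Art Λ k} (f : B ⟶ A) [Algebra A k] [IsScalarTower Λ A k] [Algebra B k]
  [IsScalarTower Λ B k]
  (hA : ∀ a, algebraMap A k a = A.res a) (hB : ∀ b, algebraMap B k b = B.res b)

/-- pullback of derivations along a morphism -/
noncomputable def Art.derivPull : Derivation Λ A k →ₗ[k] Derivation Λ B k where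
  toFun D :=
    { toLinearMap := D.toLinearMap.comp f.toAlgHom.toLinearMap
      map_one_eq_zero' := by
        change D (f.toAlgHom 1) = 0
        rw [map_one, D.map_one_eq_zero]
      leibniz' := fun a b => by
        change D (f.toAlgHom (a * b)) = a • D (f.toAlgHom b) + b • D (f.toAlgHom a)
        rw [map_mul, D.leibniz, Algebra.smul_def, Algebra.smul_def, Algebra.smul_def,
          Algebra.smul_def, hA, hA, hB, hB]
        change A.res (f a) * _ + A.res (f b) * _ = _
        rw [Art.res_app, Art.res_app] }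
  map_add' := fun D₁ D₂ => by ext; rfl
  map_smul' := fun c D => by ext; rfl

theorem Art.derivPull_apply (D : Derivation Λ A k) (b : B) :
    Art.derivPull f hA hB D b = D (f b) := rfl

include hA hB in
theorem Art.derivPull_injective (hf : Function.Surjective f) :
    Function.Injective (Art.derivPull f hA hB) := by
  intro D₁ D₂ h
  ext a
  obtain ⟨b, rfl⟩ := hf a
  have := DFunLike.congr_fun h b
  exact this

/-- a derivation killing the kernel of a surjection descends -/
theorem Art.exists_derivPull_eq (hf : Function.Surjective f) (D : Derivation Λ B k)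
    (hD : ∀ x : B, f x = 0 → D x = 0) : ∃ D' : Derivation Λ A k, Art.derivPull f hA hB D' = D := by
  have hwd : ∀ b b' : B, f b = f b' → D b = D b' := by
    intro b b' h
    have : D (b - b') = 0 := hD _ (by rw [map_sub, h, sub_self])
    rw [map_sub, sub_eq_zero] at this
    exact this
  let s : A → B := Function.surjInv hf
  have hs : ∀ a, f (s a) = a := Function.surjInv_eq hf
  have key : ∀ b : B, D (s (f b)) = D b := fun b => hwd _ _ (hs (f b))
  refine ⟨{ toFun := fun a => D (s a)
            map_add' := ?_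
            map_smul' := ?_
            map_one_eq_zero' := ?_
            leibniz' := ?_ }, ?_⟩
  · intro a a'
    rw [← map_add]
    apply hwd
    rw [hs, map_add, hs, hs]
  · intro r a
    change D (s (r • a)) = r • D (s a)
    rw [← D.map_smul]
    apply hwd
    rw [hs]
    change _ = f.toAlgHom (r • s a)
    rw [map_smul]
    change _ = r • f (s a)
    rw [hs]
  · change D (s 1) = 0
    rw [← D.map_one_eq_zero]
    apply hwd
    rw [hs, map_one]
  · intro a a'
    change D (s (a * a')) = a • D (s a') + a' • D (s a)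
    have : D (s (a * a')) = D (s a * s a') := by
      apply hwd
      rw [hs, map_mul, hs, hs]
    rw [this, D.leibniz, Algebra.smul_def, Algebra.smul_def, Algebra.smul_def, Algebra.smul_def,
      hA, hA, hB, hB, ← Art.res_app f, ← Art.res_app f, hs, hs]
  · ext b
    exact key b

include hA hB in
theorem Art.essential_of_derivPull_surjective
    (hs : Function.Surjective (Art.derivPull f hA hB))
    (C : Art Λ k) (g : C ⟶ B) (hg : Function.Surjective (g ≫ f)) : Function.Surjective g := by
  by_contra hns
  obtain ⟨N, hN⟩ := art_maximalIdeal_nilpotent C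
  haveI : IsPrecomplete (IsLocalRing.maximalIdeal C) C := isPrecomplete_of_pow_eq_bot _ N hN
  have hresB : Function.Surjective (algebraMap B k) := by
    intro c
    obtain ⟨b, hb⟩ := B.res_surjective c
    exact ⟨b, by rw [hB, hb]⟩
  have hgcomp : (IsScalarTower.toAlgHom Λ B k).comp g.toAlgHom = C.res := by
    apply AlgHom.ext
    intro c
    change algebraMap B k (g c) = C.res c
    rw [hB, Art.res_app]
  obtain ⟨D, hD1, x, hD2⟩ := exists_derivation_of_not_surjective
    C.res C.res_surjective (S := B) hresB g.toAlgHom hgcomp hns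
  obtain ⟨D', rfl⟩ := hs D
  have hD'0 : D' = 0 := by
    ext a
    obtain ⟨c, rfl⟩ := hg a
    exact hD1 c
  rw [hD'0, map_zero] at hD2
  exact zero_ne_one hD2

include hA in
theorem Art.derivPull_surjective_of_essential (hf : Function.Surjective f)
    (hess : ∀ (C : Art Λ k) (g : C ⟶ B), Function.Surjective (g ≫ f) → Function.Surjective g) :
    Function.Surjective (Art.derivPull f hA hB) := by
  intro D
  by_contra hD
  have hx₀ : ∃ x₀ : B, f x₀ = 0 ∧ D x₀ ≠ 0 := by
    by_contra hcon
    push Not at hcon
    exact hD (Art.exists_derivPull_eq f hA hB hf D hcon)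
  obtain ⟨x₀, hfx₀, hDx₀⟩ := hx₀
  have hresx₀ : B.res x₀ = 0 := by
    rw [← Art.res_app f, hfx₀, map_zero]
  have hsm : ∀ (s : k) (b : B), B.res b = s → D (b * x₀) = s * D x₀ := by
    intro s b hb
    rw [D.leibniz, Algebra.smul_def, Algebra.smul_def, hB, hB, hresx₀, zero_mul, add_zero, hb]
  set φ : B ⟶ dual Λ k := Art.derivToHom B hB D with hφ
  set ι : base Λ k ⟶ dual Λ k := derivToBaseDual 0 with hι
  have hφs : Function.Surjective φ := by
    intro y
    obtain ⟨b₁, hb₁⟩ := B.res_surjective (TrivSqZeroExt.fst y)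
    obtain ⟨s', hs'⟩ := B.res_surjective ((TrivSqZeroExt.snd y - D b₁) / D x₀)
    refine ⟨b₁ + s' * x₀, ?_⟩
    apply TrivSqZeroExt.ext
    · rw [Art.derivToHom_fst, map_add, map_mul, hresx₀, mul_zero, add_zero, hb₁]
    · rw [Art.derivToHom_snd, map_add, hsm _ s' hs', div_mul_cancel₀ _ hDx₀]
      ring
  obtain ⟨P, π₁, π₂, hP⟩ := exists_isFibreProd ι φ hφs
  have hπ₂f : Function.Surjective (π₂ ≫ f) := by
    intro a
    obtain ⟨b', rfl⟩ := hf a
    obtain ⟨t', ht'⟩ := B.res_surjective (D b' / D x₀)
    set c := b' - t' * x₀ with hc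
    have hDc : D c = 0 := by
      rw [hc, map_sub, hsm _ t' ht', div_mul_cancel₀ _ hDx₀, sub_self]
    have heq : ι (B.res c) = φ c := by
      apply TrivSqZeroExt.ext
      · rw [derivToBaseDual_fst, Art.derivToHom_fst]
      · rw [derivToBaseDual_snd, Art.derivToHom_snd, hDc]
        rfl
    obtain ⟨p, -, hp⟩ := hP.surj (B.res c) c heq
    refine ⟨p, ?_⟩
    change f (π₂ p) = f b'
    rw [hp, hc, map_sub, map_mul, hfx₀, mul_zero, sub_zero]
  obtain ⟨p, hp⟩ := hess P π₂ hπ₂f x₀
  have h1 := hP.w_apply p
  rw [hp] at h1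
  have h2 := congrArg TrivSqZeroExt.snd h1
  rw [derivToBaseDual_snd, Art.derivToHom_snd] at h2
  exact hDx₀ h2.symm

end Pull

end
end Groth.Agent.Lib.helper19
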