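import Mathlib
import Groth.Prelude.Def_W4sfdMinVersal
import Groth.Agent.Lib.helper19.ArtQuotS
import Groth.Agent.Lib.helper19.Chevalley
import Groth.Agent.Lib.helper19.SmoothBase
import Groth.Agent.Lib.helper19.ArtKaehler
import Groth.Agent.Lib.helper19.ArtProrep

set_option autoImplicit false
universe u v
open CategoryTheory IsLocalRing ArtFun ArtFun.Art

namespace Groth.Agent.Lib.helper19

variable {Λ : Type u} {k : Type u} [CommRing Λ] [Field k] [Algebra Λ k]
  [IsNoetherianRing Λ] [Module.Finite Λ k]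

section LemmaA

variable (P : CRing Λ k) (A : ℕ → Art Λ k) (f : ∀ n, A (n + 1) ⟶ A n)
  (q : ∀ n, HomSet P.carrier P.res (A n)) (hq : ∀ n, HomSet.map (f n) (q (n + 1)) = q n)
  (hqs : ∀ n, Function.Surjective (q n).1)

include hq hqs in
theorem exists_limit_of_compatible_surjections :
    ∃ (S : CRing Λ k) (π : ∀ n, HomSet S.carrier S.res (A n)),
      (∀ n, HomSet.map (f n) (π (n + 1)) = π n) ∧
      (∀ n, Function.Surjective (π n).1) ∧
      (∀ a : ∀ n, A n, (∀ n, f n (a (n + 1)) = a n) → ∃! s : S.carrier, ∀ n, (π n).1 s = a n) ∧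
      (∀ n, ∃ N, RingHom.ker (π N).1 ≤ maximalIdeal S.carrier ^ n) ∧
      (∀ n, ∃ N, maximalIdeal S.carrier ^ N ≤ RingHom.ker (π n).1) := by
  haveI : IsAdicComplete (maximalIdeal P.carrier) P.carrier := P.isAdicComplete
  set K : ℕ → Ideal P.carrier := fun n => RingHom.ker (q n).1 with hK
  have hqf : ∀ n x, f n ((q (n + 1)).1 x) = (q n).1 x := fun n x =>
    congrArg (fun t => t.1 x) (hq n)
  have hKanti : Antitone K := by
    apply antitone_nat_of_succ_le
    intro n x hx
    change (q (n + 1)).1 x = 0 at hx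
    change (q n).1 x = 0
    rw [← hqf, hx, map_zero]
  set Kinf : Ideal P.carrier := ⨅ n, K n with hKinf
  have hle : Kinf ≤ maximalIdeal P.carrier := le_trans (iInf_le _ 0) (HomSet.ker_le_maximalIdeal _)
  set S := cquot P Kinf hle with hS
  set mk := cquotMk P Kinf hle with hmk
  have hmks : Function.Surjective mk := cquotMk_surjective P Kinf hle
  have hmk0 : ∀ x, mk x = 0 ↔ x ∈ Kinf := fun x => Ideal.Quotient.eq_zero_iff_mem
  choose π hπ using fun n => HomSet.exists_descend Kinf hle (q n) (iInf_le K n)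
  have hπmk : ∀ n x, (π n).1 (mk x) = (q n).1 x := fun n x => DFunLike.congr_fun (hπ n) x
  have hchev : ∀ e, ∃ N, K N ≤ Kinf ⊔ maximalIdeal P.carrier ^ e :=
    exists_le_iInf_sup_pow K hKanti (fun n => HomSet.exists_pow_le_ker (q n))
  have hmkpow : ∀ e x, x ∈ Kinf ⊔ maximalIdeal P.carrier ^ e → mk x ∈ maximalIdeal S.carrier ^ e := by
    intro e x hx
    obtain ⟨y, hy, z, hz, rfl⟩ := Submodule.mem_sup.mp hx
    rw [map_add, (hmk0 y).mpr hy, zero_add]
    have h1 : mk z ∈ Ideal.map mk (maximalIdeal P.carrier ^ e) := Ideal.mem_map_of_mem _ hz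
    rw [Ideal.map_pow] at h1
    have h2 : Ideal.map mk (maximalIdeal P.carrier) ≤ maximalIdeal S.carrier := by
      rw [Ideal.map_le_iff_le_comap]
      intro w hw
      rw [Ideal.mem_comap, CRing.mem_maximalIdeal_iff]
      have : S.res (mk w) = P.res w := DFunLike.congr_fun (cquotMk_res P Kinf hle) w
      rw [this, ← CRing.mem_maximalIdeal_iff]
      exact hw
    exact Ideal.pow_right_mono h2 e h1
  refine ⟨S, π, ?_, ?_, ?_, ?_, ?_⟩
  · intro n
    apply HomSet.restrict_injective Kinf hle
    apply Subtype.ext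
    apply AlgHom.ext
    intro x
    change f n ((π (n + 1)).1 (mk x)) = (π n).1 (mk x)
    rw [hπmk, hπmk, hqf]
  · intro n b
    obtain ⟨x, hx⟩ := hqs n b
    exact ⟨mk x, by rw [hπmk, hx]⟩
  · intro a ha
    choose x hx using fun n => hqs n (a n)
    have hxj : ∀ j n, (q n).1 (x (n + j)) = a n := by
      intro j
      induction j with
      | zero => intro n; exact hx n
      | succ j ih =>
        intro n
        rw [← hqf]
        have : n + (j + 1) = (n + 1) + j := by omega
        rw [this, ih (n + 1), ha]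
    have hxle : ∀ m n, m ≤ n → (q m).1 (x n) = a m := by
      intro m n hmn
      obtain ⟨j, rfl⟩ := Nat.exists_eq_add_of_le hmn
      exact hxj j m
    choose N₀ hN₀ using hchev
    let M : ℕ → ℕ := fun e => Nat.rec (N₀ 0) (fun e r => max (max r (N₀ (e + 1))) (e + 1)) e
    have hM_succ : ∀ e, M (e + 1) = max (max (M e) (N₀ (e + 1))) (e + 1) := fun e => rfl
    have hM_N : ∀ e, N₀ e ≤ M e := by
      intro e
      cases e with
      | zero => exact le_rfl
      | succ e => rw [hM_succ]; exact le_trans (le_max_right _ _) (le_max_left _ _)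
    have hM_e : ∀ e, e ≤ M e := by
      intro e
      cases e with
      | zero => exact Nat.zero_le _
      | succ e => rw [hM_succ]; exact le_max_right _ _
    have hM_mono : Monotone M := monotone_nat_of_le_succ (fun e => by
      rw [hM_succ]; exact le_trans (le_max_left _ _) (le_max_left _ _))
    have hKM : ∀ e, K (M e) ≤ Kinf ⊔ maximalIdeal P.carrier ^ e := fun e =>
      le_trans (hKanti (hM_N e)) (hN₀ e)
    let y : ℕ → S.carrier := fun e => mk (x (M e))
    haveI : IsAdicComplete (maximalIdeal S.carrier) S.carrier := S.isAdicComplete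
    have hcauchy : ∀ {m n}, m ≤ n → y m ≡ y n [SMOD (maximalIdeal S.carrier ^ m • ⊤ : Submodule S.carrier S.carrier)] := by
      intro m n hmn
      rw [SModEq.sub_mem, smul_eq_mul, Ideal.mul_top]
      change mk (x (M m)) - mk (x (M n)) ∈ _
      rw [← map_sub]
      apply hmkpow
      apply hKM
      change (q (M m)).1 (x (M m) - x (M n)) = 0
      rw [map_sub, hxle _ _ le_rfl, hxle _ _ (hM_mono hmn), sub_self]
    obtain ⟨s, hs⟩ := IsPrecomplete.prec' (I := maximalIdeal S.carrier) y hcauchy
    have hπs : ∀ j, (π j).1 s = a j := by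
      intro j
      obtain ⟨e, he⟩ := HomSet.exists_pow_le_ker (π j)
      set e' := max e j with he'
      have h1 := hs e'
      rw [SModEq.sub_mem, smul_eq_mul, Ideal.mul_top] at h1
      have h2 : y e' - s ∈ RingHom.ker (π j).1 :=
        he (Ideal.pow_le_pow_right (le_max_left e j) h1)
      rw [RingHom.mem_ker, map_sub, sub_eq_zero] at h2
      rw [← h2]
      change (π j).1 (mk (x (M e'))) = a j
      rw [hπmk]
      exact hxle j _ (le_trans (le_max_right e j) (hM_e e'))
    refine ⟨s, hπs, ?_⟩
    intro s' hs'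
    obtain ⟨w, hw⟩ := hmks (s' - s)
    rw [← sub_eq_zero, ← hw, hmk0]
    rw [hKinf, Ideal.mem_iInf]
    intro n
    change (q n).1 w = 0
    rw [← hπmk, hw, map_sub, hs', hπs, sub_self]
  · intro e
    obtain ⟨N, hN⟩ := hchev e
    refine ⟨N, ?_⟩
    intro s hs
    obtain ⟨x, rfl⟩ := hmks s
    apply hmkpow
    apply hN
    change (q N).1 x = 0
    rw [← hπmk]
    exact hs
  · intro n
    exact HomSet.exists_pow_le_ker (π n)

end LemmaA

section Stab

theorem exists_stable_of_monotone_bounded (t : ℕ → ℕ) (ht : Monotone t) (b : ℕ) (hb : ∀ n, t n ≤ b) :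
    ∃ n₀, ∀ n, n₀ ≤ n → t n = t n₀ := by
  by_contra hcon
  push Not at hcon
  have : ∀ j, ∃ n, j ≤ t n := by
    intro j
    induction j with
    | zero => exact ⟨0, Nat.zero_le _⟩
    | succ j ih =>
      obtain ⟨n, hn⟩ := ih
      obtain ⟨n', hn', hne⟩ := hcon n
      refine ⟨n', ?_⟩
      have := ht hn'
      omega
  obtain ⟨n, hn⟩ := this (b + 1)
  have := hb n
  omega

/-- bound on the dimension of the space of derivations by the number of generators of the maximal
ideal -/
theorem Art.finrank_derivation_le (B : Art Λ k) [Algebra B k] [IsScalarTower Λ B k]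
    (hB : ∀ b, algebraMap B k b = B.res b) (d : ℕ)
    (hd : Module.finrank (IsLocalRing.ResidueField B) (IsLocalRing.CotangentSpace B) ≤ d) :
    Module.finrank k (Derivation Λ B k) ≤ d + Module.finrank k (Derivation Λ k k) := by
  haveI := (art_finrank_kaehler (Λ := Λ) (k := k) B).1
  rw [← IsLocalRing.spanFinrank_maximalIdeal_eq_finrank_cotangentSpace] at hd
  obtain ⟨s, hscard, hsspan⟩ := Submodule.FG.exists_span_finset_card_eq_spanFinrank
    (IsNoetherian.noetherian (maximalIdeal B))
  let Φ : Derivation Λ B k →ₗ[k] (s → k) :=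
    { toFun := fun D i => D i.1
      map_add' := fun D₁ D₂ => rfl
      map_smul' := fun c D => rfl }
  letI iKK : Algebra (base Λ k) k := Algebra.id k
  haveI : IsScalarTower Λ (base Λ k) k := IsScalarTower.right
  have hK : ∀ c : base Λ k, algebraMap (base Λ k) k c = (base Λ k).res c := fun c => rfl
  haveI := (art_finrank_kaehler (Λ := Λ) (k := k) (base Λ k)).1
  let Ψ := Art.derivPull (toBase B) hK hB
  have hker : LinearMap.ker Φ ≤ LinearMap.range Ψ := by
    intro D hD
    rw [LinearMap.mem_ker] at hD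
    have hDs : ∀ x ∈ s, D x = 0 := fun x hx => congrFun hD ⟨x, hx⟩
    have hDm : ∀ x ∈ maximalIdeal B, D x = 0 := by
      intro x hx
      have hx' : x ∈ Submodule.span B (s : Set B) := by rw [hsspan]; exact hx
      refine Submodule.span_induction (p := fun y _ => D y = 0) ?_ ?_ ?_ ?_ hx'
      · intro y hy; exact hDs y hy
      · exact map_zero D
      · intro u v _ _ hu hv; rw [map_add, hu, hv, add_zero]
      · intro c u hu hDu
        have hum : u ∈ maximalIdeal B := by rw [← hsspan]; exact hu
        rw [Art.mem_maximalIdeal_iff] at hum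
        rw [smul_eq_mul, D.leibniz, hDu, smul_zero, zero_add, Algebra.smul_def, hB, hum, zero_mul]
    obtain ⟨D', hD'⟩ := Art.exists_derivPull_eq (toBase B) hK hB B.res_surjective D
      (fun x hx => hDm x ((Art.mem_maximalIdeal_iff B x).mpr hx))
    exact ⟨D', hD'⟩
  have h1 := LinearMap.finrank_range_add_finrank_ker Φ
  have h2 : Module.finrank k (LinearMap.range Φ) ≤ d := by
    have := Submodule.finrank_le (LinearMap.range Φ)
    rw [Module.finrank_pi, Fintype.card_coe] at this
    omega
  have h3 : Module.finrank k (LinearMap.ker Φ) ≤ Module.finrank k (Derivation Λ k k) := by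
    have a1 := Submodule.finrank_mono hker
    have a2 : Module.finrank k (LinearMap.range Ψ) ≤ Module.finrank k (Derivation Λ k k) :=
      LinearMap.finrank_range_le Ψ
    exact le_trans a1 a2
  omega

end Stab

section Trans

variable (A : ℕ → Art Λ k) (f : ∀ n, A (n + 1) ⟶ A n)

/-- composite transition maps -/
noncomputable def transLE {n m : ℕ} (h : n ≤ m) : A m ⟶ A n :=
  Nat.leRecOn (C := fun m => A m ⟶ A n) h (fun {j} g => f j ≫ g) (𝟙 (A n))

theorem transLE_self (n : ℕ) : transLE A f (le_refl n) = 𝟙 (A n) := Nat.leRecOn_self _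

theorem transLE_succ {n m : ℕ} (h : n ≤ m) (h' : n ≤ m + 1) :
    transLE A f h' = f m ≫ transLE A f h := Nat.leRecOn_succ h _

theorem transLE_comp {n m : ℕ} (h : n + 1 ≤ m) (h' : n ≤ m) :
    transLE A f h ≫ f n = transLE A f h' := by
  induction m, h using Nat.le_induction with
  | base =>
    rw [transLE_self, Category.id_comp, transLE_succ A f (le_refl n), transLE_self, Category.comp_id]
  | succ m hm ih =>
    rw [transLE_succ A f hm, Category.assoc, ih (by omega), ← transLE_succ A f (by omega : n ≤ m)]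

theorem transLE_surjective (hf : ∀ n, Function.Surjective (f n)) {n m : ℕ} (h : n ≤ m) :
    Function.Surjective (transLE A f h) := by
  induction m, h using Nat.le_induction with
  | base => rw [transLE_self]; exact Function.surjective_id
  | succ m hm ih =>
    rw [transLE_succ A f hm]
    exact ih.comp (hf m)

end Trans

section LemmaC

variable (A : ℕ → Art Λ k) (f : ∀ n, A (n + 1) ⟶ A n) (hf : ∀ n, Function.Surjective (f n))

include hf in
theorem exists_essential_tail (d : ℕ)
    (hd : ∀ n, Module.finrank (IsLocalRing.ResidueField (A n)) (IsLocalRing.CotangentSpace (A n)) ≤ d) :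
    ∃ n₀, ∀ n, n₀ ≤ n → ∀ (C : Art Λ k) (g : C ⟶ A (n + 1)),
      Function.Surjective (g ≫ f n) → Function.Surjective g := by
  letI inst : ∀ n, Algebra (A n) k := fun n => (A n).res.toRingHom.toAlgebra
  haveI : ∀ n, IsScalarTower Λ (A n) k := fun n =>
    IsScalarTower.of_algebraMap_eq (fun r => ((A n).res.commutes r).symm)
  have hA : ∀ n (a : A n), algebraMap (A n) k a = (A n).res a := fun _ _ => rfl
  haveI fin : ∀ n, Module.Finite k (Derivation Λ (A n) k) := fun n =>
    (art_finrank_kaehler (Λ := Λ) (k := k) (A n)).1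
  set t : ℕ → ℕ := fun n => Module.finrank k (Derivation Λ (A n) k) with ht
  have hinj : ∀ n, Function.Injective (Art.derivPull (f n) (hA n) (hA (n + 1))) := fun n =>
    Art.derivPull_injective (f n) (hA n) (hA (n + 1)) (hf n)
  have hmono : Monotone t := monotone_nat_of_le_succ (fun n =>
    LinearMap.finrank_le_finrank_of_injective (hinj n))
  obtain ⟨n₀, hn₀⟩ := exists_stable_of_monotone_bounded t hmono _
    (fun n => Art.finrank_derivation_le (A n) (hA n) d (hd n))
  refine ⟨n₀, fun n hn C g hg => ?_⟩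
  have heq : t n = t (n + 1) := by rw [hn₀ n hn, hn₀ (n + 1) (by omega)]
  have hs : Function.Surjective (Art.derivPull (f n) (hA n) (hA (n + 1))) :=
    (LinearMap.injective_iff_surjective_of_finrank_eq_finrank heq).mp (hinj n)
  exact Art.essential_of_derivPull_surjective (f n) (hA n) (hA (n + 1)) hs C g hg

include hf in
theorem exists_compatible_surjections (n₀ : ℕ)
    (hess : ∀ n, n₀ ≤ n → ∀ (C : Art Λ k) (g : C ⟶ A (n + 1)),
      Function.Surjective (g ≫ f n) → Function.Surjective g) :
    ∃ (P : CRing Λ k) (q : ∀ n, HomSet P.carrier P.res (A n)),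
      (∀ n, HomSet.map (f n) (q (n + 1)) = q n) ∧ ∀ n, Function.Surjective (q n).1 := by
  obtain ⟨P, p₀, hp₀, hsm⟩ := exists_smooth_cring_surjective (A n₀)
  have step : ∀ j (r : HomSet P.carrier P.res (A (n₀ + j))),
      ∃ r' : HomSet P.carrier P.res (A (n₀ + j + 1)), HomSet.map (f (n₀ + j)) r' = r :=
    fun j r => hsm (f (n₀ + j)) (hf _) r
  let ℓ : ∀ j, HomSet P.carrier P.res (A (n₀ + j)) := fun j =>
    Nat.rec (motive := fun j => HomSet P.carrier P.res (A (n₀ + j))) p₀
      (fun j r => (step j r).choose) j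
  have hℓ : ∀ j, HomSet.map (f (n₀ + j)) (ℓ (j + 1)) = ℓ j := fun j => (step j (ℓ j)).choose_spec
  have hℓs : ∀ j, Function.Surjective (ℓ j).1 := by
    intro j
    induction j with
    | zero => exact hp₀
    | succ j ih =>
      obtain ⟨N, ψ', hψ'⟩ := HomSet.exists_factor (ℓ (j + 1))
      have h1 : Function.Surjective (ψ' ≫ f (n₀ + j)) := by
        intro a
        obtain ⟨x, hx⟩ := ih a
        refine ⟨(P.truncHom N).1 x, ?_⟩
        rw [← hx, ← hℓ j, ← hψ']
        rfl
      have h2 := hess (n₀ + j) (by omega) _ ψ' h1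
      intro b
      obtain ⟨y, hy⟩ := h2 b
      obtain ⟨x, rfl⟩ := Ideal.Quotient.mk_surjective y
      refine ⟨x, ?_⟩
      rw [← hy, ← hψ']
      rfl
  refine ⟨P, fun n => HomSet.map (transLE A f (Nat.le_add_left n n₀)) (ℓ n), ?_, ?_⟩
  · intro n
    rw [← HomSet.map_comp, transLE_comp A f _ (by omega : n ≤ n₀ + (n + 1)),
      transLE_succ A f (Nat.le_add_left n n₀), HomSet.map_comp, hℓ]
  · intro n
    exact (transLE_surjective A f hf _).comp (hℓs n)

end LemmaC

end Groth.Agent.Lib.helper19
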