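import Mathlib
import Groth.Prelude.Def_Exal

/-! A non-split one-dimensional extension of `A = P/J` when `J ≤ 𝔫²` and `J ≠ 𝔫 J`. -/

set_option autoImplicit false
universe u

namespace Groth.Agent.Lib.helper19.NonSplit

variable {k : Type u} [Field k] {P A : Type u} [CommRing P] [CommRing A] [Algebra k P] [Algebra k A]
  (π : P →ₐ[k] A) (ε : P →ₐ[k] k)
  (𝔫 : Ideal P) (h𝔫 : ∀ p, p - algebraMap k P (ε p) ∈ 𝔫)
  (ψ : P →ₗ[k] k) (hψ0 : ∀ x ∈ 𝔫 * RingHom.ker π, ψ x = 0)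

include h𝔫 hψ0 in
lemma psi_mul (p f : P) (hf : π f = 0) : ψ (p * f) = ε p * ψ f := by
  have h1 : p * f = (p - algebraMap k P (ε p)) * f + ε p • f := by
    rw [Algebra.smul_def]
    ring
  have h2 : ψ ((p - algebraMap k P (ε p)) * f) = 0 :=
    hψ0 _ (Ideal.mul_mem_mul (h𝔫 p) ((RingHom.mem_ker).mpr hf))
  rw [h1, map_add, h2, zero_add, map_smul, smul_eq_mul]

/-- the smaller ideal `J' = J ∩ ker ψ`. -/
def J' : Ideal P where
  carrier := {f | π f = 0 ∧ ψ f = 0}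
  zero_mem' := ⟨map_zero _, map_zero _⟩
  add_mem' := by
    rintro a b ⟨ha1, ha2⟩ ⟨hb1, hb2⟩
    exact ⟨by rw [map_add, ha1, hb1, add_zero], by rw [map_add, ha2, hb2, add_zero]⟩
  smul_mem' := by
    rintro p f ⟨hf1, hf2⟩
    refine ⟨by rw [smul_eq_mul, map_mul, hf1, mul_zero], ?_⟩
    rw [smul_eq_mul, psi_mul π ε 𝔫 h𝔫 ψ hψ0 p f hf1, hf2, mul_zero]

lemma mem_J' (f : P) : f ∈ J' π ε 𝔫 h𝔫 ψ hψ0 ↔ π f = 0 ∧ ψ f = 0 := Iff.rfl

lemma mul_mem_J' (x : P) (hx : x ∈ 𝔫 * RingHom.ker π) : x ∈ J' π ε 𝔫 h𝔫 ψ hψ0 := by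
  refine ⟨?_, hψ0 x hx⟩
  have : 𝔫 * RingHom.ker π ≤ RingHom.ker π := Ideal.mul_le_right
  exact (RingHom.mem_ker).mp (this hx)

variable (hπ : Function.Surjective π) (j₀ : P) (hj₀ : π j₀ = 0) (hψ1 : ψ j₀ = 1)
  {L : Type u} [AddCommGroup L] [Module A L] (θ : k ≃+ L)
  (hθ : ∀ (p : P) (c : k), θ (ε p * c) = π p • θ c)

/-- the projection `P/J' → A`. -/
def projE : (P ⧸ J' π ε 𝔫 h𝔫 ψ hψ0) →ₐ[k] A :=
  Ideal.Quotient.liftₐ (J' π ε 𝔫 h𝔫 ψ hψ0) π (fun a ha => ha.1)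

lemma projE_mk (p : P) :
    projE π ε 𝔫 h𝔫 ψ hψ0 (Ideal.Quotient.mk (J' π ε 𝔫 h𝔫 ψ hψ0) p) = π p := rfl

/-- the inclusion of the kernel. -/
def inclE : L →+ (P ⧸ J' π ε 𝔫 h𝔫 ψ hψ0) :=
  { toFun := fun c => Ideal.Quotient.mk (J' π ε 𝔫 h𝔫 ψ hψ0) (algebraMap k P c * j₀)
    map_zero' := by rw [map_zero, zero_mul, map_zero]
    map_add' := fun a b => by rw [map_add, add_mul, map_add] : k →+ _ }.comp θ.symm.toAddMonoidHom

lemma inclE_apply (z : L) :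
    inclE π ε 𝔫 h𝔫 ψ hψ0 j₀ θ z =
      Ideal.Quotient.mk (J' π ε 𝔫 h𝔫 ψ hψ0) (algebraMap k P (θ.symm z) * j₀) := rfl

include hj₀ hψ1 in
lemma c_mul_mem_J'_iff (c : k) :
    algebraMap k P c * j₀ ∈ J' π ε 𝔫 h𝔫 ψ hψ0 ↔ c = 0 := by
  rw [mem_J']
  constructor
  · rintro ⟨_, h2⟩
    rw [← Algebra.smul_def, map_smul, hψ1, smul_eq_mul, mul_one] at h2
    exact h2
  · rintro rfl
    rw [map_zero, zero_mul]
    exact ⟨map_zero _, map_zero _⟩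

include hπ hj₀ hψ1 hθ in
lemma isExtension :
    Exal.IsExtension (projE π ε 𝔫 h𝔫 ψ hψ0) (inclE π ε 𝔫 h𝔫 ψ hψ0 j₀ θ) where
  proj_surjective := by
    intro a
    obtain ⟨p, rfl⟩ := hπ a
    exact ⟨Ideal.Quotient.mk _ p, rfl⟩
  incl_injective := by
    rw [injective_iff_map_eq_zero]
    intro z hz
    rw [inclE_apply, Ideal.Quotient.eq_zero_iff_mem,
      c_mul_mem_J'_iff π ε 𝔫 h𝔫 ψ hψ0 j₀ hj₀ hψ1] at hz
    exact (AddEquiv.map_eq_zero_iff θ.symm).mp hz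
  exact := by
    intro x
    obtain ⟨p, rfl⟩ := Ideal.Quotient.mk_surjective x
    rw [projE_mk]
    constructor
    · intro hp
      refine ⟨θ (ψ p), ?_⟩
      rw [inclE_apply, AddEquiv.symm_apply_apply, Ideal.Quotient.eq, mem_J']
      constructor
      · rw [map_sub, map_mul, hj₀, mul_zero, hp, sub_zero]
      · rw [map_sub, ← Algebra.smul_def, map_smul, hψ1, smul_eq_mul, mul_one, sub_self]
    · rintro ⟨z, hz⟩
      rw [inclE_apply, Ideal.Quotient.eq, mem_J'] at hz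
      have := hz.1
      rw [map_sub, map_mul, hj₀, mul_zero, zero_sub, neg_eq_zero] at this
      exact this
  mul_incl := by
    intro x z
    obtain ⟨p, rfl⟩ := Ideal.Quotient.mk_surjective x
    obtain ⟨c, rfl⟩ := θ.surjective z
    rw [projE_mk, ← hθ, inclE_apply, inclE_apply, AddEquiv.symm_apply_apply,
      AddEquiv.symm_apply_apply, ← map_mul, Ideal.Quotient.eq]
    apply mul_mem_J'
    have h1 : p * (algebraMap k P c * j₀) - algebraMap k P (ε p * c) * j₀ =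
        (p - algebraMap k P (ε p)) * (algebraMap k P c * j₀) := by
      rw [map_mul]
      ring
    rw [h1]
    refine Ideal.mul_mem_mul (h𝔫 p) ?_
    rw [RingHom.mem_ker]
    change π (algebraMap k P c * j₀) = 0
    rw [map_mul, hj₀, mul_zero]

/-- the extension. -/
noncomputable def ext : Exal.Ext k A L where
  E := P ⧸ J' π ε 𝔫 h𝔫 ψ hψ0
  proj := projE π ε 𝔫 h𝔫 ψ hψ0
  incl := inclE π ε 𝔫 h𝔫 ψ hψ0 j₀ θ
  isExtension := isExtension π ε 𝔫 h𝔫 ψ hψ0 hπ j₀ hj₀ hψ1 θ hθ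

include hj₀ hψ1 in
lemma no_section (hJ : RingHom.ker π ≤ 𝔫 ^ 2)
    (s : A →ₐ[k] (P ⧸ J' π ε 𝔫 h𝔫 ψ hψ0))
    (hs : ∀ a, projE π ε 𝔫 h𝔫 ψ hψ0 (s a) = a) : False := by
  set q : P →ₐ[k] (P ⧸ J' π ε 𝔫 h𝔫 ψ hψ0) := Ideal.Quotient.mkₐ k (J' π ε 𝔫 h𝔫 ψ hψ0) with hq
  have hJn : RingHom.ker π ≤ 𝔫 := hJ.trans (Ideal.pow_le_self two_ne_zero)
  -- elements of the kernel
  have hK : ∀ p : P, ∃ y : P, π y = 0 ∧ q p - s (π p) = q y := by
    intro p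
    obtain ⟨y, hy⟩ := Ideal.Quotient.mk_surjective (q p - s (π p))
    refine ⟨y, ?_, hy.symm⟩
    have : projE π ε 𝔫 h𝔫 ψ hψ0 (Ideal.Quotient.mk _ y) = 0 := by
      rw [hy, map_sub, hs]
      change π p - π p = 0
      exact sub_self _
    exact this
  have hnK : ∀ f ∈ 𝔫, ∀ y : P, π y = 0 → q f * q y = 0 := by
    intro f hf y hy
    rw [← map_mul]
    exact Ideal.Quotient.eq_zero_iff_mem.mpr
      (mul_mem_J' π ε 𝔫 h𝔫 ψ hψ0 _ (Ideal.mul_mem_mul hf ((RingHom.mem_ker).mpr hy)))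
  have hKK : ∀ y y' : P, π y = 0 → π y' = 0 → q y * q y' = 0 := fun y y' hy hy' =>
    hnK y (hJn ((RingHom.mem_ker).mpr hy)) y' hy'
  have hD : ∀ x ∈ 𝔫 ^ 2, q x - s (π x) = 0 := by
    intro x hx
    rw [pow_two] at hx
    induction hx using Submodule.mul_induction_on' with
    | mem_mul_mem f hf g hg =>
      obtain ⟨yf, hyf, hf'⟩ := hK f
      obtain ⟨yg, hyg, hg'⟩ := hK g
      have e1 : s (π f) = q f - q yf := by rw [← hf']; ring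
      have e2 : s (π g) = q g - q yg := by rw [← hg']; ring
      rw [map_mul, map_mul, map_mul, e1, e2]
      have h1 := hnK f hf yg hyg
      have h2 := hnK g hg yf hyf
      have h3 := hKK yf yg hyf hyg
      calc q f * q g - (q f - q yf) * (q g - q yg)
          = q f * q yg + q g * q yf - q yf * q yg := by ring
        _ = 0 := by rw [h1, h2, h3]; ring
    | add x _ y _ hx hy =>
      rw [map_add, map_add, map_add, add_sub_add_comm, hx, hy, add_zero]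
  have h0 := hD j₀ (hJ ((RingHom.mem_ker).mpr hj₀))
  rw [hj₀, map_zero, sub_zero] at h0
  have hmem : j₀ ∈ J' π ε 𝔫 h𝔫 ψ hψ0 := Ideal.Quotient.eq_zero_iff_mem.mp h0
  have := hmem.2
  rw [hψ1] at this
  exact one_ne_zero this

include hπ hj₀ hψ1 hθ in
theorem not_isTrivial (hJ : RingHom.ker π ≤ 𝔫 ^ 2) :
    ¬ (ext π ε 𝔫 h𝔫 ψ hψ0 hπ j₀ hj₀ hψ1 θ hθ).IsTrivial := by
  rintro ⟨s, hs⟩
  exact no_section π ε 𝔫 h𝔫 ψ hψ0 j₀ hj₀ hψ1 hJ s hs

end Groth.Agent.Lib.helper19.NonSplit
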