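import Mathlib
import Groth.Agent.Lib.helper19.NonSplit

/-! A minimal polynomial presentation of a local Artinian `k`-algebra with residue field `k`,
and the resulting non-split extension by the residue field. -/

set_option autoImplicit false
universe u

namespace Groth.Agent.Lib.helper19.ArtPres

open IsLocalRing MvPolynomial

section Poly

variable {k : Type u} [Field k] {n : ℕ}

/-- evaluation at the origin. -/
noncomputable def eps0 : MvPolynomial (Fin n) k →ₐ[k] k := aeval (fun _ => (0 : k))

/-- the ideal of the origin. -/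
noncomputable def nn : Ideal (MvPolynomial (Fin n) k) := Ideal.span (Set.range X)

lemma X_mem_nn (i : Fin n) : (X i : MvPolynomial (Fin n) k) ∈ nn :=
  Ideal.subset_span (Set.mem_range_self i)

lemma eps0_X (i : Fin n) : eps0 (X i : MvPolynomial (Fin n) k) = 0 := by
  unfold eps0
  rw [aeval_X]

lemma eps0_C (a : k) : eps0 (C a : MvPolynomial (Fin n) k) = a := by
  unfold eps0
  rw [aeval_C]
  rfl

lemma sub_eps0_mem (p : MvPolynomial (Fin n) k) :
    p - algebraMap k (MvPolynomial (Fin n) k) (eps0 p) ∈ nn := by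
  induction p using MvPolynomial.induction_on with
  | C a =>
    rw [eps0_C]
    change C a - C a ∈ _
    rw [sub_self]
    exact Submodule.zero_mem _
  | add p q hp hq =>
    rw [map_add, map_add, add_sub_add_comm]
    exact Submodule.add_mem _ hp hq
  | mul_X p i _ =>
    rw [map_mul, eps0_X, mul_zero, map_zero, sub_zero]
    exact Ideal.mul_mem_left _ _ (X_mem_nn i)

lemma eps0_eq_zero_of_mem (p : MvPolynomial (Fin n) k) (hp : p ∈ nn) : eps0 p = 0 := by
  unfold nn at hp
  induction hp using Submodule.span_induction with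
  | mem x hx =>
    obtain ⟨i, rfl⟩ := hx
    exact eps0_X i
  | zero => exact map_zero _
  | add x y _ _ hx hy => rw [map_add, hx, hy, add_zero]
  | smul r x _ hx => rw [smul_eq_mul, map_mul, hx, mul_zero]

lemma nn_ne_top : (nn : Ideal (MvPolynomial (Fin n) k)) ≠ ⊤ := by
  intro h
  have h1 : (1 : MvPolynomial (Fin n) k) ∈ nn := by rw [h]; exact Submodule.mem_top
  have := eps0_eq_zero_of_mem 1 h1
  rw [map_one] at this
  exact one_ne_zero this

/-- constant + linear + higher order. -/
lemma exists_decomp (p : MvPolynomial (Fin n) k) :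
    ∃ (c₀ : k) (c : Fin n → k), p - C c₀ - ∑ i, C (c i) * X i ∈ (nn : Ideal _) ^ 2 := by
  induction p using MvPolynomial.induction_on with
  | C a =>
    refine ⟨a, 0, ?_⟩
    simp
  | add p q hp hq =>
    obtain ⟨c₀, c, h⟩ := hp
    obtain ⟨d₀, d, h'⟩ := hq
    refine ⟨c₀ + d₀, c + d, ?_⟩
    have : p + q - C (c₀ + d₀) - ∑ i, C ((c + d) i) * X i =
        (p - C c₀ - ∑ i, C (c i) * X i) + (q - C d₀ - ∑ i, C (d i) * X i) := by
      simp only [Pi.add_apply, map_add, add_mul, Finset.sum_add_distrib]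
      ring
    rw [this]
    exact Submodule.add_mem _ h h'
  | mul_X p j hp =>
    obtain ⟨c₀, c, h⟩ := hp
    refine ⟨0, Pi.single j c₀, ?_⟩
    have hsum : ∑ i, C ((Pi.single j c₀ : Fin n → k) i) * (X i : MvPolynomial (Fin n) k) =
        C c₀ * X j := by
      rw [Finset.sum_eq_single j]
      · rw [Pi.single_eq_same]
      · intro i _ hi
        rw [Pi.single_eq_of_ne hi, map_zero, zero_mul]
      · intro hj
        exact absurd (Finset.mem_univ j) hj
    rw [hsum, map_zero, sub_zero]
    have : p * X j - C c₀ * X j =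
        (p - C c₀ - ∑ i, C (c i) * X i) * X j + (∑ i, C (c i) * X i) * X j := by
      ring
    rw [this]
    refine Submodule.add_mem _ (Ideal.mul_mem_right _ _ h) ?_
    rw [pow_two]
    refine Ideal.mul_mem_mul ?_ (X_mem_nn j)
    exact Submodule.sum_mem _ fun i _ => Ideal.mul_mem_left _ _ (X_mem_nn i)

end Poly

section Ring

variable {k : Type u} [Field k] {A : Type u} [CommRing A] [Algebra k A] [IsLocalRing A]
  (hres : ∀ a : A, ∃ c : k, a - algebraMap k A c ∈ maximalIdeal A)
  {n : ℕ} (x : Fin n → A) (hxm : ∀ i, x i ∈ maximalIdeal A)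
  (hxs : Ideal.span (Set.range x) = maximalIdeal A)
  (hxi : ∀ c : Fin n → k, ∑ i, c i • x i ∈ maximalIdeal A ^ 2 → c = 0)

variable (k) in
/-- the presentation map. -/
noncomputable def pi : MvPolynomial (Fin n) k →ₐ[k] A := aeval x

lemma pi_X (i : Fin n) : pi k x (X i) = x i := by
  unfold pi
  rw [aeval_X]

lemma pi_C (a : k) : pi k x (C a) = algebraMap k A a := by
  unfold pi
  rw [aeval_C]

include hxm in
lemma map_nn_le : (nn : Ideal (MvPolynomial (Fin n) k)).map (pi k x) ≤ maximalIdeal A := by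
  rw [Ideal.map_le_iff_le_comap]
  unfold nn
  rw [Ideal.span_le]
  rintro _ ⟨i, rfl⟩
  change pi k x (X i) ∈ maximalIdeal A
  rw [pi_X]
  exact hxm i

include hxm in
lemma pi_mem_pow (N : ℕ) (p : MvPolynomial (Fin n) k) (hp : p ∈ (nn : Ideal _) ^ N) :
    pi k x p ∈ maximalIdeal A ^ N := by
  have h1 : pi k x p ∈ ((nn : Ideal (MvPolynomial (Fin n) k)) ^ N).map (pi k x) :=
    Ideal.mem_map_of_mem _ hp
  rw [Ideal.map_pow] at h1
  exact Ideal.pow_right_mono (map_nn_le x hxm) N h1

include hxm in
lemma sum_smul_mem (c : Fin n → k) : ∑ i, c i • x i ∈ maximalIdeal A := by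
  refine Submodule.sum_mem _ fun i _ => ?_
  rw [Algebra.smul_def]
  exact Ideal.mul_mem_left _ _ (hxm i)

lemma pi_sum (c : Fin n → k) :
    pi k x (∑ i, C (c i) * X i) = ∑ i, c i • x i := by
  rw [map_sum]
  refine Finset.sum_congr rfl fun i _ => ?_
  rw [map_mul, pi_C, pi_X, Algebra.smul_def]

include hxm hxi in
lemma ker_le_sq : RingHom.ker (pi k x) ≤ (nn : Ideal (MvPolynomial (Fin n) k)) ^ 2 := by
  intro f hf
  rw [RingHom.mem_ker] at hf
  obtain ⟨c₀, c, h⟩ := exists_decomp f
  have h1 := pi_mem_pow x hxm 2 _ h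
  rw [map_sub, map_sub, hf, pi_C, pi_sum, zero_sub] at h1
  have h2 : algebraMap k A c₀ + ∑ i, c i • x i ∈ maximalIdeal A ^ 2 := by
    have := Submodule.neg_mem _ h1
    rwa [neg_sub, sub_neg_eq_add, add_comm] at this
  have h3 : algebraMap k A c₀ ∈ maximalIdeal A := by
    have h4 : algebraMap k A c₀ + ∑ i, c i • x i ∈ maximalIdeal A :=
      Ideal.pow_le_self two_ne_zero h2
    have := Submodule.sub_mem _ h4 (sum_smul_mem x hxm c)
    rwa [add_sub_cancel_right] at this
  have hc₀ : c₀ = 0 := by
    by_contra hne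
    have hu : IsUnit (algebraMap k A c₀) := (isUnit_iff_ne_zero.mpr hne).map (algebraMap k A)
    exact (IsLocalRing.mem_maximalIdeal _).mp h3 hu
  rw [hc₀, map_zero, zero_add] at h2
  have hc := hxi c h2
  rw [hc₀, hc] at h
  simpa using h

include hres hxs in
lemma exists_lin (u : A) (hu : u ∈ maximalIdeal A) :
    ∃ c : Fin n → k, u - ∑ i, c i • x i ∈ maximalIdeal A ^ 2 := by
  rw [← hxs] at hu
  obtain ⟨a, ha⟩ := Ideal.mem_span_range_iff_exists_fun.mp hu
  choose c hc using fun i => hres (a i)
  refine ⟨c, ?_⟩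
  rw [← ha, ← Finset.sum_sub_distrib]
  refine Submodule.sum_mem _ fun i _ => ?_
  have : a i * x i - c i • x i = (a i - algebraMap k A (c i)) * x i := by
    rw [Algebra.smul_def]
    ring
  rw [this, pow_two]
  refine Ideal.mul_mem_mul (hc i) ?_
  rw [← hxs]
  exact Ideal.subset_span (Set.mem_range_self i)

lemma sum_smul_mem_range (c : Fin n → k) : ∑ i, c i • x i ∈ (pi k x).range := by
  rw [← pi_sum]
  exact AlgHom.mem_range_self _ _

include hres hxm hxs in
lemma step (N : ℕ) : ∀ a ∈ maximalIdeal A ^ N, ∃ s ∈ (pi k x).range, a - s ∈ maximalIdeal A ^ (N + 1) := by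
  induction N with
  | zero =>
    intro a _
    obtain ⟨c, hc⟩ := hres a
    refine ⟨algebraMap k A c, Subalgebra.algebraMap_mem _ c, ?_⟩
    rwa [zero_add, pow_one]
  | succ N ih =>
    intro a ha
    rw [pow_succ'] at ha
    induction ha using Submodule.mul_induction_on' with
    | mem_mul_mem u hu v hv =>
      obtain ⟨sv, hsv, hv'⟩ := ih v hv
      obtain ⟨c, hc⟩ := exists_lin hres x hxs u hu
      refine ⟨(∑ i, c i • x i) * sv, Subalgebra.mul_mem _ (sum_smul_mem_range x c) hsv, ?_⟩
      have e : u * v - (∑ i, c i • x i) * sv =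
          (u - ∑ i, c i • x i) * v + (∑ i, c i • x i) * (v - sv) := by ring
      rw [e]
      refine Submodule.add_mem _ ?_ ?_
      · have : maximalIdeal A ^ (N + 1 + 1) = maximalIdeal A ^ 2 * maximalIdeal A ^ N := by
          rw [← pow_add]
          congr 1
          ring
        rw [this]
        exact Ideal.mul_mem_mul hc hv
      · rw [pow_succ' _ (N + 1)]
        exact Ideal.mul_mem_mul (sum_smul_mem x hxm c) hv'
    | add a _ b _ ha hb =>
      obtain ⟨s, hs, h1⟩ := ha
      obtain ⟨s', hs', h2⟩ := hb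
      refine ⟨s + s', Subalgebra.add_mem _ hs hs', ?_⟩
      rw [add_sub_add_comm]
      exact Submodule.add_mem _ h1 h2

include hres hxm hxs in
lemma approx (N : ℕ) : ∀ a : A, ∃ s ∈ (pi k x).range, a - s ∈ maximalIdeal A ^ N := by
  induction N with
  | zero =>
    intro a
    refine ⟨0, Subalgebra.zero_mem _, ?_⟩
    rw [pow_zero, Ideal.one_eq_top]
    exact Submodule.mem_top
  | succ N ih =>
    intro a
    obtain ⟨s, hs, h⟩ := ih a
    obtain ⟨s', hs', h'⟩ := step hres x hxm hxs N (a - s) h
    refine ⟨s + s', Subalgebra.add_mem _ hs hs', ?_⟩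
    rwa [← sub_sub]

include hres hxm hxs in
lemma pi_surjective (N : ℕ) (hN : maximalIdeal A ^ N = ⊥) : Function.Surjective (pi k x) := by
  intro a
  obtain ⟨s, hs, h⟩ := approx hres x hxm hxs N a
  rw [hN, Ideal.mem_bot, sub_eq_zero] at h
  rw [h]
  exact hs

include hxm in
lemma exists_not_mem (N : ℕ) (hN : maximalIdeal A ^ N = ⊥) (i₀ : Fin n) :
    ∃ j₀ : MvPolynomial (Fin n) k, pi k x j₀ = 0 ∧ j₀ ∉ (nn : Ideal _) * RingHom.ker (pi k x) := by
  by_contra hcon
  push Not at hcon
  have hle : RingHom.ker (pi k x) ≤ (nn : Ideal _) * RingHom.ker (pi k x) := fun f hf =>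
    hcon f ((RingHom.mem_ker).mp hf)
  have hpow : ∀ s : ℕ, RingHom.ker (pi k x) ≤ (nn : Ideal (MvPolynomial (Fin n) k)) ^ s := by
    intro s
    induction s with
    | zero => rw [pow_zero, Ideal.one_eq_top]; exact le_top
    | succ s ih =>
      rw [pow_succ']
      exact hle.trans (Ideal.mul_mono le_rfl ih)
  have hbot : RingHom.ker (pi k x) ≤ ⊥ := by
    rw [← Ideal.iInf_pow_eq_bot_of_isDomain (nn : Ideal (MvPolynomial (Fin n) k)) nn_ne_top]
    exact le_iInf hpow
  have hX : (X i₀ : MvPolynomial (Fin n) k) ^ N ∈ RingHom.ker (pi k x) := by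
    rw [RingHom.mem_ker, map_pow, pi_X]
    have : x i₀ ^ N ∈ maximalIdeal A ^ N := Ideal.pow_mem_pow (hxm i₀) N
    rwa [hN, Ideal.mem_bot] at this
  have := hbot hX
  rw [Ideal.mem_bot] at this
  exact pow_ne_zero N (X_ne_zero i₀) this

end Ring

section Final

variable {k : Type u} [Field k] {A : Type u} [CommRing A] [Algebra k A] [IsLocalRing A]
  [IsArtinianRing A]
  (hres : ∀ a : A, ∃ c : k, a - algebraMap k A c ∈ maximalIdeal A)

include hres in
lemma algebraMap_residue_bijective : Function.Bijective (algebraMap k (ResidueField A)) := by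
  refine ⟨(algebraMap k (ResidueField A)).injective, ?_⟩
  intro z
  obtain ⟨a, rfl⟩ := IsLocalRing.residue_surjective z
  obtain ⟨c, hc⟩ := hres a
  refine ⟨c, ?_⟩
  rw [IsScalarTower.algebraMap_apply k A (ResidueField A)]
  have := (IsLocalRing.residue_eq_zero_iff _).mpr hc
  rw [map_sub, sub_eq_zero] at this
  exact this.symm

lemma exists_gens : ∃ (n : ℕ) (x : Fin n → A), (∀ i, x i ∈ maximalIdeal A) ∧
    Ideal.span (Set.range x) = maximalIdeal A ∧
    ∀ c : Fin n → k, ∑ i, c i • x i ∈ maximalIdeal A ^ 2 → c = 0 := by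
  let b := Module.finBasis (ResidueField A) (CotangentSpace A)
  choose y hy using fun i => (maximalIdeal A).toCotangent_surjective (b i)
  refine ⟨_, fun i => (y i : A), fun i => (y i).2, ?_, ?_⟩
  · have h1 : Submodule.span (ResidueField A) ((maximalIdeal A).toCotangent '' Set.range y) = ⊤ := by
      rw [← Set.range_comp]
      have : (maximalIdeal A).toCotangent ∘ y = b := funext hy
      rw [this]
      exact b.span_eq
    have h2 := (IsLocalRing.CotangentSpace.span_image_eq_top_iff (s := Set.range y)).mp h1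
    have h3 := congrArg (Submodule.map (maximalIdeal A).subtype) h2
    rw [Submodule.map_span, Submodule.map_top, Submodule.range_subtype, ← Set.range_comp] at h3
    exact h3
  · intro c hc
    let z : ↥(maximalIdeal A) := ∑ i, algebraMap k A (c i) • y i
    have hz : (z : A) = ∑ i, c i • (y i : A) := by
      rw [Submodule.coe_sum]
      refine Finset.sum_congr rfl fun i _ => ?_
      rw [Submodule.coe_smul, smul_eq_mul, Algebra.smul_def]
    have h1 : (maximalIdeal A).toCotangent z = 0 := by
      rw [Ideal.toCotangent_eq_zero, hz]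
      exact hc
    have h2 : ∑ i, algebraMap k (ResidueField A) (c i) • b i = 0 := by
      rw [← h1, map_sum]
      refine Finset.sum_congr rfl fun i _ => ?_
      rw [map_smul, hy, IsScalarTower.algebraMap_apply k A (ResidueField A),
        algebraMap_smul]
    have h3 := Fintype.linearIndependent_iff.mp b.linearIndependent _ h2
    funext i
    exact (map_eq_zero_iff _ (algebraMap k (ResidueField A)).injective).mp (h3 i)

include hres in
theorem main11291 (hA : maximalIdeal A ≠ ⊥) :
    ∃ X : Exal.Ext k A (ResidueField A), ¬ X.IsTrivial := by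
  obtain ⟨n, x, hxm, hxs, hxi⟩ := exists_gens (k := k) (A := A)
  obtain ⟨N, hN⟩ : ∃ N : ℕ, maximalIdeal A ^ N = ⊥ := by
    have h := IsArtinianRing.isNilpotent_jacobson_bot (R := A)
    rw [IsLocalRing.jacobson_eq_maximalIdeal ⊥ bot_ne_top] at h
    exact h
  have hne : Nonempty (Fin n) := by
    by_contra h
    rw [not_nonempty_iff] at h
    apply hA
    rw [← hxs, Set.range_eq_empty x, Ideal.span_empty]
  obtain ⟨i₀⟩ := hne
  obtain ⟨j₀, hj₀, hj₀'⟩ := exists_not_mem (k := k) x hxm N hN i₀
  have hv : j₀ ∉ ((nn : Ideal (MvPolynomial (Fin n) k)) * RingHom.ker (pi k x)).restrictScalars k :=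
    hj₀'
  obtain ⟨ψ, hψ0, hψ1⟩ := LinearMap.exists_extend_of_notMem
    (0 : ↥(((nn : Ideal (MvPolynomial (Fin n) k)) * RingHom.ker (pi k x)).restrictScalars k) →ₗ[k] k)
    hv 1
  have hψ0' : ∀ f ∈ (nn : Ideal (MvPolynomial (Fin n) k)) * RingHom.ker (pi k x), ψ f = 0 := by
    intro f hf
    exact LinearMap.congr_fun hψ0 ⟨f, hf⟩
  let θ : k ≃+ ResidueField A :=
    (RingEquiv.ofBijective (algebraMap k (ResidueField A))
      (algebraMap_residue_bijective hres)).toAddEquiv
  have hcomp : (Algebra.ofId k (ResidueField A)).comp (eps0 (k := k) (n := n)) =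
      (IsScalarTower.toAlgHom k A (ResidueField A)).comp (pi k x) := by
    refine MvPolynomial.algHom_ext fun i => ?_
    change algebraMap k (ResidueField A) (eps0 (X i)) = algebraMap A (ResidueField A) (pi k x (X i))
    rw [eps0_X, map_zero, pi_X]
    exact ((IsLocalRing.residue_eq_zero_iff _).mpr (hxm i)).symm
  have hθ : ∀ (p : MvPolynomial (Fin n) k) (c : k), θ (eps0 p * c) = pi k x p • θ c := by
    intro p c
    change algebraMap k (ResidueField A) (eps0 p * c) =
      pi k x p • algebraMap k (ResidueField A) c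
    rw [map_mul, Algebra.smul_def]
    congr 1
    exact AlgHom.congr_fun hcomp p
  exact ⟨NonSplit.ext (pi k x) eps0 nn sub_eps0_mem ψ hψ0'
      (pi_surjective hres x hxm hxs N hN) j₀ hj₀ hψ1 θ hθ,
    NonSplit.not_isTrivial (pi k x) eps0 nn sub_eps0_mem ψ hψ0'
      (pi_surjective hres x hxm hxs N hN) j₀ hj₀ hψ1 θ hθ (ker_le_sq x hxm hxi)⟩

end Final

end Groth.Agent.Lib.helper19.ArtPres
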