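import Mathlib
import Groth.Prelude.Def_ArtFun2
import Groth.Agent.Lib.helper19.ArtDefFun

/-! Versality for small prolongations (set-valued functors). -/

set_option autoImplicit false
universe u v
open CategoryTheory IsLocalRing

namespace Groth.Agent.Lib.helper19.ArtProlong

open ArtFun ArtFun.Art Groth.Agent.Lib.helper19

section
variable {Λ : Type u} {k : Type u} [CommRing Λ] [Field k] [Algebra Λ k]

lemma dn_mul_eq_zero (x y : DualNumber k) (hx : TrivSqZeroExt.fst x = 0)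
    (hy : TrivSqZeroExt.fst y = 0) : x * y = 0 := by
  apply TrivSqZeroExt.ext
  · rw [TrivSqZeroExt.fst_mul, hx, zero_mul]; rfl
  · rw [TrivSqZeroExt.snd_mul, hx, hy]
    simp

lemma dn_eps_eq : (DualNumber.eps : DualNumber k) = TrivSqZeroExt.inr (1 : k) := rfl

lemma dn_exists_mul_eps (x : DualNumber k) (hx : TrivSqZeroExt.fst x = 0) :
    ∃ a : DualNumber k, a * DualNumber.eps = x := by
  refine ⟨TrivSqZeroExt.inl (TrivSqZeroExt.snd x), ?_⟩
  rw [dn_eps_eq]
  apply TrivSqZeroExt.ext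
  · simp only [TrivSqZeroExt.fst_mul, TrivSqZeroExt.fst_inl, TrivSqZeroExt.fst_inr, mul_zero, hx]
  · simp only [TrivSqZeroExt.snd_mul, TrivSqZeroExt.fst_inl, TrivSqZeroExt.snd_inr,
      TrivSqZeroExt.fst_inr, TrivSqZeroExt.snd_inl, smul_eq_mul, mul_one, MulOpposite.op_zero,
      zero_smul, add_zero]

lemma dn_fst_mul_eps (a : DualNumber k) : TrivSqZeroExt.fst (a * DualNumber.eps) = 0 := by
  rw [dn_eps_eq, TrivSqZeroExt.fst_mul, TrivSqZeroExt.fst_inr, mul_zero]

lemma dn_eps_ne_zero : (DualNumber.eps : DualNumber k) ≠ 0 := by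
  intro h
  have := congrArg TrivSqZeroExt.snd h
  rw [dn_eps_eq, TrivSqZeroExt.snd_inr, TrivSqZeroExt.snd_zero] at this
  exact one_ne_zero this

theorem isSmallExt_toBase_dual : IsSmallExt (toBase (dual Λ k)) := by
  have hker : ∀ x : (dual Λ k : Art Λ k), x ∈ RingHom.ker (toBase (dual Λ k)).toAlgHom ↔
      TrivSqZeroExt.fst (show DualNumber k from x) = 0 := fun x => Iff.rfl
  have hspan : RingHom.ker (toBase (dual Λ k)).toAlgHom =
      Ideal.span {(show (dual Λ k : Art Λ k) from (DualNumber.eps : DualNumber k))} := by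
    ext x
    rw [hker]
    constructor
    · intro hx
      obtain ⟨a, ha⟩ := dn_exists_mul_eps (show DualNumber k from x) hx
      exact Ideal.mem_span_singleton'.mpr ⟨a, ha⟩
    · intro hx
      obtain ⟨a, ha⟩ := Ideal.mem_span_singleton'.mp hx
      rw [← ha]
      exact dn_fst_mul_eps (show DualNumber k from a)
  refine ⟨(dual Λ k).res_surjective, ?_, ?_, ?_⟩
  · intro h
    have h1 : (show (dual Λ k : Art Λ k) from (DualNumber.eps : DualNumber k)) ∈
        RingHom.ker (toBase (dual Λ k)).toAlgHom := by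
      rw [hspan]; exact Ideal.mem_span_singleton_self _
    rw [h] at h1
    exact dn_eps_ne_zero ((Ideal.mem_bot).mp h1)
  · rw [hspan]
    exact ⟨⟨_, rfl⟩⟩
  · rw [eq_bot_iff]
    intro z hz
    refine Submodule.mul_induction_on hz ?_ ?_
    · intro x hx y hy
      have hx0 : TrivSqZeroExt.fst (show DualNumber k from x) = 0 :=
        (Art.mem_maximalIdeal_iff (dual Λ k) x).1 hx
      have hy0 : TrivSqZeroExt.fst (show DualNumber k from y) = 0 := (hker y).1 hy
      exact (Ideal.mem_bot).mpr (dn_mul_eq_zero _ _ hx0 hy0)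
    · intro x y hx hy
      rw [Ideal.mem_bot] at hx hy ⊢
      rw [hx, hy, add_zero]

variable [IsNoetherianRing Λ] [Module.Finite Λ k]

theorem main12320 (F : Art Λ k ⥤ Type v) (hF : H0 F ∧ S1 F ∧ Heps F)
    {R R₁ R' : Art Λ k} (π₁ : R₁ ⟶ R) (hπ : IsSmallExt π₁) (g : R' ⟶ R)
    (a : F.obj R) (a₁ : F.obj R₁) (a' : F.obj R') (h₁ : F.map π₁ a₁ = a) (h' : F.map g a' = a)
    (hvers : ∀ (R₀ : Art Λ k), IsSmallExt (toBase R₀) →
      ∀ b : F.obj R₀, ∃ φ : R ⟶ R₀, F.map φ a = b) :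
    (∃ f : R' ⟶ R₁, f ≫ π₁ = g ∧ F.map f a' = a₁) ↔ (∃ f : R' ⟶ R₁, f ≫ π₁ = g) := by
  constructor
  · rintro ⟨f, hf, -⟩
    exact ⟨f, hf⟩
  · rintro ⟨f₀, hf₀⟩
    have hπs : Function.Surjective π₁ := hπ.1
    have hP := isFibreProd_fibreProd π₁ π₁ hπs
    set p₁ := fibreProdFst π₁ π₁ hπs with hp₁
    set p₂ := fibreProdSnd π₁ π₁ hπs with hp₂
    obtain ⟨δ, Δ, hδ, -, -, -⟩ := exists_torsor_square π₁ hπ p₁ p₂ hP
    -- an element over `(F f₀ a', a₁)`
    have hcompat : F.map π₁ (F.map f₀ a') = F.map π₁ a₁ := by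
      rw [← Functor.map_comp_apply, hf₀, h', h₁]
    obtain ⟨ζ, hζ⟩ := hF.2.1 p₁ p₂ π₁ π₁ hP hπs ⟨(F.map f₀ a', a₁), hcompat⟩
    have hζ1 : F.map p₁ ζ = F.map f₀ a' := congrArg (fun t => t.1.1) hζ
    have hζ2 : F.map p₂ ζ = a₁ := congrArg (fun t => t.1.2) hζ
    -- the tangent vector and a map `R → k[ε]` realising it
    obtain ⟨φ, hφ⟩ := hvers (dual Λ k) isSmallExt_toBase_dual (F.map δ ζ)
    -- the map `R' → P`
    obtain ⟨w, hw1, hw2⟩ := IsFibreProd.exists_lift hδ f₀ (g ≫ φ) (by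
      rw [Art.eq_toBase (f₀ ≫ toBase R₁), Art.eq_toBase ((g ≫ φ) ≫ toBase (dual Λ k))])
    have hwζ : F.map w a' = ζ := by
      apply (hF.2.2 p₁ δ hδ).1
      apply FibProd.ext
      · change F.map p₁ (F.map w a') = F.map p₁ ζ
        rw [← Functor.map_comp_apply, hw1, hζ1]
      · change F.map δ (F.map w a') = F.map δ ζ
        rw [← Functor.map_comp_apply, hw2, Functor.map_comp_apply, h', hφ]
    refine ⟨w ≫ p₂, ?_, ?_⟩
    · rw [Category.assoc, ← hP.w, ← Category.assoc, hw1, hf₀]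
    · rw [Functor.map_comp_apply, hwζ, hζ2]

end

end Groth.Agent.Lib.helper19.ArtProlong
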