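import Mathlib
import Groth.Prelude.Def_ArtFun
import Groth.Agent.Lib.helper19.ArtFibre
import Groth.Agent.Lib.helper19.ArtBasic

set_option autoImplicit false
universe u v
open Module Submodule LinearMap IsLocalRing CategoryTheory Polynomial

namespace Groth.Agent.Lib.helper19

theorem isAdicComplete_of_pow_eq_bot {R : Type*} [CommRing R] (I : Ideal R) (n : ℕ)
    (hn : I ^ n = ⊥) : IsAdicComplete I R := by
  have hbot : (I ^ n • ⊤ : Submodule R R) = ⊥ := by
    rw [hn]; simp
  refine { haus' := ?_, prec' := ?_ }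
  · intro x hx
    have := hx n
    rw [hbot, SModEq.bot] at this
    exact this
  · intro f hf
    refine ⟨f n, fun m => ?_⟩
    rcases le_total m n with h | h
    · exact hf h
    · have := hf (m := n) (n := m) h
      rw [hbot, SModEq.bot] at this
      rw [this]

/-- uniqueness of simple roots in a residue class -/
theorem root_unique_of_isUnit_derivative {A : Type*} [CommRing A] [IsLocalRing A]
    (f : A[X]) (a b : A) (ha : f.eval a = 0) (hb : f.eval b = 0)
    (hab : b - a ∈ maximalIdeal A) (hu : IsUnit (f.derivative.eval a)) : a = b := by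
  obtain ⟨c, hc⟩ := Polynomial.binomExpansion f a (b - a)
  rw [add_sub_cancel, hb, ha, zero_add] at hc
  have h2 : (b - a) * (f.derivative.eval a + c * (b - a)) = 0 := by
    rw [hc]; ring
  have hu2 : IsUnit (f.derivative.eval a + c * (b - a)) := by
    by_contra hnu
    have hm : f.derivative.eval a + c * (b - a) ∈ maximalIdeal A := hnu
    have hm2 : c * (b - a) ∈ maximalIdeal A := Ideal.mul_mem_left _ _ hab
    have : f.derivative.eval a ∈ maximalIdeal A := by
      have := Ideal.sub_mem _ hm hm2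
      rwa [add_sub_cancel_right] at this
    exact this hu
  have := hu2.mul_left_eq_zero.mp h2
  exact (sub_eq_zero.mp this).symm

section
variable {Λ : Type u} {k : Type u} [CommRing Λ] [Field k] [Algebra Λ k]
  [IsNoetherianRing Λ] [Module.Finite Λ k]

open ArtFun ArtFun.Art

/-- The fibre product object, given surjectivity of the residue map. -/
noncomputable def fibreProd' {A A₁ A₂ : Art Λ k} (f₁ : A₁ ⟶ A) (f₂ : A₂ ⟶ A)
    (hs : Function.Surjective (A₁.res.comp (AlgHom.pullbackFst f₁.toAlgHom f₂.toAlgHom))) :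
    Art Λ k :=
  haveI : IsLocalHom f₂.toAlgHom := Art.isLocalHom f₂
  haveI : IsLocalRing (AlgHom.pullback f₁.toAlgHom f₂.toAlgHom) :=
    AlgHom.isLocalRing_pullback f₁.toAlgHom f₂.toAlgHom
  haveI : IsArtinianRing (AlgHom.pullback f₁.toAlgHom f₂.toAlgHom) :=
    isArtinianRing_subalgebra_prod A₁ A₂ _
  { carrier := AlgHom.pullback f₁.toAlgHom f₂.toAlgHom
    res := A₁.res.comp (AlgHom.pullbackFst f₁.toAlgHom f₂.toAlgHom)
    res_surjective := hs }

noncomputable def fibreProdFst' {A A₁ A₂ : Art Λ k} (f₁ : A₁ ⟶ A) (f₂ : A₂ ⟶ A)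
    (hs : Function.Surjective (A₁.res.comp (AlgHom.pullbackFst f₁.toAlgHom f₂.toAlgHom))) :
    fibreProd' f₁ f₂ hs ⟶ A₁ :=
  ⟨AlgHom.pullbackFst f₁.toAlgHom f₂.toAlgHom, rfl⟩

noncomputable def fibreProdSnd' {A A₁ A₂ : Art Λ k} (f₁ : A₁ ⟶ A) (f₂ : A₂ ⟶ A)
    (hs : Function.Surjective (A₁.res.comp (AlgHom.pullbackFst f₁.toAlgHom f₂.toAlgHom))) :
    fibreProd' f₁ f₂ hs ⟶ A₂ :=
  ⟨AlgHom.pullbackSnd f₁.toAlgHom f₂.toAlgHom, by
    apply AlgHom.ext
    intro x
    change A₂.res x.1.2 = A₁.res x.1.1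
    have hx : f₁ x.1.1 = f₂ x.1.2 := x.2
    rw [← Art.res_app f₂, ← hx, Art.res_app f₁]⟩

theorem isFibreProd_fibreProd' {A A₁ A₂ : Art Λ k} (f₁ : A₁ ⟶ A) (f₂ : A₂ ⟶ A)
    (hs : Function.Surjective (A₁.res.comp (AlgHom.pullbackFst f₁.toAlgHom f₂.toAlgHom))) :
    IsFibreProd (fibreProdFst' f₁ f₂ hs) (fibreProdSnd' f₁ f₂ hs) f₁ f₂ where
  w := by
    apply Art.hom_ext
    apply AlgHom.ext
    intro x
    exact x.2
  inj b₁ b₂ h1 h2 := by
    apply Subtype.ext
    exact Prod.ext h1 h2
  surj a' a'' h := ⟨⟨(a', a''), h⟩, rfl, rfl⟩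

/-- Hensel lifting in an Artinian local algebra: a separable element of the residue field lifts
to a root of a monic lift of its minimal polynomial. -/
theorem Art.exists_root_lift (A : Art Λ k) (P : Λ[X]) (hP : P.Monic) (c : k)
    (hc : aeval c P = 0) (hc' : aeval c (derivative P) ≠ 0) :
    ∃ a : A, aeval a P = 0 ∧ A.res a = c := by
  obtain ⟨n, hn⟩ := art_maximalIdeal_nilpotent A
  haveI : IsAdicComplete (maximalIdeal A) A := isAdicComplete_of_pow_eq_bot _ n hn
  obtain ⟨a₀, ha₀⟩ := A.res_surjective c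
  have hres : ∀ (Q : Λ[X]) (x : A), A.res (aeval x Q) = aeval (A.res x) Q := fun Q x =>
    (Polynomial.aeval_algHom_apply A.res x Q).symm
  have h1 : (P.map (algebraMap Λ A)).eval a₀ ∈ maximalIdeal A := by
    rw [Art.mem_maximalIdeal_iff, Polynomial.eval_map_algebraMap, hres, ha₀, hc]
  have h2 : IsUnit (Ideal.Quotient.mk (maximalIdeal A) ((P.map (algebraMap Λ A)).derivative.eval a₀)) := by
    apply IsUnit.map
    rw [Polynomial.derivative_map, Polynomial.eval_map_algebraMap]
    by_contra hnu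
    have hm : aeval a₀ (derivative P) ∈ maximalIdeal A := hnu
    rw [Art.mem_maximalIdeal_iff, hres, ha₀] at hm
    exact hc' hm
  obtain ⟨a, ha, haa⟩ := HenselianRing.is_henselian (I := maximalIdeal A) (P.map (algebraMap Λ A))
    (hP.map _) a₀ h1 h2
  refine ⟨a, ?_, ?_⟩
  · rw [← Polynomial.eval_map_algebraMap]
    exact ha
  · rw [Art.mem_maximalIdeal_iff, map_sub, sub_eq_zero] at haa
    rw [haa, ha₀]

/-- uniqueness of the root in the residue class -/
theorem Art.root_lift_unique (A : Art Λ k) (P : Λ[X]) (c : k)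
    (hc' : aeval c (derivative P) ≠ 0) (a b : A) (ha : aeval a P = 0) (hb : aeval b P = 0)
    (hac : A.res a = c) (hbc : A.res b = c) : a = b := by
  have hres : ∀ (Q : Λ[X]) (x : A), A.res (aeval x Q) = aeval (A.res x) Q := fun Q x =>
    (Polynomial.aeval_algHom_apply A.res x Q).symm
  apply root_unique_of_isUnit_derivative (P.map (algebraMap Λ A)) a b
  · rw [Polynomial.eval_map_algebraMap]; exact ha
  · rw [Polynomial.eval_map_algebraMap]; exact hb
  · rw [Art.mem_maximalIdeal_iff, map_sub, hac, hbc, sub_self]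
  · rw [Polynomial.derivative_map, Polynomial.eval_map_algebraMap]
    by_contra hnu
    have hm : aeval a (derivative P) ∈ maximalIdeal A := hnu
    rw [Art.mem_maximalIdeal_iff, hres, hac] at hm
    exact hc' hm

/-- a separable element of `k` over the image of `Λ` is a simple root of a monic polynomial over `Λ` -/
theorem exists_monic_lift_of_isSeparable [Algebra.IsSeparable (↥(algebraMap Λ k).range) k] (c : k) :
    ∃ P : Λ[X], P.Monic ∧ aeval c P = 0 ∧ aeval c (derivative P) ≠ 0 := by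
  set k₀ := (algebraMap Λ k).range with hk₀
  have hsep : (minpoly k₀ c).Separable := Algebra.IsSeparable.isSeparable k₀ c
  have hint : IsIntegral k₀ c := by
    by_contra h
    rw [minpoly.eq_zero h] at hsep
    exact Polynomial.not_separable_zero hsep
  have hmonic := minpoly.monic hint
  set g : Λ →+* k₀ := (algebraMap Λ k).rangeRestrict with hg
  have hgs : Function.Surjective g := (algebraMap Λ k).rangeRestrict_surjective
  have hlift : minpoly k₀ c ∈ Polynomial.lifts g := by
    rw [Polynomial.lifts_iff_coeff_lifts]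
    intro n
    exact hgs _
  obtain ⟨P, hPmap, -, hPmonic⟩ := Polynomial.lifts_and_degree_eq_and_monic hlift hmonic
  have hcomp : (algebraMap k₀ k).comp g = algebraMap Λ k := by
    ext x; rfl
  have haev : ∀ Q : Λ[X], aeval c Q = aeval c (Q.map g) := by
    intro Q
    rw [Polynomial.aeval_def, Polynomial.aeval_def, Polynomial.eval₂_map, hcomp]
  refine ⟨P, hPmonic, ?_, ?_⟩
  · rw [haev, hPmap, minpoly.aeval]
  · rw [haev, ← Polynomial.derivative_map, hPmap]
    obtain ⟨a, b, hab⟩ := hsep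
    intro hz
    have := congrArg (aeval c) hab
    rw [map_add, map_mul, map_mul, minpoly.aeval, hz, mul_zero, mul_zero, add_zero, map_one] at this
    exact zero_ne_one this

theorem surjective_res_pullbackFst_of_isSeparable [Algebra.IsSeparable (↥(algebraMap Λ k).range) k]
    {A A₁ A₂ : Art Λ k} (f₁ : A₁ ⟶ A) (f₂ : A₂ ⟶ A) :
    Function.Surjective (A₁.res.comp (AlgHom.pullbackFst f₁.toAlgHom f₂.toAlgHom)) := by
  intro c
  obtain ⟨P, hP, hc, hc'⟩ := exists_monic_lift_of_isSeparable (Λ := Λ) c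
  obtain ⟨a₁, ha₁, hr₁⟩ := Art.exists_root_lift A₁ P hP c hc hc'
  obtain ⟨a₂, ha₂, hr₂⟩ := Art.exists_root_lift A₂ P hP c hc hc'
  have heq : f₁ a₁ = f₂ a₂ := by
    apply Art.root_lift_unique A P c hc'
    · change aeval (f₁.toAlgHom a₁) P = 0
      rw [Polynomial.aeval_algHom_apply, ha₁, map_zero]
    · change aeval (f₂.toAlgHom a₂) P = 0
      rw [Polynomial.aeval_algHom_apply, ha₂, map_zero]
    · rw [Art.res_app, hr₁]
    · rw [Art.res_app, hr₂]
  exact ⟨⟨(a₁, a₂), heq⟩, hr₁⟩

theorem exists_isFibreProd_of_isSeparable [Algebra.IsSeparable (↥(algebraMap Λ k).range) k]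
    {A A₁ A₂ : Art Λ k} (f₁ : A₁ ⟶ A) (f₂ : A₂ ⟶ A) :
    ∃ (B : ArtFun.Art Λ k) (p₁ : B ⟶ A₁) (p₂ : B ⟶ A₂), ArtFun.Art.IsFibreProd p₁ p₂ f₁ f₂ :=
  ⟨_, _, _, isFibreProd_fibreProd' f₁ f₂ (surjective_res_pullbackFst_of_isSeparable f₁ f₂)⟩

end

end Groth.Agent.Lib.helper19
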