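import Mathlib
import Groth.Prelude.Def_ArtFun2
import Groth.Agent.Lib.helper19.ArtSepFibre
import Groth.Agent.Lib.helper19.ArtKaehler

set_option autoImplicit false
universe u v
open CategoryTheory IsLocalRing TensorProduct Polynomial

namespace Groth.Agent.Lib.helper19

section
variable (Λ : Type u) (k : Type u) [CommRing Λ] [Field k] [Algebra Λ k]
  [IsNoetherianRing Λ] [Module.Finite Λ k]

/-- the residue field of `Λ` at the kernel of `Λ → k` -/
abbrev KΛ : Type u := Λ ⧸ RingHom.ker (algebraMap Λ k)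

@[reducible] noncomputable def KΛ.field : Field (KΛ Λ k) :=
  haveI := ker_algebraMap_isMaximal (Λ := Λ) (k := k)
  Ideal.Quotient.field _

attribute [local instance] KΛ.field

@[reducible] noncomputable def KΛ.algebra : Algebra (KΛ Λ k) k := (RingHom.kerLift (algebraMap Λ k)).toAlgebra

attribute [local instance] KΛ.algebra

theorem KΛ.isScalarTower : IsScalarTower Λ (KΛ Λ k) k := IsScalarTower.of_algebraMap_eq (fun _ => rfl)

attribute [local instance] KΛ.isScalarTower

theorem KΛ.isSeparable [Algebra.IsSeparable (↥(algebraMap Λ k).range) k] :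
    Algebra.IsSeparable (KΛ Λ k) k := by
  refine ⟨fun c => ?_⟩
  obtain ⟨P, hP, hc, hc'⟩ := exists_monic_lift_of_isSeparable (Λ := Λ) c
  set p : (KΛ Λ k)[X] := P.map (algebraMap Λ (KΛ Λ k)) with hp
  have haev : ∀ Q : Λ[X], aeval c (Q.map (algebraMap Λ (KΛ Λ k))) = aeval c Q := by
    intro Q
    rw [Polynomial.aeval_map_algebraMap]
  have hpc : aeval c p = 0 := by rw [hp, haev, hc]
  have hint : IsIntegral (KΛ Λ k) c := ⟨p, hP.map _, by rw [← Polynomial.aeval_def]; exact hpc⟩
  obtain ⟨q, hq⟩ := minpoly.dvd (KΛ Λ k) c hpc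
  have hirr := minpoly.irreducible hint
  change (minpoly (KΛ Λ k) c).Separable
  rw [Polynomial.separable_iff_derivative_ne_zero hirr]
  intro hd
  apply hc'
  rw [← haev, ← Polynomial.derivative_map, ← hp, hq, Polynomial.derivative_mul, hd, zero_mul, zero_add,
    map_mul, minpoly.aeval, zero_mul]


variable {Λ k}

/-- coefficient field of a square-zero extension of `k` killed by `m_Λ` (separable case) -/
theorem exists_section_of_isSeparable [Algebra.IsSeparable (↥(algebraMap Λ k).range) k]
    (E : Type u) [CommRing E] [Algebra Λ E] (resE : E →ₐ[Λ] k) (hres : Function.Surjective resE)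
    (hΛ : ∀ l : Λ, algebraMap Λ k l = 0 → algebraMap Λ E l = 0)
    (hsq : ∀ u v : E, resE u = 0 → resE v = 0 → u * v = 0) :
    ∃ σ : k →ₐ[Λ] E, ∀ c, resE (σ c) = c := by
  haveI := KΛ.isSeparable Λ k
  haveI : Algebra.FormallyEtale (KΛ Λ k) k := Algebra.FormallyEtale.of_isSeparable (KΛ Λ k) k
  haveI : Algebra.FormallySmooth (KΛ Λ k) k := inferInstance
  letI algE : Algebra (KΛ Λ k) E :=
    (Ideal.Quotient.lift (RingHom.ker (algebraMap Λ k)) (algebraMap Λ E)
      (fun l hl => hΛ l hl)).toAlgebra
  haveI : IsScalarTower Λ (KΛ Λ k) E := IsScalarTower.of_algebraMap_eq (fun _ => rfl)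
  let resK : E →ₐ[KΛ Λ k] k :=
    { resE.toRingHom with
      commutes' := fun q => by
        obtain ⟨l, rfl⟩ := Ideal.Quotient.mk_surjective q
        change resE (algebraMap Λ E l) = algebraMap Λ k l
        exact resE.commutes l }
  have hresK : Function.Surjective resK := hres
  have hnil : IsNilpotent (RingHom.ker (resK : E →+* k)) := by
    refine ⟨2, ?_⟩
    rw [Ideal.zero_eq_bot, ← le_bot_iff, pow_two, Ideal.mul_le]
    intro u hu v hv
    rw [Ideal.mem_bot]
    exact hsq u v hu hv
  let σK : k →ₐ[KΛ Λ k] E :=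
    Algebra.FormallySmooth.liftOfSurjective (AlgHom.id (KΛ Λ k) k) resK hresK hnil
  refine ⟨σK.restrictScalars Λ, fun c => ?_⟩
  exact Algebra.FormallySmooth.liftOfSurjective_apply (AlgHom.id (KΛ Λ k) k) resK hresK hnil c


open ArtFun ArtFun.Art in
/-- In the separable case, derivations separate the relative cotangent space. -/
theorem Art.exists_deriv_ne_zero_of_isSeparable [Algebra.IsSeparable (↥(algebraMap Λ k).range) k]
    (B : Art Λ k) [Algebra B k] [IsScalarTower Λ B k] (hB : ∀ b, algebraMap B k b = B.res b)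
    (b : B) (hb : b ∈ maximalIdeal B)
    (hbJ : b ∉ Ideal.map (algebraMap Λ B) (RingHom.ker (algebraMap Λ k)) ⊔ maximalIdeal B ^ 2) :
    ∃ D : Derivation Λ B k, D b ≠ 0 := by
  set J : Ideal B := Ideal.map (algebraMap Λ B) (RingHom.ker (algebraMap Λ k)) ⊔ maximalIdeal B ^ 2
    with hJ
  have hJle : ∀ x ∈ J, B.res x = 0 := by
    intro x hx
    rw [← Art.mem_maximalIdeal_iff]
    have hΛ : Ideal.map (algebraMap Λ B) (RingHom.ker (algebraMap Λ k)) ≤ maximalIdeal B := by
      rw [Ideal.map_le_iff_le_comap]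
      intro r hr
      rw [Ideal.mem_comap, Art.mem_maximalIdeal_iff, B.res.commutes]
      exact hr
    exact (sup_le hΛ (Ideal.pow_le_self (by norm_num))) hx
  let E := B ⧸ J
  let q : B →ₐ[Λ] E := Ideal.Quotient.mkₐ Λ J
  let resE : E →ₐ[Λ] k := Ideal.Quotient.liftₐ J B.res hJle
  have hresq : ∀ x, resE (q x) = B.res x := fun x => rfl
  have hqs : Function.Surjective q := Ideal.Quotient.mk_surjective
  have hres : Function.Surjective resE := by
    intro c
    obtain ⟨x, hx⟩ := B.res_surjective c
    exact ⟨q x, hx⟩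
  have hΛ : ∀ l : Λ, algebraMap Λ k l = 0 → algebraMap Λ E l = 0 := by
    intro l hl
    change q (algebraMap Λ B l) = 0
    apply Ideal.Quotient.eq_zero_iff_mem.mpr
    exact Ideal.mem_sup_left (Ideal.mem_map_of_mem _ hl)
  have hsq : ∀ u v : E, resE u = 0 → resE v = 0 → u * v = 0 := by
    intro u v hu hv
    obtain ⟨x, rfl⟩ := hqs u
    obtain ⟨y, rfl⟩ := hqs v
    rw [hresq, ← Art.mem_maximalIdeal_iff] at hu hv
    rw [← map_mul]
    apply Ideal.Quotient.eq_zero_iff_mem.mpr
    apply Ideal.mem_sup_right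
    rw [pow_two]
    exact Ideal.mul_mem_mul hu hv
  obtain ⟨σ, hσ⟩ := exists_section_of_isSeparable E resE hres hΛ hsq
  letI : Module k E := Module.compHom E σ.toRingHom
  have hsmul : ∀ (c : k) (e : E), c • e = σ c * e := fun c e => rfl
  have he : q b ≠ 0 := by
    intro h
    exact hbJ (Ideal.Quotient.eq_zero_iff_mem.mp h)
  obtain ⟨L, hL⟩ : ∃ L : Module.Dual k E, L (q b) ≠ 0 := by
    by_contra hcon
    push Not at hcon
    exact he ((Module.forall_dual_apply_eq_zero_iff k (q b)).mp hcon)
  have hresb : B.res b = 0 := (Art.mem_maximalIdeal_iff B b).mp hb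
  let π : B → E := fun x => q x - σ (B.res x)
  have hπres : ∀ x, resE (π x) = 0 := by
    intro x
    change resE (q x - σ (B.res x)) = 0
    rw [map_sub, hresq, hσ, sub_self]
  have hπmul : ∀ x y, π (x * y) = B.res x • π y + B.res y • π x := by
    intro x y
    have h0 := hsq _ _ (hπres x) (hπres y)
    change (q x - σ (B.res x)) * (q y - σ (B.res y)) = 0 at h0
    change q (x * y) - σ (B.res (x * y)) = σ (B.res x) * (q y - σ (B.res y)) +
      σ (B.res y) * (q x - σ (B.res x))
    rw [map_mul, map_mul, map_mul]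
    linear_combination h0
  refine ⟨{ toFun := fun x => L (π x)
            map_add' := ?_
            map_smul' := ?_
            map_one_eq_zero' := ?_
            leibniz' := ?_ }, ?_⟩
  · intro x y
    rw [← map_add]
    congr 1
    change q (x + y) - σ (B.res (x + y)) = (q x - σ (B.res x)) + (q y - σ (B.res y))
    rw [map_add, map_add, map_add]
    ring
  · intro l x
    change L (π (l • x)) = l • L (π x)
    have : π (l • x) = (algebraMap Λ k l) • π x := by
      change q (l • x) - σ (B.res (l • x)) = σ (algebraMap Λ k l) * (q x - σ (B.res x))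
      rw [map_smul, map_smul, map_smul, σ.commutes, Algebra.smul_def, Algebra.smul_def]
      ring
    rw [this, map_smul, smul_eq_mul, Algebra.smul_def]
  · change L (π 1) = 0
    have : π 1 = 0 := by
      change q 1 - σ (B.res 1) = 0
      rw [map_one, map_one, map_one, sub_self]
    rw [this, map_zero]
  · intro x y
    change L (π (x * y)) = x • L (π y) + y • L (π x)
    rw [hπmul, map_add, map_smul, map_smul, Algebra.smul_def x, Algebra.smul_def y, hB, hB]
    rfl
  · change L (q b - σ (B.res b)) ≠ 0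
    rw [hresb, map_zero, sub_zero]
    exact hL


open ArtFun ArtFun.Art in
/-- derivations into `k` kill `m_Λ C + m_C²` -/
theorem Art.deriv_eq_zero_of_mem (C : Art Λ k) [Algebra C k] [IsScalarTower Λ C k]
    (hC : ∀ c, algebraMap C k c = C.res c) (D : Derivation Λ C k) (x : C)
    (hx : x ∈ Ideal.map (algebraMap Λ C) (RingHom.ker (algebraMap Λ k)) ⊔ maximalIdeal C ^ 2) :
    D x = 0 := by
  obtain ⟨y, hy, z, hz, rfl⟩ := Submodule.mem_sup.mp hx
  have hy0 : C.res y = 0 ∧ D y = 0 := by
    refine Submodule.span_induction (p := fun y _ => C.res y = 0 ∧ D y = 0) ?_ ?_ ?_ ?_ hy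
    · rintro _ ⟨l, hl, rfl⟩
      refine ⟨?_, D.map_algebraMap l⟩
      change C.res (algebraMap Λ C l) = 0
      rw [C.res.commutes]
      exact hl
    · exact ⟨map_zero _, map_zero D⟩
    · intro u v _ _ hu hv
      refine ⟨?_, ?_⟩
      · rw [map_add, hu.1, hv.1, add_zero]
      · rw [map_add, hu.2, hv.2, add_zero]
    · intro c u _ hu
      refine ⟨?_, ?_⟩
      · rw [smul_eq_mul, map_mul, hu.1, mul_zero]
      · rw [smul_eq_mul, D.leibniz, hu.2, smul_zero, zero_add, Algebra.smul_def, hC, hu.1, zero_mul]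
  have hz0 : D z = 0 := by
    rw [pow_two] at hz
    refine Submodule.mul_induction_on hz ?_ ?_
    · intro a ha b hb
      rw [Art.mem_maximalIdeal_iff] at ha hb
      rw [D.leibniz, Algebra.smul_def, Algebra.smul_def, hC, hC, ha, hb, zero_mul, zero_mul,
        add_zero]
    · intro u v hu hv
      rw [map_add, hu, hv, add_zero]
  rw [map_add, hy0.2, hz0, add_zero]

end

end Groth.Agent.Lib.helper19
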