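import Mathlib
import Groth.Prelude.Def_ArtFun2
import Groth.Agent.Lib.helper19.ArtDefFun
import Groth.Agent.S12717

/-! Smoothness of a composite `F → G → H` of morphisms of functors of Artin rings. -/

set_option autoImplicit false
universe u v
open CategoryTheory IsLocalRing

namespace Groth.Agent.Lib.helper19.ArtSmoothComp

open ArtFun ArtFun.Art Groth.Agent.Lib.helper19

section
variable {Λ : Type u} {k : Type u} [CommRing Λ] [Field k] [Algebra Λ k]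
  [IsNoetherianRing Λ] [Module.Finite Λ k]

theorem isSmooth_comp {F G H : Art Λ k ⥤ Type v} (φ : F ⟶ G) (ψ : G ⟶ H)
    (hφ : IsSmooth φ) (hψ : IsSmooth ψ) : IsSmooth (φ ≫ ψ) := by
  intro B A μ hμ
  rintro ⟨⟨x, z'⟩, hxz⟩
  have hxz' : ψ.app A (φ.app A x) = H.map μ z' := hxz
  obtain ⟨y', hy'⟩ := hψ μ hμ ⟨(φ.app A x, z'), hxz'⟩
  have hy1 : G.map μ y' = φ.app A x := congrArg (fun t => t.1.1) hy'
  have hy2 : ψ.app B y' = z' := congrArg (fun t => t.1.2) hy'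
  obtain ⟨x', hx'⟩ := hφ μ hμ ⟨(x, y'), hy1.symm⟩
  have hx1 : F.map μ x' = x := congrArg (fun t => t.1.1) hx'
  have hx2 : φ.app B x' = y' := congrArg (fun t => t.1.2) hx'
  refine ⟨x', ?_⟩
  apply Subtype.ext
  apply Prod.ext
  · exact hx1
  · change ψ.app B (φ.app B x') = z'
    rw [hx2, hy2]

/-- Two liftings over a small extension with the same image under a tangent-injective morphism to
a homogeneous functor coincide. -/
theorem eq_of_small {G H : Art Λ k ⥤ Type v} (ψ : G ⟶ H)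
    (hG1 : S1 G) (hGe : Heps G)
    (hH : ∀ ⦃B A A' A'' : Art Λ k⦄ (p' : B ⟶ A') (p'' : B ⟶ A'') (f' : A' ⟶ A) (f'' : A'' ⟶ A)
      (h : Art.IsFibreProd p' p'' f' f''), Function.Surjective f'' → Function.Bijective (cmp H h))
    (hψ : Function.Injective (TangentSpace.map ψ))
    {A' A : Art Λ k} (f : A' ⟶ A) (hf : IsSmallExt f) (η₁ η₂ : G.obj A')
    (h12 : G.map f η₁ = G.map f η₂) (hψ12 : ψ.app A' η₁ = ψ.app A' η₂) : η₁ = η₂ := by
  have hfs : Function.Surjective f := hf.1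
  have hP := isFibreProd_fibreProd f f hfs
  set p₁ := fibreProdFst f f hfs with hp₁
  set p₂ := fibreProdSnd f f hfs with hp₂
  obtain ⟨δ, Δ, hδ, hΔ1, hΔ2, -⟩ := exists_torsor_square f hf p₁ p₂ hP
  obtain ⟨ζ, hζ⟩ := hG1 p₁ p₂ f f hP hfs ⟨(η₁, η₂), h12⟩
  have hζ1 : G.map p₁ ζ = η₁ := congrArg (fun t => t.1.1) hζ
  have hζ2 : G.map p₂ ζ = η₂ := congrArg (fun t => t.1.2) hζ
  set ζ₀ := G.map Δ η₁ with hζ₀
  have hζ₀1 : G.map p₁ ζ₀ = η₁ := by
    rw [hζ₀, ← Functor.map_comp_apply, hΔ1, G.map_id]; rfl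
  have hζ₀2 : G.map p₂ ζ₀ = η₁ := by
    rw [hζ₀, ← Functor.map_comp_apply, hΔ2, G.map_id]; rfl
  -- the images in `H(P)` coincide
  have hHeq : ψ.app _ ζ = ψ.app _ ζ₀ := by
    apply (hH p₁ p₂ f f hP hfs).1
    apply FibProd.ext
    · change H.map p₁ (ψ.app _ ζ) = H.map p₁ (ψ.app _ ζ₀)
      rw [← NatTrans.naturality_apply ψ p₁ ζ, ← NatTrans.naturality_apply ψ p₁ ζ₀, hζ1, hζ₀1]
    · change H.map p₂ (ψ.app _ ζ) = H.map p₂ (ψ.app _ ζ₀)
      rw [← NatTrans.naturality_apply ψ p₂ ζ, ← NatTrans.naturality_apply ψ p₂ ζ₀, hζ2, hζ₀2,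
        hψ12]
  have hδeq : G.map δ ζ = G.map δ ζ₀ := by
    apply hψ
    change ψ.app _ (G.map δ ζ) = ψ.app _ (G.map δ ζ₀)
    rw [NatTrans.naturality_apply ψ δ ζ, NatTrans.naturality_apply ψ δ ζ₀, hHeq]
  have hζeq : ζ = ζ₀ := by
    apply (hGe p₁ δ hδ).1
    apply FibProd.ext
    · change G.map p₁ ζ = G.map p₁ ζ₀
      rw [hζ1, hζ₀1]
    · exact hδeq
  rw [← hζ2, hζeq, hζ₀2]

theorem main12316 {F G H : Art Λ k ⥤ Type v} (φ : F ⟶ G) (ψ : G ⟶ H)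
    (hF : H0 F) (hG : H0 G ∧ S1 G ∧ Heps G)
    (hH : ∀ ⦃B A A' A'' : Art Λ k⦄ (p' : B ⟶ A') (p'' : B ⟶ A'') (f' : A' ⟶ A) (f'' : A'' ⟶ A)
      (h : Art.IsFibreProd p' p'' f' f''), Function.Surjective f'' → Function.Bijective (cmp H h))
    (hψ : Function.Injective (TangentSpace.map ψ)) :
    IsSmooth (φ ≫ ψ) ↔ (IsSmooth φ ∧ IsSmooth ψ) := by
  constructor
  · intro hs
    have hφ : IsSmooth φ := by
      apply Groth.Agent.S12717.result
      intro A' A μ hμ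
      rintro ⟨⟨ξ, η'⟩, hξη⟩
      have hξη' : φ.app A ξ = G.map μ η' := hξη
      obtain ⟨ξ', hξ'⟩ := hs μ hμ.1 ⟨(ξ, ψ.app A' η'), by
        change ψ.app A (φ.app A ξ) = H.map μ (ψ.app A' η')
        rw [hξη', NatTrans.naturality_apply ψ μ η']⟩
      have hξ1 : F.map μ ξ' = ξ := congrArg (fun t => t.1.1) hξ'
      have hξ2 : ψ.app A' (φ.app A' ξ') = ψ.app A' η' := congrArg (fun t => t.1.2) hξ'
      refine ⟨ξ', ?_⟩
      apply Subtype.ext
      apply Prod.ext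
      · exact hξ1
      · change φ.app A' ξ' = η'
        apply eq_of_small ψ hG.2.1 hG.2.2 hH hψ μ hμ _ _ _ hξ2
        rw [← NatTrans.naturality_apply φ μ ξ', hξ1, hξη']
    refine ⟨hφ, ?_⟩
    intro B A μ hμ
    rintro ⟨⟨η, ζ'⟩, hηζ⟩
    have hηζ' : ψ.app A η = H.map μ ζ' := hηζ
    obtain ⟨ξ, rfl⟩ := app_surjective_of_isSmooth φ hφ (app_base_surjective hF hG.1 φ) A η
    obtain ⟨ξ', hξ'⟩ := hs μ hμ ⟨(ξ, ζ'), hηζ'⟩
    have hξ1 : F.map μ ξ' = ξ := congrArg (fun t => t.1.1) hξ'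
    have hξ2 : ψ.app B (φ.app B ξ') = ζ' := congrArg (fun t => t.1.2) hξ'
    refine ⟨φ.app B ξ', ?_⟩
    apply Subtype.ext
    apply Prod.ext
    · change G.map μ (φ.app B ξ') = φ.app A ξ
      rw [← NatTrans.naturality_apply φ μ ξ', hξ1]
    · exact hξ2
  · rintro ⟨hφ, hψ'⟩
    exact isSmooth_comp φ ψ hφ hψ'

end

end Groth.Agent.Lib.helper19.ArtSmoothComp
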