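import Mathlib

/-! Automorphisms of a flat deformation lifting a given automorphism modulo a socle element `t`
form a torsor under the derivations of the closed fibre. -/

set_option autoImplicit false
universe u

namespace Groth.Agent.Lib.helper19.AutLift

open IsLocalRing

section Key

variable {A : Type u} [CommRing A] [IsLocalRing A]
  (t : A) (htm : ∀ a ∈ maximalIdeal A, a * t = 0)
  {B : Type u} [CommRing B] [Algebra A B]

include htm in
lemma t_mul_eq_zero_of_mem (x : B) (hx : x ∈ (maximalIdeal A).map (algebraMap A B)) :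
    algebraMap A B t * x = 0 := by
  unfold Ideal.map at hx
  induction hx using Submodule.span_induction with
  | mem x hx =>
    obtain ⟨a, ha, rfl⟩ := hx
    rw [← map_mul, mul_comm, htm a ha, map_zero]
  | zero => rw [mul_zero]
  | add x y _ _ hx hy => rw [mul_add, hx, hy, add_zero]
  | smul r x _ hx => rw [smul_eq_mul, mul_left_comm, hx, mul_zero]

include htm in
lemma mem_of_t_mul_eq_zero [Module.Flat A B] (ht0 : t ≠ 0) (x : B)
    (hx : algebraMap A B t * x = 0) : x ∈ (maximalIdeal A).map (algebraMap A B) := by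
  have h : ∑ i : Fin 1, (fun _ => t : Fin 1 → A) i • (fun _ => x : Fin 1 → B) i = 0 := by
    simp only [Finset.univ_unique, Finset.sum_singleton]
    rw [Algebra.smul_def]
    exact hx
  obtain ⟨l, a, y, hxy, hay⟩ := Module.Flat.isTrivialRelation_of_sum_smul_eq_zero
    (R := A) (M := B) (f := (fun _ => t : Fin 1 → A)) (x := (fun _ => x : Fin 1 → B)) h
  have hx' := hxy 0
  simp only at hx'
  rw [hx']
  refine Submodule.sum_mem _ fun j _ => ?_
  have hj := hay j
  simp only [Finset.univ_unique, Finset.sum_singleton] at hj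
  have ham : a 0 j ∈ maximalIdeal A := by
    by_contra hnot
    have hu : IsUnit (a 0 j) := by
      by_contra hnu
      exact hnot ((IsLocalRing.mem_maximalIdeal _).mpr hnu)
    exact ht0 ((hu.mul_left_eq_zero).mp hj)
  rw [Algebra.smul_def]
  exact Ideal.mul_mem_right _ _ (Ideal.mem_map_of_mem _ ham)

include htm in
lemma span_t_le (ht : t ∈ maximalIdeal A) :
    Ideal.span {algebraMap A B t} ≤ (maximalIdeal A).map (algebraMap A B) := by
  rw [Ideal.span_singleton_le_iff_mem]
  exact Ideal.mem_map_of_mem _ ht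

/-- multiplication by `t`, as a map from the closed fibre. -/
noncomputable def mu : (B ⧸ (maximalIdeal A).map (algebraMap A B)) →ₗ[B] B :=
  Submodule.liftQ ((maximalIdeal A).map (algebraMap A B)) (LinearMap.mulLeft B (algebraMap A B t))
    (fun x hx => by
      rw [LinearMap.mem_ker, LinearMap.mulLeft_apply]
      exact t_mul_eq_zero_of_mem t htm x hx)

lemma mu_mk (b : B) :
    mu t htm (Ideal.Quotient.mk ((maximalIdeal A).map (algebraMap A B)) b) =
      algebraMap A B t * b := rfl

lemma mu_injective [Module.Flat A B] (ht0 : t ≠ 0) : Function.Injective (mu (B := B) t htm) := by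
  rw [← LinearMap.ker_eq_bot, LinearMap.ker_eq_bot']
  intro β hβ
  obtain ⟨b, rfl⟩ := Ideal.Quotient.mk_surjective β
  rw [mu_mk] at hβ
  exact Ideal.Quotient.eq_zero_iff_mem.mpr (mem_of_t_mul_eq_zero t htm ht0 b hβ)

lemma mu_mem_span (β : B ⧸ (maximalIdeal A).map (algebraMap A B)) :
    mu t htm β ∈ Ideal.span {algebraMap A B t} := by
  obtain ⟨b, rfl⟩ := Ideal.Quotient.mk_surjective β
  rw [mu_mk]
  exact Ideal.mul_mem_right _ _ (Ideal.mem_span_singleton_self _)

lemma exists_mu_eq (x : B) (hx : x ∈ Ideal.span {algebraMap A B t}) :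
    ∃ β, mu (B := B) t htm β = x := by
  obtain ⟨c, rfl⟩ := Ideal.mem_span_singleton'.mp hx
  exact ⟨Ideal.Quotient.mk _ c, by rw [mu_mk, mul_comm]⟩

lemma mul_mu_of_sub_mem (x y : B) (hxy : x - y ∈ (maximalIdeal A).map (algebraMap A B))
    (β : B ⧸ (maximalIdeal A).map (algebraMap A B)) :
    x * mu t htm β = y * mu t htm β := by
  obtain ⟨b, rfl⟩ := Ideal.Quotient.mk_surjective β
  rw [mu_mk, ← sub_eq_zero, ← sub_mul]
  have := t_mul_eq_zero_of_mem (B := B) t htm (x - y) hxy
  calc (x - y) * (algebraMap A B t * b) = (algebraMap A B t * (x - y)) * b := by ring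
    _ = 0 := by rw [this, zero_mul]

lemma mu_mul_mu (β γ : B ⧸ (maximalIdeal A).map (algebraMap A B)) (ht : t ∈ maximalIdeal A) :
    mu t htm β * mu t htm γ = 0 := by
  obtain ⟨b, rfl⟩ := Ideal.Quotient.mk_surjective β
  obtain ⟨c, rfl⟩ := Ideal.Quotient.mk_surjective γ
  rw [mu_mk, mu_mk]
  have : algebraMap A B t * algebraMap A B t = 0 := by
    rw [← map_mul, htm t ht, map_zero]
  calc algebraMap A B t * b * (algebraMap A B t * c)
      = (algebraMap A B t * algebraMap A B t) * (b * c) := by ring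
    _ = 0 := by rw [this, zero_mul]

end Key

section Main

variable {k : Type u} [Field k] {A : Type u} [CommRing A] [Algebra k A] [IsLocalRing A]
  (hres : ∀ a : A, ∃ c : k, a - algebraMap k A c ∈ maximalIdeal A)
  (t : A) (ht : t ∈ maximalIdeal A) (htm : ∀ a ∈ maximalIdeal A, a * t = 0)
  {B : Type u} [CommRing B] [Algebra A B] [Algebra k B] [IsScalarTower k A B]

local notation "mB" => Ideal.map (algebraMap A B) (maximalIdeal A)
local notation "B₀" => B ⧸ Ideal.map (algebraMap A B) (maximalIdeal A)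

lemma mu_mk_mul (b : B) (β : B₀) :
    mu t htm (Ideal.Quotient.mk mB b * β) = b * mu t htm β := by
  obtain ⟨c, rfl⟩ := Ideal.Quotient.mk_surjective β
  rw [← map_mul, mu_mk, mu_mk]
  ring

lemma mu_smul (c : k) (β : B₀) : mu t htm (c • β) = c • mu t htm β := by
  obtain ⟨b, rfl⟩ := Ideal.Quotient.mk_surjective β
  have : c • Ideal.Quotient.mk mB b = Ideal.Quotient.mk mB (c • b) := rfl
  rw [this, mu_mk, mu_mk, mul_smul_comm]

include hres in
lemma mk_algebraMap_eq (a : A) : ∃ c : k,
    Ideal.Quotient.mk mB (algebraMap A B a) = algebraMap k B₀ c := by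
  obtain ⟨c, hc⟩ := hres a
  refine ⟨c, ?_⟩
  rw [← Ideal.Quotient.mk_algebraMap, Ideal.Quotient.eq, IsScalarTower.algebraMap_apply k A B,
    ← map_sub]
  exact Ideal.mem_map_of_mem _ hc

section FromDer

variable (τ : B ≃ₐ[A] B) (hτ0 : ∀ b : B, τ b - b ∈ Ideal.map (algebraMap A B) (maximalIdeal A))
  (d : Derivation k (B ⧸ Ideal.map (algebraMap A B) (maximalIdeal A))
    (B ⧸ Ideal.map (algebraMap A B) (maximalIdeal A)))

/-- the correction term. -/
noncomputable def dlt (b : B) : B := mu t htm (d (Ideal.Quotient.mk mB b))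

lemma dlt_add (b c : B) : dlt t htm d (b + c) = dlt t htm d b + dlt t htm d c := by
  unfold dlt
  rw [map_add, map_add, map_add]

lemma dlt_mul (b c : B) :
    dlt t htm d (b * c) = b * dlt t htm d c + c * dlt t htm d b := by
  unfold dlt
  rw [map_mul, Derivation.leibniz, map_add, smul_eq_mul, smul_eq_mul, mu_mk_mul, mu_mk_mul]

lemma dlt_of_mem (b : B) (hb : b ∈ mB) : dlt t htm d b = 0 := by
  unfold dlt
  rw [Ideal.Quotient.eq_zero_iff_mem.mpr hb, map_zero, map_zero]

include hres in
lemma dlt_algebraMap (a : A) : dlt t htm d (algebraMap A B a) = 0 := by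
  unfold dlt
  obtain ⟨c, hc⟩ := mk_algebraMap_eq (B := B) hres a
  rw [hc, Derivation.map_algebraMap, map_zero]

lemma dlt_mem_span (b : B) : dlt t htm d b ∈ Ideal.span {algebraMap A B t} :=
  mu_mem_span t htm _

include ht in
lemma dlt_mem (b : B) : dlt t htm d b ∈ mB :=
  span_t_le t htm ht (dlt_mem_span t htm d b)

include hτ0 in
lemma tau_mem (b : B) (hb : b ∈ mB) : τ b ∈ mB := by
  have := Ideal.add_mem _ (hτ0 b) hb
  rwa [sub_add_cancel] at this

/-- the automorphism `τ + t d`, as an algebra map. -/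
noncomputable def etaHom : B →ₐ[A] B where
  toFun b := τ b + dlt t htm d b
  map_one' := by
    have : dlt t htm d 1 = 0 := by
      unfold dlt
      rw [map_one, Derivation.map_one_eq_zero, map_zero]
    rw [map_one, this, add_zero]
  map_mul' b c := by
    rw [map_mul, dlt_mul]
    have h1 : τ b * dlt t htm d c = b * dlt t htm d c :=
      mul_mu_of_sub_mem t htm _ _ (hτ0 b) _
    have h2 : τ c * dlt t htm d b = c * dlt t htm d b :=
      mul_mu_of_sub_mem t htm _ _ (hτ0 c) _
    have h3 : dlt t htm d b * dlt t htm d c = 0 := mu_mul_mu t htm _ _ ht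
    calc τ b * τ c + (b * dlt t htm d c + c * dlt t htm d b)
        = τ b * τ c + (τ b * dlt t htm d c + τ c * dlt t htm d b) + 0 := by
          rw [h1, h2, add_zero]
      _ = τ b * τ c + (τ b * dlt t htm d c + τ c * dlt t htm d b) +
            dlt t htm d b * dlt t htm d c := by rw [h3]
      _ = (τ b + dlt t htm d b) * (τ c + dlt t htm d c) := by ring
  map_zero' := by
    have : dlt t htm d 0 = 0 := by
      unfold dlt
      rw [map_zero, map_zero, map_zero]
    rw [map_zero, this, add_zero]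
  map_add' b c := by
    rw [map_add, dlt_add]
    abel
  commutes' a := by
    change τ (algebraMap A B a) + dlt t htm d (algebraMap A B a) = algebraMap A B a
    rw [dlt_algebraMap hres, add_zero, AlgEquiv.commutes]

lemma etaHom_apply (b : B) :
    etaHom hres t ht htm τ hτ0 d b = τ b + dlt t htm d b := rfl

lemma etaHom_bijective : Function.Bijective (etaHom hres t ht htm τ hτ0 d) := by
  have htau_t : ∀ x : B, τ.symm (algebraMap A B t * x) = algebraMap A B t * τ.symm x := by
    intro x
    rw [map_mul, AlgEquiv.commutes]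
  constructor
  · rw [injective_iff_map_eq_zero]
    intro b hb
    rw [etaHom_apply] at hb
    have h1 : τ b = - dlt t htm d b := eq_neg_of_add_eq_zero_left hb
    obtain ⟨c, hc⟩ := Ideal.mem_span_singleton'.mp (dlt_mem_span t htm d b)
    have h2 : b = τ.symm (algebraMap A B t * (-c)) := by
      rw [AlgEquiv.eq_symm_apply, h1, ← hc]
      ring
    have hbm : b ∈ mB := by
      rw [h2, htau_t]
      exact Ideal.mul_mem_right _ _ (Ideal.mem_map_of_mem _ ht)
    rw [dlt_of_mem t htm d b hbm, neg_zero] at h1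
    exact (map_eq_zero_iff τ τ.injective).mp h1
  · intro y
    obtain ⟨c, hc⟩ := Ideal.mem_span_singleton'.mp (dlt_mem_span t htm d (τ.symm y))
    have hb2 : τ.symm (algebraMap A B t * c) ∈ mB := by
      rw [htau_t]
      exact Ideal.mul_mem_right _ _ (Ideal.mem_map_of_mem _ ht)
    refine ⟨τ.symm y - τ.symm (algebraMap A B t * c), ?_⟩
    rw [etaHom_apply]
    have hsub : dlt t htm d (τ.symm y - τ.symm (algebraMap A B t * c)) =
        dlt t htm d (τ.symm y) := by
      have := dlt_add t htm d (τ.symm y - τ.symm (algebraMap A B t * c))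
        (τ.symm (algebraMap A B t * c))
      rw [sub_add_cancel, dlt_of_mem t htm d _ hb2, add_zero] at this
      exact this.symm
    rw [hsub, map_sub, AlgEquiv.apply_symm_apply, AlgEquiv.apply_symm_apply, ← hc]
    ring

/-- the automorphism `τ + t d`. -/
noncomputable def eta : B ≃ₐ[A] B :=
  AlgEquiv.ofBijective (etaHom hres t ht htm τ hτ0 d) (etaHom_bijective hres t ht htm τ hτ0 d)

lemma eta_apply (b : B) : eta hres t ht htm τ hτ0 d b = τ b + dlt t htm d b := rfl

lemma eta_formula (b b' : B) (hb : Ideal.Quotient.mk mB b' = d (Ideal.Quotient.mk mB b)) :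
    eta hres t ht htm τ hτ0 d b = τ b + algebraMap A B t * b' := by
  rw [eta_apply]
  unfold dlt
  rw [← hb, mu_mk]

lemma eta_mk (b : B) :
    Ideal.Quotient.mk (Ideal.span {algebraMap A B t}) (eta hres t ht htm τ hτ0 d b) =
      Ideal.Quotient.mk (Ideal.span {algebraMap A B t}) (τ b) := by
  rw [eta_apply, map_add, Ideal.Quotient.eq_zero_iff_mem.mpr (dlt_mem_span t htm d b), add_zero]

end FromDer

section FromAut

variable [Module.Flat A B] (ht0 : t ≠ 0)
  (τ η : B ≃ₐ[A] B) (hτ0 : ∀ b : B, τ b - b ∈ Ideal.map (algebraMap A B) (maximalIdeal A))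
  (hητ : ∀ b : B, η b - τ b ∈ Ideal.span {algebraMap A B t})

/-- the class of `(η b - τ b) / t`. -/
noncomputable def D0 (b : B) : B ⧸ Ideal.map (algebraMap A B) (maximalIdeal A) :=
  Classical.choose (exists_mu_eq t htm _ (hητ b))

lemma mu_D0 (b : B) : mu t htm (D0 t htm τ η hητ b) = η b - τ b :=
  Classical.choose_spec (exists_mu_eq t htm _ (hητ b))

include ht0 in
lemma D0_eq_iff (b : B) (β : B₀) : D0 t htm τ η hητ b = β ↔ η b - τ b = mu t htm β := by
  rw [← mu_D0 t htm τ η hητ b]
  exact ⟨fun h => by rw [h], fun h => mu_injective t htm ht0 h⟩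

include ht0 in
lemma D0_add (b c : B) :
    D0 t htm τ η hητ (b + c) = D0 t htm τ η hητ b + D0 t htm τ η hητ c := by
  rw [D0_eq_iff t htm ht0, LinearMap.map_add (mu t htm), mu_D0, mu_D0, map_add, map_add]
  ring

include ht0 in
lemma D0_smul (c : k) (b : B) :
    D0 t htm τ η hητ (c • b) = c • D0 t htm τ η hητ b := by
  rw [D0_eq_iff t htm ht0, mu_smul, mu_D0, smul_sub]
  have h1 : c • b = algebraMap k A c • b := (algebraMap_smul A c b).symm
  have h2 : ∀ y : B, c • y = algebraMap k A c • y := fun y => (algebraMap_smul A c y).symm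
  rw [h1, map_smul, map_smul, ← h2, ← h2]

include ht htm hτ0 hητ in
lemma eta_sub_mem (b : B) : η b - b ∈ mB := by
  have h1 := span_t_le t htm ht (hητ b)
  have := Ideal.add_mem _ h1 (hτ0 b)
  rwa [sub_add_sub_cancel] at this

include ht0 ht hτ0 in
lemma D0_mul (b c : B) :
    D0 t htm τ η hητ (b * c) =
      Ideal.Quotient.mk mB b * D0 t htm τ η hητ c + Ideal.Quotient.mk mB c * D0 t htm τ η hητ b := by
  rw [D0_eq_iff t htm ht0, map_add, mu_mk_mul, mu_mk_mul, map_mul, map_mul]
  have h1 : η b * mu t htm (D0 t htm τ η hητ c) = b * mu t htm (D0 t htm τ η hητ c) :=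
    mul_mu_of_sub_mem t htm _ _ (eta_sub_mem t ht htm τ η hτ0 hητ b) _
  have h2 : τ c * mu t htm (D0 t htm τ η hητ b) = c * mu t htm (D0 t htm τ η hητ b) :=
    mul_mu_of_sub_mem t htm _ _ (hτ0 c) _
  rw [← h1, ← h2, mu_D0, mu_D0]
  ring

include ht0 ht hτ0 in
lemma D0_of_mem (b : B) (hb : b ∈ mB) : D0 t htm τ η hητ b = 0 := by
  rw [D0_eq_iff t htm ht0, map_zero]
  unfold Ideal.map at hb
  induction hb using Submodule.span_induction with
  | mem x hx =>
    obtain ⟨a, _, rfl⟩ := hx
    rw [AlgEquiv.commutes, AlgEquiv.commutes, sub_self]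
  | zero => rw [map_zero, map_zero, sub_zero]
  | add x y _ _ hx hy =>
    rw [map_add, map_add, add_sub_add_comm, hx, hy, add_zero]
  | smul r x hx ih =>
    have hx' : x ∈ mB := hx
    rw [smul_eq_mul, map_mul, map_mul]
    have e1 : η r * η x - τ r * τ x = η r * (η x - τ x) + τ x * (η r - τ r) := by ring
    rw [e1, ih, mul_zero, zero_add, ← mu_D0 t htm τ η hητ r]
    have h3 := mul_mu_of_sub_mem t htm (τ x) 0
      (by rw [sub_zero]; exact tau_mem τ hτ0 x hx') (D0 t htm τ η hητ r)
    rw [h3, zero_mul]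

include ht0 ht hτ0 in
lemma D0_congr (b c : B) (h : Ideal.Quotient.mk mB b = Ideal.Quotient.mk mB c) :
    D0 t htm τ η hητ b = D0 t htm τ η hητ c := by
  have h1 : b - c ∈ mB := Ideal.Quotient.eq.mp h
  have h2 := D0_add t htm ht0 τ η hητ (b - c) c
  rw [sub_add_cancel, D0_of_mem t ht htm ht0 τ η hτ0 hητ _ h1, zero_add] at h2
  exact h2

/-- the descended function on the closed fibre. -/
noncomputable def dfun (β : B ⧸ Ideal.map (algebraMap A B) (maximalIdeal A)) :
    B ⧸ Ideal.map (algebraMap A B) (maximalIdeal A) :=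
  D0 t htm τ η hητ (Classical.choose (Ideal.Quotient.mk_surjective β))

include ht0 ht hτ0 in
lemma dfun_mk (b : B) : dfun t htm τ η hητ (Ideal.Quotient.mk mB b) = D0 t htm τ η hητ b := by
  unfold dfun
  exact D0_congr t ht htm ht0 τ η hτ0 hητ _ _
    (Classical.choose_spec (Ideal.Quotient.mk_surjective (Ideal.Quotient.mk mB b)))

/-- the derivation attached to a second lift. -/
noncomputable def dOf : Derivation k (B ⧸ Ideal.map (algebraMap A B) (maximalIdeal A))
    (B ⧸ Ideal.map (algebraMap A B) (maximalIdeal A)) :=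
  Derivation.mk'
    { toFun := dfun t htm τ η hητ
      map_add' := by
        intro x y
        obtain ⟨b, rfl⟩ := Ideal.Quotient.mk_surjective x
        obtain ⟨c, rfl⟩ := Ideal.Quotient.mk_surjective y
        rw [← map_add, dfun_mk t ht htm ht0 τ η hτ0 hητ, dfun_mk t ht htm ht0 τ η hτ0 hητ,
          dfun_mk t ht htm ht0 τ η hτ0 hητ, D0_add t htm ht0]
      map_smul' := by
        intro c x
        obtain ⟨b, rfl⟩ := Ideal.Quotient.mk_surjective x
        have : c • Ideal.Quotient.mk mB b = Ideal.Quotient.mk mB (c • b) := rfl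
        rw [this, dfun_mk t ht htm ht0 τ η hτ0 hητ, dfun_mk t ht htm ht0 τ η hτ0 hητ,
          D0_smul t htm ht0, RingHom.id_apply] }
    (by
      intro x y
      obtain ⟨b, rfl⟩ := Ideal.Quotient.mk_surjective x
      obtain ⟨c, rfl⟩ := Ideal.Quotient.mk_surjective y
      change dfun t htm τ η hητ (Ideal.Quotient.mk mB b * Ideal.Quotient.mk mB c) =
        Ideal.Quotient.mk mB b * dfun t htm τ η hητ (Ideal.Quotient.mk mB c) +
          Ideal.Quotient.mk mB c * dfun t htm τ η hητ (Ideal.Quotient.mk mB b)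
      rw [← map_mul, dfun_mk t ht htm ht0 τ η hτ0 hητ, dfun_mk t ht htm ht0 τ η hτ0 hητ,
        dfun_mk t ht htm ht0 τ η hτ0 hητ, D0_mul t ht htm ht0 τ η hτ0 hητ])

lemma dOf_mk (b : B) :
    dOf (k := k) t ht htm ht0 τ η hτ0 hητ (Ideal.Quotient.mk mB b) = D0 t htm τ η hητ b :=
  dfun_mk t ht htm ht0 τ η hτ0 hητ b

lemma dOf_formula (b b' : B)
    (hb : Ideal.Quotient.mk mB b' =
      dOf (k := k) t ht htm ht0 τ η hτ0 hητ (Ideal.Quotient.mk mB b)) :
    η b = τ b + algebraMap A B t * b' := by
  rw [dOf_mk] at hb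
  have := (D0_eq_iff t htm ht0 τ η hητ b _).mp hb.symm
  rw [mu_mk] at this
  rw [← this]
  ring

include ht0 htm in
lemma der_unique (d d' : Derivation k (B ⧸ Ideal.map (algebraMap A B) (maximalIdeal A))
      (B ⧸ Ideal.map (algebraMap A B) (maximalIdeal A)))
    (hd : ∀ b b' : B, Ideal.Quotient.mk mB b' = d (Ideal.Quotient.mk mB b) →
      η b = τ b + algebraMap A B t * b')
    (hd' : ∀ b b' : B, Ideal.Quotient.mk mB b' = d' (Ideal.Quotient.mk mB b) →
      η b = τ b + algebraMap A B t * b') : d' = d := by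
  ext x
  obtain ⟨b, rfl⟩ := Ideal.Quotient.mk_surjective x
  obtain ⟨c, hc⟩ := Ideal.Quotient.mk_surjective (d (Ideal.Quotient.mk mB b))
  obtain ⟨c', hc'⟩ := Ideal.Quotient.mk_surjective (d' (Ideal.Quotient.mk mB b))
  have h1 := hd b c hc
  have h2 := hd' b c' hc'
  rw [h1] at h2
  have h3 : mu t htm (Ideal.Quotient.mk mB c) = mu t htm (Ideal.Quotient.mk mB c') := by
    rw [mu_mk, mu_mk]
    exact add_left_cancel h2
  rw [← hc, ← hc']
  exact (mu_injective t htm ht0 h3).symm

end FromAut

include hres ht htm in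
theorem main12498 [Module.Flat A B] (ht0 : t ≠ 0)
    (σ : (B ⧸ Ideal.span {algebraMap A B t}) ≃ₐ[A] (B ⧸ Ideal.span {algebraMap A B t}))
    (τ : B ≃ₐ[A] B)
    (hτ : ∀ b : B, Ideal.Quotient.mk (Ideal.span {algebraMap A B t}) (τ b) =
      σ (Ideal.Quotient.mk (Ideal.span {algebraMap A B t}) b))
    (hτ0 : ∀ b : B, τ b - b ∈ (IsLocalRing.maximalIdeal A).map (algebraMap A B)) :
    (∀ η : B ≃ₐ[A] B, (∀ b : B, Ideal.Quotient.mk (Ideal.span {algebraMap A B t}) (η b) =
        σ (Ideal.Quotient.mk (Ideal.span {algebraMap A B t}) b)) →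
      ∃! d : Derivation k (B ⧸ (IsLocalRing.maximalIdeal A).map (algebraMap A B))
          (B ⧸ (IsLocalRing.maximalIdeal A).map (algebraMap A B)),
        ∀ b b' : B, Ideal.Quotient.mk ((IsLocalRing.maximalIdeal A).map (algebraMap A B)) b' =
            d (Ideal.Quotient.mk ((IsLocalRing.maximalIdeal A).map (algebraMap A B)) b) →
          η b = τ b + algebraMap A B t * b') ∧
    (∀ d : Derivation k (B ⧸ (IsLocalRing.maximalIdeal A).map (algebraMap A B))
        (B ⧸ (IsLocalRing.maximalIdeal A).map (algebraMap A B)),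
      ∃ η : B ≃ₐ[A] B, (∀ b : B, Ideal.Quotient.mk (Ideal.span {algebraMap A B t}) (η b) =
          σ (Ideal.Quotient.mk (Ideal.span {algebraMap A B t}) b)) ∧
        ∀ b b' : B, Ideal.Quotient.mk ((IsLocalRing.maximalIdeal A).map (algebraMap A B)) b' =
            d (Ideal.Quotient.mk ((IsLocalRing.maximalIdeal A).map (algebraMap A B)) b) →
          η b = τ b + algebraMap A B t * b') := by
  constructor
  · intro η hη
    have hητ : ∀ b : B, η b - τ b ∈ Ideal.span {algebraMap A B t} := by
      intro b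
      rw [← Ideal.Quotient.eq, hη, hτ]
    refine ⟨dOf t ht htm ht0 τ η hτ0 hητ, ?_, ?_⟩
    · intro b b' hb
      exact dOf_formula t ht htm ht0 τ η hτ0 hητ b b' hb
    · intro d' hd'
      exact der_unique t htm ht0 τ η _ d'
        (fun b b' hb => dOf_formula t ht htm ht0 τ η hτ0 hητ b b' hb) hd'
  · intro d
    refine ⟨eta hres t ht htm τ hτ0 d, ?_, ?_⟩
    · intro b
      rw [eta_mk, hτ]
    · intro b b' hb
      exact eta_formula hres t ht htm τ hτ0 d b b' hb

end Main

end Groth.Agent.Lib.helper19.AutLift
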