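import Mathlib

set_option autoImplicit false
universe w v
open CategoryTheory CategoryTheory.Limits

namespace Groth.Agent.Lib.helper19.Blend

theorem main {C : Type w} [Category.{v} C] [Abelian C]
    {P F R E Q X : C} (a : P ⟶ F) (b : F ⟶ R) (wF : a ≫ b = 0)
    (hF : (ShortComplex.mk a b wF).ShortExact) (c : R ⟶ E) (d : E ⟶ Q) (wE : c ≫ d = 0)
    (hE : (ShortComplex.mk c d wE).ShortExact) (i : F ⟶ X) (p : X ⟶ E) (hip : i ≫ p = b ≫ c)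
    (w₁ : (a ≫ i) ≫ p = 0) (h₁ : (ShortComplex.mk (a ≫ i) p w₁).ShortExact)
    (w₂ : i ≫ (p ≫ d) = 0) (h₂ : (ShortComplex.mk i (p ≫ d) w₂).ShortExact) :
    Set.BijOn (fun v : Q ⟶ P => 𝟙 X + p ≫ d ≫ v ≫ a ≫ i) Set.univ
      {φ : X ⟶ X | i ≫ φ = i ∧ φ ≫ p = p} ∧
      ∀ v v' : Q ⟶ P, 𝟙 X + p ≫ d ≫ (v + v') ≫ a ≫ i =
        (𝟙 X + p ≫ d ≫ v ≫ a ≫ i) ≫ (𝟙 X + p ≫ d ≫ v' ≫ a ≫ i) := by
  haveI : Mono (a ≫ i) := h₁.mono_f
  haveI : Epi (p ≫ d) := h₂.epi_g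
  have haip : a ≫ i ≫ p = 0 := by rw [← Category.assoc]; exact w₁
  have hipd : i ≫ p ≫ d = 0 := w₂
  refine ⟨⟨?_, ?_, ?_⟩, ?_⟩
  · intro v _
    refine ⟨?_, ?_⟩
    · change i ≫ (𝟙 X + p ≫ d ≫ v ≫ a ≫ i) = i
      rw [Preadditive.comp_add, Category.comp_id]
      have : i ≫ p ≫ d ≫ v ≫ a ≫ i = (i ≫ p ≫ d) ≫ v ≫ a ≫ i := by simp only [Category.assoc]
      rw [this, hipd, zero_comp, add_zero]
    · change (𝟙 X + p ≫ d ≫ v ≫ a ≫ i) ≫ p = p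
      rw [Preadditive.add_comp, Category.id_comp]
      have : (p ≫ d ≫ v ≫ a ≫ i) ≫ p = p ≫ d ≫ v ≫ (a ≫ i ≫ p) := by simp only [Category.assoc]
      rw [this, haip, comp_zero, comp_zero, comp_zero, add_zero]
  · intro v _ v' _ h
    have h' : p ≫ d ≫ v ≫ a ≫ i = p ≫ d ≫ v' ≫ a ≫ i := add_left_cancel h
    have h2 : (p ≫ d) ≫ (v ≫ a ≫ i) = (p ≫ d) ≫ (v' ≫ a ≫ i) := by
      simpa only [Category.assoc] using h'
    have h3 := (cancel_epi (p ≫ d)).mp h2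
    have h4 : v ≫ (a ≫ i) = v' ≫ (a ≫ i) := by simpa only [Category.assoc] using h3
    exact (cancel_mono (a ≫ i)).mp h4
  · rintro φ ⟨hφ1, hφ2⟩
    set ψ := φ - 𝟙 X with hψ
    have h1 : i ≫ ψ = 0 := by
      rw [hψ, Preadditive.comp_sub, hφ1, Category.comp_id, sub_self]
    have h2 : ψ ≫ p = 0 := by
      rw [hψ, Preadditive.sub_comp, hφ2, Category.id_comp, sub_self]
    let ψ' : Q ⟶ X := h₂.exact.desc ψ h1
    have hψ' : (p ≫ d) ≫ ψ' = ψ := h₂.exact.g_desc ψ h1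
    have h3 : ψ' ≫ p = 0 := by
      rw [← cancel_epi (p ≫ d), ← Category.assoc, hψ', h2, comp_zero]
    let v : Q ⟶ P := h₁.exact.lift ψ' h3
    have hv : v ≫ (a ≫ i) = ψ' := h₁.exact.lift_f ψ' h3
    refine ⟨v, Set.mem_univ _, ?_⟩
    change 𝟙 X + p ≫ d ≫ v ≫ a ≫ i = φ
    have : p ≫ d ≫ v ≫ a ≫ i = (p ≫ d) ≫ (v ≫ (a ≫ i)) := by simp only [Category.assoc]
    rw [this, hv, hψ', hψ]
    abel
  · intro v v'
    have h0 : (p ≫ d ≫ v ≫ a ≫ i) ≫ (p ≫ d ≫ v' ≫ a ≫ i) = 0 := by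
      have : (p ≫ d ≫ v ≫ a ≫ i) ≫ (p ≫ d ≫ v' ≫ a ≫ i) =
          p ≫ d ≫ v ≫ (a ≫ i ≫ p) ≫ d ≫ v' ≫ a ≫ i := by simp only [Category.assoc]
      rw [this, haip, zero_comp, comp_zero, comp_zero, comp_zero]
    have hsum : p ≫ d ≫ (v + v') ≫ a ≫ i = p ≫ d ≫ v ≫ a ≫ i + p ≫ d ≫ v' ≫ a ≫ i := by
      simp only [Preadditive.add_comp, Preadditive.comp_add]
    generalize p ≫ d ≫ v ≫ a ≫ i = α at h0 hsum
    generalize p ≫ d ≫ v' ≫ a ≫ i = β at h0 hsum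
    rw [hsum, Preadditive.add_comp, Preadditive.comp_add, Preadditive.comp_add, Category.id_comp,
      Category.comp_id, Category.id_comp, h0, add_zero]
    abel

end Groth.Agent.Lib.helper19.Blend
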