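import Mathlib
import Groth.Prelude.Def_CotT

/-! Exactness facts about the three–term cotangent complex of a presentation (`CotT`). -/

set_option autoImplicit false
universe u v w t m
open scoped TensorProduct

namespace Groth.Agent.Lib.helper19.CotTSeq

open CotT

variable {A : Type u} {B : Type v} {ι : Type w} {σ : Type t}
variable [CommRing A] [CommRing B] [Algebra A B]
variable (P : Algebra.Presentation A B ι σ)

/-- Every element of `L1 = B ⊗_R F` is of the form `1 ⊗ f`. -/
lemma exists_one_tmul (x : L1 P) : ∃ f : relMod P, x = (1 : B) ⊗ₜ[P.toExtension.Ring] f := by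
  induction x using TensorProduct.induction_on with
  | zero => exact ⟨0, by simp⟩
  | tmul b f =>
    obtain ⟨r, rfl⟩ := P.toExtension.algebraMap_surjective b
    refine ⟨r • f, ?_⟩
    rw [← TensorProduct.smul_tmul, Algebra.smul_def, mul_one]
  | add x y hx hy =>
    obtain ⟨f, rfl⟩ := hx
    obtain ⟨g, rfl⟩ := hy
    exact ⟨f + g, by rw [TensorProduct.tmul_add]⟩

lemma toCot_one_tmul (f : relMod P) :
    toCot P ((1 : B) ⊗ₜ f) = Algebra.Extension.Cotangent.mk (jker P f) := by
  rw [toCot_tmul, one_smul]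

lemma toCot_surjective : Function.Surjective (toCot P) := by
  intro x
  obtain ⟨⟨y, hy⟩, rfl⟩ := Algebra.Extension.Cotangent.mk_surjective x
  have hy' : y ∈ LinearMap.range (jmap P) := by rw [range_jmap]; exact hy
  obtain ⟨f, rfl⟩ := hy'
  exact ⟨(1 : B) ⊗ₜ f, by rw [toCot_one_tmul]; rfl⟩

/-- Elements of `I²` are `j(g)` with `1 ⊗ g = 0`. -/
lemma exists_of_mem_sq (x : P.toExtension.Ring) (hx : x ∈ P.toExtension.ker ^ 2) :
    ∃ g : relMod P, jmap P g = x ∧ (1 : B) ⊗ₜ[P.toExtension.Ring] g = (0 : L1 P) := by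
  rw [pow_two] at hx
  refine Submodule.mul_induction_on hx ?_ ?_
  · intro a ha b hb
    have hb' : b ∈ LinearMap.range (jmap P) := by rw [range_jmap]; exact hb
    obtain ⟨g', rfl⟩ := hb'
    refine ⟨a • g', by rw [map_smul, smul_eq_mul], ?_⟩
    have ha0 : algebraMap P.toExtension.Ring B a = 0 := ha
    rw [← TensorProduct.smul_tmul, Algebra.smul_def, ha0, zero_mul, TensorProduct.zero_tmul]
  · rintro x y ⟨g, rfl, hg⟩ ⟨g', rfl, hg'⟩
    exact ⟨g + g', by rw [map_add], by rw [TensorProduct.tmul_add, hg, hg', add_zero]⟩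

lemma ker_toCot_le_range_d2 : LinearMap.ker (toCot P) ≤ LinearMap.range (d2 P) := by
  intro x hx
  obtain ⟨f, rfl⟩ := exists_one_tmul P x
  rw [LinearMap.mem_ker, toCot_one_tmul, Algebra.Extension.Cotangent.mk_eq_zero_iff] at hx
  obtain ⟨g, hg, hg0⟩ := exists_of_mem_sq P _ hx
  have hq : f - g ∈ relKer P := by
    change jmap P (f - g) = 0
    rw [map_sub, hg, jker_apply, sub_self]
  refine ⟨Submodule.Quotient.mk ((1 : B) ⊗ₜ ⟨f - g, hq⟩), ?_⟩
  rw [d2_mk_tmul]
  change (1 : B) ⊗ₜ[P.toExtension.Ring] (f - g) = _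
  rw [TensorProduct.tmul_sub, hg0, sub_zero]

lemma ker_toCot_eq_range_d2 : LinearMap.ker (toCot P) = LinearMap.range (d2 P) := by
  refine le_antisymm (ker_toCot_le_range_d2 P) ?_
  rw [LinearMap.range_le_ker_iff]
  exact toCot_comp_d2 P

variable (M : Type m) [AddCommGroup M] [Module B M]

/-- A linear map out of `L1` that kills `range d2` factors through `toCot`. -/
lemma exists_factor (c : L1 P →ₗ[B] M) (hc : c ∘ₗ d2 P = 0) :
    ∃ φ : P.toExtension.Cotangent →ₗ[B] M, φ ∘ₗ toCot P = c := by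
  have hker : LinearMap.ker (toCot P) ≤ LinearMap.ker c := by
    refine (ker_toCot_le_range_d2 P).trans ?_
    rw [LinearMap.range_le_ker_iff]
    exact hc
  refine ⟨(Submodule.liftQ _ c hker) ∘ₗ
    ((toCot P).quotKerEquivOfSurjective (toCot_surjective P)).symm.toLinearMap, ?_⟩
  ext x
  simp only [LinearMap.coe_comp, Function.comp_apply, LinearEquiv.coe_coe]
  have : ((toCot P).quotKerEquivOfSurjective (toCot_surjective P)).symm (toCot P x) =
      Submodule.Quotient.mk x := by
    rw [LinearEquiv.symm_apply_eq, LinearMap.quotKerEquivOfSurjective_apply_mk]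
  rw [this, Submodule.liftQ_apply]

lemma comp_toCot_injective (φ ψ : P.toExtension.Cotangent →ₗ[B] M)
    (h : φ ∘ₗ toCot P = ψ ∘ₗ toCot P) : φ = ψ := by
  ext x
  obtain ⟨y, rfl⟩ := toCot_surjective P x
  exact LinearMap.congr_fun h y

theorem main12289 :
    LinearMap.ker (CotT.d1Star P M) =
      LinearMap.ker (LinearMap.lcomp B M P.toExtension.cotangentComplex) ∧
    LinearMap.ker (CotT.homToT1 P M) =
      LinearMap.range (LinearMap.lcomp B M P.toExtension.cotangentComplex) ∧
    Function.Surjective (CotT.homToT1 P M) := by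
  refine ⟨?_, ?_, ?_⟩
  · ext φ
    rw [LinearMap.mem_ker, LinearMap.mem_ker, d1Star_apply, LinearMap.lcomp_apply']
    constructor
    · intro h
      apply comp_toCot_injective P M
      rw [LinearMap.zero_comp, LinearMap.comp_assoc]
      exact h
    · intro h
      rw [d1, ← LinearMap.comp_assoc, h, LinearMap.zero_comp]
  · ext φ
    rw [LinearMap.mem_ker, LinearMap.mem_range]
    constructor
    · intro h
      rw [homToT1, LinearMap.comp_apply, Submodule.mkQ_apply, Submodule.Quotient.mk_eq_zero] at h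
      obtain ⟨ψ, hψ⟩ := h
      refine ⟨ψ, ?_⟩
      apply comp_toCot_injective P M
      rw [LinearMap.lcomp_apply', LinearMap.comp_assoc]
      exact hψ
    · rintro ⟨ψ, rfl⟩
      rw [homToT1, LinearMap.comp_apply, Submodule.mkQ_apply, Submodule.Quotient.mk_eq_zero]
      refine ⟨ψ, ?_⟩
      rw [d1Star_apply, d1, ← LinearMap.comp_assoc]
      rfl
  · intro x
    obtain ⟨⟨c, hc⟩, rfl⟩ := Submodule.Quotient.mk_surjective _ x
    rw [LinearMap.mem_ker, d2Star_apply] at hc
    obtain ⟨φ, hφ⟩ := exists_factor P M c hc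
    refine ⟨φ, ?_⟩
    rw [homToT1, LinearMap.comp_apply, Submodule.mkQ_apply]
    congr 1
    exact Subtype.ext hφ

end Groth.Agent.Lib.helper19.CotTSeq
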