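import Mathlib
import Groth.Prelude.Def_CotT
import Groth.Agent.Lib.helper19.CotTSeq

/-! `T⁰` of a presentation is the module of derivations (`CotT.derToT0` is bijective). -/

set_option autoImplicit false
universe u v w t m
open scoped TensorProduct

namespace Groth.Agent.Lib.helper19.CotTDer

open CotT

variable {A : Type u} {B : Type v} {ι : Type w} {σ : Type t}
variable [CommRing A] [CommRing B] [Algebra A B]
variable (P : Algebra.Presentation A B ι σ)
variable (M : Type m) [AddCommGroup M] [Module B M] [Module A M] [IsScalarTower A B M]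

lemma adjoin_range_val : Algebra.adjoin A (Set.range P.val) = ⊤ := by
  rw [Algebra.adjoin_range_eq_range_aeval, AlgHom.range_eq_top]
  exact P.aeval_val_surjective

lemma derToT0_injective : Function.Injective (derToT0 P M) := by
  intro D D' h
  refine Derivation.ext_of_adjoin_eq_top _ (adjoin_range_val P) ?_
  rintro _ ⟨i, rfl⟩
  have h1 : derLift P M D = derLift P M D' := congrArg Subtype.val h
  have h2 := LinearMap.congr_fun h1 (P.cotangentSpaceBasis i)
  rwa [derLift_basis, derLift_basis] at h2

/-- A linear map out of `L0` that kills the image of `cotangentComplex` factors through `Ω[B⁄A]`. -/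
lemma exists_factor_kaehler (ℓ : L0 P →ₗ[B] M) (h : ℓ ∘ₗ P.toExtension.cotangentComplex = 0) :
    ∃ ℓ' : Ω[B⁄A] →ₗ[B] M, ℓ' ∘ₗ P.toExtension.toKaehler = ℓ := by
  have hker : LinearMap.ker P.toExtension.toKaehler ≤ LinearMap.ker ℓ := by
    rw [LinearMap.exact_iff.mp P.toExtension.exact_cotangentComplex_toKaehler,
      LinearMap.range_le_ker_iff]
    exact h
  have hs := P.toExtension.toKaehler_surjective
  refine ⟨(Submodule.liftQ _ ℓ hker) ∘ₗ
    (P.toExtension.toKaehler.quotKerEquivOfSurjective hs).symm.toLinearMap, ?_⟩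
  ext x
  simp only [LinearMap.coe_comp, Function.comp_apply, LinearEquiv.coe_coe]
  have : (P.toExtension.toKaehler.quotKerEquivOfSurjective hs).symm (P.toExtension.toKaehler x) =
      Submodule.Quotient.mk x := by
    rw [LinearEquiv.symm_apply_eq, LinearMap.quotKerEquivOfSurjective_apply_mk]
  rw [this, Submodule.liftQ_apply]

lemma derToT0_surjective : Function.Surjective (derToT0 P M) := by
  rintro ⟨ℓ, hℓ⟩
  have h0 : ℓ ∘ₗ P.toExtension.cotangentComplex = 0 := by
    have := (Groth.Agent.Lib.helper19.CotTSeq.main12289 P M).1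
    rw [this, LinearMap.mem_ker, LinearMap.lcomp_apply'] at hℓ
    exact hℓ
  obtain ⟨ℓ', rfl⟩ := exists_factor_kaehler P M ℓ h0
  refine ⟨ℓ'.compDer (KaehlerDifferential.D A B), ?_⟩
  refine Subtype.ext ((P.cotangentSpaceBasis).ext fun i => ?_)
  rw [derToT0_apply, derLift_basis]
  simp only [LinearMap.coe_comp, Function.comp_apply]
  rw [Algebra.Generators.toKaehler_cotangentSpaceBasis]
  rfl

theorem main12286 : Function.Bijective (derToT0 P M) :=
  ⟨derToT0_injective P M, derToT0_surjective P M⟩

end Groth.Agent.Lib.helper19.CotTDer
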