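import Mathlib
import Groth.Prelude.Def_CotT2

/-! Homotopy invariance of the maps induced on `T²` by morphisms of presentations. -/

set_option autoImplicit false
universe u v w t u' v' w' t' m
open scoped TensorProduct

namespace Groth.Agent.Lib.helper19.CotTHtpy

open CotT

noncomputable section

section NQ

variable {A : Type u} {B : Type v} {ι : Type w} {σ : Type t}
variable [CommRing A] [CommRing B] [Algebra A B]
variable (P : Algebra.Presentation A B ι σ)

/-- `F/F₀`: the relation module modulo the trivial relations. -/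
def NQ : Type _ := relMod P ⧸ trivRel P

instance : AddCommGroup (NQ P) := inferInstanceAs (AddCommGroup (relMod P ⧸ trivRel P))
instance : Module P.toExtension.Ring (NQ P) :=
  inferInstanceAs (Module P.toExtension.Ring (relMod P ⧸ trivRel P))

/-- the class map `F → F/F₀`. -/
def nqMk : relMod P →ₗ[P.toExtension.Ring] NQ P := (trivRel P).mkQ

lemma nqMk_surjective : Function.Surjective (nqMk P) := Submodule.mkQ_surjective _

lemma nqMk_eq_zero_iff (f : relMod P) : nqMk P f = 0 ↔ f ∈ trivRel P :=
  Submodule.Quotient.mk_eq_zero _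

/-- `j` on `F/F₀`. -/
def jbar : NQ P →ₗ[P.toExtension.Ring] P.toExtension.Ring :=
  Submodule.liftQ _ (jmap P) (trivRel_le_relKer P)

@[simp] lemma jbar_nqMk (f : relMod P) : jbar P (nqMk P f) = jmap P f := rfl

instance : Mul (NQ P) := ⟨fun x y => jbar P x • y⟩

lemma nq_mul_def (x y : NQ P) : x * y = jbar P x • y := rfl

lemma nq_mul_comm (x y : NQ P) : x * y = y * x := by
  obtain ⟨a, rfl⟩ := nqMk_surjective P x
  obtain ⟨b, rfl⟩ := nqMk_surjective P y
  rw [nq_mul_def, nq_mul_def, jbar_nqMk, jbar_nqMk, ← map_smul, ← map_smul, ← sub_eq_zero,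
    ← map_sub, nqMk_eq_zero_iff]
  exact Submodule.subset_span ⟨a, b, rfl⟩

instance : NonUnitalCommRing (NQ P) where
  left_distrib a b c := by simp only [nq_mul_def, smul_add]
  right_distrib a b c := by simp only [nq_mul_def, map_add, add_smul]
  zero_mul a := by simp only [nq_mul_def, map_zero, zero_smul]
  mul_zero a := by simp only [nq_mul_def, smul_zero]
  mul_assoc a b c := by simp only [nq_mul_def, map_smul, smul_eq_mul, mul_smul]
  mul_comm := nq_mul_comm P

instance : IsScalarTower P.toExtension.Ring (NQ P) (NQ P) :=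
  ⟨fun r x y => by
    change (r • x) * y = r • (x * y)
    simp only [nq_mul_def, map_smul, smul_eq_mul, mul_smul]⟩

instance : SMulCommClass P.toExtension.Ring (NQ P) (NQ P) :=
  ⟨fun r x y => by
    change r • (x * y) = x * (r • y)
    simp only [nq_mul_def]
    rw [smul_comm]⟩

/-- The unitization `R ⋉ F/F₀`. -/
abbrev UQ : Type _ := Unitization P.toExtension.Ring (NQ P)

/-- The second projection `R ⋉ F/F₀ → R`, `(r, x) ↦ r + j x`. -/
def p1 : UQ P →+* P.toExtension.Ring where
  toFun x := x.fst + jbar P x.snd
  map_one' := by simp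
  map_mul' x y := by
    simp only [Unitization.fst_mul, Unitization.snd_mul, map_add, map_smul, smul_eq_mul, nq_mul_def]
    ring
  map_zero' := by simp
  map_add' x y := by
    simp only [Unitization.fst_add, Unitization.snd_add, map_add]
    ring

lemma p1_apply (x : UQ P) : p1 P x = x.fst + jbar P x.snd := rfl

end NQ

section Htpy

variable {A : Type u} {B : Type v} {ι : Type w} {σ : Type t}
variable {A' : Type u'} {B' : Type v'} {ι' : Type w'} {σ' : Type t'}
variable [CommRing A] [CommRing B] [Algebra A B] [CommRing A'] [CommRing B'] [Algebra A' B']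
variable [Algebra A A'] [Algebra B B'] [Algebra A B'] [IsScalarTower A A' B'] [IsScalarTower A B B']
variable {P : Algebra.Presentation A B ι σ} {P' : Algebra.Presentation A' B' ι' σ'}
variable (h h' : PresHom P P')

lemma ringHom_C (a : A) :
    h.ringHom (MvPolynomial.C a : P.toExtension.Ring) =
      algebraMap A' P'.toExtension.Ring (algebraMap A A' a) :=
  h.hom.toExtensionHom.toRingHom_algebraMap a

lemma sub_mem_ker (r : P.toExtension.Ring) :
    h.ringHom r - h'.ringHom r ∈ P'.toExtension.ker := by
  change algebraMap P'.toExtension.Ring B' (h.ringHom r - h'.ringHom r) = 0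
  rw [map_sub, h.algebraMap_ringHom, h'.algebraMap_ringHom, sub_self]

lemma exists_gen (i : ι) : ∃ g : relMod P',
    jmap P' g = h.ringHom (MvPolynomial.X i : P.toExtension.Ring) -
      h'.ringHom (MvPolynomial.X i : P.toExtension.Ring) := by
  have : h.ringHom (MvPolynomial.X i : P.toExtension.Ring) -
      h'.ringHom (MvPolynomial.X i : P.toExtension.Ring) ∈ LinearMap.range (jmap P') := by
    rw [range_jmap]
    exact sub_mem_ker h h' _
  exact this

/-- chosen lifts of `α(x_i) - α'(x_i)` to `F'`. -/
def gen (i : ι) : relMod P' := (exists_gen h h' i).choose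

lemma jmap_gen (i : ι) : jmap P' (gen h h' i) =
    h.ringHom (MvPolynomial.X i : P.toExtension.Ring) -
      h'.ringHom (MvPolynomial.X i : P.toExtension.Ring) := (exists_gen h h' i).choose_spec

/-- The ring map `R → R' ⋉ F'/F₀'` with first component `α'` and `p1`-component `α`. -/
def rho : P.toExtension.Ring →+* UQ P' :=
  (MvPolynomial.eval₂Hom
    ((Unitization.inlRingHom P'.toExtension.Ring (NQ P')).comp
      (h'.ringHom.comp (MvPolynomial.C : A →+* MvPolynomial ι A)))
    (fun i => Unitization.inl (h'.ringHom (MvPolynomial.X i : P.toExtension.Ring)) +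
      ((nqMk P' (gen h h' i) : NQ P') : UQ P')) : MvPolynomial ι A →+* UQ P')

lemma rho_C (a : A) : rho h h' (MvPolynomial.C a : P.toExtension.Ring) =
    Unitization.inl (h'.ringHom (MvPolynomial.C a : P.toExtension.Ring)) := by
  change MvPolynomial.eval₂Hom _ _ (MvPolynomial.C a) = _
  rw [MvPolynomial.eval₂Hom_C]
  rfl

lemma rho_X (i : ι) : rho h h' (MvPolynomial.X i : P.toExtension.Ring) =
    Unitization.inl (h'.ringHom (MvPolynomial.X i : P.toExtension.Ring)) +
      ((nqMk P' (gen h h' i) : NQ P') : UQ P') := by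
  change MvPolynomial.eval₂Hom _ _ (MvPolynomial.X i) = _
  rw [MvPolynomial.eval₂Hom_X']

/-- first projection as a ring hom. -/
def p0 : UQ P' →+* P'.toExtension.Ring where
  toFun x := x.fst
  map_one' := rfl
  map_mul' _ _ := rfl
  map_zero' := rfl
  map_add' _ _ := rfl

lemma p0_rho : (p0 (P' := P')).comp (rho h h') = h'.ringHom := by
  refine MvPolynomial.ringHom_ext (fun a => ?_) (fun i => ?_)
  · change (rho h h' (MvPolynomial.C a : P.toExtension.Ring)).fst = _
    rw [rho_C]; rfl
  · change (rho h h' (MvPolynomial.X i : P.toExtension.Ring)).fst = _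
    rw [rho_X, Unitization.fst_add, Unitization.fst_inl, Unitization.fst_inr, add_zero]
    rfl

lemma p1_rho : (p1 P').comp (rho h h') = h.ringHom := by
  refine MvPolynomial.ringHom_ext (fun a => ?_) (fun i => ?_)
  · change p1 P' (rho h h' (MvPolynomial.C a : P.toExtension.Ring)) = _
    have e1 := ringHom_C h a
    have e2 := ringHom_C h' a
    rw [rho_C, p1_apply, Unitization.fst_inl, Unitization.snd_inl, map_zero, add_zero]
    exact e2.trans e1.symm
  · change p1 P' (rho h h' (MvPolynomial.X i : P.toExtension.Ring)) = _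
    rw [rho_X, p1_apply]
    simp only [Unitization.fst_add, Unitization.fst_inl, Unitization.fst_inr, add_zero,
      Unitization.snd_add, Unitization.snd_inl, Unitization.snd_inr, zero_add, jbar_nqMk, jmap_gen]
    rw [add_sub_cancel]
    rfl

/-- The homotopy `H : R → F'/F₀'`. -/
def H (r : P.toExtension.Ring) : NQ P' := (rho h h' r).snd

lemma fst_rho (r : P.toExtension.Ring) : (rho h h' r).fst = h'.ringHom r :=
  RingHom.congr_fun (p0_rho h h') r

lemma jbar_H (r : P.toExtension.Ring) : jbar P' (H h h' r) = h.ringHom r - h'.ringHom r := by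
  have := RingHom.congr_fun (p1_rho h h') r
  change p1 P' (rho h h' r) = _ at this
  rw [p1_apply, fst_rho] at this
  rw [← this]
  change jbar P' (rho h h' r).snd = _
  ring

lemma H_zero : H h h' 0 = 0 := by
  change (rho h h' 0).snd = 0
  rw [map_zero]; rfl

lemma H_add (r s : P.toExtension.Ring) : H h h' (r + s) = H h h' r + H h h' s := by
  change (rho h h' (r + s)).snd = _
  rw [map_add]; rfl

lemma H_mul (r s : P.toExtension.Ring) :
    H h h' (r * s) = h.ringHom r • H h h' s + h'.ringHom s • H h h' r := by
  change (rho h h' (r * s)).snd = _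
  rw [map_mul, Unitization.snd_mul, fst_rho, fst_rho]
  change h'.ringHom r • H h h' s + h'.ringHom s • H h h' r + H h h' r * H h h' s = _
  rw [nq_mul_def, jbar_H, sub_smul]
  abel

/-- the classes `c_s = [u e_s] - [u' e_s] - H(rel_s)` in `F'/F₀'`. -/
def cls (s : σ) : NQ P' := nqMk P' (h.relVal s) - nqMk P' (h'.relVal s) - H h h' (rel P s)

lemma exists_chat (s : σ) : ∃ c : relKer P', nqMk P' (c : relMod P') = cls h h' s := by
  obtain ⟨c, hc⟩ := nqMk_surjective P' (cls h h' s)
  refine ⟨⟨c, ?_⟩, hc⟩
  change jmap P' c = 0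
  rw [← jbar_nqMk, hc, cls, map_sub, map_sub, jbar_nqMk, jbar_nqMk, jbar_H, h.jmap_relVal,
    h'.jmap_relVal]
  exact sub_self _

/-- chosen representatives of `c_s` in `Q'`. -/
def chat (s : σ) : relKer P' := (exists_chat h h' s).choose

lemma nqMk_chat (s : σ) : nqMk P' (chat h h' s : relMod P') = cls h h' s :=
  (exists_chat h h' s).choose_spec

/-- `Θ : F → Q'`, `e_s ↦ ĉ_s`, semilinear over `α`. -/
def Theta : relMod P →ₛₗ[h.ringHom] relKer P' where
  toFun f := Finsupp.linearCombination P'.toExtension.Ring (chat h h')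
    (Finsupp.mapRange h.ringHom (map_zero _) f)
  map_add' f g := by rw [Finsupp.mapRange_add (map_add _), map_add]
  map_smul' r f := by
    rw [← map_smul]
    congr 1
    ext s
    simp [Finsupp.mapRange_apply, map_mul]

@[simp] lemma Theta_single (s : σ) (r : P.toExtension.Ring) :
    Theta h h' (Finsupp.single s r) = h.ringHom r • chat h h' s := by
  simp [Theta]

lemma key (f : relMod P) :
    nqMk P' (h.relModMap f) - nqMk P' (h'.relModMap f) =
      nqMk P' ((Theta h h' f : relKer P') : relMod P') + H h h' (jmap P f) := by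
  induction f using Finsupp.induction_linear with
  | zero => simp [H_zero]
  | add f g hf hg =>
    simp only [map_add, H_add, Submodule.coe_add]
    rw [add_sub_add_comm, hf, hg]
    abel
  | single s r =>
    rw [PresHom.relModMap_single, PresHom.relModMap_single, Theta_single, jmap_single, H_mul]
    simp only [map_smul, Submodule.coe_smul, nqMk_chat, cls, smul_sub]
    have e : (h.ringHom r - h'.ringHom r) • nqMk P' (h'.relVal s) =
        h'.ringHom (rel P s) • H h h' r := by
      rw [← jbar_H, ← nq_mul_def, nq_mul_comm, nq_mul_def, jbar_nqMk, h'.jmap_relVal]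
    rw [sub_smul] at e
    rw [← e]
    abel

lemma sub_sub_mem_trivRel (q : relKer P) :
    ((h.relKerMap q - h'.relKerMap q - Theta h h' (q : relMod P) : relKer P') : relMod P') ∈
      trivRel P' := by
  rw [← nqMk_eq_zero_iff]
  simp only [Submodule.coe_sub, PresHom.relKerMap_coe, map_sub]
  rw [key, show jmap P (q : relMod P) = 0 from q.2, H_zero, add_zero, sub_self]

section Pull

variable (M' : Type m) [AddCommGroup M'] [Module B' M'] [Module B M'] [IsScalarTower B B' M']

/-- The homotopy `L1 → M'` attached to a cochain `χ : L2' → M'`. -/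
def theta (χ : L2 P' →ₗ[B'] M') : L1 P →ₗ[B] M' :=
  PresHom.linOfSemilinear M'
    ((χ.comp (Submodule.mkQ _)).comp (tensorMap h.ringHom h.algebraMap_ringHom (Theta h h')))

lemma theta_tmul (χ : L2 P' →ₗ[B'] M') (b : B) (f : relMod P) :
    theta h h' M' χ (b ⊗ₜ f) =
      χ (Submodule.Quotient.mk (algebraMap B B' b ⊗ₜ Theta h h' f)) := rfl

lemma pull2_sub (χ : L2 P' →ₗ[B'] M') :
    h.pull2 M' χ - h'.pull2 M' χ = d2Star P M' (theta h h' M' χ) := by
  refine Submodule.linearMap_qext _ (LinearMap.ext fun z => ?_)
  induction z using TensorProduct.induction_on with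
  | zero => simp
  | add x y hx hy => rw [map_add, map_add, hx, hy]
  | tmul b q =>
    simp only [LinearMap.comp_apply, Submodule.mkQ_apply, LinearMap.sub_apply, PresHom.pull2_apply,
      PresHom.L2map_mk_tmul, d2Star_apply, d2_mk_tmul, theta_tmul]
    have h0 : (Submodule.Quotient.mk (algebraMap B B' b ⊗ₜ[P'.toExtension.Ring]
        (h.relKerMap q - h'.relKerMap q - Theta h h' (q : relMod P))) : L2 P') = 0 := by
      rw [Submodule.Quotient.mk_eq_zero]
      exact ⟨algebraMap B B' b ⊗ₜ ⟨_, sub_sub_mem_trivRel h h' q⟩, rfl⟩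
    have e : algebraMap B B' b ⊗ₜ[P'.toExtension.Ring] h.relKerMap q -
        algebraMap B B' b ⊗ₜ[P'.toExtension.Ring] h'.relKerMap q -
        algebraMap B B' b ⊗ₜ[P'.toExtension.Ring] Theta h h' (q : relMod P) =
        algebraMap B B' b ⊗ₜ[P'.toExtension.Ring]
          (h.relKerMap q - h'.relKerMap q - Theta h h' (q : relMod P)) := by
      have e1 := TensorProduct.tmul_sub (R := P'.toExtension.Ring) (algebraMap B B' b)
        (h.relKerMap q - h'.relKerMap q) (Theta h h' (q : relMod P))
      have e2 := TensorProduct.tmul_sub (R := P'.toExtension.Ring) (algebraMap B B' b)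
        (h.relKerMap q) (h'.relKerMap q)
      exact (e1.trans (congrArg (· - _) e2)).symm
    rw [← map_sub, ← Submodule.Quotient.mk_sub, ← sub_eq_zero, ← map_sub,
      ← Submodule.Quotient.mk_sub, e, h0, map_zero]

/-- Two morphisms of presentations over the same square induce the same map on `T²`. -/
theorem T2pull_eq : h.T2pull M' = h'.T2pull M' := by
  refine LinearMap.ext fun x => ?_
  obtain ⟨χ, rfl⟩ := Submodule.Quotient.mk_surjective _ x
  change (Submodule.Quotient.mk (h.pull2 M' χ) : T2 P M') = Submodule.Quotient.mk (h'.pull2 M' χ)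
  rw [Submodule.Quotient.eq, pull2_sub]
  exact ⟨_, rfl⟩

end Pull

end Htpy

end

end Groth.Agent.Lib.helper19.CotTHtpy
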