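import Mathlib
import Groth.Prelude.Def_CotT2
import Groth.Agent.Lib.helper19.CotTHtpy
import Groth.Agent.Lib.helper19.CotTSeq
import Groth.Agent.Lib.helper19.CotTDer

/-! Independence of `T⁰, T¹, T²` of the presentation. -/

set_option autoImplicit false
universe u v w t w' t' w'' t'' m
open scoped TensorProduct

namespace Groth.Agent.Lib.helper19.CotTIndep

open CotT

noncomputable section

variable {A : Type u} {B : Type v} [CommRing A] [CommRing B] [Algebra A B]
variable {ι : Type w} {σ : Type t} {ι' : Type w'} {σ' : Type t'} {ι'' : Type w''} {σ'' : Type t''}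
variable {P : Algebra.Presentation A B ι σ} {P' : Algebra.Presentation A B ι' σ'}
  {P'' : Algebra.Presentation A B ι'' σ''}

section SomeHom

variable (P P')

lemma exists_relVal (s : σ) : ∃ f : relMod P',
    jmap P' f = (Algebra.Generators.defaultHom P.toGenerators
      P'.toGenerators).toExtensionHom.toRingHom (rel P s) := by
  have : (Algebra.Generators.defaultHom P.toGenerators
      P'.toGenerators).toExtensionHom.toRingHom (rel P s) ∈ LinearMap.range (jmap P') := by
    rw [range_jmap]
    change algebraMap P'.toExtension.Ring B _ = 0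
    rw [Algebra.Extension.Hom.algebraMap_toRingHom, algebraMap_rel, map_zero]
  exact this

/-- Some morphism between two presentations of the same algebra. -/
def someHom : PresHom P P' where
  hom := Algebra.Generators.defaultHom P.toGenerators P'.toGenerators
  relVal s := (exists_relVal P P' s).choose
  jmap_relVal s := (exists_relVal P P' s).choose_spec

end SomeHom

/-- Composition of morphisms of presentations of the same algebra. -/
def comp (h' : PresHom P' P'') (h : PresHom P P') : PresHom P P'' where
  hom := h'.hom.comp h.hom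
  relVal s := h'.relModMap (h.relVal s)
  jmap_relVal s := by
    rw [h'.jmap_relModMap, h.jmap_relVal, Algebra.Generators.Hom.toExtensionHom_comp]
    rfl

lemma comp_ringHom (h' : PresHom P' P'') (h : PresHom P P') (r : P.toExtension.Ring) :
    (comp h' h).ringHom r = h'.ringHom (h.ringHom r) := by
  change (h'.hom.comp h.hom).toExtensionHom.toRingHom r = _
  rw [Algebra.Generators.Hom.toExtensionHom_comp]
  rfl

lemma relModMap_comp (h' : PresHom P' P'') (h : PresHom P P') (f : relMod P) :
    (comp h' h).relModMap f = h'.relModMap (h.relModMap f) := by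
  induction f using Finsupp.induction_linear with
  | zero => simp
  | add f g hf hg => rw [map_add, map_add, map_add, hf, hg]
  | single s r =>
    rw [PresHom.relModMap_single, PresHom.relModMap_single, LinearMap.map_smulₛₗ, comp_ringHom]
    rfl

lemma id_ringHom (r : P.toExtension.Ring) : (PresHom.id P).ringHom r = r := by
  change (Algebra.Generators.Hom.id P.toGenerators).toExtensionHom.toRingHom r = r
  rw [Algebra.Generators.Hom.toExtensionHom_id]
  rfl

lemma relModMap_id (f : relMod P) : (PresHom.id P).relModMap f = f := by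
  induction f using Finsupp.induction_linear with
  | zero => simp
  | add f g hf hg => rw [map_add, hf, hg]
  | single s r =>
    rw [PresHom.relModMap_single, id_ringHom]
    change r • Finsupp.single s (1 : P.toExtension.Ring) = _
    rw [Finsupp.smul_single, smul_eq_mul, mul_one]

lemma L2map_comp (h' : PresHom P' P'') (h : PresHom P P') (z : L2 P) :
    (comp h' h).L2map z = h'.L2map (h.L2map z) := by
  induction z using Submodule.Quotient.induction_on with
  | H z =>
    induction z using TensorProduct.induction_on with
    | zero => simp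
    | add x y hx hy =>
      rw [Submodule.Quotient.mk_add, map_add, map_add, hx, hy, map_add]
    | tmul b q =>
      rw [PresHom.L2map_mk_tmul, PresHom.L2map_mk_tmul, PresHom.L2map_mk_tmul]
      congr 2
      apply Subtype.ext
      rw [PresHom.relKerMap_coe, PresHom.relKerMap_coe, PresHom.relKerMap_coe, relModMap_comp]

lemma L2map_id (z : L2 P) : (PresHom.id P).L2map z = z := by
  induction z using Submodule.Quotient.induction_on with
  | H z =>
    induction z using TensorProduct.induction_on with
    | zero => simp
    | add x y hx hy =>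
      rw [Submodule.Quotient.mk_add, map_add, hx, hy]
    | tmul b q =>
      rw [PresHom.L2map_mk_tmul]
      congr 2
      apply Subtype.ext
      rw [PresHom.relKerMap_coe, relModMap_id]

lemma L1map_comp (h' : PresHom P' P'') (h : PresHom P P') (z : L1 P) :
    (comp h' h).L1map z = h'.L1map (h.L1map z) := by
  induction z using TensorProduct.induction_on with
  | zero => simp
  | add x y hx hy => rw [map_add, map_add, hx, hy, map_add]
  | tmul b q =>
    rw [PresHom.L1map_tmul, PresHom.L1map_tmul, PresHom.L1map_tmul, relModMap_comp]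
    rfl

lemma L1map_id (z : L1 P) : (PresHom.id P).L1map z = z := by
  induction z using TensorProduct.induction_on with
  | zero => simp
  | add x y hx hy => rw [map_add, hx, hy]
  | tmul b q =>
    rw [PresHom.L1map_tmul, relModMap_id]
    rfl

variable (M : Type m) [AddCommGroup M] [Module B M]

lemma T2pull_comp (h' : PresHom P' P'') (h : PresHom P P') :
    (comp h' h).T2pull M = (h.T2pull M).comp (h'.T2pull M) := by
  refine LinearMap.ext fun x => ?_
  obtain ⟨χ, rfl⟩ := Submodule.Quotient.mk_surjective _ x
  change (Submodule.Quotient.mk ((comp h' h).pull2 M χ) : T2 P M) =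
    Submodule.Quotient.mk (h.pull2 M (h'.pull2 M χ))
  congr 1
  refine LinearMap.ext fun z => ?_
  rw [PresHom.pull2_apply, PresHom.pull2_apply, PresHom.pull2_apply, L2map_comp]

lemma T2pull_id : (PresHom.id P).T2pull M = LinearMap.id := by
  refine LinearMap.ext fun x => ?_
  obtain ⟨χ, rfl⟩ := Submodule.Quotient.mk_surjective _ x
  change (Submodule.Quotient.mk ((PresHom.id P).pull2 M χ) : T2 P M) = Submodule.Quotient.mk χ
  congr 1
  refine LinearMap.ext fun z => ?_
  rw [PresHom.pull2_apply, L2map_id]

/-- `T²` does not depend on the presentation. -/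
def T2equiv (P : Algebra.Presentation A B ι σ) (P' : Algebra.Presentation A B ι' σ') :
    T2 P M ≃ₗ[B] T2 P' M :=
  LinearEquiv.ofLinearMap ((someHom P' P).T2pull M) ((someHom P P').T2pull M)
    (by
      rw [← T2pull_comp, CotTHtpy.T2pull_eq (comp (someHom P P') (someHom P' P)) (PresHom.id P') M,
        T2pull_id])
    (by
      rw [← T2pull_comp, CotTHtpy.T2pull_eq (comp (someHom P' P) (someHom P P')) (PresHom.id P) M,
        T2pull_id])

/-- For any morphism of presentations of the same algebra the induced map on `T²` is bijective. -/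
theorem T2pull_bijective (h : PresHom P P') : Function.Bijective (h.T2pull M) := by
  have h1 : (h.T2pull M).comp ((someHom P' P).T2pull M) = LinearMap.id := by
    rw [← T2pull_comp, CotTHtpy.T2pull_eq (comp (someHom P' P) h) (PresHom.id P) M, T2pull_id]
  have h2 : ((someHom P' P).T2pull M).comp (h.T2pull M) = LinearMap.id := by
    rw [← T2pull_comp, CotTHtpy.T2pull_eq (comp h (someHom P' P)) (PresHom.id P') M, T2pull_id]
  refine ⟨?_, ?_⟩
  · intro x y hxy
    have := congrArg ((someHom P' P).T2pull M) hxy
    rwa [← LinearMap.comp_apply, ← LinearMap.comp_apply, h2] at this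
  · intro y
    exact ⟨(someHom P' P).T2pull M y, by rw [← LinearMap.comp_apply, h1]; rfl⟩

/-! ### `T¹` -/

theorem T1pull_eq (h h' : PresHom P P') : h.T1pull M = h'.T1pull M := by
  refine LinearMap.ext fun x => ?_
  obtain ⟨c, rfl⟩ := Submodule.Quotient.mk_surjective _ x
  change (Submodule.Quotient.mk (h.cocycles1Pull M c) : T1 P M) =
    Submodule.Quotient.mk (h'.cocycles1Pull M c)
  rw [Submodule.Quotient.eq]
  have hc : (c : L1 P' →ₗ[B] M) ∘ₗ d2 P' = 0 := by
    have := c.2
    rwa [LinearMap.mem_ker, d2Star_apply] at this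
  obtain ⟨φ, hφ⟩ := CotTSeq.exists_factor P' M c hc
  refine ⟨φ ∘ₗ (h.hom.toExtensionHom.sub h'.hom.toExtensionHom), ?_⟩
  refine LinearMap.ext fun x => ?_
  have e1 : ∀ (k : PresHom P P') (x : L1 P), (c : L1 P' →ₗ[B] M) (k.L1map x) =
      φ (Algebra.Extension.Cotangent.map k.hom.toExtensionHom (toCot P x)) := by
    intro k x
    rw [← hφ, LinearMap.comp_apply, PresHom.toCot_L1map, PresHom.cotMap_apply]
  change φ ((h.hom.toExtensionHom.sub h'.hom.toExtensionHom)
      (P.toExtension.cotangentComplex (toCot P x))) =
    (c : L1 P' →ₗ[B] M) (h.L1map x) - (c : L1 P' →ₗ[B] M) (h'.L1map x)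
  rw [e1, e1, ← map_sub, ← LinearMap.sub_apply, Algebra.Extension.Cotangent.map_sub_map]
  rfl

lemma T1pull_comp (h' : PresHom P' P'') (h : PresHom P P') :
    (comp h' h).T1pull M = (h.T1pull M).comp (h'.T1pull M) := by
  refine LinearMap.ext fun x => ?_
  obtain ⟨c, rfl⟩ := Submodule.Quotient.mk_surjective _ x
  change (Submodule.Quotient.mk ((comp h' h).cocycles1Pull M c) : T1 P M) =
    Submodule.Quotient.mk (h.cocycles1Pull M (h'.cocycles1Pull M c))
  congr 1
  apply Subtype.ext
  refine LinearMap.ext fun z => ?_
  change (c : L1 P'' →ₗ[B] M) ((comp h' h).L1map z) = (c : L1 P'' →ₗ[B] M) (h'.L1map (h.L1map z))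
  rw [L1map_comp]

lemma T1pull_id : (PresHom.id P).T1pull M = LinearMap.id := by
  refine LinearMap.ext fun x => ?_
  obtain ⟨c, rfl⟩ := Submodule.Quotient.mk_surjective _ x
  change (Submodule.Quotient.mk ((PresHom.id P).cocycles1Pull M c) : T1 P M) =
    Submodule.Quotient.mk c
  congr 1
  apply Subtype.ext
  refine LinearMap.ext fun z => ?_
  change (c : L1 P →ₗ[B] M) ((PresHom.id P).L1map z) = (c : L1 P →ₗ[B] M) z
  rw [L1map_id]

/-- `T¹` does not depend on the presentation. -/
def T1equiv (P : Algebra.Presentation A B ι σ) (P' : Algebra.Presentation A B ι' σ') :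
    T1 P M ≃ₗ[B] T1 P' M :=
  LinearEquiv.ofLinearMap ((someHom P' P).T1pull M) ((someHom P P').T1pull M)
    (by
      rw [← T1pull_comp, T1pull_eq M (comp (someHom P P') (someHom P' P)) (PresHom.id P'),
        T1pull_id])
    (by
      rw [← T1pull_comp, T1pull_eq M (comp (someHom P' P) (someHom P P')) (PresHom.id P),
        T1pull_id])

/-- `T⁰` does not depend on the presentation. -/
def T0equiv (P : Algebra.Presentation A B ι σ) (P' : Algebra.Presentation A B ι' σ') :
    T0 P M ≃ₗ[B] T0 P' M :=
  letI : Module A M := Module.compHom M (algebraMap A B)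
  haveI : IsScalarTower A B M := IsScalarTower.of_compHom A B M
  (LinearEquiv.ofBijective (derToT0 P M) (CotTDer.main12286 P M)).symm.trans
    (LinearEquiv.ofBijective (derToT0 P' M) (CotTDer.main12286 P' M))

theorem main12283 (P : Algebra.Presentation A B ι σ) (P' : Algebra.Presentation A B ι' σ') :
    Nonempty (CotT.T0 P M ≃ₗ[B] CotT.T0 P' M) ∧ Nonempty (CotT.T1 P M ≃ₗ[B] CotT.T1 P' M) ∧
      Nonempty (CotT.T2 P M ≃ₗ[B] CotT.T2 P' M) :=
  ⟨⟨T0equiv M P P'⟩, ⟨T1equiv M P P'⟩, ⟨T2equiv M P P'⟩⟩

end

end Groth.Agent.Lib.helper19.CotTIndep
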