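import Mathlib

/-! Relations among the members of a regular sequence are generated by the trivial (Koszul)
relations: vanishing of the first Koszul homology, elementary form. -/

set_option autoImplicit false
universe u

namespace Groth.Agent.Lib.helper19.Koszul1

variable {A : Type u} [CommRing A]

/-- The span of the trivial relations `a_j e_k - a_k e_j` in `Aⁿ`. -/
def kosz {n : ℕ} (a : Fin n → A) : Submodule A (Fin n → A) :=
  Submodule.span A {y | ∃ j k, y = a j • Pi.single k (1 : A) - a k • Pi.single j (1 : A)}

lemma sum_eq_zero_of_mem_kosz {n : ℕ} (a : Fin n → A) (y : Fin n → A) (hy : y ∈ kosz a) :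
    ∑ i, y i * a i = 0 := by
  induction hy using Submodule.span_induction with
  | mem y hy =>
    obtain ⟨j, k, rfl⟩ := hy
    simp only [Pi.sub_apply, Pi.smul_apply, smul_eq_mul, sub_mul, Finset.sum_sub_distrib]
    simp only [Pi.single_apply, mul_ite, mul_one, mul_zero, ite_mul, zero_mul,
      Finset.sum_ite_eq', Finset.mem_univ, if_true]
    ring
  | zero => simp
  | add x y _ _ hx hy => simp only [Pi.add_apply, add_mul, Finset.sum_add_distrib, hx, hy, add_zero]
  | smul r x _ hx =>
    simp only [Pi.smul_apply, smul_eq_mul, mul_assoc, ← Finset.mul_sum, hx, mul_zero]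

/-- extension by zero `Aⁿ → Aⁿ⁺¹`. -/
noncomputable def ext0 (n : ℕ) : (Fin n → A) →ₗ[A] (Fin (n + 1) → A) :=
  Function.ExtendByZero.linearMap A Fin.castSucc

lemma ext0_castSucc {n : ℕ} (f : Fin n → A) (i : Fin n) : ext0 n f i.castSucc = f i := by
  change Function.extend Fin.castSucc f 0 i.castSucc = f i
  exact (Fin.castSucc_injective n).extend_apply f 0 i

lemma ext0_last {n : ℕ} (f : Fin n → A) : ext0 n f (Fin.last n) = 0 := by
  change Function.extend Fin.castSucc f 0 (Fin.last n) = 0
  rw [Function.extend_apply']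
  · rfl
  · rintro ⟨i, hi⟩
    exact (Fin.castSucc_lt_last i).ne hi

lemma ext0_single {n : ℕ} (k : Fin n) :
    ext0 n (Pi.single k (1 : A)) = Pi.single k.castSucc (1 : A) := by
  funext i
  refine Fin.lastCases ?_ (fun i => ?_) i
  · rw [ext0_last, Pi.single_apply, if_neg (Fin.castSucc_lt_last k).ne']
  · rw [ext0_castSucc, Pi.single_apply, Pi.single_apply]
    simp only [Fin.castSucc_inj]

lemma ext0_mem_kosz {n : ℕ} (a : Fin (n + 1) → A) (y : Fin n → A)
    (hy : y ∈ kosz (fun i => a i.castSucc)) : ext0 n y ∈ kosz a := by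
  induction hy using Submodule.span_induction with
  | mem y hy =>
    obtain ⟨j, k, rfl⟩ := hy
    rw [map_sub, map_smul, map_smul, ext0_single, ext0_single]
    exact Submodule.subset_span ⟨j.castSucc, k.castSucc, rfl⟩
  | zero => rw [map_zero]; exact Submodule.zero_mem _
  | add x y _ _ hx hy => rw [map_add]; exact Submodule.add_mem _ hx hy
  | smul r x _ hx => rw [map_smul]; exact Submodule.smul_mem _ _ hx

lemma image_lt_castSucc {n : ℕ} (a : Fin (n + 1) → A) (i : Fin n) :
    (fun i : Fin n => a i.castSucc) '' {j | j < i} = a '' {j | j < i.castSucc} := by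
  ext x
  constructor
  · rintro ⟨j, hj, rfl⟩
    exact ⟨j.castSucc, Fin.castSucc_lt_castSucc_iff.mpr hj, rfl⟩
  · rintro ⟨j, hj, rfl⟩
    have hj' : j < Fin.last n := lt_trans hj (Fin.castSucc_lt_last i)
    refine ⟨j.castPred hj'.ne, ?_, ?_⟩
    · change j.castPred hj'.ne < i
      rw [← Fin.castSucc_lt_castSucc_iff, Fin.castSucc_castPred]
      exact hj
    · change a (j.castPred hj'.ne).castSucc = a j
      rw [Fin.castSucc_castPred]

theorem koszul_h1 : ∀ (n : ℕ) (a : Fin n → A)
    (_ : ∀ i : Fin n, ∀ x : A, x * a i ∈ Ideal.span (a '' {j | j < i}) →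
      x ∈ Ideal.span (a '' {j | j < i}))
    (f : Fin n → A) (_ : ∑ i, f i * a i = 0), f ∈ kosz a := by
  intro n
  induction n with
  | zero =>
    intro a _ f _
    have : f = 0 := Subsingleton.elim _ _
    rw [this]
    exact Submodule.zero_mem _
  | succ n ih =>
    intro a hreg f hf
    set a' : Fin n → A := fun i => a i.castSucc with ha'
    rw [Fin.sum_univ_castSucc] at hf
    -- `f last ∈ (a_0, …, a_{n-1})`
    have hspan : Ideal.span (a '' {j | j < Fin.last n}) = Ideal.span (Set.range a') := by
      congr 1
      ext x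
      constructor
      · rintro ⟨j, hj, rfl⟩
        have hj' : j < Fin.last n := hj
        exact ⟨j.castPred hj'.ne, by rw [ha']; simp⟩
      · rintro ⟨j, rfl⟩
        exact ⟨j.castSucc, Fin.castSucc_lt_last j, rfl⟩
    have h1 : f (Fin.last n) * a (Fin.last n) ∈ Ideal.span (a '' {j | j < Fin.last n}) := by
      have : f (Fin.last n) * a (Fin.last n) = -∑ i : Fin n, f i.castSucc * a i.castSucc := by
        rw [eq_neg_iff_add_eq_zero, add_comm]; exact hf
      rw [this, hspan]
      refine neg_mem (Ideal.sum_mem _ fun i _ => ?_)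
      exact Ideal.mul_mem_left _ _ (Ideal.subset_span ⟨i, rfl⟩)
    have h2 := hreg (Fin.last n) _ h1
    rw [hspan, Ideal.mem_span_range_iff_exists_fun] at h2
    obtain ⟨g, hg⟩ := h2
    -- the correction term
    set t : Fin (n + 1) → A := ∑ i : Fin n, g i •
      (a i.castSucc • Pi.single (Fin.last n) (1 : A) - a (Fin.last n) • Pi.single i.castSucc (1 : A))
      with ht
    have htk : t ∈ kosz a := by
      rw [ht]
      refine Submodule.sum_mem _ fun i _ => Submodule.smul_mem _ _ ?_
      exact Submodule.subset_span ⟨i.castSucc, Fin.last n, rfl⟩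
    have htlast : t (Fin.last n) = f (Fin.last n) := by
      rw [ht, Finset.sum_apply, ← hg]
      refine Finset.sum_congr rfl fun i _ => ?_
      simp only [Pi.smul_apply, Pi.sub_apply, smul_eq_mul, Pi.single_apply, if_true, mul_one,
        if_neg (Fin.castSucc_lt_last i).ne', mul_zero, sub_zero]
      rfl
    have hf'sum : ∑ i, (f - t) i * a i = 0 := by
      simp only [Pi.sub_apply, sub_mul, Finset.sum_sub_distrib]
      rw [sum_eq_zero_of_mem_kosz a t htk, sub_zero, Fin.sum_univ_castSucc]
      exact hf
    have hf'last : (f - t) (Fin.last n) = 0 := by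
      rw [Pi.sub_apply, htlast, sub_self]
    -- apply induction to `(f - t) ∘ castSucc`
    have hrel : ∑ i : Fin n, (f - t) i.castSucc * a' i = 0 := by
      rw [Fin.sum_univ_castSucc, hf'last, zero_mul, add_zero] at hf'sum
      exact hf'sum
    have hreg' : ∀ i : Fin n, ∀ x : A, x * a' i ∈ Ideal.span (a' '' {j | j < i}) →
        x ∈ Ideal.span (a' '' {j | j < i}) := by
      intro i x hx
      rw [ha', image_lt_castSucc a i] at hx ⊢
      exact hreg i.castSucc x hx
    have hmem := ih a' hreg' (fun i => (f - t) i.castSucc) hrel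
    have hext : ext0 n (fun i => (f - t) i.castSucc) = f - t := by
      funext i
      refine Fin.lastCases ?_ (fun i => ?_) i
      · rw [ext0_last, hf'last]
      · rw [ext0_castSucc]
    have h3 : f - t ∈ kosz a := by
      rw [← hext]
      exact ext0_mem_kosz a _ hmem
    have : f = (f - t) + t := by abel
    rw [this]
    exact Submodule.add_mem _ h3 htk

end Groth.Agent.Lib.helper19.Koszul1
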