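import Mathlib
import Groth.Prelude.Def_CotT2
import Groth.Agent.Lib.helper19.CotTIndep
import Groth.Agent.Lib.helper19.Koszul1

/-! `T² = 0` for a quotient by a regular sequence. -/

set_option autoImplicit false
universe u v m
open scoped TensorProduct

namespace Groth.Agent.Lib.helper19.CotTReg

open CotT Koszul1

noncomputable section

variable {A : Type u} [CommRing A]

/-- a list as a family. -/
def getF (rs : List A) : Fin rs.length → A := fun j => rs[j]

lemma getF_apply (rs : List A) (j : Fin rs.length) : getF rs j = rs[j] := rfl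

lemma ofList_take_eq (rs : List A) (i : Fin rs.length) :
    Ideal.ofList (rs.take i) =
      Ideal.span (getF rs '' {j | j < i}) := by
  unfold Ideal.ofList
  congr 1
  ext x
  simp only [Set.mem_ofPred_eq, Set.mem_image]
  rw [List.mem_take_iff_getElem]
  constructor
  · rintro ⟨j, hj, rfl⟩
    have hj1 : j < (i : ℕ) := lt_of_lt_of_le hj (min_le_left _ _)
    have hj2 : j < rs.length := lt_of_lt_of_le hj (min_le_right _ _)
    exact ⟨⟨j, hj2⟩, hj1, rfl⟩
  · rintro ⟨j, hj, rfl⟩
    exact ⟨j, lt_min hj j.2, rfl⟩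

lemma hreg_of_isWeaklyRegular (rs : List A) (h : RingTheory.Sequence.IsWeaklyRegular A rs) :
    ∀ i : Fin rs.length, ∀ x : A,
      x * getF rs i ∈ Ideal.span (getF rs '' {j | j < i}) →
      x ∈ Ideal.span (getF rs '' {j | j < i}) := by
  intro i x hx
  rw [getF_apply] at hx
  have hr := h.regular_mod_prev i i.2
  rw [← ofList_take_eq] at hx ⊢
  have htop : (Ideal.ofList (rs.take i) • (⊤ : Submodule A A)) = Ideal.ofList (rs.take i) := by
    rw [smul_eq_mul, Ideal.mul_top]
  have h0 : rs[(i : ℕ)] • (Submodule.Quotient.mk x :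
      A ⧸ (Ideal.ofList (rs.take i) • (⊤ : Submodule A A))) = rs[(i : ℕ)] • 0 := by
    rw [smul_zero, ← Submodule.Quotient.mk_smul, Submodule.Quotient.mk_eq_zero, htop, smul_eq_mul,
      mul_comm]
    exact hx
  have := hr h0
  rw [Submodule.Quotient.mk_eq_zero, htop] at this
  exact this

section Pres

variable {B : Type v} [CommRing B] [Algebra A B]

/-- `A[∅] → A`. -/
def beta0 : MvPolynomial PEmpty.{1} A →+* A :=
  ((MvPolynomial.isEmptyAlgEquiv A PEmpty.{1} : MvPolynomial PEmpty.{1} A ≃ₐ[A] A) :
    MvPolynomial PEmpty.{1} A →+* A)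

lemma C_beta0 (x : MvPolynomial PEmpty.{1} A) : MvPolynomial.C (beta0 x) = x := by
  have h := (MvPolynomial.isEmptyAlgEquiv A PEmpty.{1}).symm_apply_apply x
  rw [MvPolynomial.isEmptyAlgEquiv_symm_apply] at h
  exact h

lemma beta0_C (r : A) : beta0 (MvPolynomial.C r : MvPolynomial PEmpty.{1} A) = r := by
  have h := (MvPolynomial.isEmptyAlgEquiv A PEmpty.{1}).apply_symm_apply r
  rw [MvPolynomial.isEmptyAlgEquiv_symm_apply] at h
  exact h

lemma mem_span_C_iff {n : ℕ} (a : Fin n → A) (x : MvPolynomial PEmpty.{1} A) :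
    x ∈ Ideal.span (Set.range fun s => (MvPolynomial.C (a s) : MvPolynomial PEmpty.{1} A)) ↔
      beta0 x ∈ Ideal.span (Set.range a) := by
  constructor
  · intro h
    have hle : Ideal.span (Set.range fun s => (MvPolynomial.C (a s) : MvPolynomial PEmpty.{1} A)) ≤
        (Ideal.span (Set.range a)).comap beta0 := by
      rw [Ideal.span_le]
      rintro _ ⟨s, rfl⟩
      rw [SetLike.mem_coe, Ideal.mem_comap, beta0_C]
      exact Ideal.subset_span ⟨s, rfl⟩
    exact hle h
  · intro h
    have hle : Ideal.span (Set.range a) ≤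
        (Ideal.span (Set.range fun s => (MvPolynomial.C (a s) :
          MvPolynomial PEmpty.{1} A))).comap MvPolynomial.C := by
      rw [Ideal.span_le]
      rintro _ ⟨s, rfl⟩
      exact Ideal.subset_span ⟨s, rfl⟩
    have := hle h
    rw [Ideal.mem_comap, C_beta0] at this
    exact this

variable (hs : Function.Surjective (algebraMap A B)) {n : ℕ} (a : Fin n → A)
  (hker : RingHom.ker (algebraMap A B) = Ideal.span (Set.range a))

/-- The presentation of `B = A/(a_1, …, a_n)` with no variables and relations `a_i`. -/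
def regPres : Algebra.Presentation A B PEmpty.{1} (Fin n) where
  toGenerators := Algebra.Generators.ofSurjectiveAlgebraMap hs
  relation s := MvPolynomial.C (a s)
  span_range_relation_eq_ker := by
    ext x
    rw [mem_span_C_iff, ← hker, RingHom.mem_ker, Algebra.Generators.ker_eq_ker_aeval_val,
      RingHom.mem_ker]
    conv_rhs => rw [← C_beta0 x, MvPolynomial.aeval_C]

lemma rel_regPres (s : Fin n) :
    rel (regPres hs a hker) s = (MvPolynomial.C (a s) : MvPolynomial PEmpty.{1} A) := rfl

lemma jmap_regPres (q : relMod (regPres hs a hker)) :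
    jmap (regPres hs a hker) q = ∑ s, q s * rel (regPres hs a hker) s := by
  rw [jmap, Finsupp.linearCombination_apply, Finsupp.sum_fintype _ _ (fun i => by simp)]
  rfl

/-- `Aⁿ → F`. -/
def Phi (y : Fin n → A) : relMod (regPres hs a hker) :=
  Finsupp.equivFunOnFinite.symm (fun s => (MvPolynomial.C (y s) : MvPolynomial PEmpty.{1} A))

lemma Phi_apply (y : Fin n → A) (s : Fin n) :
    Phi hs a hker y s = (MvPolynomial.C (y s) : MvPolynomial PEmpty.{1} A) := rfl

lemma Phi_zero : Phi hs a hker 0 = 0 := by
  ext s : 1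
  rw [Phi_apply, Pi.zero_apply, map_zero]
  rfl

lemma Phi_add (x y : Fin n → A) : Phi hs a hker (x + y) = Phi hs a hker x + Phi hs a hker y := by
  ext s : 1
  rw [Finsupp.add_apply, Phi_apply, Phi_apply, Phi_apply, Pi.add_apply, map_add]
  rfl

lemma Phi_sub (x y : Fin n → A) : Phi hs a hker (x - y) = Phi hs a hker x - Phi hs a hker y := by
  ext s : 1
  rw [Finsupp.sub_apply, Phi_apply, Phi_apply, Phi_apply, Pi.sub_apply, map_sub]
  rfl

/-- constants in the ring of the presentation. -/
def cR (r : A) : (regPres hs a hker).toExtension.Ring :=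
  (MvPolynomial.C r : MvPolynomial PEmpty.{1} A)

lemma Phi_smul (r : A) (x : Fin n → A) :
    Phi hs a hker (r • x) = cR hs a hker r • Phi hs a hker x := by
  ext s : 1
  rw [Finsupp.smul_apply, Phi_apply, Phi_apply, Pi.smul_apply, smul_eq_mul, map_mul]
  rfl

lemma Phi_single (k : Fin n) :
    Phi hs a hker (Pi.single k (1 : A)) = Finsupp.single k 1 := by
  ext s : 1
  rw [Phi_apply, Finsupp.single_apply, Pi.single_apply]
  by_cases h : s = k
  · rw [if_pos h, if_pos h.symm, map_one]
    rfl
  · rw [if_neg h, if_neg (fun h' => h h'.symm), map_zero]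
    rfl

lemma Phi_mem_trivRel (y : Fin n → A) (hy : y ∈ kosz a) :
    Phi hs a hker y ∈ trivRel (regPres hs a hker) := by
  induction hy using Submodule.span_induction with
  | mem y hy =>
    obtain ⟨j, k, rfl⟩ := hy
    refine Submodule.subset_span ⟨Finsupp.single j 1, Finsupp.single k 1, ?_⟩
    rw [jmap_single, jmap_single, one_mul, one_mul, Phi_sub, Phi_smul, Phi_smul, Phi_single,
      Phi_single]
    rfl
  | zero => rw [Phi_zero]; exact Submodule.zero_mem _
  | add x y _ _ hx hy => rw [Phi_add]; exact Submodule.add_mem _ hx hy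
  | smul r x _ hx => rw [Phi_smul]; exact Submodule.smul_mem _ _ hx

lemma relKer_le_trivRel
    (hreg : ∀ i : Fin n, ∀ x : A, x * a i ∈ Ideal.span (a '' {j | j < i}) →
      x ∈ Ideal.span (a '' {j | j < i})) :
    relKer (regPres hs a hker) ≤ trivRel (regPres hs a hker) := by
  intro q hq
  have hq0 : jmap (regPres hs a hker) q = 0 := hq
  rw [jmap_regPres] at hq0
  have hsum : ∑ s, beta0 (q s) * a s = 0 := by
    have h1 := congrArg beta0 hq0
    have e : beta0 (∑ s, q s * rel (regPres hs a hker) s) =
        ∑ s, beta0 (q s * rel (regPres hs a hker) s) := map_sum beta0 _ _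
    have h2 : ∑ s, beta0 (q s * rel (regPres hs a hker) s) = 0 :=
      (e.symm.trans h1).trans (map_zero beta0)
    rw [← h2]
    refine Finset.sum_congr rfl fun s _ => ?_
    have e2 : beta0 (q s * rel (regPres hs a hker) s) =
        beta0 (q s) * beta0 (rel (regPres hs a hker) s) := map_mul beta0 _ _
    rw [e2, rel_regPres, beta0_C]
  have hk := koszul_h1 n a hreg (fun s => beta0 (q s)) hsum
  have hΦ := Phi_mem_trivRel hs a hker _ hk
  have : Phi hs a hker (fun s => beta0 (q s)) = q := by
    ext s : 1
    rw [Phi_apply, C_beta0]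
  rwa [this] at hΦ

variable (M : Type m) [AddCommGroup M] [Module B M]

lemma subsingleton_T2_regPres
    (hreg : ∀ i : Fin n, ∀ x : A, x * a i ∈ Ideal.span (a '' {j | j < i}) →
      x ∈ Ideal.span (a '' {j | j < i})) :
    Subsingleton (T2 (regPres hs a hker) M) := by
  have h0 : ∀ z : L2 (regPres hs a hker), z = 0 := by
    intro z
    induction z using Submodule.Quotient.induction_on with
    | H z =>
      induction z using TensorProduct.induction_on with
      | zero => rfl
      | tmul b q =>
        rw [Submodule.Quotient.mk_eq_zero]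
        exact ⟨b ⊗ₜ ⟨q, relKer_le_trivRel hs a hker hreg q.2⟩, rfl⟩
      | add x y hx hy => rw [Submodule.Quotient.mk_add, hx, hy, add_zero]
  refine ⟨fun x y => ?_⟩
  obtain ⟨c, rfl⟩ := Submodule.Quotient.mk_surjective _ x
  obtain ⟨c', rfl⟩ := Submodule.Quotient.mk_surjective _ y
  congr 1
  refine LinearMap.ext fun z => ?_
  rw [h0 z, map_zero, map_zero]

end Pres

theorem main12288 (A B : Type u) [CommRing A] [CommRing B] [Algebra A B]
    (hs : Function.Surjective (algebraMap A B)) (rs : List A)
    (hreg : RingTheory.Sequence.IsRegular A rs)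
    (hI : RingHom.ker (algebraMap A B) = Ideal.ofList rs) (M : Type m) [AddCommGroup M]
    [Module B M] :
    Subsingleton (CotT.T2 (CotT.canon A B) M) := by
  have hker : RingHom.ker (algebraMap A B) = Ideal.span (Set.range (getF rs)) := by
    rw [hI]
    unfold Ideal.ofList
    congr 1
    ext x
    simp only [Set.mem_ofPred_eq, Set.mem_range]
    rw [List.mem_iff_getElem]
    constructor
    · rintro ⟨i, hi, rfl⟩
      exact ⟨⟨i, hi⟩, rfl⟩
    · rintro ⟨i, rfl⟩
      exact ⟨i, i.2, rfl⟩
  haveI := subsingleton_T2_regPres hs (getF rs) hker M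
    (hreg_of_isWeaklyRegular rs hreg.toIsWeaklyRegular)
  exact (CotTIndep.T2equiv M (canon A B) (regPres hs (getF rs) hker)).toEquiv.subsingleton

end

end Groth.Agent.Lib.helper19.CotTReg
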