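import Mathlib
import Groth.Agent.Lib.helper19.Koszul1
import Groth.Agent.Lib.helper19.CotTReg

/-! `T¹` of a complete intersection: `Hom(J, B) ≃ Bⁿ` for a regular sequence, and the image of the
derivations is the span of the Jacobian columns. -/

set_option autoImplicit false
universe u

namespace Groth.Agent.Lib.helper19.CITOne

open Groth.Agent.Lib.helper19.Koszul1 Groth.Agent.Lib.helper19.CotTReg

section General

variable {A : Type u} [CommRing A] {n : ℕ} (f : Fin n → A)

/-- the `i`-th generator as an element of the ideal. -/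
def gen (i : Fin n) : ↥(Ideal.span (Set.range f)) :=
  ⟨f i, Ideal.subset_span (Set.mem_range_self i)⟩

/-- evaluation at the generators. -/
def ev : (↥(Ideal.span (Set.range f)) →ₗ[A] (A ⧸ Ideal.span (Set.range f))) →ₗ[A]
    (Fin n → A ⧸ Ideal.span (Set.range f)) where
  toFun φ i := φ (gen f i)
  map_add' φ ψ := by funext i; rfl
  map_smul' r φ := by funext i; rfl

lemma ev_apply (φ : ↥(Ideal.span (Set.range f)) →ₗ[A] (A ⧸ Ideal.span (Set.range f)))
    (i : Fin n) : ev f φ i = φ (gen f i) := rfl

lemma ev_injective : Function.Injective (ev f) := by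
  rw [← LinearMap.ker_eq_bot, LinearMap.ker_eq_bot']
  intro φ hφ
  have h0 : ∀ i, φ (gen f i) = 0 := fun i => congrFun hφ i
  ext ⟨a, ha⟩
  rw [LinearMap.zero_apply]
  induction ha using Submodule.span_induction with
  | mem x hx =>
    obtain ⟨i, rfl⟩ := hx
    exact h0 i
  | zero =>
    exact map_zero φ
  | add x y hx hy ihx ihy =>
    have : (⟨x + y, Submodule.add_mem _ hx hy⟩ : ↥(Ideal.span (Set.range f))) =
        ⟨x, hx⟩ + ⟨y, hy⟩ := rfl
    rw [this, map_add, ihx, ihy, add_zero]
  | smul r x hx ih =>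
    have : (⟨r • x, Submodule.smul_mem _ r hx⟩ : ↥(Ideal.span (Set.range f))) =
        r • ⟨x, hx⟩ := rfl
    rw [this, map_smul, ih, smul_zero]

/-- the presentation `Aⁿ → J`. -/
noncomputable def piJ : (Fin n → A) →ₗ[A] ↥(Ideal.span (Set.range f)) :=
  Fintype.linearCombination A (gen f)

lemma piJ_coe (p : Fin n → A) : ((piJ f p : ↥(Ideal.span (Set.range f))) : A) = ∑ i, p i * f i := by
  unfold piJ
  rw [Fintype.linearCombination_apply]
  rw [Submodule.coe_sum]
  rfl

lemma piJ_surjective : Function.Surjective (piJ f) := by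
  rintro ⟨a, ha⟩
  obtain ⟨c, hc⟩ := Ideal.mem_span_range_iff_exists_fun.mp ha
  refine ⟨c, Subtype.ext ?_⟩
  rw [piJ_coe]
  exact hc

lemma piJ_single (i : Fin n) : piJ f (Pi.single i 1) = gen f i := by
  refine Subtype.ext ?_
  rw [piJ_coe]
  simp [Pi.single_apply, gen]

lemma smul_eq_mk_mul (I : Ideal A) (p : A) (b : A ⧸ I) : p • b = Ideal.Quotient.mk I p * b := by
  obtain ⟨q, rfl⟩ := Ideal.Quotient.mk_surjective b
  rfl

lemma smul_quot_eq_zero (i : Fin n) (b : A ⧸ Ideal.span (Set.range f)) : f i • b = 0 := by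
  rw [Algebra.smul_def]
  have : algebraMap A (A ⧸ Ideal.span (Set.range f)) (f i) = 0 :=
    Ideal.Quotient.eq_zero_iff_mem.mpr (Ideal.subset_span (Set.mem_range_self i))
  rw [this, zero_mul]

lemma hreg_ofFn (hreg : RingTheory.Sequence.IsWeaklyRegular A (List.ofFn f)) :
    ∀ i : Fin n, ∀ x : A, x * f i ∈ Ideal.span (f '' {j | j < i}) →
      x ∈ Ideal.span (f '' {j | j < i}) := by
  have hlen : (List.ofFn f).length = n := List.length_ofFn
  have h := hreg_of_isWeaklyRegular (List.ofFn f) hreg
  have hget : ∀ j : Fin (List.ofFn f).length, getF (List.ofFn f) j = f (Fin.cast hlen j) := by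
    intro j
    rw [getF_apply]
    simp only [Fin.getElem_fin, List.getElem_ofFn]
    rfl
  intro i x hx
  have himg : getF (List.ofFn f) '' {j | j < Fin.cast hlen.symm i} = f '' {j | j < i} := by
    ext y
    constructor
    · rintro ⟨j, hj, rfl⟩
      exact ⟨Fin.cast hlen j, hj, (hget j).symm⟩
    · rintro ⟨j, hj, rfl⟩
      refine ⟨Fin.cast hlen.symm j, hj, ?_⟩
      rw [hget]
      rfl
  have := h (Fin.cast hlen.symm i) x
  rw [himg, hget] at this
  exact this hx

lemma ev_surjective (hreg : RingTheory.Sequence.IsWeaklyRegular A (List.ofFn f)) :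
    Function.Surjective (ev f) := by
  intro b
  set Ψ : (Fin n → A) →ₗ[A] (A ⧸ Ideal.span (Set.range f)) := Fintype.linearCombination A b with hΨ
  have hkosz : ∀ p ∈ kosz f, Ψ p = 0 := by
    intro p hk
    induction hk using Submodule.span_induction with
    | mem y hy =>
      obtain ⟨j, k, rfl⟩ := hy
      rw [map_sub, map_smul, map_smul, hΨ, Fintype.linearCombination_apply_single,
        Fintype.linearCombination_apply_single, one_smul, one_smul, smul_quot_eq_zero,
        smul_quot_eq_zero, sub_zero]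
    | zero => exact map_zero _
    | add x y _ _ hx hy => rw [map_add, hx, hy, add_zero]
    | smul r x _ hx => rw [map_smul, hx, smul_zero]
  have hker : LinearMap.ker (piJ f) ≤ LinearMap.ker Ψ := by
    intro p hp
    rw [LinearMap.mem_ker] at hp ⊢
    have hsum : ∑ i, p i * f i = 0 := by
      rw [← piJ_coe, hp]
      rfl
    exact hkosz p (koszul_h1 n f (hreg_ofFn f hreg) p hsum)
  let φ : ↥(Ideal.span (Set.range f)) →ₗ[A] (A ⧸ Ideal.span (Set.range f)) :=
    ((LinearMap.ker (piJ f)).liftQ Ψ hker).comp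
      ((piJ f).quotKerEquivOfSurjective (piJ_surjective f)).symm.toLinearMap
  refine ⟨φ, ?_⟩
  funext i
  rw [ev_apply]
  have h1 : ((piJ f).quotKerEquivOfSurjective (piJ_surjective f)).symm (gen f i) =
      Submodule.Quotient.mk (Pi.single i 1) := by
    rw [LinearEquiv.symm_apply_eq, LinearMap.quotKerEquivOfSurjective_apply_mk, piJ_single]
  change ((LinearMap.ker (piJ f)).liftQ Ψ hker)
    (((piJ f).quotKerEquivOfSurjective (piJ_surjective f)).symm (gen f i)) = b i
  rw [h1, Submodule.liftQ_apply, hΨ, Fintype.linearCombination_apply_single, one_smul]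

/-- `Hom_A(J, A/J) ≃ (A/J)ⁿ` for a regular sequence. -/
noncomputable def evEquiv (hreg : RingTheory.Sequence.IsWeaklyRegular A (List.ofFn f)) :
    (↥(Ideal.span (Set.range f)) →ₗ[A] (A ⧸ Ideal.span (Set.range f))) ≃ₗ[A]
      (Fin n → A ⧸ Ideal.span (Set.range f)) :=
  LinearEquiv.ofBijective (ev f) ⟨ev_injective f, ev_surjective f hreg⟩

lemma evEquiv_apply (hreg : RingTheory.Sequence.IsWeaklyRegular A (List.ofFn f))
    (φ : ↥(Ideal.span (Set.range f)) →ₗ[A] (A ⧸ Ideal.span (Set.range f))) :
    evEquiv f hreg φ = ev f φ := rfl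

end General

section Poly

open MvPolynomial

variable {k : Type u} [Field k] {d n : ℕ} (f : Fin n → MvPolynomial (Fin d) k)

local notation "P" => MvPolynomial (Fin d) k
local notation "JJ" => Ideal.span (Set.range f)

/-- a derivation is determined by its values at the variables, through the partial derivatives. -/
lemma der_eq_sum (D : Derivation k P (P ⧸ JJ)) (p : P) :
    D p = ∑ j, Ideal.Quotient.mk JJ (pderiv j p) * D (X j) := by
  induction p using MvPolynomial.induction_on with
  | C a =>
    rw [MvPolynomial.derivation_C]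
    simp
  | add p q hp hq =>
    rw [map_add, hp, hq, ← Finset.sum_add_distrib]
    refine Finset.sum_congr rfl fun j _ => ?_
    rw [map_add, map_add, add_mul]
  | mul_X p i hp =>
    rw [Derivation.leibniz, hp]
    simp only [pderiv_mul, map_add, map_mul, add_mul, Finset.sum_add_distrib, pderiv_X,
      smul_eq_mk_mul]
    rw [Finset.mul_sum, add_comm]
    congr 1
    · refine Finset.sum_congr rfl fun j _ => ?_
      ring
    · rw [Finset.sum_eq_single i]
      · simp
      · intro j _ hj
        rw [Pi.single_apply, if_neg hj.symm, map_zero, mul_zero, zero_mul]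
      · intro h
        exact absurd (Finset.mem_univ i) h

/-- the restriction of a derivation `P → B` to `J` is `P`-linear. -/
noncomputable def restrictDer (D : Derivation k P (P ⧸ JJ)) : ↥JJ →ₗ[P] (P ⧸ JJ) where
  toFun a := D (a : P)
  map_add' a b := by simp
  map_smul' r a := by
    have h0 : (a : P) • D r = 0 := by
      rw [smul_eq_mk_mul, Ideal.Quotient.eq_zero_iff_mem.mpr a.2, zero_mul]
    simp only [Submodule.coe_smul, smul_eq_mul, Derivation.leibniz, RingHom.id_apply, h0, add_zero]

lemma restrictDer_apply (D : Derivation k P (P ⧸ JJ)) (a : ↥JJ) :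
    restrictDer f D a = D (a : P) := rfl

/-- the `j`-th partial derivative followed by the projection. -/
noncomputable def pd (j : Fin d) : Derivation k P (P ⧸ JJ) :=
  (Algebra.linearMap P (P ⧸ JJ)).compDer (pderiv j)

lemma pd_apply (j : Fin d) (p : P) : pd f j p = Ideal.Quotient.mk JJ (pderiv j p) := rfl

/-- the derivation submodule. -/
noncomputable def S1 : Submodule P (↥JJ →ₗ[P] (P ⧸ JJ)) :=
  Submodule.span P {ψ | ∃ D : Derivation k P (P ⧸ JJ), ∀ a : ↥JJ, ψ a = D (a : P)}

/-- the Jacobian submodule. -/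
noncomputable def S2 : Submodule (P ⧸ JJ) (Fin n → P ⧸ JJ) :=
  Submodule.span (P ⧸ JJ)
    (Set.range fun j : Fin d => fun i : Fin n => Ideal.Quotient.mk JJ (pderiv j (f i)))

lemma map_ev_S1 : (S1 f).map (ev f) = (S2 f).restrictScalars P := by
  have hsur : Function.Surjective (algebraMap P (P ⧸ JJ)) := Ideal.Quotient.mk_surjective
  unfold S1 S2
  rw [Submodule.restrictScalars_span P (P ⧸ JJ) hsur, Submodule.map_span]
  apply le_antisymm
  · rw [Submodule.span_le]
    rintro _ ⟨ψ, ⟨D, hD⟩, rfl⟩
    have : ev f ψ = ∑ j, D (X j) •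
        (fun i : Fin n => Ideal.Quotient.mk JJ (pderiv j (f i))) := by
      funext i
      rw [ev_apply, hD, Finset.sum_apply]
      change D (f i) = _
      rw [der_eq_sum]
      refine Finset.sum_congr rfl fun j _ => ?_
      rw [Pi.smul_apply, smul_eq_mul, mul_comm]
    rw [this]
    rw [← Submodule.restrictScalars_span P (P ⧸ JJ) hsur]
    refine Submodule.sum_mem _ fun j _ => ?_
    exact Submodule.smul_mem (Submodule.span (P ⧸ JJ) _) _
      (Submodule.subset_span (Set.mem_range_self j))
  · rw [Submodule.span_le]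
    rintro _ ⟨j, rfl⟩
    refine Submodule.subset_span ⟨restrictDer f (pd f j), ⟨pd f j, fun a => rfl⟩, ?_⟩
    funext i
    rfl

/-- the `T¹` isomorphism. -/
noncomputable def t1Equiv (hreg : RingTheory.Sequence.IsWeaklyRegular P (List.ofFn f)) :
    ((↥JJ →ₗ[P] (P ⧸ JJ)) ⧸ S1 f) ≃ₗ[P] ((Fin n → P ⧸ JJ) ⧸ S2 f) :=
  (Submodule.Quotient.equiv (S1 f) ((S2 f).restrictScalars P) (evEquiv f hreg)
    (map_ev_S1 f)).trans (Submodule.Quotient.restrictScalarsEquiv P (S2 f))

lemma t1Equiv_mk (hreg : RingTheory.Sequence.IsWeaklyRegular P (List.ofFn f))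
    (φ : ↥JJ →ₗ[P] (P ⧸ JJ)) :
    t1Equiv f hreg (Submodule.Quotient.mk φ) = Submodule.Quotient.mk (ev f φ) := rfl

end Poly

end Groth.Agent.Lib.helper19.CITOne
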