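import Mathlib
import Groth.Agent.Lib.helper19.JacobiAtPrime

/-!
# Differentials versus the cotangent space at a point with separable residue field (S5001)
-/

open TensorProduct KaehlerDifferential IsLocalRing

namespace Groth.Agent.Lib.helper19.CotKaehler

universe u

section

variable (k T K : Type u) [CommRing k] [CommRing T] [CommRing K] [Algebra k T] [Algebra k K]
  [Algebra T K] [IsScalarTower k T K]

/-- if `K` is formally smooth over `k` and `T → K` is surjective, the conormal map is injective
(no smoothness assumption on `T`). -/
theorem kerCotangentToTensor_injective [Algebra.FormallySmooth k K]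
    (hf : Function.Surjective (algebraMap T K)) :
    Function.Injective (kerCotangentToTensor k T K) := by
  have hsurj : Function.Surjective (IsScalarTower.toAlgHom k T K).kerSquareLift := by
    intro y
    obtain ⟨x, rfl⟩ := hf y
    exact ⟨Ideal.Quotient.mk _ x, rfl⟩
  have hnil : IsNilpotent (RingHom.ker (IsScalarTower.toAlgHom k T K).kerSquareLift) := by
    refine ⟨2, ?_⟩
    have := (IsScalarTower.toAlgHom k T K).ker_kerSquareLift
    change RingHom.ker (IsScalarTower.toAlgHom k T K).kerSquareLift.toRingHom ^ 2 = 0
    rw [this, Ideal.cotangentIdeal_square, Ideal.zero_eq_bot]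
  let g := Algebra.FormallySmooth.liftOfSurjective (AlgHom.id k K)
    (IsScalarTower.toAlgHom k T K).kerSquareLift hsurj hnil
  have hg : (IsScalarTower.toAlgHom k T K).kerSquareLift.comp g = AlgHom.id k K :=
    Algebra.FormallySmooth.comp_liftOfSurjective _ _ hsurj hnil
  obtain ⟨l, hl⟩ := (retractionKerCotangentToTensorEquivSection (R := k) hf).symm ⟨g, hg⟩
  intro x y hxy
  have := congrArg l hxy
  rwa [← LinearMap.comp_apply, ← LinearMap.comp_apply, hl] at this

end

section Local

variable (k T : Type u) [CommRing k] [CommRing T] [Algebra k T] [IsLocalRing T]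
  [Algebra k (ResidueField T)] [IsScalarTower k T (ResidueField T)]
  [Algebra.FormallySmooth k (ResidueField T)] [Algebra.FormallyUnramified k (ResidueField T)]
  [Module.Finite T Ω[T⁄k]] {ι : Type*} [Fintype ι] (g : ι → T)
  (hg : ∀ i, g i ∈ RingHom.ker (algebraMap T (ResidueField T)))

include hg in
theorem span_D_eq_top_iff (hfg : (RingHom.ker (algebraMap T (ResidueField T))).FG) :
    Submodule.span T (Set.range fun i => D k T (g i)) = ⊤ ↔
      Ideal.span (Set.range g) = RingHom.ker (algebraMap T (ResidueField T)) := by
  have hf : Function.Surjective (algebraMap T (ResidueField T)) := IsLocalRing.residue_surjective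
  have hker : RingHom.ker (algebraMap T (ResidueField T)) = maximalIdeal T :=
    IsLocalRing.ker_residue
  let g' : ι → RingHom.ker (algebraMap T (ResidueField T)) := fun i => ⟨g i, hg i⟩
  have hkCT : ∀ i, kerCotangentToTensor k T (ResidueField T) (Ideal.toCotangent _ (g' i)) =
      (1 : ResidueField T) ⊗ₜ[T] D k T (g i) := fun i =>
    kerCotangentToTensor_toCotangent k T (ResidueField T) (g' i)
  rw [← JacobiAtPrime.span_top_iff (RingHom.ker (algebraMap T (ResidueField T))) g']
  constructor
  · intro hN
    have hinj := kerCotangentToTensor_injective k T (ResidueField T) hf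
    rw [eq_top_iff]
    refine Submodule.le_of_le_smul_of_le_jacobson_bot
      (I := RingHom.ker (algebraMap T (ResidueField T))) ?_ ?_ ?_
    · exact Submodule.fg_top _ |>.mpr hfg
    · rw [hker]
      exact IsLocalRing.maximalIdeal_le_jacobson _
    · rintro x -
      have hDx : D k T (x : T) ∈ Submodule.span T (Set.range fun i => D k T (g i)) := by
        rw [hN]; trivial
      obtain ⟨c, hc⟩ := (Submodule.mem_span_range_iff_exists_fun T).mp hDx
      let y : RingHom.ker (algebraMap T (ResidueField T)) := ∑ i, c i • g' i
      have hy : y ∈ Submodule.span T (Set.range g') :=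
        Submodule.sum_mem _ fun i _ => Submodule.smul_mem _ _ (Submodule.subset_span ⟨i, rfl⟩)
      have heq : Ideal.toCotangent _ x = Ideal.toCotangent _ y := by
        apply hinj
        rw [kerCotangentToTensor_toCotangent, ← hc]
        simp only [y, map_sum, map_smul, hkCT, TensorProduct.tmul_sum, TensorProduct.tmul_smul]
      have hxy : x - y ∈ RingHom.ker (algebraMap T (ResidueField T)) •
          (⊤ : Submodule T (RingHom.ker (algebraMap T (ResidueField T)))) := by
        rw [Submodule.mem_smul_top_iff, smul_eq_mul, ← pow_two, ← Ideal.mem_toCotangent_ker,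
          LinearMap.mem_ker, map_sub, heq, sub_self]
      have : x = y + (x - y) := by abel
      rw [this]
      exact Submodule.add_mem_sup hy hxy
  · intro hG
    rw [← IsLocalRing.map_tensorProduct_mk_eq_top, eq_top_iff]
    rintro z -
    obtain ⟨c, rfl⟩ := (KaehlerDifferential.exact_kerCotangentToTensor_mapBaseChange k T
      (ResidueField T) hf z).mp (Subsingleton.elim _ _)
    obtain ⟨x, rfl⟩ := Ideal.toCotangent_surjective _ c
    have hx : x ∈ Submodule.span T (Set.range g') := by rw [hG]; trivial
    induction hx using Submodule.span_induction with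
    | mem x hx =>
      obtain ⟨i, rfl⟩ := hx
      rw [hkCT]
      exact ⟨D k T (g i), Submodule.subset_span ⟨i, rfl⟩, rfl⟩
    | zero => rw [map_zero, map_zero]; exact Submodule.zero_mem _
    | add x y _ _ hx hy => rw [map_add, map_add]; exact Submodule.add_mem _ hx hy
    | smul a x _ hx => rw [map_smul, map_smul]; exact Submodule.smul_mem _ _ hx

end Local

end Groth.Agent.Lib.helper19.CotKaehler
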