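import Mathlib
import Groth.Agent.Lib.helper19.CotKaehler
import Groth.Agent.Lib.helper20.RegQuot7

/-!
# Characteristic zero: free module of differentials implies regular (S7767, S5000)
-/

open TensorProduct KaehlerDifferential IsLocalRing

namespace Groth.Agent.Lib.helper19.CharZeroReg

universe u

section NZD

variable {k R : Type u} [Field k] [CharZero k] [CommRing R] [Algebra k R] [IsLocalRing R]
  [IsNoetherianRing R]

theorem isSMulRegular_of_derivation (D : Derivation k R R) (f : R) (hf : f ∈ maximalIdeal R)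
    (hD : D f = 1) : IsSMulRegular R f := by
  have key : ∀ y : R, f * y = 0 → ∀ n : ℕ, ∃ z, y = f ^ n * z := by
    intro y hy n
    induction n with
    | zero => exact ⟨y, by simp⟩
    | succ n ih =>
      obtain ⟨z, rfl⟩ := ih
      have h0 : f ^ (n + 1) * z = 0 := by rw [pow_succ', mul_assoc]; exact hy
      have h1 := congrArg D h0
      rw [map_zero, Derivation.leibniz, Derivation.leibniz_pow, hD] at h1
      simp only [smul_eq_mul, Nat.add_sub_cancel, mul_one, nsmul_eq_mul] at h1
      have hne : ((n + 1 : ℕ) : k) ≠ 0 := Nat.cast_ne_zero.mpr (Nat.succ_ne_zero n)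
      set c : R := algebraMap k R (((n + 1 : ℕ) : k)⁻¹) with hc
      have hc1 : c * ((n + 1 : ℕ) : R) = 1 := by
        rw [hc, ← map_natCast (algebraMap k R), ← map_mul, inv_mul_cancel₀ hne, map_one]
      refine ⟨-(c * D z), ?_⟩
      have h2 : ((n + 1 : ℕ) : R) * (f ^ n * z) = -(f ^ (n + 1) * D z) := by
        rw [eq_neg_iff_add_eq_zero, ← h1]
        ring
      calc f ^ n * z = (c * ((n + 1 : ℕ) : R)) * (f ^ n * z) := by rw [hc1, one_mul]
        _ = c * (((n + 1 : ℕ) : R) * (f ^ n * z)) := by ring
        _ = c * (-(f ^ (n + 1) * D z)) := by rw [h2]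
        _ = f ^ (n + 1) * -(c * D z) := by ring
  have hbot : ⨅ i, Ideal.span {f} ^ i = (⊥ : Ideal R) := by
    apply Ideal.iInf_pow_eq_bot_of_isLocalRing
    intro h
    have : (1 : R) ∈ Ideal.span {f} := by rw [h]; trivial
    obtain ⟨a, ha⟩ := Ideal.mem_span_singleton'.mp this
    exact (IsLocalRing.notMem_maximalIdeal.mpr isUnit_one)
      (ha ▸ Ideal.mul_mem_left _ a hf)
  have hzero : ∀ y : R, f * y = 0 → y = 0 := by
    intro y hy
    have : y ∈ ⨅ i, Ideal.span {f} ^ i := by
      rw [Ideal.mem_iInf]
      intro n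
      obtain ⟨z, hz⟩ := key y hy n
      rw [Ideal.span_singleton_pow, Ideal.mem_span_singleton']
      exact ⟨z, by rw [hz, mul_comm]⟩
    rwa [hbot] at this
  intro a b hab
  have h3 : f * (a - b) = 0 := by
    have : f * a = f * b := hab
    rw [mul_sub, this, sub_self]
  exact sub_eq_zero.mp (hzero _ h3)

end NZD

section NotMem

variable {k R : Type u} [Field k] [CommRing R] [Algebra k R] [IsLocalRing R]

theorem tmul_eq_zero_of_mem (w : Ω[R⁄k])
    (hw : w ∈ maximalIdeal R • (⊤ : Submodule R (Ω[R⁄k]))) :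
    (1 : ResidueField R) ⊗ₜ[R] w = 0 := by
  refine Submodule.smul_induction_on hw ?_ ?_
  · intro a ha x _
    rw [← TensorProduct.smul_tmul, Algebra.smul_def, mul_one,
      IsLocalRing.ResidueField.algebraMap_eq, (IsLocalRing.residue_eq_zero_iff a).mpr ha,
      TensorProduct.zero_tmul]
  · intro x y hx hy
    rw [TensorProduct.tmul_add, hx, hy, add_zero]

theorem D_notMem_smul_top [Algebra.FormallySmooth k (ResidueField R)] (f : R)
    (hf : f ∈ maximalIdeal R) (hf2 : f ∉ maximalIdeal R ^ 2) :
    D k R f ∉ maximalIdeal R • (⊤ : Submodule R (Ω[R⁄k])) := by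
  intro hmem
  have hinj := CotKaehler.kerCotangentToTensor_injective k R (ResidueField R)
    IsLocalRing.residue_surjective
  have hker : RingHom.ker (algebraMap R (ResidueField R)) = maximalIdeal R := by
    rw [IsLocalRing.ResidueField.algebraMap_eq]
    exact IsLocalRing.ker_residue
  have hfI : f ∈ RingHom.ker (algebraMap R (ResidueField R)) := by rw [hker]; exact hf
  have h1 : kerCotangentToTensor k R (ResidueField R)
      (Ideal.toCotangent _ ⟨f, hfI⟩) = 0 := by
    rw [kerCotangentToTensor_toCotangent]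
    exact tmul_eq_zero_of_mem _ hmem
  have h2 := hinj (h1.trans (map_zero _).symm)
  rw [Ideal.toCotangent_eq_zero] at h2
  apply hf2
  rw [← hker]
  exact h2

end NotMem

section Functional

variable {R M : Type u} [CommRing R] [IsLocalRing R] [AddCommGroup M] [Module R M]
  [Module.Free R M] [Module.Finite R M]

theorem exists_functional (v : M) (hv : v ∉ maximalIdeal R • (⊤ : Submodule R M)) :
    ∃ φ : M →ₗ[R] R, φ v = 1 := by
  classical
  let b := Module.Free.chooseBasis R M
  have hex : ∃ i, b.repr v i ∉ maximalIdeal R := by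
    by_contra h
    push Not at h
    apply hv
    rw [← b.sum_repr v]
    exact Submodule.sum_mem _ (fun i _ => Submodule.smul_mem_smul (h i) trivial)
  obtain ⟨i, hi⟩ := hex
  obtain ⟨u, hu⟩ := IsLocalRing.notMem_maximalIdeal.mp hi
  refine ⟨((u⁻¹ : Rˣ) : R) • b.coord i, ?_⟩
  rw [LinearMap.smul_apply, Module.Basis.coord_apply, ← hu, smul_eq_mul, Units.inv_mul]

end Functional

section Quot

variable {k R : Type u} [Field k] [CommRing R] [Algebra k R] (J : Ideal R) (f : R)
  (hJ : J = Ideal.span {f}) (φ : Ω[R⁄k] →ₗ[R] R) (hφ : φ (D k R f) = 1)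

include hJ hφ in
theorem exists_split :
    ∃ e : ((R ⧸ J) ⊗[R] Ω[R⁄k]) ≃ₗ[R ⧸ J] (R ⧸ J) × Ω[(R ⧸ J)⁄k], True := by
  set R' := R ⧸ J with hR'
  have hsurj : Function.Surjective (algebraMap R R') := Ideal.Quotient.mk_surjective
  set v : R' ⊗[R] Ω[R⁄k] := (1 : R') ⊗ₜ[R] D k R f with hv
  let f₀ : R' →ₗ[R'] R' ⊗[R] Ω[R⁄k] := LinearMap.toSpanSingleton R' _ v
  let g := mapBaseChange k R R'
  let φ' : R' ⊗[R] Ω[R⁄k] →ₗ[R'] R' :=
    LinearMap.liftBaseChange R' ((Algebra.linearMap R R') ∘ₗ φ)
  have hφ'v : φ' v = 1 := by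
    change (1 : R') • (Algebra.linearMap R R' (φ (D k R f))) = 1
    rw [hφ, one_smul, Algebra.linearMap_apply, map_one]
  have hfJ : algebraMap R R' f = 0 := by
    rw [Ideal.Quotient.algebraMap_eq, Ideal.Quotient.eq_zero_iff_mem, hJ]
    exact Ideal.mem_span_singleton_self f
  have hker : RingHom.ker (algebraMap R R') = J := by
    rw [Ideal.Quotient.algebraMap_eq, Ideal.mk_ker]
  have hgv : g v = 0 := by
    have hfk : f ∈ RingHom.ker (algebraMap R R') := (RingHom.mem_ker).mpr hfJ
    have : v = kerCotangentToTensor k R R' (Ideal.toCotangent _ ⟨f, hfk⟩) := by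
      rw [kerCotangentToTensor_toCotangent]
    rw [this]
    exact (exact_kerCotangentToTensor_mapBaseChange k R R' hsurj _).mpr ⟨_, rfl⟩
  have hex : Function.Exact f₀ g := by
    intro y
    constructor
    · intro hy
      obtain ⟨c, rfl⟩ := (exact_kerCotangentToTensor_mapBaseChange k R R' hsurj y).mp hy
      obtain ⟨⟨x, hx⟩, rfl⟩ := Ideal.toCotangent_surjective _ c
      rw [kerCotangentToTensor_toCotangent]
      have hx' : x ∈ Ideal.span {f} := by rw [← hJ, ← hker]; exact hx
      obtain ⟨a, rfl⟩ := Ideal.mem_span_singleton'.mp hx'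
      refine ⟨algebraMap R R' a, ?_⟩
      change (algebraMap R R' a) • v = _
      rw [Derivation.leibniz, TensorProduct.tmul_add, ← TensorProduct.smul_tmul,
        ← TensorProduct.smul_tmul, Algebra.smul_def f, hfJ, zero_mul, TensorProduct.zero_tmul,
        add_zero, hv, TensorProduct.smul_tmul', Algebra.smul_def a, smul_eq_mul]
    · rintro ⟨c, rfl⟩
      change g (c • v) = 0
      rw [map_smul, hgv, smul_zero]
  have hgs : Function.Surjective g := mapBaseChange_surjective k R R' hsurj
  have hl : φ' ∘ₗ f₀ = LinearMap.id := by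
    apply LinearMap.ext
    intro c
    change φ' (c • v) = c
    rw [map_smul, hφ'v, smul_eq_mul, mul_one]
  have h12 := (hex.split_tfae').out 1 2
  obtain ⟨e, -, -⟩ := h12.mp ⟨hgs, φ', hl⟩
  exact ⟨e, trivial⟩

end Quot

section Quot2

variable {k R : Type u} [Field k] [CommRing R] [Algebra k R] (J : Ideal R) (f : R)
  (hJ : J = Ideal.span {f}) (φ : Ω[R⁄k] →ₗ[R] R) (hφ : φ (D k R f) = 1)

include hJ hφ in
theorem quot_free [IsLocalRing (R ⧸ J)] [Module.Free R (Ω[R⁄k])] [Module.Finite R (Ω[R⁄k])] :
    Module.Free (R ⧸ J) (Ω[(R ⧸ J)⁄k]) ∧ Module.Finite (R ⧸ J) (Ω[(R ⧸ J)⁄k]) ∧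
      Module.finrank R (Ω[R⁄k]) = Module.finrank (R ⧸ J) (Ω[(R ⧸ J)⁄k]) + 1 := by
  obtain ⟨e, -⟩ := exists_split J f hJ φ hφ
  set R' := R ⧸ J
  haveI hfin : Module.Finite R' (Ω[R'⁄k]) :=
    Module.Finite.of_surjective ((LinearMap.snd R' R' (Ω[R'⁄k])) ∘ₗ e.toLinearMap)
      ((LinearMap.snd_surjective (R := R') (M := R') (M₂ := Ω[R'⁄k])).comp e.surjective)
  haveI hpp : Module.Projective R' (R' × Ω[R'⁄k]) := Module.Projective.of_equiv e
  haveI hproj : Module.Projective R' (Ω[R'⁄k]) :=
    Module.Projective.of_split (LinearMap.inr R' R' (Ω[R'⁄k])) (LinearMap.snd R' R' (Ω[R'⁄k]))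
      (by apply LinearMap.ext; intro x; rfl)
  haveI hfree : Module.Free R' (Ω[R'⁄k]) := Module.free_of_flat_of_isLocalRing
  refine ⟨hfree, hfin, ?_⟩
  haveI : Nontrivial R := (Ideal.Quotient.mk J).domain_nontrivial
  have h1 := e.finrank_eq
  rw [Module.finrank_baseChange, Module.finrank_prod, Module.finrank_self] at h1
  rw [h1, add_comm]

end Quot2

section Main

variable (k : Type u) [Field k] [CharZero k]

theorem main_aux : ∀ (d : ℕ) (R : Type u) [CommRing R] [Algebra k R] [IsLocalRing R]
    [IsNoetherianRing R], ringKrullDim R = d → Module.Free R (Ω[R⁄k]) →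
    Module.Finite R (Ω[R⁄k]) →
    (∀ (K : Type u) [Field K] [Algebra k K] (g : R →ₐ[k] K), Function.Surjective g →
      Algebra.FormallySmooth k K) →
    IsRegularLocalRing R ∧ (Function.Surjective (algebraMap k (ResidueField R)) →
      Module.finrank R (Ω[R⁄k]) = d) := by
  intro d
  induction d using Nat.strong_induction_on with
  | _ d ih =>
  intro R _ _ _ _ hd hfree hfin hκ
  by_cases hm : maximalIdeal R = ⊥
  · constructor
    · apply IsRegularLocalRing.of_spanFinrank_maximalIdeal_le
      rw [hm, Submodule.spanFinrank_bot, Nat.cast_zero]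
      exact ringKrullDim_nonneg_of_nontrivial
    · intro hres
      have hfield : IsField R := IsLocalRing.isField_iff_maximalIdeal_eq.mpr hm
      have hd0 : d = 0 := by
        have := ringKrullDim_eq_zero_of_isField hfield
        rw [hd] at this
        exact_mod_cast this
      have hsurj : Function.Surjective (algebraMap k R) := by
        intro r
        obtain ⟨c, hc⟩ := hres (residue R r)
        refine ⟨c, ?_⟩
        have h1 : residue R (algebraMap k R c - r) = 0 := by
          rw [map_sub, ← hc, sub_eq_zero]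
          rfl
        rw [IsLocalRing.residue_eq_zero_iff, hm, Ideal.mem_bot, sub_eq_zero] at h1
        exact h1
      haveI := KaehlerDifferential.subsingleton_of_surjective k R hsurj
      rw [hd0, Module.finrank_zero_of_subsingleton]
  · -- pick f ∈ m \ m²
    have hfg : (maximalIdeal R).FG := IsNoetherian.noetherian _
    have hnot : ¬ maximalIdeal R ≤ maximalIdeal R ^ 2 := by
      intro hle
      apply hm
      refine Submodule.eq_bot_of_le_smul_of_le_jacobson_bot (maximalIdeal R) _ hfg ?_
        (IsLocalRing.maximalIdeal_le_jacobson ⊥)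
      rw [smul_eq_mul, ← pow_two]
      exact hle
    obtain ⟨f, hf, hf2⟩ := SetLike.not_le_iff_exists.mp hnot
    haveI : Algebra.FormallySmooth k (ResidueField R) :=
      hκ (ResidueField R) (IsScalarTower.toAlgHom k R (ResidueField R))
        IsLocalRing.residue_surjective
    have hDf := D_notMem_smul_top (k := k) f hf hf2
    obtain ⟨φ, hφ⟩ := exists_functional (D k R f) hDf
    have hreg : IsSMulRegular R f :=
      isSMulRegular_of_derivation (φ.compDer (D k R)) f hf hφ
    set fv : Fin 1 → R := fun _ => f with hfv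
    set J := Ideal.span (Set.range fv) with hJdef
    have hJ : J = Ideal.span {f} := by rw [hJdef, hfv, Set.range_const]
    have hJm : J ≤ maximalIdeal R := by
      rw [hJ, Ideal.span_singleton_le_iff_mem]
      exact hf
    have hJtop : J ≠ ⊤ := fun h => (Ideal.IsPrime.ne_top inferInstance)
      (top_le_iff.mp (h ▸ hJm))
    haveI : Nontrivial (R ⧸ J) := Ideal.Quotient.nontrivial_iff.mpr hJtop
    haveI : IsLocalRing (R ⧸ J) :=
      IsLocalRing.of_surjective' (Ideal.Quotient.mk J) Ideal.Quotient.mk_surjective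
    obtain ⟨hfree', hfin', hrank⟩ := quot_free J f hJ φ hφ
    have hdim : ringKrullDim (R ⧸ J) + 1 = ringKrullDim R := by
      have h1 := ringKrullDim_quotient_span_singleton_succ_eq_ringKrullDim_of_mem_jacobson hreg
        (by rw [IsLocalRing.ringJacobson_eq_maximalIdeal]; exact hf)
      rw [← h1, ringKrullDim_eq_of_ringEquiv (Ideal.quotEquivOfEq hJ)]
    obtain ⟨e, he⟩ := Groth.Agent.H5.RegLoc.exists_nat_dim (R ⧸ J)
    have hed : e + 1 = d := by
      rw [he, hd] at hdim
      exact_mod_cast hdim
    obtain ⟨hreg', hrank'⟩ := ih e (by omega) (R ⧸ J) he hfree' hfin'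
      (fun K _ _ g hg => hκ K (g.comp (Ideal.Quotient.mkₐ k J))
        (hg.comp Ideal.Quotient.mk_surjective))
    constructor
    · have hdim' : ringKrullDim (R ⧸ Ideal.span (Set.range fv)) + (1 : ℕ) = ringKrullDim R := by
        rw [Nat.cast_one]; exact hdim
      exact (Groth.Agent.Lib.helper20.RegQuot.regular_and_LI_of_quotient fv (fun _ => hf)
        hdim').1
    · intro hres
      have hres' : Function.Surjective (algebraMap k (ResidueField (R ⧸ J))) := by
        intro x
        obtain ⟨y, rfl⟩ := IsLocalRing.residue_surjective x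
        obtain ⟨r, rfl⟩ := Ideal.Quotient.mk_surjective y
        obtain ⟨c, hc⟩ := hres (residue R r)
        refine ⟨c, ?_⟩
        have h1 : algebraMap k R c - r ∈ maximalIdeal R := by
          rw [← IsLocalRing.residue_eq_zero_iff, map_sub, ← hc, sub_eq_zero]
          rfl
        have h2 : Ideal.Quotient.mk J (algebraMap k R c - r) ∈ maximalIdeal (R ⧸ J) := by
          by_contra hcon
          have hu := IsLocalRing.notMem_maximalIdeal.mp hcon
          obtain ⟨y', hy'⟩ := hu.exists_right_inv
          obtain ⟨y, rfl⟩ := Ideal.Quotient.mk_surjective y'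
          rw [← map_mul, ← map_one (Ideal.Quotient.mk J), Ideal.Quotient.eq] at hy'
          have h3 : (1 : R) ∈ maximalIdeal R := by
            have h4 : (1 : R) = (algebraMap k R c - r) * y - ((algebraMap k R c - r) * y - 1) := by
              ring
            rw [h4]
            exact Ideal.sub_mem _ (Ideal.mul_mem_right _ _ h1) (hJm hy')
          exact (IsLocalRing.notMem_maximalIdeal.mpr isUnit_one) h3
        rw [← IsLocalRing.residue_eq_zero_iff] at h2
        simp only [map_sub] at h2
        rw [sub_eq_zero] at h2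
        rw [← h2]
        rfl
      rw [hrank, hrank' hres', hed]

end Main

section Final

/-- S7767 -/
theorem main7767 (k R : Type u) [Field k] [CharZero k]
    [CommRing R] [Algebra k R] [IsLocalRing R] [IsNoetherianRing R]
    (hres : Function.Surjective (algebraMap k (IsLocalRing.ResidueField R)))
    (n : ℕ) (e : Ω[R⁄k] ≃ₗ[R] (Fin n → R)) :
    IsRegularLocalRing R ∧ ringKrullDim R = n := by
  have hfree : Module.Free R (Ω[R⁄k]) := Module.Free.of_equiv e.symm
  have hfin : Module.Finite R (Ω[R⁄k]) := Module.Finite.equiv e.symm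
  have hrank : Module.finrank R (Ω[R⁄k]) = n := by
    rw [e.finrank_eq, Module.finrank_fin_fun]
  obtain ⟨d, hd⟩ := Groth.Agent.H5.RegLoc.exists_nat_dim R
  have hκ : ∀ (K : Type u) [Field K] [Algebra k K] (g : R →ₐ[k] K), Function.Surjective g →
      Algebra.FormallySmooth k K := by
    intro K _ _ g hg
    have hgm : ∀ y ∈ maximalIdeal R, g y = 0 := by
      intro y hy
      by_contra hne
      obtain ⟨z, hz⟩ := hg (g y)⁻¹
      have h1 : g (y * z - 1) = 0 := by
        rw [map_sub, map_mul, hz, mul_inv_cancel₀ hne, map_one, sub_self]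
      have hu : IsUnit (y * z - 1) := by
        have h2 : y * z - 1 ∉ maximalIdeal R := by
          intro hmem
          have h3 : (1 : R) ∈ maximalIdeal R := by
            have h4 : (1 : R) = y * z - (y * z - 1) := by ring
            rw [h4]
            exact Ideal.sub_mem _ (Ideal.mul_mem_right _ _ hy) hmem
          exact (IsLocalRing.notMem_maximalIdeal.mpr isUnit_one) h3
        exact IsLocalRing.notMem_maximalIdeal.mp h2
      have := hu.map g
      rw [h1] at this
      exact not_isUnit_zero this
    have hsurj : Function.Surjective (algebraMap k K) := by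
      intro x
      obtain ⟨r, rfl⟩ := hg x
      obtain ⟨c, hc⟩ := hres (residue R r)
      refine ⟨c, ?_⟩
      have h1 : r - algebraMap k R c ∈ maximalIdeal R := by
        rw [← IsLocalRing.residue_eq_zero_iff, map_sub, ← hc, sub_eq_zero]
        rfl
      have h2 := hgm _ h1
      rw [map_sub, AlgHom.commutes, sub_eq_zero] at h2
      exact h2.symm
    exact Algebra.FormallySmooth.of_equiv
      (AlgEquiv.ofBijective (Algebra.ofId k K) ⟨(algebraMap k K).injective, hsurj⟩)
  obtain ⟨hreg, hr⟩ := main_aux k d R hd hfree hfin hκ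
  refine ⟨hreg, ?_⟩
  rw [hd, ← hr hres, hrank]

end Final

end Groth.Agent.Lib.helper19.CharZeroReg
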