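import Mathlib
import Groth.Agent.Lib.helper19.CharZeroReg
import Groth.Agent.Lib.helper6.SmoothRegPt

/-!
# Characteristic zero: smooth at `q` iff the differentials of the local ring are free (S5000)
-/

open TensorProduct KaehlerDifferential IsLocalRing

attribute [-instance] Groth.Agent.Lib.helper19.JacLocal.instFormallySmoothRingExt

namespace Groth.Agent.Lib.helper19.CharZeroSmooth

universe u

theorem main5000 (k A : Type u) [Field k] [CharZero k] [CommRing A] [Algebra k A]
    [Algebra.FiniteType k A] (q : Ideal A) [q.IsPrime] :
    Algebra.IsSmoothAt k q ↔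
      Module.Free (Localization.AtPrime q) (Ω[Localization.AtPrime q⁄k]) := by
  haveI : IsNoetherianRing A := Algebra.FiniteType.isNoetherianRing k A
  haveI : IsNoetherianRing (Localization.AtPrime q) :=
    IsLocalization.isNoetherianRing q.primeCompl _ inferInstance
  haveI : Algebra.EssFiniteType k (Localization.AtPrime q) :=
    Algebra.EssFiniteType.comp k A (Localization.AtPrime q)
  haveI hfin : Module.Finite (Localization.AtPrime q) (Ω[Localization.AtPrime q⁄k]) :=
    inferInstance
  constructor
  · intro h
    haveI : Algebra.FormallySmooth k (Localization.AtPrime q) := h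
    haveI : Module.Projective (Localization.AtPrime q) (Ω[Localization.AtPrime q⁄k]) :=
      inferInstance
    exact Module.free_of_flat_of_isLocalRing
  · intro hfree
    obtain ⟨d, hd⟩ := Groth.Agent.H5.RegLoc.exists_nat_dim (Localization.AtPrime q)
    have hκ : ∀ (K : Type u) [Field K] [Algebra k K] (g : Localization.AtPrime q →ₐ[k] K),
        Function.Surjective g → Algebra.FormallySmooth k K := by
      intro K _ _ g hg
      haveI : Algebra.EssFiniteType k K := Algebra.EssFiniteType.of_surjective g hg
      exact Algebra.FormallySmooth.of_perfectField
    have hreg := (CharZeroReg.main_aux k d (Localization.AtPrime q) hd hfree hfin hκ).1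
    haveI := Groth.Agent.Lib.helper6.SmoothRegPt.isGeometricallyReduced_residueField_of_perfectField
      k A q
    exact (Groth.Agent.Lib.helper6.SmoothRegPt.isSmoothAt_iff_isRegularLocalRing k A q).mpr hreg

end Groth.Agent.Lib.helper19.CharZeroSmooth
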