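import Mathlib

/-!
# Realising an extension of `Ω[B⁄A]` by `M` as the conormal sequence of a square-zero
algebra extension (S11285)
-/

open TensorProduct KaehlerDifferential

namespace Groth.Agent.Lib.helper19.ConormalExt

universe u

@[reducible] def opModule (B N : Type u) [CommRing B] [AddCommGroup N] [Module B N] :
    Module Bᵐᵒᵖ N :=
  Module.compHom _ ((RingHom.id B).fromOpposite mul_comm)

attribute [local instance] opModule

instance isCentral (B N : Type u) [CommRing B] [AddCommGroup N] [Module B N] :
    IsCentralScalar B N := ⟨fun _ _ => rfl⟩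

variable {A B : Type u} [CommRing A] [CommRing B] [Algebra A B]
  {N : Type u} [AddCommGroup N] [Module B N] [Module A N] [IsScalarTower A B N]
  (q : N →ₗ[B] Ω[B⁄A])

/-- the pullback algebra `B ×_{Ω[B/A]} N` inside `B ⊕ N` -/
def pbAlg : Subalgebra A (TrivSqZeroExt B N) where
  carrier := {x | KaehlerDifferential.D A B x.fst = q x.snd}
  mul_mem' := by
    intro x y hx hy
    show KaehlerDifferential.D A B (x * y).fst = q (x * y).snd
    have hx' : KaehlerDifferential.D A B x.fst = q x.snd := hx
    have hy' : KaehlerDifferential.D A B y.fst = q y.snd := hy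
    rw [TrivSqZeroExt.fst_mul, TrivSqZeroExt.snd_mul, Derivation.leibniz, hx', hy', map_add,
      map_smul, op_smul_eq_smul, map_smul]
  add_mem' := by
    intro x y hx hy
    show KaehlerDifferential.D A B (x + y).fst = q (x + y).snd
    have hx' : KaehlerDifferential.D A B x.fst = q x.snd := hx
    have hy' : KaehlerDifferential.D A B y.fst = q y.snd := hy
    rw [TrivSqZeroExt.fst_add, TrivSqZeroExt.snd_add, map_add, map_add, hx', hy']
  algebraMap_mem' := by
    intro a
    show KaehlerDifferential.D A B (algebraMap A (TrivSqZeroExt B N) a).fst =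
      q (algebraMap A (TrivSqZeroExt B N) a).snd
    rw [TrivSqZeroExt.algebraMap_eq_inl', TrivSqZeroExt.fst_inl, TrivSqZeroExt.snd_inl, map_zero,
      Derivation.map_algebraMap]

theorem mem_pbAlg (x : TrivSqZeroExt B N) :
    x ∈ pbAlg q ↔ KaehlerDifferential.D A B x.fst = q x.snd := Iff.rfl

/-- projection to `B` -/
noncomputable def pbFst : pbAlg q →ₐ[A] B := (TrivSqZeroExt.fstHom A B N).comp (pbAlg q).val

theorem pbFst_apply (x : pbAlg q) : pbFst q x = x.1.fst := rfl

theorem pbFst_surjective (hq : Function.Surjective q) : Function.Surjective (pbFst q) := by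
  intro b
  obtain ⟨n, hn⟩ := hq (KaehlerDifferential.D A B b)
  exact ⟨⟨TrivSqZeroExt.inl b + TrivSqZeroExt.inr n, by
    rw [mem_pbAlg]; simp [hn]⟩, by rw [pbFst_apply]; simp⟩

section main
variable {M : Type u} [AddCommGroup M] [Module B M] (i : M →ₗ[B] N)
  (hq : Function.Surjective q)

/-- the extension `B ×_{Ω} N → B` -/
noncomputable def ext : Algebra.Extension.{u} A B :=
  Algebra.Extension.ofSurjective (pbFst q) (pbFst_surjective q hq)

theorem algebraMap_ext (x : (ext q hq).Ring) :
    algebraMap (ext q hq).Ring B x = (x : pbAlg q).1.fst := rfl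

theorem mem_ker_ext (x : (ext q hq).Ring) :
    x ∈ (ext q hq).ker ↔ (x : pbAlg q).1.fst = 0 := by
  rw [RingHom.mem_ker, algebraMap_ext]

theorem ker_sq : (ext q hq).ker ^ 2 = ⊥ := by
  rw [pow_two, eq_bot_iff, Ideal.mul_le]
  intro x hx y hy
  rw [mem_ker_ext] at hx hy
  rw [Ideal.mem_bot]
  apply Subtype.ext
  show (x : pbAlg q).1 * (y : pbAlg q).1 = 0
  apply TrivSqZeroExt.ext
  · rw [TrivSqZeroExt.fst_mul, hx, zero_mul, TrivSqZeroExt.fst_zero]
  · rw [TrivSqZeroExt.snd_mul, hx, hy, zero_smul, MulOpposite.op_zero, zero_smul, add_zero,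
      TrivSqZeroExt.snd_zero]

/-- the element `(0, n)` of the kernel for `q n = 0` -/
noncomputable def kerElt (n : N) (hn : q n = 0) : (ext q hq).ker :=
  ⟨(⟨TrivSqZeroExt.inr n, by rw [mem_pbAlg]; simp [hn]⟩ : pbAlg q), by
    rw [mem_ker_ext]; simp⟩

theorem kerElt_snd (n : N) (hn : q n = 0) :
    ((kerElt q hq n hn : (ext q hq).Ring) : pbAlg q).1.snd = n := by
  simp [kerElt]

theorem exists_kerElt (x : (ext q hq).ker) : ∃ n hn, x = kerElt q hq n hn := by
  have hx := (mem_ker_ext q hq x.1).mp x.2
  have hmem : KaehlerDifferential.D A B ((x.1 : pbAlg q).1.fst) = q (x.1 : pbAlg q).1.snd :=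
    (x.1 : pbAlg q).2
  rw [hx, map_zero] at hmem
  refine ⟨(x.1 : pbAlg q).1.snd, hmem.symm, ?_⟩
  apply Subtype.ext
  apply Subtype.ext
  apply TrivSqZeroExt.ext
  · rw [hx]; simp [kerElt]
  · simp [kerElt]

theorem smul_kerElt (e : (ext q hq).Ring) (n : N) (hn : q n = 0) :
    e • kerElt q hq n hn =
      kerElt q hq (algebraMap (ext q hq).Ring B e • n) (by rw [map_smul, hn, smul_zero]) := by
  apply Subtype.ext
  apply Subtype.ext
  show (e : pbAlg q).1 * (TrivSqZeroExt.inr n) = TrivSqZeroExt.inr _
  apply TrivSqZeroExt.ext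
  · simp
  · simp [algebraMap_ext]

theorem kerElt_add (n n' : N) (hn : q n = 0) (hn' : q n' = 0) :
    kerElt q hq (n + n') (by rw [map_add, hn, hn', add_zero]) =
      kerElt q hq n hn + kerElt q hq n' hn' := by
  apply Subtype.ext
  apply Subtype.ext
  show TrivSqZeroExt.inr (n + n') = (TrivSqZeroExt.inr n + TrivSqZeroExt.inr n' : TrivSqZeroExt B N)
  rw [TrivSqZeroExt.inr_add]

theorem kerElt_congr (n n' : N) (h : n = n') (hn : q n = 0) :
    kerElt q hq n hn = kerElt q hq n' (h ▸ hn) := by
  subst h; rfl

variable (hex : Function.Exact i q)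

/-- the map `M → I/I²` -/
noncomputable def gMap : M →ₗ[B] (ext q hq).Cotangent where
  toFun m := Algebra.Extension.Cotangent.mk (kerElt q hq (i m) (hex.apply_apply_eq_zero m))
  map_add' m m' := by
    rw [← map_add, ← kerElt_add]
    exact congrArg _ (kerElt_congr q hq _ _ (map_add i m m') _)
  map_smul' b m := by
    obtain ⟨e, rfl⟩ := (ext q hq).algebraMap_surjective b
    rw [RingHom.id_apply]
    have h1 : algebraMap (ext q hq).Ring B e •
        Algebra.Extension.Cotangent.mk (kerElt q hq (i m) (hex.apply_apply_eq_zero m)) =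
        e • Algebra.Extension.Cotangent.mk (kerElt q hq (i m) (hex.apply_apply_eq_zero m)) := rfl
    rw [h1, ← map_smul, smul_kerElt]
    exact congrArg _ (kerElt_congr q hq _ _ (map_smul i _ m) _)

theorem gMap_apply (m : M) :
    gMap q i hq hex m =
      Algebra.Extension.Cotangent.mk (kerElt q hq (i m) (hex.apply_apply_eq_zero m)) := rfl

theorem gMap_bijective (hi : Function.Injective i) : Function.Bijective (gMap q i hq hex) := by
  constructor
  · rw [injective_iff_map_eq_zero]
    intro m hm
    rw [gMap_apply, Algebra.Extension.Cotangent.mk_eq_zero_iff, ker_sq, Ideal.mem_bot] at hm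
    have h2 := kerElt_snd q hq (i m) (hex.apply_apply_eq_zero m)
    rw [hm] at h2
    apply hi
    rw [map_zero, ← h2]
    rfl
  · intro c
    obtain ⟨x, rfl⟩ := Algebra.Extension.Cotangent.mk_surjective c
    obtain ⟨n, hn, rfl⟩ := exists_kerElt q hq x
    obtain ⟨m, rfl⟩ := (hex n).mp hn
    exact ⟨m, rfl⟩

end main

section psi
variable (hq : Function.Surjective q)

/-- `N` as a module over the extension ring -/
@[reducible] noncomputable def modN : Module (ext q hq).Ring N :=
  Module.compHom N (algebraMap (ext q hq).Ring B)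

attribute [local instance] modN

instance towerEBN : IsScalarTower (ext q hq).Ring B N :=
  IsScalarTower.of_algebraMap_smul fun _ _ => rfl

instance towerAEN : IsScalarTower A (ext q hq).Ring N :=
  ⟨fun a r n => by
    show algebraMap (ext q hq).Ring B (a • r) • n = a • (algebraMap (ext q hq).Ring B r • n)
    rw [Algebra.smul_def, map_mul, ← IsScalarTower.algebraMap_apply, mul_smul, algebraMap_smul]⟩

/-- the second projection as a derivation -/
noncomputable def dN : Derivation A (ext q hq).Ring N where
  toLinearMap :=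
    { toFun := fun x => (x : pbAlg q).1.snd
      map_add' := fun _ _ => rfl
      map_smul' := fun _ _ => rfl }
  map_one_eq_zero' := rfl
  leibniz' x y := by
    show ((x : pbAlg q).1 * (y : pbAlg q).1).snd =
      (x : pbAlg q).1.fst • (y : pbAlg q).1.snd + (y : pbAlg q).1.fst • (x : pbAlg q).1.snd
    rw [TrivSqZeroExt.snd_mul, op_smul_eq_smul]

theorem dN_apply (x : (ext q hq).Ring) : dN q hq x = (x : pbAlg q).1.snd := rfl

/-- the comparison map `B ⊗ Ω[E/A] → N` -/
noncomputable def Psi : (ext q hq).CotangentSpace →ₗ[B] N :=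
  LinearMap.liftBaseChange B (dN q hq).liftKaehlerDifferential

theorem Psi_tmul_D (b : B) (x : (ext q hq).Ring) :
    Psi q hq (b ⊗ₜ KaehlerDifferential.D A _ x) = b • (x : pbAlg q).1.snd := by
  rw [Psi, LinearMap.liftBaseChange_tmul, Derivation.liftKaehlerDifferential_comp_D, dN_apply]

theorem q_Psi (y : (ext q hq).CotangentSpace) :
    q (Psi q hq y) = (ext q hq).toKaehler y := by
  induction y using TensorProduct.induction_on with
  | zero => simp
  | add x y hx hy => rw [map_add, map_add, map_add, hx, hy]
  | tmul b ω =>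
    have hω : ω ∈ Submodule.span (ext q hq).Ring
        (Set.range (KaehlerDifferential.D A (ext q hq).Ring)) := by
      rw [KaehlerDifferential.span_range_derivation]; exact Submodule.mem_top
    induction hω using Submodule.span_induction generalizing b with
    | mem ω h =>
      obtain ⟨x, rfl⟩ := h
      rw [Psi_tmul_D, map_smul, KaehlerDifferential.mapBaseChange_tmul,
        KaehlerDifferential.map_D]
      congr 1
      exact ((x : pbAlg q).2).symm
    | zero => simp
    | add x y _ _ hx hy => rw [TensorProduct.tmul_add, map_add, map_add, map_add, hx, hy]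
    | smul e x _ hx =>
      have : b ⊗ₜ[(ext q hq).Ring] (e • x) =
          (b * algebraMap (ext q hq).Ring B e) ⊗ₜ[(ext q hq).Ring] x := by
        rw [← TensorProduct.smul_tmul, Algebra.smul_def, mul_comm]
      rw [this]
      exact hx _

theorem Psi_cotangentComplex_mk (x : (ext q hq).ker) :
    Psi q hq ((ext q hq).cotangentComplex (Algebra.Extension.Cotangent.mk x)) =
      ((x : (ext q hq).Ring) : pbAlg q).1.snd := by
  rw [Algebra.Extension.cotangentComplex_mk, Psi_tmul_D, one_smul]

end psi

theorem exists_extension {M : Type u} [AddCommGroup M] [Module B M] (i : M →ₗ[B] N)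
    (hi : Function.Injective i) (hq : Function.Surjective q) (hex : Function.Exact i q) :
    ∃ P : Algebra.Extension.{u} A B, P.ker ^ 2 = ⊥ ∧
      ∃ (e₁ : P.Cotangent ≃ₗ[B] M) (e₂ : P.CotangentSpace ≃ₗ[B] N),
        (∀ x, e₂ (P.cotangentComplex x) = i (e₁ x)) ∧ (∀ y, q (e₂ y) = P.toKaehler y) := by
  let g := LinearEquiv.ofBijective (gMap q i hq hex) (gMap_bijective q i hq hex hi)
  have hg : ∀ m, g m = gMap q i hq hex m := fun m => rfl
  have key : ∀ c, Psi q hq ((ext q hq).cotangentComplex c) = i (g.symm c) := by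
    intro c
    obtain ⟨m, rfl⟩ := g.surjective c
    rw [LinearEquiv.symm_apply_apply, hg, gMap_apply, Psi_cotangentComplex_mk, kerElt_snd]
  have hinj : Function.Injective (Psi q hq) := by
    rw [injective_iff_map_eq_zero]
    intro y hy
    have h1 : (ext q hq).toKaehler y = 0 := by rw [← q_Psi, hy, map_zero]
    obtain ⟨c, rfl⟩ := ((ext q hq).exact_cotangentComplex_toKaehler y).mp h1
    rw [key] at hy
    have h2 : g.symm c = 0 := hi (by rw [hy, map_zero])
    have h3 : c = 0 := by
      have := congrArg g h2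
      rwa [LinearEquiv.apply_symm_apply, map_zero] at this
    rw [h3, map_zero]
  have hsurj : Function.Surjective (Psi q hq) := by
    intro n
    obtain ⟨y₀, hy₀⟩ := (ext q hq).toKaehler_surjective (q n)
    have h1 : q (Psi q hq y₀ - n) = 0 := by rw [map_sub, q_Psi, hy₀, sub_self]
    obtain ⟨m, hm⟩ := (hex _).mp h1
    refine ⟨y₀ - (ext q hq).cotangentComplex (g m), ?_⟩
    rw [map_sub, key, LinearEquiv.symm_apply_apply, hm]
    abel
  refine ⟨ext q hq, ker_sq q hq, g.symm, LinearEquiv.ofBijective (Psi q hq) ⟨hinj, hsurj⟩, ?_, ?_⟩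
  · intro x
    exact key x
  · intro y
    exact q_Psi q hq y

end Groth.Agent.Lib.helper19.ConormalExt
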