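import Mathlib

/-!
# Injectivity of the conormal map of a square-zero extension with projective kernel over a
reduced, generically smooth algebra (S11284)
-/

open TensorProduct KaehlerDifferential

namespace Groth.Agent.Lib.helper19.ConormalInj

universe u

/-- an element of a projective module over a reduced ring which is killed, for every minimal
prime, by an element outside it, is zero -/
theorem eq_zero_of_forall_minimal {B Q : Type*} [CommRing B] [IsReduced B] [AddCommGroup Q]
    [Module B Q] [Module.Projective B Q] (c : Q)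
    (h : ∀ p ∈ minimalPrimes B, ∃ b ∉ p, b • c = 0) : c = 0 := by
  obtain ⟨s, hs⟩ := (Module.projective_def' (R := B) (P := Q)).mp inferInstance
  have hsc : s c = 0 := by
    apply Finsupp.ext
    intro j
    rw [Finsupp.zero_apply]
    have hmem : (s c) j ∈ sInf (minimalPrimes B) := by
      rw [Ideal.mem_sInf]
      intro p hp
      obtain ⟨b, hb, hbc⟩ := h p hp
      have h1 : b * (s c) j = 0 := by
        have := congrArg (fun v => v j) (congrArg s hbc)
        simpa using this
      have hpp : p.IsPrime := Ideal.IsMinimalPrime.isPrime hp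
      exact (hpp.mem_or_mem (h1 ▸ p.zero_mem)).resolve_left hb
    have h0 : sInf (minimalPrimes B) = ⊥ := by
      rw [minimalPrimes, Ideal.sInf_minimalPrimes]
      exact (nilradical_eq_zero B)
    rw [h0] at hmem
    exact hmem
  have := LinearMap.congr_fun hs c
  rw [LinearMap.comp_apply, hsc, map_zero] at this
  exact this.symm

section loc
variable {A B : Type u} [CommRing A] [CommRing B] [Algebra A B]
  (P : Algebra.Extension.{u} A B) (p : Ideal B) [p.IsPrime]

/-- the submonoid of the extension ring lying over the complement of `p` -/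
abbrev T : Submonoid P.Ring := p.primeCompl.comap (algebraMap P.Ring B)

/-- the localized extension -/
noncomputable abbrev P' : Algebra.Extension.{u} A (Localization.AtPrime p) :=
  P.localization p.primeCompl (S' := Localization.AtPrime p)

noncomputable instance algE' : Algebra P.Ring (P' P p).Ring :=
  inferInstanceAs (Algebra P.Ring (Localization (T P p)))

instance isLocE' : IsLocalization (T P p) (P' P p).Ring :=
  inferInstanceAs (IsLocalization (T P p) (Localization (T P p)))

instance towerE' : IsScalarTower A P.Ring (P' P p).Ring :=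
  inferInstanceAs (IsScalarTower A P.Ring (Localization (T P p)))

/-- the localization hom -/
noncomputable def locHom : P.Hom (P' P p) where
  toRingHom := algebraMap P.Ring (P' P p).Ring
  toRingHom_algebraMap x :=
    (IsScalarTower.algebraMap_apply A P.Ring (P' P p).Ring _).symm
  algebraMap_toRingHom x := @IsLocalization.lift_eq ..

theorem locHom_apply (x : P.Ring) :
    (locHom P p).toRingHom x = algebraMap P.Ring (P' P p).Ring x := rfl

theorem algebraMap_P'_mk' (e : P.Ring) (t : T P p) :
    algebraMap (P' P p).Ring (Localization.AtPrime p)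
        (IsLocalization.mk' (P' P p).Ring e t) =
      IsLocalization.mk' (Localization.AtPrime p) (algebraMap P.Ring B e)
        (⟨algebraMap P.Ring B t.1, t.2⟩ : p.primeCompl) := by
  rw [IsLocalization.eq_mk'_iff_mul_eq]
  have h1 : algebraMap B (Localization.AtPrime p) (algebraMap P.Ring B t.1) =
      algebraMap (P' P p).Ring (Localization.AtPrime p) (algebraMap P.Ring (P' P p).Ring t.1) :=
    ((locHom P p).algebraMap_toRingHom t.1).symm
  have h2 : algebraMap B (Localization.AtPrime p) (algebraMap P.Ring B e) =
      algebraMap (P' P p).Ring (Localization.AtPrime p) (algebraMap P.Ring (P' P p).Ring e) :=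
    ((locHom P p).algebraMap_toRingHom e).symm
  show _ * algebraMap B (Localization.AtPrime p) (algebraMap P.Ring B t.1) = _
  rw [h1, h2, ← map_mul, IsLocalization.mk'_spec]

theorem ker_P'_le : (P' P p).ker ≤ Ideal.map (algebraMap P.Ring (P' P p).Ring) P.ker := by
  intro y hy
  obtain ⟨e, t, rfl⟩ := IsLocalization.exists_mk'_eq (T P p) y
  rw [RingHom.mem_ker, algebraMap_P'_mk', IsLocalization.mk'_eq_zero_iff] at hy
  obtain ⟨m, hm⟩ := hy
  obtain ⟨s', hs'⟩ := P.algebraMap_surjective m.1
  rw [IsLocalization.mk'_mem_map_algebraMap_iff]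
  refine ⟨s', ?_, ?_⟩
  · show algebraMap P.Ring B s' ∈ p.primeCompl
    rw [hs']; exact m.2
  · rw [RingHom.mem_ker, map_mul, hs']
    exact hm

theorem ker_P'_sq (hsq : P.ker ^ 2 = ⊥) : (P' P p).ker ^ 2 = ⊥ := by
  apply le_bot_iff.mp
  calc (P' P p).ker ^ 2 ≤ (Ideal.map (algebraMap P.Ring (P' P p).Ring) P.ker) ^ 2 :=
        Ideal.pow_right_mono (ker_P'_le P p) 2
    _ = ⊥ := by rw [← Ideal.map_pow, hsq, Ideal.map_bot]

theorem exists_mul_eq_zero (hsq : P.ker ^ 2 = ⊥)
    [Algebra.FormallySmooth A (Localization.AtPrime p)]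
    (x : P.ker) (hx : P.cotangentComplex (Algebra.Extension.Cotangent.mk x) = 0) :
    ∃ t : P.Ring, algebraMap P.Ring B t ∉ p ∧ t * (x : P.Ring) = 0 := by
  have hsq' := ker_P'_sq P p hsq
  let g : Localization.AtPrime p →ₐ[A] (P' P p).Ring :=
    Algebra.FormallySmooth.liftOfSurjective (AlgHom.id A (Localization.AtPrime p))
      (IsScalarTower.toAlgHom A (P' P p).Ring (Localization.AtPrime p))
      (P' P p).algebraMap_surjective ⟨2, hsq'⟩
  have hg : (IsScalarTower.toAlgHom A (P' P p).Ring (Localization.AtPrime p)).comp g =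
      AlgHom.id A (Localization.AtPrime p) :=
    Algebra.FormallySmooth.comp_liftOfSurjective _ _ _ _
  have hret := retractionOfSectionOfKerSqZero_comp_kerToTensor g hsq' hg
  have h1 : (P' P p).cotangentComplex
      (Algebra.Extension.Cotangent.map (locHom P p) (Algebra.Extension.Cotangent.mk x)) = 0 := by
    rw [← Algebra.Extension.CotangentSpace.map_cotangentComplex, hx, map_zero]
  rw [Algebra.Extension.Cotangent.map_mk, Algebra.Extension.cotangentComplex_mk] at h1
  have hmem : (locHom P p).toAlgHom x ∈ RingHom.ker (algebraMap (P' P p).Ring (Localization.AtPrime p)) := by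
    rw [RingHom.mem_ker]
    have := (locHom P p).algebraMap_toRingHom x
    rw [show algebraMap P.Ring B x = 0 from x.2, map_zero] at this
    exact this
  have h2 : KaehlerDifferential.kerToTensor A (P' P p).Ring (Localization.AtPrime p)
      ⟨(locHom P p).toAlgHom x, hmem⟩ = 0 := h1
  have h3 := LinearMap.congr_fun hret ⟨(locHom P p).toAlgHom x, hmem⟩
  rw [LinearMap.comp_apply, h2, map_zero, LinearMap.id_apply] at h3
  have h4 : algebraMap P.Ring (P' P p).Ring x = 0 := (congrArg Subtype.val h3).symm
  obtain ⟨t, ht⟩ := (IsLocalization.map_eq_zero_iff (T P p) (P' P p).Ring _).mp h4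
  exact ⟨t.1, fun h => t.2 h, ht⟩

end loc

theorem cotangentComplex_injective {A B : Type u} [CommRing A] [CommRing B] [Algebra A B]
    [IsReduced B]
    (hsm : ∀ p : PrimeSpectrum B, p.asIdeal ∈ minimalPrimes B → Algebra.IsSmoothAt A p.asIdeal)
    (P : Algebra.Extension.{u} A B) (hsq : P.ker ^ 2 = ⊥) [Module.Projective B P.Cotangent] :
    Function.Injective P.cotangentComplex := by
  rw [injective_iff_map_eq_zero]
  intro c hc
  apply eq_zero_of_forall_minimal (B := B) c
  intro p hp
  haveI hpp : p.IsPrime := Ideal.IsMinimalPrime.isPrime hp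
  haveI : Algebra.FormallySmooth A (Localization.AtPrime p) := hsm ⟨p, hpp⟩ hp
  obtain ⟨x, rfl⟩ := Algebra.Extension.Cotangent.mk_surjective c
  obtain ⟨t, ht, htx⟩ := exists_mul_eq_zero P p hsq x hc
  refine ⟨algebraMap P.Ring B t, ht, ?_⟩
  have h1 : algebraMap P.Ring B t • Algebra.Extension.Cotangent.mk x =
      t • Algebra.Extension.Cotangent.mk x := rfl
  rw [h1, ← map_smul]
  have h2 : t • x = 0 := Subtype.ext htx
  rw [h2, map_zero]

end Groth.Agent.Lib.helper19.ConormalInj
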