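import Mathlib
import Groth.Agent.Lib.helper19.ConormalInj

/-!
# An isomorphism of conormal sequences of square-zero extensions comes from an isomorphism of
extensions (S11286)
-/

open TensorProduct KaehlerDifferential

namespace Groth.Agent.Lib.helper19.ConormalIso

universe u

section basic
variable {A B : Type u} [CommRing A] [CommRing B] [Algebra A B] (P : Algebra.Extension.{u} A B)

/-- `1 ⊗ dx` in the cotangent space -/
noncomputable def dd (x : P.Ring) : P.CotangentSpace := (1 : B) ⊗ₜ[P.Ring] KaehlerDifferential.D A P.Ring x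

theorem dd_add (x y : P.Ring) : dd P (x + y) = dd P x + dd P y := by
  rw [dd, map_add, TensorProduct.tmul_add]; rfl

theorem dd_mul (x y : P.Ring) :
    dd P (x * y) = algebraMap P.Ring B x • dd P y + algebraMap P.Ring B y • dd P x := by
  rw [dd, Derivation.leibniz, TensorProduct.tmul_add, TensorProduct.tmul_smul,
    TensorProduct.tmul_smul, algebraMap_smul, algebraMap_smul]
  rfl

theorem dd_algebraMap (a : A) : dd P (algebraMap A P.Ring a) = 0 := by
  rw [dd, Derivation.map_algebraMap, TensorProduct.tmul_zero]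

theorem dd_one : dd P 1 = 0 := by
  rw [dd, Derivation.map_one_eq_zero, TensorProduct.tmul_zero]

theorem toKaehler_dd (x : P.Ring) :
    P.toKaehler (dd P x) = KaehlerDifferential.D A B (algebraMap P.Ring B x) := by
  rw [dd, KaehlerDifferential.mapBaseChange_tmul, KaehlerDifferential.map_D, one_smul]

theorem cotangentComplex_mk_eq (x : P.ker) :
    P.cotangentComplex (Algebra.Extension.Cotangent.mk x) = dd P x := by
  rw [Algebra.Extension.cotangentComplex_mk]; rfl

/-- an element of the kernel with `1 ⊗ dx = 0` vanishes, if the conormal map is injective and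
the kernel has square zero -/
theorem eq_zero_of_dd (hsq : P.ker ^ 2 = ⊥) (hinj : Function.Injective P.cotangentComplex)
    (x : P.Ring) (hx : algebraMap P.Ring B x = 0) (hd : dd P x = 0) : x = 0 := by
  have h1 : P.cotangentComplex (Algebra.Extension.Cotangent.mk ⟨x, hx⟩) = 0 := by
    rw [cotangentComplex_mk_eq]; exact hd
  have h2 := hinj (h1.trans (map_zero _).symm)
  rw [Algebra.Extension.Cotangent.mk_eq_zero_iff, hsq, Ideal.mem_bot] at h2
  exact h2

theorem dd_zero : dd P 0 = 0 := by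
  rw [dd, map_zero, TensorProduct.tmul_zero]

theorem dd_sub (x y : P.Ring) : dd P (x - y) = dd P x - dd P y := by
  rw [dd, map_sub, TensorProduct.tmul_sub]; rfl

end basic

section main
variable {A B : Type u} [CommRing A] [CommRing B] [Algebra A B]
  (P P' : Algebra.Extension.{u} A B)
  (e₂ : P.CotangentSpace ≃ₗ[B] P'.CotangentSpace)

/-- the relation defining the homomorphism -/
def Rel (x : P.Ring) (y : P'.Ring) : Prop :=
  algebraMap P'.Ring B y = algebraMap P.Ring B x ∧ dd P' y = e₂ (dd P x)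

theorem rel_exists (h₂ : ∀ y, P'.toKaehler (e₂ y) = P.toKaehler y) (x : P.Ring) :
    ∃ y, Rel P P' e₂ x y := by
  obtain ⟨y₀, hy₀⟩ := P'.algebraMap_surjective (algebraMap P.Ring B x)
  have h : P'.toKaehler (e₂ (dd P x) - dd P' y₀) = 0 := by
    rw [map_sub, h₂, toKaehler_dd, toKaehler_dd, hy₀, sub_self]
  obtain ⟨c, hc⟩ := (P'.exact_cotangentComplex_toKaehler _).mp h
  obtain ⟨i, rfl⟩ := Algebra.Extension.Cotangent.mk_surjective c
  rw [cotangentComplex_mk_eq] at hc
  refine ⟨y₀ + i, ?_, ?_⟩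
  · rw [map_add, hy₀, show algebraMap P'.Ring B i = 0 from i.2, add_zero]
  · rw [dd_add, hc]; abel

theorem rel_unique (hsq' : P'.ker ^ 2 = ⊥) (hinj' : Function.Injective P'.cotangentComplex)
    (x : P.Ring) (y₁ y₂ : P'.Ring) (h1 : Rel P P' e₂ x y₁) (h2 : Rel P P' e₂ x y₂) : y₁ = y₂ := by
  apply sub_eq_zero.mp
  apply eq_zero_of_dd P' hsq' hinj'
  · rw [map_sub, h1.1, h2.1, sub_self]
  · rw [dd_sub, h1.2, h2.2, sub_self]

variable (hsq : P.ker ^ 2 = ⊥) (hsq' : P'.ker ^ 2 = ⊥)
  (hinj : Function.Injective P.cotangentComplex) (hinj' : Function.Injective P'.cotangentComplex)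
  (h₂ : ∀ y, P'.toKaehler (e₂ y) = P.toKaehler y)

include hsq hsq' hinj hinj' h₂ in
theorem exists_hom :
    ∃ f : P.Hom P', Function.Bijective f.toRingHom ∧ ∀ x, dd P' (f.toRingHom x) = e₂ (dd P x) := by
  choose fn hfn using rel_exists P P' e₂ h₂
  have uniq := rel_unique P P' e₂ hsq' hinj'
  have h₂' : ∀ y, P.toKaehler (e₂.symm y) = P'.toKaehler y := by
    intro y
    rw [← h₂, LinearEquiv.apply_symm_apply]
  let F : P.Ring →+* P'.Ring :=
    { toFun := fn
      map_one' := uniq 1 _ _ (hfn 1) ⟨by rw [map_one, map_one], by rw [dd_one, dd_one, map_zero]⟩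
      map_mul' := fun x y => uniq _ _ _ (hfn _) ⟨by rw [map_mul, map_mul, (hfn x).1, (hfn y).1],
        by rw [dd_mul, dd_mul, (hfn x).1, (hfn y).1, (hfn x).2, (hfn y).2, map_add, map_smul,
          map_smul]⟩
      map_zero' := uniq 0 _ _ (hfn 0) ⟨by rw [map_zero, map_zero],
        by rw [dd_zero, dd_zero, map_zero]⟩
      map_add' := fun x y => uniq _ _ _ (hfn _) ⟨by rw [map_add, map_add, (hfn x).1, (hfn y).1],
        by rw [dd_add, dd_add, (hfn x).2, (hfn y).2, map_add]⟩ }
  have hF : ∀ x, F x = fn x := fun x => rfl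
  refine ⟨⟨F, ?_, ?_⟩, ⟨?_, ?_⟩, ?_⟩
  · intro a
    show F (algebraMap A P.Ring a) = algebraMap A P'.Ring a
    rw [hF]
    refine uniq _ _ _ (hfn _) ⟨?_, ?_⟩
    · rw [← IsScalarTower.algebraMap_apply, ← IsScalarTower.algebraMap_apply]
    · rw [dd_algebraMap, dd_algebraMap, map_zero]
  · intro x
    exact (hfn x).1
  · rw [injective_iff_map_eq_zero]
    intro x hx
    have hx' : fn x = 0 := hx
    have h1 := hfn x
    rw [hx'] at h1
    apply eq_zero_of_dd P hsq hinj
    · rw [← h1.1, map_zero]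
    · apply e₂.injective
      rw [← h1.2, dd_zero, map_zero]
  · intro y
    obtain ⟨x, hx⟩ := rel_exists P' P e₂.symm h₂' y
    refine ⟨x, ?_⟩
    show fn x = y
    refine uniq x _ _ (hfn x) ⟨hx.1.symm, ?_⟩
    rw [hx.2, LinearEquiv.apply_symm_apply]
  · intro x
    exact (hfn x).2

end main

theorem main {A B : Type u} [CommRing A] [CommRing B] [Algebra A B] [IsReduced B]
    (hsm : ∀ p : PrimeSpectrum B, p.asIdeal ∈ minimalPrimes B → Algebra.IsSmoothAt A p.asIdeal)
    (P P' : Algebra.Extension.{u} A B) (hsq : P.ker ^ 2 = ⊥) (hsq' : P'.ker ^ 2 = ⊥)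
    [Module.Projective B P.Cotangent]
    (e₁ : P.Cotangent ≃ₗ[B] P'.Cotangent) (e₂ : P.CotangentSpace ≃ₗ[B] P'.CotangentSpace)
    (h₁ : ∀ x, e₂ (P.cotangentComplex x) = P'.cotangentComplex (e₁ x))
    (h₂ : ∀ y, P'.toKaehler (e₂ y) = P.toKaehler y) :
    ∃ f : P.Hom P', Function.Bijective f.toRingHom ∧
      Algebra.Extension.Cotangent.map f = e₁.toLinearMap := by
  have hinj := ConormalInj.cotangentComplex_injective hsm P hsq
  have hinj' : Function.Injective P'.cotangentComplex := by
    intro c c' h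
    apply e₁.symm.injective
    apply hinj
    apply e₂.injective
    rw [h₁, h₁, LinearEquiv.apply_symm_apply, LinearEquiv.apply_symm_apply, h]
  obtain ⟨f, hbij, hf⟩ := exists_hom P P' e₂ hsq hsq' hinj hinj' h₂
  refine ⟨f, hbij, ?_⟩
  apply LinearMap.ext
  intro c
  obtain ⟨x, rfl⟩ := Algebra.Extension.Cotangent.mk_surjective c
  apply hinj'
  rw [Algebra.Extension.Cotangent.map_mk, cotangentComplex_mk_eq]
  show dd P' (f.toRingHom x) = P'.cotangentComplex (e₁ (Algebra.Extension.Cotangent.mk x))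
  rw [hf, ← h₁, cotangentComplex_mk_eq]

end Groth.Agent.Lib.helper19.ConormalIso
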