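import Mathlib
import Groth.Agent.Lib.helper19.SmoothBase
import Groth.Agent.Lib.helper19.PSCRing

/-!
# Continuous algebra maps from a power series ring to a discrete algebra (S4555)
-/

namespace Groth.Agent.Lib.helper19.ContPS

open MvPowerSeries

universe u

variable (A : Type u) [CommRing A] (𝔞 : Ideal A) (n : ℕ) (E : Type u) [CommRing E] [Algebra A E]

/-- the ideal of definition `𝔞B + (T)` -/
noncomputable abbrev Idef : Ideal (MvPowerSeries (Fin n) A) :=
  𝔞.map (MvPowerSeries.C : A →+* MvPowerSeries (Fin n) A) ⊔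
    RingHom.ker (MvPowerSeries.constantCoeff : MvPowerSeries (Fin n) A →+* A)

theorem ker_cc_eq : RingHom.ker (MvPowerSeries.constantCoeff : MvPowerSeries (Fin n) A →+* A) =
    Ideal.span (Set.range (X : Fin n → MvPowerSeries (Fin n) A)) := by
  apply le_antisymm
  · intro p hp
    exact SmoothBase.mem_span_X_of_constantCoeff_eq_zero p hp
  · rw [Ideal.span_le]
    rintro _ ⟨i, rfl⟩
    show constantCoeff (X i) = 0
    exact constantCoeff_X i

theorem part1 (f : MvPowerSeries (Fin n) A →ₐ[A] E)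
    (hf : ∃ m : ℕ, ∀ x ∈ (Idef A 𝔞 n) ^ m, f x = 0) (i : Fin n) :
    IsNilpotent (f (MvPowerSeries.X i)) := by
  obtain ⟨m, hm⟩ := hf
  refine ⟨m, ?_⟩
  rw [← map_pow]
  apply hm
  apply Ideal.pow_mem_pow
  apply Ideal.mem_sup_right
  show constantCoeff (X i) = 0
  exact constantCoeff_X i

/-- `(𝔞B + (T))^(k+N) ≤ 𝔞^k B + (T)^N` -/
theorem Idef_pow_le (k N : ℕ) :
    (Idef A 𝔞 n) ^ (k + N) ≤
      (𝔞 ^ k).map (MvPowerSeries.C : A →+* MvPowerSeries (Fin n) A) ⊔
        (Ideal.span (Set.range (X : Fin n → MvPowerSeries (Fin n) A))) ^ N := by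
  rw [Idef, ker_cc_eq, Ideal.map_pow]
  exact Ideal.sup_pow_add_le_pow_sup_pow

theorem span_X_pow_le (m : ℕ) :
    (Ideal.span (Set.range (X : Fin n → MvPowerSeries (Fin n) A))) ^ m ≤ (Idef A 𝔞 n) ^ m := by
  apply Ideal.pow_right_mono
  rw [← ker_cc_eq]
  exact le_sup_right

theorem algebraMap_eq_C (a : A) : algebraMap A (MvPowerSeries (Fin n) A) a = C a := by
  rw [MvPowerSeries.algebraMap_apply, Algebra.algebraMap_self_apply]

theorem part2 (hE : ∃ k : ℕ, (𝔞 ^ k).map (algebraMap A E) = ⊥) (z : Fin n → E)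
    (hz : ∀ i, IsNilpotent (z i)) :
    ∃! g : MvPowerSeries (Fin n) A →ₐ[A] E,
      (∃ m : ℕ, ∀ x ∈ (Idef A 𝔞 n) ^ m, g x = 0) ∧ ∀ i, g (MvPowerSeries.X i) = z i := by
  obtain ⟨k, hk⟩ := hE
  have hfg : (Ideal.span (Set.range z)).FG := Submodule.fg_span (Set.finite_range z)
  have hnil : IsNilpotent (Ideal.span (Set.range z)) := by
    rw [Ideal.FG.isNilpotent_iff_le_nilradical hfg, Ideal.span_le]
    rintro _ ⟨i, rfl⟩
    exact mem_nilradical.mpr (hz i)
  obtain ⟨N, hN⟩ := hnil
  have hN' : Ideal.span (Set.range z) ^ N = ⊥ := hN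
  obtain ⟨χ, hχC, hχX⟩ := SmoothBase.exists_ringHom_of_nilpotent (algebraMap A E) z N hN'
  let g : MvPowerSeries (Fin n) A →ₐ[A] E :=
    { χ with
      commutes' := fun a => by
        show χ (algebraMap A (MvPowerSeries (Fin n) A) a) = algebraMap A E a
        rw [algebraMap_eq_C, hχC] }
  have hg : ∀ x, g x = χ x := fun x => rfl
  refine ⟨g, ⟨⟨k + N, ?_⟩, fun i => by rw [hg, hχX]⟩, ?_⟩
  · intro x hx
    have hx' := Idef_pow_le A 𝔞 n k N hx
    have hle : (𝔞 ^ k).map (MvPowerSeries.C : A →+* MvPowerSeries (Fin n) A) ⊔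
        (Ideal.span (Set.range (X : Fin n → MvPowerSeries (Fin n) A))) ^ N ≤ RingHom.ker χ := by
      apply sup_le
      · rw [Ideal.map_le_iff_le_comap]
        intro a ha
        show χ (C a) = 0
        rw [hχC]
        have : algebraMap A E a ∈ (𝔞 ^ k).map (algebraMap A E) := Ideal.mem_map_of_mem _ ha
        rw [hk] at this
        exact this
      · intro y hy
        exact ps_ringHom_vanish χ (Ideal.span (Set.range z))
          (fun i => by rw [hχX]; exact Ideal.subset_span ⟨i, rfl⟩) N hN' y hy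
    rw [hg]
    exact hle hx'
  · rintro g' ⟨⟨m', hm'⟩, hX'⟩
    have hvan : ∀ (h : MvPowerSeries (Fin n) A →ₐ[A] E) (m : ℕ),
        (∀ x ∈ (Idef A 𝔞 n) ^ m, h x = 0) → ∀ M, m ≤ M →
        ∀ y ∈ (Ideal.span (Set.range (X : Fin n → MvPowerSeries (Fin n) A))) ^ M,
          (h : MvPowerSeries (Fin n) A →+* E) y = 0 := by
      intro h m hm M hmM y hy
      apply hm
      exact span_X_pow_le A 𝔞 n m (Ideal.pow_le_pow_right hmM hy)
    have hgv : ∀ x ∈ (Idef A 𝔞 n) ^ (k + N), g x = 0 := by
      intro x hx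
      have hx' := Idef_pow_le A 𝔞 n k N hx
      have hle : (𝔞 ^ k).map (MvPowerSeries.C : A →+* MvPowerSeries (Fin n) A) ⊔
          (Ideal.span (Set.range (X : Fin n → MvPowerSeries (Fin n) A))) ^ N ≤ RingHom.ker χ := by
        apply sup_le
        · rw [Ideal.map_le_iff_le_comap]
          intro a ha
          show χ (C a) = 0
          rw [hχC]
          have : algebraMap A E a ∈ (𝔞 ^ k).map (algebraMap A E) := Ideal.mem_map_of_mem _ ha
          rw [hk] at this
          exact this
        · intro y hy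
          exact ps_ringHom_vanish χ (Ideal.span (Set.range z))
            (fun i => by rw [hχX]; exact Ideal.subset_span ⟨i, rfl⟩) N hN' y hy
      rw [hg]
      exact hle hx'
    have heq : (g' : MvPowerSeries (Fin n) A →+* E) = (g : MvPowerSeries (Fin n) A →+* E) := by
      apply ps_ringHom_ext _ _ (max m' (k + N))
      · exact hvan g' m' hm' _ (le_max_left _ _)
      · exact hvan g (k + N) hgv _ (le_max_right _ _)
      · intro r
        show g' (C r) = g (C r)
        rw [← algebraMap_eq_C, AlgHom.commutes, AlgHom.commutes]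
      · intro i
        show g' (X i) = g (X i)
        rw [hX', hg, hχX]
    exact AlgHom.coe_ringHom_injective heq

end Groth.Agent.Lib.helper19.ContPS
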