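import Mathlib
import Groth.Prelude.Def_CotT

/-! Long exact sequence in the coefficient module for the `Tⁱ` of a presentation. -/

set_option autoImplicit false
universe u v w t m
open scoped TensorProduct

namespace Groth.Agent.Lib.helper19.CotTLES

open CotT Function

noncomputable section

section Generic

variable {B : Type*} [CommRing B] {M' M M'' : Type*}
  [AddCommGroup M'] [Module B M'] [AddCommGroup M] [Module B M] [AddCommGroup M''] [Module B M'']
  (f : M' →ₗ[B] M) (g : M →ₗ[B] M'')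

lemma exists_lift {L : Type*} [AddCommGroup L] [Module B L] [Module.Projective B L]
    (hg : Surjective g) (ψ : L →ₗ[B] M'') : ∃ φ : L →ₗ[B] M, g ∘ₗ φ = ψ :=
  Module.projective_lifting_property g ψ hg

lemma exists_factor {L : Type*} [AddCommGroup L] [Module B L]
    (hf : Injective f) (hfg : Exact f g) (c : L →ₗ[B] M) (h : g ∘ₗ c = 0) :
    ∃ c' : L →ₗ[B] M', f ∘ₗ c' = c := by
  have hr : ∀ x, c x ∈ LinearMap.range f := fun x => by
    rw [← hfg.linearMap_ker_eq]
    exact LinearMap.congr_fun h x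
  refine ⟨(LinearEquiv.ofInjective f hf).symm.toLinearMap ∘ₗ LinearMap.codRestrict _ c hr, ?_⟩
  ext x
  simp only [LinearMap.coe_comp, LinearEquiv.coe_coe, Function.comp_apply]
  have := congrArg Subtype.val ((LinearEquiv.ofInjective f hf).apply_symm_apply
    (LinearMap.codRestrict _ c hr x))
  rw [LinearEquiv.ofInjective_apply] at this
  exact this

/-- postcomposition, as a linear map with explicit type. -/
def post (L : Type*) [AddCommGroup L] [Module B L] {N N' : Type*} [AddCommGroup N] [Module B N]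
    [AddCommGroup N'] [Module B N'] (h : N →ₗ[B] N') : (L →ₗ[B] N) →ₗ[B] (L →ₗ[B] N') :=
  LinearMap.llcomp B L N N' h

lemma post_apply (L : Type*) [AddCommGroup L] [Module B L] {N N' : Type*} [AddCommGroup N]
    [Module B N] [AddCommGroup N'] [Module B N'] (h : N →ₗ[B] N') (c : L →ₗ[B] N) :
    post L h c = h ∘ₗ c := rfl

lemma comp_left_injective {L : Type*} [AddCommGroup L] [Module B L]
    (hf : Injective f) (c c' : L →ₗ[B] M') (h : f ∘ₗ c = f ∘ₗ c') : c = c' := by
  ext x
  exact hf (LinearMap.congr_fun h x)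

end Generic

variable {A : Type u} {B : Type v} {ι : Type w} {σ : Type t}
variable [CommRing A] [CommRing B] [Algebra A B]
variable (P : Algebra.Presentation A B ι σ)

instance projL0 : Module.Projective B (L0 P) := Module.Projective.of_basis P.cotangentSpaceBasis
instance projL1 : Module.Projective B (L1 P) := Module.Projective.of_basis (L1basis P)

section Defs

variable (N : Type m) [AddCommGroup N] [Module B N]

/-- `d1Star` with values in the cocycles. -/
def dZ : (L0 P →ₗ[B] N) →ₗ[B] cocycles1 P N :=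
  LinearMap.codRestrict (cocycles1 P N) (d1Star P N) (fun φ => by
    rw [LinearMap.mem_ker]; exact LinearMap.congr_fun (d2Star_comp_d1Star P N) φ)

lemma dZ_coe (φ : L0 P →ₗ[B] N) : ((dZ P N φ : cocycles1 P N) : L1 P →ₗ[B] N) = φ ∘ₗ d1 P := rfl

lemma exact_subtype_dZ : Exact (LinearMap.ker (d1Star P N)).subtype (dZ P N) := by
  intro φ
  constructor
  · intro h
    refine ⟨⟨φ, ?_⟩, rfl⟩
    rw [LinearMap.mem_ker]
    exact congrArg Subtype.val h
  · rintro ⟨⟨ψ, hψ⟩, rfl⟩
    exact Subtype.ext hψ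

lemma exact_dZ_mkQ : Exact (dZ P N) (coboundaries1 P N).mkQ := by
  intro c
  rw [Submodule.mkQ_apply, Submodule.Quotient.mk_eq_zero]
  constructor
  · rintro ⟨φ, hφ⟩
    exact ⟨φ, Subtype.ext hφ⟩
  · rintro ⟨φ, rfl⟩
    exact ⟨φ, rfl⟩

/-- `Hom(L1, N)` modulo coboundaries. -/
abbrev E1 : Type _ := (L1 P →ₗ[B] N) ⧸ LinearMap.range (d1Star P N)

/-- `d2Star` on `Hom(L1, N)` modulo coboundaries. -/
def dE : E1 P N →ₗ[B] (L2 P →ₗ[B] N) :=
  Submodule.liftQ _ (d2Star P N) (by
    rw [LinearMap.range_le_ker_iff]; exact d2Star_comp_d1Star P N)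

lemma dE_mk (c : L1 P →ₗ[B] N) : dE P N (Submodule.Quotient.mk c) = c ∘ₗ d2 P := rfl

/-- The inclusion `T1 → Hom(L1, N)/coboundaries`. -/
def incl : T1 P N →ₗ[B] E1 P N :=
  Submodule.mapQ (coboundaries1 P N) (LinearMap.range (d1Star P N)) (cocycles1 P N).subtype
    (fun _ h => h)

lemma incl_mk (c : cocycles1 P N) :
    incl P N (Submodule.Quotient.mk c) = Submodule.Quotient.mk (c : L1 P →ₗ[B] N) := rfl

lemma incl_injective : Injective (incl P N) := by
  rw [← LinearMap.ker_eq_bot, LinearMap.ker_eq_bot']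
  intro x hx
  obtain ⟨c, rfl⟩ := Submodule.Quotient.mk_surjective _ x
  rw [incl_mk, Submodule.Quotient.mk_eq_zero] at hx
  rw [Submodule.Quotient.mk_eq_zero]
  exact hx

lemma exact_incl_dE : Exact (incl P N) (dE P N) := by
  intro x
  obtain ⟨c, rfl⟩ := Submodule.Quotient.mk_surjective _ x
  rw [dE_mk]
  constructor
  · intro h
    exact ⟨Submodule.Quotient.mk ⟨c, by rw [LinearMap.mem_ker, d2Star_apply]; exact h⟩, rfl⟩
  · rintro ⟨y, hy⟩
    obtain ⟨c', rfl⟩ := Submodule.Quotient.mk_surjective _ y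
    rw [incl_mk, Submodule.Quotient.eq] at hy
    obtain ⟨ψ, hψ⟩ := hy
    have hc' : (c' : L1 P →ₗ[B] N) ∘ₗ d2 P = 0 := by
      have := c'.2
      rwa [LinearMap.mem_ker, d2Star_apply] at this
    have : c = (c' : L1 P →ₗ[B] N) - ψ ∘ₗ d1 P := by
      rw [← d1Star_apply, hψ]; abel
    rw [this, LinearMap.sub_comp, hc', LinearMap.comp_assoc, d1_comp_d2, LinearMap.comp_zero,
      sub_zero]

lemma exact_dE_mkQ : Exact (dE P N) (LinearMap.range (d2Star P N)).mkQ := by
  intro χ
  rw [Submodule.mkQ_apply, Submodule.Quotient.mk_eq_zero]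
  constructor
  · rintro ⟨c, hc⟩
    exact ⟨Submodule.Quotient.mk c, hc⟩
  · rintro ⟨x, rfl⟩
    obtain ⟨c, rfl⟩ := Submodule.Quotient.mk_surjective _ x
    exact ⟨c, rfl⟩

end Defs

section LES

variable {M' M M'' : Type m}
  [AddCommGroup M'] [Module B M'] [AddCommGroup M] [Module B M] [AddCommGroup M''] [Module B M'']
  (f : M' →ₗ[B] M) (g : M →ₗ[B] M'')

lemma T0map_coe {N N' : Type m} [AddCommGroup N] [Module B N] [AddCommGroup N'] [Module B N']
    (h : N →ₗ[B] N') (φ : T0 P N) :
    ((T0map P h φ : T0 P N') : L0 P →ₗ[B] N') = h ∘ₗ (φ : L0 P →ₗ[B] N) := rfl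

lemma cocycles1Map_coe {N N' : Type m} [AddCommGroup N] [Module B N] [AddCommGroup N'] [Module B N']
    (h : N →ₗ[B] N') (c : cocycles1 P N) :
    ((cocycles1Map P h c : cocycles1 P N') : L1 P →ₗ[B] N') = h ∘ₗ (c : L1 P →ₗ[B] N) := rfl

lemma T1map_mk {N N' : Type m} [AddCommGroup N] [Module B N] [AddCommGroup N'] [Module B N']
    (h : N →ₗ[B] N') (c : cocycles1 P N) :
    T1map P h (Submodule.Quotient.mk c) = Submodule.Quotient.mk (cocycles1Map P h c) := rfl

lemma T2map_mk {N N' : Type m} [AddCommGroup N] [Module B N] [AddCommGroup N'] [Module B N']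
    (h : N →ₗ[B] N') (χ : L2 P →ₗ[B] N) :
    T2map P h (Submodule.Quotient.mk χ) = Submodule.Quotient.mk (h ∘ₗ χ) := rfl

/-- postcomposition on `E1`. -/
def E1map {N N' : Type m} [AddCommGroup N] [Module B N] [AddCommGroup N'] [Module B N']
    (h : N →ₗ[B] N') : E1 P N →ₗ[B] E1 P N' :=
  Submodule.mapQ _ _ (post (L1 P) h) (by
    rintro _ ⟨ψ, rfl⟩
    exact ⟨h ∘ₗ ψ, by rw [d1Star_apply, LinearMap.comp_assoc]; rfl⟩)

lemma E1map_mk {N N' : Type m} [AddCommGroup N] [Module B N] [AddCommGroup N'] [Module B N']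
    (h : N →ₗ[B] N') (c : L1 P →ₗ[B] N) :
    E1map P h (Submodule.Quotient.mk c) = Submodule.Quotient.mk (h ∘ₗ c) := rfl

include f g in
lemma exact_llcomp {L : Type*} [AddCommGroup L] [Module B L]
    (hf : Injective f) (hfg : Exact f g) :
    Exact (post L f) (post L g) := by
  intro c
  constructor
  · intro h
    obtain ⟨c', hc'⟩ := exists_factor f g hf hfg c h
    exact ⟨c', hc'⟩
  · rintro ⟨c', rfl⟩
    change g ∘ₗ (f ∘ₗ c') = 0
    rw [← LinearMap.comp_assoc, hfg.linearMap_comp_eq_zero, LinearMap.zero_comp]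

lemma exact_cocycles1Map (hf : Injective f) (hfg : Exact f g) :
    Exact (cocycles1Map P f) (cocycles1Map P g) := by
  intro c
  constructor
  · intro h
    have h' : g ∘ₗ (c : L1 P →ₗ[B] M) = 0 := congrArg Subtype.val h
    obtain ⟨c', hc'⟩ := exists_factor f g hf hfg _ h'
    have hcoc : c' ∈ cocycles1 P M' := by
      rw [LinearMap.mem_ker, d2Star_apply]
      apply comp_left_injective f hf
      rw [← LinearMap.comp_assoc, hc', LinearMap.comp_zero]
      have := c.2
      rwa [LinearMap.mem_ker, d2Star_apply] at this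
    exact ⟨⟨c', hcoc⟩, Subtype.ext hc'⟩
  · rintro ⟨c', rfl⟩
    apply Subtype.ext
    change g ∘ₗ (f ∘ₗ (c' : L1 P →ₗ[B] M')) = 0
    rw [← LinearMap.comp_assoc, hfg.linearMap_comp_eq_zero, LinearMap.zero_comp]

lemma exact_E1map (hf : Injective f) (hg : Surjective g) (hfg : Exact f g) :
    Exact (E1map P f) (E1map P g) := by
  intro x
  obtain ⟨c, rfl⟩ := Submodule.Quotient.mk_surjective _ x
  rw [E1map_mk, Submodule.Quotient.mk_eq_zero]
  constructor
  · rintro ⟨ψ'', hψ''⟩
    obtain ⟨ψ, rfl⟩ := exists_lift g hg ψ''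
    rw [d1Star_apply, LinearMap.comp_assoc] at hψ''
    have h0 : g ∘ₗ (c - ψ ∘ₗ d1 P) = 0 := by
      rw [LinearMap.comp_sub, hψ'', sub_self]
    obtain ⟨c', hc'⟩ := exists_factor f g hf hfg _ h0
    refine ⟨Submodule.Quotient.mk c', ?_⟩
    rw [E1map_mk, hc', Submodule.Quotient.eq]
    exact ⟨-ψ, by rw [d1Star_apply, LinearMap.neg_comp]; abel⟩
  · rintro ⟨y, hy⟩
    obtain ⟨c', rfl⟩ := Submodule.Quotient.mk_surjective _ y
    rw [E1map_mk, Submodule.Quotient.eq] at hy
    obtain ⟨ψ, hψ⟩ := hy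
    refine ⟨-(g ∘ₗ ψ), ?_⟩
    have : c = f ∘ₗ c' - ψ ∘ₗ d1 P := by rw [← d1Star_apply, hψ]; abel
    rw [this, d1Star_apply, LinearMap.comp_sub, ← LinearMap.comp_assoc,
      hfg.linearMap_comp_eq_zero, LinearMap.zero_comp, zero_sub, LinearMap.neg_comp,
      LinearMap.comp_assoc]

lemma E1map_surjective (hg : Surjective g) : Surjective (E1map P g) := by
  intro x
  obtain ⟨c, rfl⟩ := Submodule.Quotient.mk_surjective _ x
  obtain ⟨c₀, rfl⟩ := exists_lift g hg c
  exact ⟨Submodule.Quotient.mk c₀, rfl⟩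

lemma llcomp_injective {L : Type*} [AddCommGroup L] [Module B L] (hf : Injective f) :
    Injective (post L f) :=
  fun c c' h => comp_left_injective f hf c c' h

lemma llcomp_surjective {L : Type*} [AddCommGroup L] [Module B L] [Module.Projective B L]
    (hg : Surjective g) : Surjective (post L g) :=
  fun ψ => exists_lift g hg ψ

lemma cocycles1Map_injective (hf : Injective f) : Injective (cocycles1Map P f) := by
  intro c c' h
  apply Subtype.ext
  exact comp_left_injective f hf _ _ (congrArg Subtype.val h)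

/-- First connecting homomorphism. -/
noncomputable def δ₀ (hf : Injective f) (hg : Surjective g) (hfg : Exact f g) :
    T0 P M'' →ₗ[B] T1 P M' :=
  SnakeLemma.δ' (dZ P M') (dZ P M) (dZ P M'')
    (post (L0 P) f) (post (L0 P) g)
    (exact_llcomp f g hf hfg)
    (cocycles1Map P f) (cocycles1Map P g) (exact_cocycles1Map P f g hf hfg)
    (by ext φ : 2; exact (LinearMap.comp_assoc _ _ _).symm)
    (by ext φ : 2; exact (LinearMap.comp_assoc _ _ _).symm)
    (LinearMap.ker (d1Star P M'')).subtype (exact_subtype_dZ P M'')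
    (coboundaries1 P M').mkQ (exact_dZ_mkQ P M')
    (llcomp_surjective g hg) (cocycles1Map_injective P f hf)

lemma exact_T0map_δ₀ (hf : Injective f) (hg : Surjective g) (hfg : Exact f g) :
    Exact (T0map P g) (δ₀ P f g hf hg hfg) :=
  SnakeLemma.exact_δ'_right (dZ P M') (dZ P M) (dZ P M'')
    (post (L0 P) f) (post (L0 P) g)
    (exact_llcomp f g hf hfg)
    (cocycles1Map P f) (cocycles1Map P g) (exact_cocycles1Map P f g hf hfg)
    (by ext φ : 2; exact (LinearMap.comp_assoc _ _ _).symm)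
    (by ext φ : 2; exact (LinearMap.comp_assoc _ _ _).symm)
    (LinearMap.ker (d1Star P M)).subtype (exact_subtype_dZ P M)
    (LinearMap.ker (d1Star P M'')).subtype (exact_subtype_dZ P M'')
    (coboundaries1 P M').mkQ (exact_dZ_mkQ P M')
    (llcomp_surjective g hg) (cocycles1Map_injective P f hf)
    (T0map P g) (by ext φ : 1; rfl) (Submodule.subtype_injective _)

lemma exact_δ₀_T1map (hf : Injective f) (hg : Surjective g) (hfg : Exact f g) :
    Exact (δ₀ P f g hf hg hfg) (T1map P f) :=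
  SnakeLemma.exact_δ'_left (dZ P M') (dZ P M) (dZ P M'')
    (post (L0 P) f) (post (L0 P) g)
    (exact_llcomp f g hf hfg)
    (cocycles1Map P f) (cocycles1Map P g) (exact_cocycles1Map P f g hf hfg)
    (by ext φ : 2; exact (LinearMap.comp_assoc _ _ _).symm)
    (by ext φ : 2; exact (LinearMap.comp_assoc _ _ _).symm)
    (LinearMap.ker (d1Star P M'')).subtype (exact_subtype_dZ P M'')
    (coboundaries1 P M').mkQ (exact_dZ_mkQ P M')
    (coboundaries1 P M).mkQ (exact_dZ_mkQ P M)
    (llcomp_surjective g hg) (cocycles1Map_injective P f hf)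
    (T1map P f) (by ext c : 1; rfl) (Submodule.mkQ_surjective _)

/-- Second connecting homomorphism. -/
noncomputable def δ₁ (hf : Injective f) (hg : Surjective g) (hfg : Exact f g) :
    T1 P M'' →ₗ[B] T2 P M' :=
  SnakeLemma.δ' (dE P M') (dE P M) (dE P M'')
    (E1map P f) (E1map P g) (exact_E1map P f g hf hg hfg)
    (post (L2 P) f) (post (L2 P) g) (exact_llcomp f g hf hfg)
    (by
      ext c : 2
      exact (LinearMap.comp_assoc _ _ _).symm)
    (by
      ext c : 2
      exact (LinearMap.comp_assoc _ _ _).symm)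
    (incl P M'') (exact_incl_dE P M'')
    (LinearMap.range (d2Star P M')).mkQ (exact_dE_mkQ P M')
    (E1map_surjective P g hg) (llcomp_injective f hf)

lemma exact_T1map_δ₁ (hf : Injective f) (hg : Surjective g) (hfg : Exact f g) :
    Exact (T1map P g) (δ₁ P f g hf hg hfg) :=
  SnakeLemma.exact_δ'_right (dE P M') (dE P M) (dE P M'')
    (E1map P f) (E1map P g) (exact_E1map P f g hf hg hfg)
    (post (L2 P) f) (post (L2 P) g) (exact_llcomp f g hf hfg)
    (by
      ext c : 2
      exact (LinearMap.comp_assoc _ _ _).symm)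
    (by
      ext c : 2
      exact (LinearMap.comp_assoc _ _ _).symm)
    (incl P M) (exact_incl_dE P M)
    (incl P M'') (exact_incl_dE P M'')
    (LinearMap.range (d2Star P M')).mkQ (exact_dE_mkQ P M')
    (E1map_surjective P g hg) (llcomp_injective f hf)
    (T1map P g) (by ext c : 2; rfl) (incl_injective P M'')

lemma exact_δ₁_T2map (hf : Injective f) (hg : Surjective g) (hfg : Exact f g) :
    Exact (δ₁ P f g hf hg hfg) (T2map P f) :=
  SnakeLemma.exact_δ'_left (dE P M') (dE P M) (dE P M'')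
    (E1map P f) (E1map P g) (exact_E1map P f g hf hg hfg)
    (post (L2 P) f) (post (L2 P) g) (exact_llcomp f g hf hfg)
    (by
      ext c : 2
      exact (LinearMap.comp_assoc _ _ _).symm)
    (by
      ext c : 2
      exact (LinearMap.comp_assoc _ _ _).symm)
    (incl P M'') (exact_incl_dE P M'')
    (LinearMap.range (d2Star P M')).mkQ (exact_dE_mkQ P M')
    (LinearMap.range (d2Star P M)).mkQ (exact_dE_mkQ P M)
    (E1map_surjective P g hg) (llcomp_injective f hf)
    (T2map P f) (by ext c : 1; rfl) (Submodule.mkQ_surjective _)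

lemma T0map_injective (hf : Injective f) : Injective (T0map P f) := by
  intro φ ψ h
  apply Subtype.ext
  exact comp_left_injective f hf _ _ (congrArg Subtype.val h)

lemma exact_T0map (hf : Injective f) (hfg : Exact f g) : Exact (T0map P f) (T0map P g) := by
  intro φ
  constructor
  · intro h
    have h' : g ∘ₗ (φ : L0 P →ₗ[B] M) = 0 := congrArg Subtype.val h
    obtain ⟨φ', hφ'⟩ := exists_factor f g hf hfg _ h'
    have hmem : φ' ∈ LinearMap.ker (d1Star P M') := by
      rw [LinearMap.mem_ker, d1Star_apply]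
      apply comp_left_injective f hf
      rw [← LinearMap.comp_assoc, hφ', LinearMap.comp_zero]
      have := φ.2
      rwa [LinearMap.mem_ker, d1Star_apply] at this
    exact ⟨⟨φ', hmem⟩, Subtype.ext hφ'⟩
  · rintro ⟨φ', rfl⟩
    apply Subtype.ext
    change g ∘ₗ (f ∘ₗ (φ' : L0 P →ₗ[B] M')) = 0
    rw [← LinearMap.comp_assoc, hfg.linearMap_comp_eq_zero, LinearMap.zero_comp]

lemma exact_T1map (hf : Injective f) (hg : Surjective g) (hfg : Exact f g) :
    Exact (T1map P f) (T1map P g) := by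
  intro x
  obtain ⟨c, rfl⟩ := Submodule.Quotient.mk_surjective _ x
  constructor
  · intro h
    -- pass to E1
    have h1 : E1map P g (incl P M (Submodule.Quotient.mk c)) = 0 := by
      have : E1map P g (incl P M (Submodule.Quotient.mk c)) =
          incl P M'' (T1map P g (Submodule.Quotient.mk c)) := rfl
      rw [this, h, map_zero]
    obtain ⟨y, hy⟩ := (exact_E1map P f g hf hg hfg _).mp h1
    obtain ⟨c', rfl⟩ := Submodule.Quotient.mk_surjective _ y
    -- c' is a cocycle
    have hcoc : c' ∈ cocycles1 P M' := by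
      rw [LinearMap.mem_ker, d2Star_apply]
      apply comp_left_injective f hf
      rw [LinearMap.comp_zero, ← LinearMap.comp_assoc]
      have h2 : dE P M (E1map P f (Submodule.Quotient.mk c')) = 0 := by
        rw [hy]
        exact (exact_incl_dE P M _).mpr ⟨_, rfl⟩
      exact h2
    refine ⟨Submodule.Quotient.mk ⟨c', hcoc⟩, ?_⟩
    apply incl_injective P M
    rw [← hy]
    rfl
  · rintro ⟨y, hy⟩
    rw [← hy]
    obtain ⟨c', rfl⟩ := Submodule.Quotient.mk_surjective _ y
    rw [T1map_mk, T1map_mk]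
    have : cocycles1Map P g (cocycles1Map P f c') = 0 := by
      apply Subtype.ext
      change g ∘ₗ (f ∘ₗ (c' : L1 P →ₗ[B] M')) = 0
      rw [← LinearMap.comp_assoc, hfg.linearMap_comp_eq_zero, LinearMap.zero_comp]
    rw [this, Submodule.Quotient.mk_zero]

lemma exact_T2map (hf : Injective f) (hg : Surjective g) (hfg : Exact f g) :
    Exact (T2map P f) (T2map P g) := by
  intro x
  obtain ⟨χ, rfl⟩ := Submodule.Quotient.mk_surjective _ x
  rw [T2map_mk, Submodule.Quotient.mk_eq_zero]
  constructor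
  · rintro ⟨θ'', hθ''⟩
    obtain ⟨θ, rfl⟩ := exists_lift g hg θ''
    rw [d2Star_apply, LinearMap.comp_assoc] at hθ''
    have h0 : g ∘ₗ (χ - θ ∘ₗ d2 P) = 0 := by
      rw [LinearMap.comp_sub, hθ'', sub_self]
    obtain ⟨χ', hχ'⟩ := exists_factor f g hf hfg _ h0
    refine ⟨Submodule.Quotient.mk χ', ?_⟩
    rw [T2map_mk, hχ', Submodule.Quotient.eq]
    exact ⟨-θ, by rw [d2Star_apply, LinearMap.neg_comp]; abel⟩
  · rintro ⟨y, hy⟩
    obtain ⟨χ', rfl⟩ := Submodule.Quotient.mk_surjective _ y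
    rw [T2map_mk, Submodule.Quotient.eq] at hy
    obtain ⟨θ, hθ⟩ := hy
    refine ⟨-(g ∘ₗ θ), ?_⟩
    have : χ = f ∘ₗ χ' - θ ∘ₗ d2 P := by rw [← d2Star_apply, hθ]; abel
    rw [this, d2Star_apply, LinearMap.comp_sub, ← LinearMap.comp_assoc,
      hfg.linearMap_comp_eq_zero, LinearMap.zero_comp, zero_sub, LinearMap.neg_comp,
      LinearMap.comp_assoc]

theorem main12284 (hf : Injective f) (hg : Surjective g) (hfg : Exact f g) :
    Function.Injective (CotT.T0map P f) ∧ Function.Exact (CotT.T0map P f) (CotT.T0map P g) ∧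
      Function.Exact (CotT.T1map P f) (CotT.T1map P g) ∧
      Function.Exact (CotT.T2map P f) (CotT.T2map P g) ∧
      ∃ (δ₀ : CotT.T0 P M'' →ₗ[B] CotT.T1 P M') (δ₁ : CotT.T1 P M'' →ₗ[B] CotT.T2 P M'),
        Function.Exact (CotT.T0map P g) δ₀ ∧ Function.Exact δ₀ (CotT.T1map P f) ∧
        Function.Exact (CotT.T1map P g) δ₁ ∧ Function.Exact δ₁ (CotT.T2map P f) :=
  ⟨T0map_injective P f hf, exact_T0map P f g hf hfg, exact_T1map P f g hf hg hfg,
    exact_T2map P f g hf hg hfg, δ₀ P f g hf hg hfg, δ₁ P f g hf hg hfg,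
    exact_T0map_δ₀ P f g hf hg hfg, exact_δ₀_T1map P f g hf hg hfg,
    exact_T1map_δ₁ P f g hf hg hfg, exact_δ₁_T2map P f g hf hg hfg⟩

end LES

end

end Groth.Agent.Lib.helper19.CotTLES
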