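import Mathlib
import Groth.Prelude.Def_CotT2
import Groth.Agent.Lib.helper19.CotTIndep

/-! `T¹ = T² = 0` for polynomial algebras. -/

set_option autoImplicit false
universe u v w t m
open scoped TensorProduct

namespace Groth.Agent.Lib.helper19.CotTPoly

open CotT

noncomputable section

variable {A : Type u} {B : Type v} [CommRing A] [CommRing B] [Algebra A B]

section NoRel

variable {ι : Type w} {σ : Type t} [IsEmpty σ] (P : Algebra.Presentation A B ι σ)
variable (M : Type m) [AddCommGroup M] [Module B M]

instance : Subsingleton (relMod P) := by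
  refine ⟨fun f g => ?_⟩
  ext s
  exact isEmptyElim s

instance : Subsingleton (L1 P) := by
  refine ⟨fun x y => ?_⟩
  have h0 : ∀ z : L1 P, z = 0 := by
    intro z
    induction z using TensorProduct.induction_on with
    | zero => rfl
    | tmul b f => rw [Subsingleton.elim f 0, TensorProduct.tmul_zero]
    | add x y hx hy => rw [hx, hy, add_zero]
  rw [h0 x, h0 y]

instance : Subsingleton (L2 P) := by
  refine ⟨fun x y => ?_⟩
  have h0 : ∀ z : L2 P, z = 0 := by
    intro z
    induction z using Submodule.Quotient.induction_on with
    | H z =>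
      induction z using TensorProduct.induction_on with
      | zero => rfl
      | tmul b f =>
        have : f = 0 := Subtype.ext (Subsingleton.elim _ _)
        rw [this, TensorProduct.tmul_zero]; rfl
      | add x y hx hy => rw [Submodule.Quotient.mk_add, hx, hy, add_zero]
  rw [h0 x, h0 y]

lemma subsingleton_T1_of_isEmpty : Subsingleton (T1 P M) := by
  refine ⟨fun x y => ?_⟩
  obtain ⟨c, rfl⟩ := Submodule.Quotient.mk_surjective _ x
  obtain ⟨c', rfl⟩ := Submodule.Quotient.mk_surjective _ y
  congr 1
  apply Subtype.ext
  refine LinearMap.ext fun z => ?_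
  rw [Subsingleton.elim z 0, map_zero, map_zero]

lemma subsingleton_T2_of_isEmpty : Subsingleton (T2 P M) := by
  refine ⟨fun x y => ?_⟩
  obtain ⟨c, rfl⟩ := Submodule.Quotient.mk_surjective _ x
  obtain ⟨c', rfl⟩ := Submodule.Quotient.mk_surjective _ y
  congr 1
  refine LinearMap.ext fun z => ?_
  rw [Subsingleton.elim z 0, map_zero, map_zero]

end NoRel

/-- The presentation of a polynomial algebra with no relations. -/
def polyPres {κ : Type w} (e : MvPolynomial κ A ≃ₐ[A] B) :
    Algebra.Presentation A B κ PEmpty.{1} where
  toGenerators := Algebra.Generators.ofSurjective (fun j => e (MvPolynomial.X j)) (by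
    have : (MvPolynomial.aeval (fun j => e (MvPolynomial.X j)) : MvPolynomial κ A →ₐ[A] B) =
        e.toAlgHom := by
      apply MvPolynomial.algHom_ext
      intro j
      simp
    rw [this]
    exact e.surjective)
  relation := PEmpty.elim
  span_range_relation_eq_ker := by
    have hr : Set.range (PEmpty.elim : PEmpty.{1} → MvPolynomial κ A) = ∅ := by
      ext x
      simp
    rw [hr, Ideal.span_empty]
    symm
    rw [eq_bot_iff]
    intro x hx
    have hx' : MvPolynomial.aeval (fun j => e (MvPolynomial.X j)) x = 0 := hx
    have : (MvPolynomial.aeval (fun j => e (MvPolynomial.X j)) : MvPolynomial κ A →ₐ[A] B) =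
        e.toAlgHom := by
      apply MvPolynomial.algHom_ext
      intro j
      simp
    rw [this] at hx'
    have : x = 0 := e.injective (by rw [map_zero]; exact hx')
    rw [this]
    exact Submodule.zero_mem _

theorem main12287 {κ : Type w} (e : MvPolynomial κ A ≃ₐ[A] B)
    (M : Type m) [AddCommGroup M] [Module B M] :
    Subsingleton (CotT.T1 (CotT.canon A B) M) ∧ Subsingleton (CotT.T2 (CotT.canon A B) M) := by
  haveI := subsingleton_T1_of_isEmpty (polyPres e) M
  haveI := subsingleton_T2_of_isEmpty (polyPres e) M
  exact ⟨(CotTIndep.T1equiv M (canon A B) (polyPres e)).toEquiv.subsingleton,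
    (CotTIndep.T2equiv M (canon A B) (polyPres e)).toEquiv.subsingleton⟩

end

end Groth.Agent.Lib.helper19.CotTPoly
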