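import Mathlib
import Groth.Prelude.Def_CotT2

/-! Morphisms of relation data over an arbitrary ring map (no base rings involved), and the
induced maps on `L₁`, `L₂`, `T²`.  (`T²` does not involve the base ring.) -/

set_option autoImplicit false
universe u v w t u' v' w' t' u'' v'' w'' t'' m
open scoped TensorProduct

namespace Groth.Agent.Lib.helper19.CotTRel

open CotT

noncomputable section

variable {A : Type u} {B : Type v} {ι : Type w} {σ : Type t}
variable {A' : Type u'} {B' : Type v'} {ι' : Type w'} {σ' : Type t'}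
variable [CommRing A] [CommRing B] [Algebra A B] [CommRing A'] [CommRing B'] [Algebra A' B']
variable [Algebra B B']
variable (P : Algebra.Presentation A B ι σ) (P' : Algebra.Presentation A' B' ι' σ')

/-- A morphism of relation data: a ring map `R → R'` over `B → B'` and lifts of the relations. -/
structure RelHom where
  /-- the ring map -/
  τ : P.toExtension.Ring →+* P'.toExtension.Ring
  hτ : ∀ r, algebraMap P'.toExtension.Ring B' (τ r) =
    algebraMap B B' (algebraMap P.toExtension.Ring B r)
  /-- lifts of the relations -/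
  relVal : σ → relMod P'
  jmap_relVal : ∀ s, jmap P' (relVal s) = τ (rel P s)

namespace RelHom

variable {P P'} (h : RelHom P P')

/-- `F → F'`. -/
def relModMap : relMod P →ₛₗ[h.τ] relMod P' where
  toFun f := Finsupp.linearCombination P'.toExtension.Ring h.relVal
    (Finsupp.mapRange h.τ (map_zero _) f)
  map_add' f g := by rw [Finsupp.mapRange_add (map_add _), map_add]
  map_smul' r f := by
    rw [← map_smul]
    congr 1
    ext s
    simp [Finsupp.mapRange_apply, map_mul]

@[simp] lemma relModMap_single (s : σ) (r : P.toExtension.Ring) :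
    h.relModMap (Finsupp.single s r) = h.τ r • h.relVal s := by
  simp [relModMap]

lemma jmap_relModMap (f : relMod P) : jmap P' (h.relModMap f) = h.τ (jmap P f) := by
  induction f using Finsupp.induction_linear with
  | zero => simp
  | add f g hf hg => rw [map_add, map_add, hf, hg, map_add, map_add]
  | single s r => rw [relModMap_single, map_smul, jmap_relVal, jmap_single, smul_eq_mul, map_mul]

/-- `Q → Q'`. -/
def relKerMap : relKer P →ₛₗ[h.τ] relKer P' :=
  (h.relModMap.comp (relKer P).subtype).codRestrict (relKer P') (fun q => by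
    change jmap P' (h.relModMap (q : relMod P)) = 0
    rw [jmap_relModMap, show jmap P (q : relMod P) = 0 from q.2, map_zero])

@[simp] lemma relKerMap_coe (q : relKer P) : (h.relKerMap q : relMod P') = h.relModMap q := rfl

lemma relModMap_mem_trivRel {y : relMod P} (hy : y ∈ trivRel P) : h.relModMap y ∈ trivRel P' := by
  induction hy using Submodule.span_induction with
  | mem x hx =>
    obtain ⟨a, b, rfl⟩ := hx
    refine Submodule.subset_span ⟨h.relModMap a, h.relModMap b, ?_⟩
    rw [map_sub, LinearMap.map_smulₛₗ, LinearMap.map_smulₛₗ, jmap_relModMap, jmap_relModMap]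
  | zero => simp
  | add x y _ _ hx hy => rw [map_add]; exact Submodule.add_mem _ hx hy
  | smul r x _ hx => rw [LinearMap.map_smulₛₗ]; exact Submodule.smul_mem _ _ hx

/-- `L₁ → L₁'`. -/
def L1map : L1 P →ₛₗ[(algebraMap B B' : B →+* B')] L1 P' :=
  tensorMap h.τ h.hτ h.relModMap

@[simp] lemma L1map_tmul (b : B) (f : relMod P) :
    h.L1map (b ⊗ₜ f) = algebraMap B B' b ⊗ₜ h.relModMap f := rfl

/-- Auxiliary: `B ⊗ Q → L₂'`. -/
def L2mapAux : B ⊗[P.toExtension.Ring] relKer P →ₛₗ[(algebraMap B B' : B →+* B')] L2 P' where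
  toFun z := Submodule.Quotient.mk (tensorMap h.τ h.hτ h.relKerMap z)
  map_add' x y := by rw [map_add, Submodule.Quotient.mk_add]
  map_smul' b z := by rw [LinearMap.map_smulₛₗ, Submodule.Quotient.mk_smul]

lemma L2mapAux_tmul (b : B) (q : relKer P) :
    h.L2mapAux (b ⊗ₜ q) = Submodule.Quotient.mk (algebraMap B B' b ⊗ₜ h.relKerMap q) := rfl

/-- `L₂ → L₂'`. -/
def L2map : L2 P →ₛₗ[(algebraMap B B' : B →+* B')] L2 P' :=
  Submodule.liftQ _ h.L2mapAux (by
    rintro _ ⟨z, rfl⟩
    rw [LinearMap.mem_ker]
    induction z using TensorProduct.induction_on with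
    | zero => simp
    | add x y hx hy => rw [map_add, map_add, hx, hy, add_zero]
    | tmul b k =>
      rw [LinearMap.baseChange_tmul, L2mapAux_tmul, Submodule.Quotient.mk_eq_zero]
      refine ⟨algebraMap B B' b ⊗ₜ ⟨h.relKerMap (k : relKer P), ?_⟩, rfl⟩
      change (h.relKerMap (k : relKer P) : relMod P') ∈ trivRel P'
      rw [relKerMap_coe]
      exact h.relModMap_mem_trivRel k.2)

@[simp] lemma L2map_mk_tmul (b : B) (q : relKer P) :
    h.L2map (Submodule.Quotient.mk (b ⊗ₜ q)) =
      Submodule.Quotient.mk (algebraMap B B' b ⊗ₜ h.relKerMap q) := rfl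

lemma d2_L2map (z : L2 P) : d2 P' (h.L2map z) = h.L1map (d2 P z) := by
  induction z using Submodule.Quotient.induction_on with
  | H z =>
    induction z using TensorProduct.induction_on with
    | zero => simp
    | add x y hx hy =>
      rw [Submodule.Quotient.mk_add, map_add, map_add, hx, hy, map_add, map_add]
    | tmul b q => rw [L2map_mk_tmul, d2_mk_tmul, d2_mk_tmul, L1map_tmul, relKerMap_coe]

section Pull

variable (M' : Type m) [AddCommGroup M'] [Module B' M'] [Module B M'] [IsScalarTower B B' M']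

/-- precomposition with `L₁ → L₁'`. -/
def pull1 : (L1 P' →ₗ[B'] M') →ₗ[B] (L1 P →ₗ[B] M') where
  toFun ψ := PresHom.linOfSemilinear M' (ψ.comp h.L1map)
  map_add' _ _ := rfl
  map_smul' _ _ := rfl

/-- precomposition with `L₂ → L₂'`. -/
def pull2 : (L2 P' →ₗ[B'] M') →ₗ[B] (L2 P →ₗ[B] M') where
  toFun ψ := PresHom.linOfSemilinear M' (ψ.comp h.L2map)
  map_add' _ _ := rfl
  map_smul' _ _ := rfl

@[simp] lemma pull1_apply (ψ : L1 P' →ₗ[B'] M') (x : L1 P) : h.pull1 M' ψ x = ψ (h.L1map x) := rfl
@[simp] lemma pull2_apply (ψ : L2 P' →ₗ[B'] M') (x : L2 P) : h.pull2 M' ψ x = ψ (h.L2map x) := rfl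

lemma pull2_d2Star (ψ : L1 P' →ₗ[B'] M') :
    h.pull2 M' (d2Star P' M' ψ) = d2Star P M' (h.pull1 M' ψ) := by
  refine LinearMap.ext fun z => ?_
  simp [d2_L2map]

/-- the induced map on `T²`. -/
def T2pull : T2 P' M' →ₗ[B] T2 P M' :=
  (Submodule.mapQ ((LinearMap.range (d2Star P' M')).restrictScalars B) (LinearMap.range (d2Star P M'))
    (h.pull2 M') (by
    rintro _ ⟨ψ, rfl⟩
    exact ⟨h.pull1 M' ψ, (h.pull2_d2Star M' ψ).symm⟩)).comp
  (Submodule.Quotient.restrictScalarsEquiv B (LinearMap.range (d2Star P' M'))).symm.toLinearMap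

lemma T2pull_mk (χ : L2 P' →ₗ[B'] M') :
    h.T2pull M' (Submodule.Quotient.mk χ) = Submodule.Quotient.mk (h.pull2 M' χ) := rfl

end Pull

end RelHom

end

end Groth.Agent.Lib.helper19.CotTRel
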