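import Mathlib
import Groth.Prelude.Def_CotT2
import Groth.Agent.Lib.helper19.CotTRel
import Groth.Agent.Lib.helper19.CotTIndep

/-! Strictly inverse morphisms of relation data; `T²` over `R` versus over the base. -/

set_option autoImplicit false
universe u v w t u' w' t' m
open scoped TensorProduct

namespace Groth.Agent.Lib.helper19.CotTRel

open CotT

noncomputable section

section Inverse

variable {A : Type u} {B : Type v} {ι : Type w} {σ : Type t}
variable {A' : Type u'} {ι' : Type w'} {σ' : Type t'}
variable [CommRing A] [CommRing B] [Algebra A B] [CommRing A'] [Algebra A' B]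
variable {P : Algebra.Presentation A B ι σ} {P' : Algebra.Presentation A' B ι' σ'}
variable (f : RelHom P P') (g : RelHom P' P)

lemma relModMap_relModMap (h1 : ∀ r, g.τ (f.τ r) = r)
    (h2 : ∀ s, g.relModMap (f.relVal s) = Finsupp.single s 1) (x : relMod P) :
    g.relModMap (f.relModMap x) = x := by
  induction x using Finsupp.induction_linear with
  | zero => simp
  | add x y hx hy => rw [map_add, map_add, hx, hy]
  | single s r =>
    rw [RelHom.relModMap_single, LinearMap.map_smulₛₗ, h1, h2, Finsupp.smul_single, smul_eq_mul,
      mul_one]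

lemma L2map_L2map (h1 : ∀ r, g.τ (f.τ r) = r)
    (h2 : ∀ s, g.relModMap (f.relVal s) = Finsupp.single s 1) (z : L2 P) :
    g.L2map (f.L2map z) = z := by
  induction z using Submodule.Quotient.induction_on with
  | H z =>
    induction z using TensorProduct.induction_on with
    | zero => simp
    | add x y hx hy =>
      rw [Submodule.Quotient.mk_add, map_add, map_add, hx, hy]
    | tmul b q =>
      rw [RelHom.L2map_mk_tmul, RelHom.L2map_mk_tmul]
      congr 2
      apply Subtype.ext
      rw [RelHom.relKerMap_coe, RelHom.relKerMap_coe, relModMap_relModMap f g h1 h2]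

variable (M : Type m) [AddCommGroup M] [Module B M]

lemma T2pull_T2pull (h1 : ∀ r, g.τ (f.τ r) = r)
    (h2 : ∀ s, g.relModMap (f.relVal s) = Finsupp.single s 1) :
    (f.T2pull M).comp (g.T2pull M) = LinearMap.id := by
  refine LinearMap.ext fun x => ?_
  obtain ⟨χ, rfl⟩ := Submodule.Quotient.mk_surjective _ x
  change (Submodule.Quotient.mk (f.pull2 M (g.pull2 M χ)) : T2 P M) = Submodule.Quotient.mk χ
  congr 1
  refine LinearMap.ext fun z => ?_
  rw [RelHom.pull2_apply, RelHom.pull2_apply, L2map_L2map f g h1 h2]

/-- Strictly inverse morphisms of relation data induce an isomorphism on `T²`. -/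
def T2equivOfInverse (h1 : ∀ r, g.τ (f.τ r) = r)
    (h2 : ∀ s, g.relModMap (f.relVal s) = Finsupp.single s 1)
    (h1' : ∀ r, f.τ (g.τ r) = r)
    (h2' : ∀ s, f.relModMap (g.relVal s) = Finsupp.single s 1) :
    T2 P M ≃ₗ[B] T2 P' M :=
  LinearEquiv.ofLinearMap (g.T2pull M) (f.T2pull M)
    (T2pull_T2pull g f M h1' h2') (T2pull_T2pull f g M h1 h2)

end Inverse

section OverRing

variable {k : Type u} {B : Type v} [CommRing k] [CommRing B] [Algebra k B]
variable {ι : Type w} {σ : Type t} {ι' : Type w'} {σ' : Type t'}
variable (P : Algebra.Presentation k B ι σ) [IsEmpty ι']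
variable (P' : Algebra.Presentation P.toExtension.Ring B ι' σ')

/-- the map `R[∅] → R`. -/
def beta : P'.toExtension.Ring →+* P.toExtension.Ring :=
  ((MvPolynomial.isEmptyAlgEquiv P.toExtension.Ring ι' :
    MvPolynomial ι' P.toExtension.Ring ≃ₐ[P.toExtension.Ring] P.toExtension.Ring) :
    MvPolynomial ι' P.toExtension.Ring →+* P.toExtension.Ring)

/-- the map `R → R[∅]`. -/
def gamma : P.toExtension.Ring →+* P'.toExtension.Ring :=
  (MvPolynomial.C : P.toExtension.Ring →+* MvPolynomial ι' P.toExtension.Ring)

lemma gamma_beta (x : P'.toExtension.Ring) : gamma P P' (beta P P' x) = x := by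
  have h := (MvPolynomial.isEmptyAlgEquiv P.toExtension.Ring ι').symm_apply_apply x
  rw [MvPolynomial.isEmptyAlgEquiv_symm_apply] at h
  exact h

lemma beta_gamma (r : P.toExtension.Ring) : beta P P' (gamma P P' r) = r := by
  have h := (MvPolynomial.isEmptyAlgEquiv P.toExtension.Ring ι').apply_symm_apply r
  rw [MvPolynomial.isEmptyAlgEquiv_symm_apply] at h
  exact h

lemma algebraMap_gamma (r : P.toExtension.Ring) :
    algebraMap P'.toExtension.Ring B (gamma P P' r) = algebraMap P.toExtension.Ring B r := by
  have := IsScalarTower.algebraMap_apply P.toExtension.Ring P'.toExtension.Ring B r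
  rw [this]
  rfl

lemma algebraMap_beta (x : P'.toExtension.Ring) :
    algebraMap P.toExtension.Ring B (beta P P' x) = algebraMap P'.toExtension.Ring B x := by
  rw [← algebraMap_gamma P P', gamma_beta]

lemma mem_span_iff (x : P.toExtension.Ring) :
    x ∈ Ideal.span (Set.range fun s' => beta P P' (rel P' s')) ↔
      gamma P P' x ∈ Ideal.span (Set.range (rel P')) := by
  constructor
  · intro h
    have hle : Ideal.span (Set.range fun s' => beta P P' (rel P' s')) ≤
        (Ideal.span (Set.range (rel P'))).comap (gamma P P') := by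
      rw [Ideal.span_le]
      rintro _ ⟨s', rfl⟩
      rw [SetLike.mem_coe, Ideal.mem_comap, gamma_beta]
      exact Ideal.subset_span ⟨s', rfl⟩
    exact hle h
  · intro h
    have hle : Ideal.span (Set.range (rel P')) ≤
        (Ideal.span (Set.range fun s' => beta P P' (rel P' s'))).comap (beta P P') := by
      rw [Ideal.span_le]
      rintro _ ⟨s', rfl⟩
      exact Ideal.subset_span ⟨s', rfl⟩
    have := hle h
    rw [Ideal.mem_comap, beta_gamma] at this
    exact this

/-- The presentation of `B` over `k` with the generators of `P` and the relations of `P'`. -/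
def Ptilde : Algebra.Presentation k B ι σ' where
  toGenerators := P.toGenerators
  relation s' := beta P P' (rel P' s')
  span_range_relation_eq_ker := by
    ext x
    have h1 := mem_span_iff P P' x
    have h2 : gamma P P' x ∈ Ideal.span (Set.range (rel P')) ↔
        algebraMap P'.toExtension.Ring B (gamma P P' x) = 0 := by
      have := P'.span_range_relation_eq_ker
      change Ideal.span (Set.range (rel P')) = P'.toExtension.ker at this
      rw [this]
      rfl
    rw [algebraMap_gamma] at h2
    exact h1.trans h2

/-- `P̃ → P'`. -/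
def toPrime : RelHom (Ptilde P P') P' where
  τ := gamma P P'
  hτ r := algebraMap_gamma P P' r
  relVal s' := Finsupp.single s' 1
  jmap_relVal s' := by
    rw [jmap_single, one_mul]
    exact (gamma_beta P P' _).symm

/-- `P' → P̃`. -/
def ofPrime : RelHom P' (Ptilde P P') where
  τ := beta P P'
  hτ x := algebraMap_beta P P' x
  relVal s' := Finsupp.single s' 1
  jmap_relVal s' := by
    rw [jmap_single, one_mul]
    rfl

variable (M : Type m) [AddCommGroup M] [Module B M]

/-- `T²(B/R, M) ≃ T²(B/k, M)`. -/
def T2equivOverRing : T2 P' M ≃ₗ[B] T2 P M :=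
  (T2equivOfInverse (ofPrime P P') (toPrime P P') M
    (fun r => gamma_beta P P' r)
    (fun s => by
      change (toPrime P P').relModMap (Finsupp.single s 1) = _
      rw [RelHom.relModMap_single, map_one, one_smul]; rfl)
    (fun r => beta_gamma P P' r)
    (fun s => by
      change (ofPrime P P').relModMap (Finsupp.single s 1) = _
      rw [RelHom.relModMap_single, map_one, one_smul]; rfl)).trans
  (CotTIndep.T2equiv M (Ptilde P P') P)

theorem main12295 : Nonempty (CotT.T2 P' M ≃ₗ[B] CotT.T2 P M) := ⟨T2equivOverRing P P' M⟩

end OverRing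

end

end Groth.Agent.Lib.helper19.CotTRel
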