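import Mathlib

/-!
# Formally unramified over an algebraically closed field via dual-number points
-/

universe u

namespace Groth.Agent.Lib.helper19.DualNumberUnram

open TrivSqZeroExt

/-- A finite type algebra over an algebraically closed field all of whose `k[ε]`-points are
determined by their reduction is formally unramified. -/
theorem alg_main (k : Type u) [Field k] [IsAlgClosed k] (A : Type u) [CommRing A] [Algebra k A]
    [Algebra.FiniteType k A]
    (H : ∀ ψ₁ ψ₂ : A →ₐ[k] DualNumber k,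
      (TrivSqZeroExt.fstHom k k k).comp ψ₁ = (TrivSqZeroExt.fstHom k k k).comp ψ₂ → ψ₁ = ψ₂) :
    Algebra.FormallyUnramified k A := by
  rw [Algebra.formallyUnramified_iff]
  by_contra hns
  rw [not_subsingleton_iff_nontrivial] at hns
  have hfg : (⊤ : Submodule A Ω[A⁄k]).FG := Module.finite_def.mp inferInstance
  have hann : Module.annihilator A Ω[A⁄k] ≠ ⊤ := by
    intro h
    have h1 : (1 : A) ∈ Module.annihilator A Ω[A⁄k] := h ▸ Submodule.mem_top
    rw [Module.mem_annihilator] at h1
    obtain ⟨x, hx⟩ := exists_ne (0 : Ω[A⁄k])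
    exact hx (by simpa using h1 x)
  obtain ⟨m, hm, hle⟩ := Ideal.exists_le_maximal _ hann
  have hmtop : m • (⊤ : Submodule A Ω[A⁄k]) ≠ ⊤ := by
    intro h
    obtain ⟨r, hr, hr0⟩ :=
      Submodule.exists_sub_one_mem_and_smul_eq_zero_of_fg_of_le_smul m ⊤ hfg h.ge
    have hrm : r ∈ m := hle (Module.mem_annihilator.mpr fun x => hr0 x Submodule.mem_top)
    exact hm.ne_top ((Ideal.eq_top_iff_one _).mpr (by simpa using m.sub_mem hrm hr))
  obtain ⟨a, ha⟩ : ∃ a : A, KaehlerDifferential.D k A a ∉ m • (⊤ : Submodule A Ω[A⁄k]) := by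
    by_contra hcon
    push Not at hcon
    apply hmtop
    rw [eq_top_iff]
    intro x _
    have hx : x ∈ Submodule.span A (Set.range (KaehlerDifferential.D k A)) := by
      rw [KaehlerDifferential.span_range_derivation]; trivial
    exact (Submodule.span_le.mpr (by rintro _ ⟨a, rfl⟩; exact hcon a)) hx
  letI : Field (A ⧸ m) := Ideal.Quotient.field m
  have hfin : Module.Finite k (A ⧸ m) := finite_of_finite_type_of_isJacobsonRing k (A ⧸ m)
  have hint : Algebra.IsIntegral k (A ⧸ m) := inferInstance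
  have hbij : Function.Bijective (algebraMap k (A ⧸ m)) :=
    IsAlgClosed.algebraMap_bijective_of_isIntegral
  let e : (A ⧸ m) ≃ₐ[k] k := (AlgEquiv.ofBijective (Algebra.ofId k (A ⧸ m)) hbij).symm
  let π : A →ₐ[k] k := e.toAlgHom.comp (Ideal.Quotient.mkₐ k m)
  have hv : (Submodule.Quotient.mk (KaehlerDifferential.D k A a) :
      Ω[A⁄k] ⧸ m • (⊤ : Submodule A Ω[A⁄k])) ≠ 0 := by
    rwa [Ne, Submodule.Quotient.mk_eq_zero]
  obtain ⟨ℓ, hℓ⟩ : ∃ ℓ : Module.Dual (A ⧸ m) (Ω[A⁄k] ⧸ m • (⊤ : Submodule A Ω[A⁄k])),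
      ℓ (Submodule.Quotient.mk (KaehlerDifferential.D k A a)) ≠ 0 := by
    by_contra hcon
    push Not at hcon
    exact hv ((Module.forall_dual_apply_eq_zero_iff (A ⧸ m) _).mp hcon)
  let δ : A → A ⧸ m := fun b => ℓ (Submodule.Quotient.mk (KaehlerDifferential.D k A b))
  have hδ_add : ∀ b c, δ (b + c) = δ b + δ c := by
    intro b c
    simp only [δ, map_add, Submodule.Quotient.mk_add]
  have hδ_mul : ∀ b c, δ (b * c) = Ideal.Quotient.mk m b * δ c + Ideal.Quotient.mk m c * δ b := by
    intro b c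
    simp only [δ, Derivation.leibniz, map_add, Submodule.Quotient.mk_add]
    rw [← Module.Quotient.mk_smul_mk, ← Module.Quotient.mk_smul_mk, map_smul, map_smul]
    rfl
  have hδ_alg : ∀ c : k, δ (algebraMap k A c) = 0 := by
    intro c
    simp only [δ, Derivation.map_algebraMap, Submodule.Quotient.mk_zero, map_zero]
  let ψ₁ : A →ₐ[k] DualNumber k :=
    { toFun := fun b => inl (π b) + inr (e (δ b))
      map_one' := by
        have : δ 1 = 0 := by simpa using hδ_alg 1
        simp [this]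
      map_mul' := by
        intro b c
        rw [hδ_mul]
        ext
        · simp
        · simp [π, mul_comm]
      map_zero' := by
        have : δ 0 = 0 := by simpa using hδ_alg 0
        simp [this]
      map_add' := by
        intro b c
        rw [hδ_add]
        ext
        · simp
        · simp
      commutes' := by
        intro c
        rw [hδ_alg]
        simp [TrivSqZeroExt.algebraMap_eq_inl] }
  let ψ₂ : A →ₐ[k] DualNumber k := (TrivSqZeroExt.inlAlgHom k k k).comp π
  have h12 : ψ₁ = ψ₂ := by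
    apply H
    ext b
    simp [ψ₁, ψ₂]
  have : (ψ₁ a).snd = (ψ₂ a).snd := by rw [h12]
  simp only [ψ₁, ψ₂] at this
  apply hℓ
  have h0 : e (δ a) = 0 := by simpa using this
  exact (map_eq_zero_iff e e.injective).mp h0

end Groth.Agent.Lib.helper19.DualNumberUnram

namespace Groth.Agent.Lib.helper19.DualNumberUnram

open AlgebraicGeometry CategoryTheory CategoryTheory.Limits

/-- The kernel ideal sheaf of `Spec S → Spec R` is nilpotent when `ker (R → S)` squares to zero. -/
lemma isNilpotent_ker {R S : CommRingCat.{u}} (φ : R ⟶ S)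
    (hsq : ∀ x y : R, φ.hom x = 0 → φ.hom y = 0 → x * y = 0) :
    IsNilpotent (Spec.map φ).ker := by
  refine ⟨2, ?_⟩
  apply Scheme.IdealSheafData.ext_of_isAffine
  rw [Scheme.IdealSheafData.ideal_pow]
  simp only [Pi.pow_apply, Scheme.Hom.ker_apply, Scheme.IdealSheafData.zero_eq_bot,
    Scheme.IdealSheafData.ideal_bot, Pi.bot_apply]
  rw [eq_bot_iff, pow_two, Ideal.mul_le]
  intro x hx y hy
  rw [RingHom.mem_ker] at hx hy
  have hnat := Scheme.ΓSpecIso_naturality φ
  have hx' : φ.hom ((Scheme.ΓSpecIso R).hom.hom x) = 0 := by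
    have h1 : (Scheme.ΓSpecIso S).hom.hom ((Spec.map φ).appTop.hom x) =
        φ.hom ((Scheme.ΓSpecIso R).hom.hom x) := congr($hnat x)
    rw [← h1]
    exact (congrArg (Scheme.ΓSpecIso S).hom.hom hx).trans (map_zero _)
  have hy' : φ.hom ((Scheme.ΓSpecIso R).hom.hom y) = 0 := by
    have h1 : (Scheme.ΓSpecIso S).hom.hom ((Spec.map φ).appTop.hom y) =
        φ.hom ((Scheme.ΓSpecIso R).hom.hom y) := congr($hnat y)
    rw [← h1]
    exact (congrArg (Scheme.ΓSpecIso S).hom.hom hy).trans (map_zero _)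
  have hxy := hsq _ _ hx' hy'
  rw [← map_mul] at hxy
  have hinj : Function.Injective (Scheme.ΓSpecIso R).hom.hom :=
    (ConcreteCategory.bijective_of_isIso (Scheme.ΓSpecIso R).hom).1
  rw [Ideal.mem_bot]
  exact hinj (by rw [hxy, map_zero])

theorem main_mp (k : Type u) [Field k]
    {X : Scheme.{u}} (p : X ⟶ Spec (CommRingCat.of k)) [FormallyUnramified p]
    (v₁ v₂ : Spec (CommRingCat.of (DualNumber k)) ⟶ X)
    (h₁ : v₁ ≫ p = Spec.map (CommRingCat.ofHom (algebraMap k (DualNumber k))))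
    (h₂ : v₂ ≫ p = Spec.map (CommRingCat.ofHom (algebraMap k (DualNumber k))))
    (h : Spec.map (CommRingCat.ofHom (TrivSqZeroExt.fstHom k k k).toRingHom) ≫ v₁ =
          Spec.map (CommRingCat.ofHom (TrivSqZeroExt.fstHom k k k).toRingHom) ≫ v₂) :
    v₁ = v₂ := by
  have hcl : IsClosedImmersion
      (Spec.map (CommRingCat.ofHom (TrivSqZeroExt.fstHom k k k).toRingHom)) :=
    IsClosedImmersion.spec_of_surjective _ (fun x => ⟨TrivSqZeroExt.inl x, by simp⟩)
  refine FormallyUnramified.hom_ext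
    (Spec.map (CommRingCat.ofHom (TrivSqZeroExt.fstHom k k k).toRingHom))
    (isNilpotent_ker _ ?_) p h (h₁.trans h₂.symm)
  intro x y hx hy
  have hx0 : x.fst = 0 := hx
  have hy0 : y.fst = 0 := hy
  ext
  · simp [hx0]
  · simp [hx0, hy0]

theorem affine_case (k : Type u) [Field k] [IsAlgClosed k] (A : CommRingCat.{u})
    (p : Spec A ⟶ Spec (CommRingCat.of k)) [LocallyOfFiniteType p]
    (H : ∀ v₁ v₂ : Spec (CommRingCat.of (DualNumber k)) ⟶ Spec A,
        v₁ ≫ p = Spec.map (CommRingCat.ofHom (algebraMap k (DualNumber k))) →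
        v₂ ≫ p = Spec.map (CommRingCat.ofHom (algebraMap k (DualNumber k))) →
        Spec.map (CommRingCat.ofHom (TrivSqZeroExt.fstHom k k k).toRingHom) ≫ v₁ =
          Spec.map (CommRingCat.ofHom (TrivSqZeroExt.fstHom k k k).toRingHom) ≫ v₂ →
        v₁ = v₂) : FormallyUnramified p := by
  obtain ⟨φ, rfl⟩ : ∃ φ, Spec.map φ = p := ⟨_, Spec.map_preimage _⟩
  rw [HasRingHomProperty.Spec_iff (P := @FormallyUnramified)]
  have hft : φ.hom.FiniteType :=
    (HasRingHomProperty.Spec_iff (P := @LocallyOfFiniteType)).mp inferInstance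
  algebraize [φ.hom]
  change Algebra.FormallyUnramified k A
  apply alg_main
  intro ψ₁ ψ₂ hψ
  have key := H (Spec.map (CommRingCat.ofHom ψ₁.toRingHom)) (Spec.map (CommRingCat.ofHom ψ₂.toRingHom))
    ?_ ?_ ?_
  · have h2 := Spec.map_injective key
    refine AlgHom.ext fun b => ?_
    exact congr($h2 b)
  · rw [← Spec.map_comp]
    congr 1
    apply CommRingCat.hom_ext
    apply RingHom.ext
    intro c
    exact ψ₁.commutes c
  · rw [← Spec.map_comp]
    congr 1
    apply CommRingCat.hom_ext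
    apply RingHom.ext
    intro c
    exact ψ₂.commutes c
  · rw [← Spec.map_comp, ← Spec.map_comp]
    congr 1
    apply CommRingCat.hom_ext
    apply RingHom.ext
    intro b
    exact DFunLike.congr_fun hψ b

theorem main_mpr (k : Type u) [Field k] [IsAlgClosed k]
    {X : Scheme.{u}} (p : X ⟶ Spec (CommRingCat.of k)) [LocallyOfFiniteType p]
    (H : ∀ v₁ v₂ : Spec (CommRingCat.of (DualNumber k)) ⟶ X,
        v₁ ≫ p = Spec.map (CommRingCat.ofHom (algebraMap k (DualNumber k))) →
        v₂ ≫ p = Spec.map (CommRingCat.ofHom (algebraMap k (DualNumber k))) →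
        Spec.map (CommRingCat.ofHom (TrivSqZeroExt.fstHom k k k).toRingHom) ≫ v₁ =
          Spec.map (CommRingCat.ofHom (TrivSqZeroExt.fstHom k k k).toRingHom) ≫ v₂ →
        v₁ = v₂) : FormallyUnramified p := by
  rw [IsZariskiLocalAtSource.iff_of_openCover (P := @FormallyUnramified) X.affineCover]
  intro i
  haveI hlft : LocallyOfFiniteType (X.affineCover.f i ≫ p) := inferInstance
  refine @affine_case k _ _ _ (X.affineCover.f i ≫ p) hlft ?_
  intro (v₁ : Spec (CommRingCat.of (DualNumber k)) ⟶ X.affineCover.X i)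
    (v₂ : Spec (CommRingCat.of (DualNumber k)) ⟶ X.affineCover.X i) h₁ h₂ h
  have := H (v₁ ≫ X.affineCover.f i) (v₂ ≫ X.affineCover.f i)
    ((Category.assoc _ _ _).trans h₁) ((Category.assoc _ _ _).trans h₂)
    (((Category.assoc _ _ _).symm.trans (congrArg (· ≫ X.affineCover.f i) h)).trans
      (Category.assoc _ _ _))
  exact (cancel_mono (X.affineCover.f i)).mp this

theorem main (k : Type u) [Field k] [IsAlgClosed k]
    {X : Scheme.{u}} (p : X ⟶ Spec (CommRingCat.of k)) [LocallyOfFiniteType p] :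
    FormallyUnramified p ↔
      ∀ v₁ v₂ : Spec (CommRingCat.of (DualNumber k)) ⟶ X,
        v₁ ≫ p = Spec.map (CommRingCat.ofHom (algebraMap k (DualNumber k))) →
        v₂ ≫ p = Spec.map (CommRingCat.ofHom (algebraMap k (DualNumber k))) →
        Spec.map (CommRingCat.ofHom (TrivSqZeroExt.fstHom k k k).toRingHom) ≫ v₁ =
          Spec.map (CommRingCat.ofHom (TrivSqZeroExt.fstHom k k k).toRingHom) ≫ v₂ →
        v₁ = v₂ :=
  ⟨fun _ v₁ v₂ h₁ h₂ h => main_mp k p v₁ v₂ h₁ h₂ h, main_mpr k p⟩

end Groth.Agent.Lib.helper19.DualNumberUnram
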