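import Mathlib
import Groth.Agent.Lib.helper19.EtPolyAt
import Groth.Agent.Lib.helper19.CotKaehler

/-!
# Étale over a polynomial ring at a point with separable residue field (S5001)
-/

open IsLocalRing

namespace Groth.Agent.Lib.helper19.EtPolyMax

universe u

theorem main (k A : Type u) [Field k] [CommRing A] [Algebra k A]
    [Algebra.FiniteType k A] (n : ℕ) [Algebra (MvPolynomial (Fin n) k) A]
    [IsScalarTower k (MvPolynomial (Fin n) k) A] (p : Ideal A) [p.IsPrime]
    (hn : FlatMor.localDim (PrimeSpectrum A) ⟨p, inferInstance⟩ = (n : WithBot ℕ∞))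
    [Module.Finite k p.ResidueField] [Algebra.IsSeparable k p.ResidueField]
    (hg : ∀ i : Fin n, algebraMap (MvPolynomial (Fin n) k) A (MvPolynomial.X i) ∈ p) :
    Algebra.IsEtaleAt (MvPolynomial (Fin n) k) p ↔
      Ideal.span (Set.range fun i : Fin n =>
        algebraMap A (Localization.AtPrime p)
          (algebraMap (MvPolynomial (Fin n) k) A (MvPolynomial.X i))) =
        IsLocalRing.maximalIdeal (Localization.AtPrime p) := by
  rw [EtPolyAt.main k A n p hn]
  have hker : RingHom.ker (algebraMap (Localization.AtPrime p)
      (ResidueField (Localization.AtPrime p))) = maximalIdeal (Localization.AtPrime p) :=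
    IsLocalRing.ker_residue
  have : IsNoetherianRing A := Algebra.FiniteType.isNoetherianRing k A
  have : IsNoetherianRing (Localization.AtPrime p) :=
    IsLocalization.isNoetherianRing p.primeCompl _ inferInstance
  have : Algebra.FormallyEtale k (ResidueField (Localization.AtPrime p)) :=
    Algebra.FormallyEtale.of_isSeparable k p.ResidueField
  have : Module.Finite (Localization.AtPrime p) Ω[Localization.AtPrime p⁄k] :=
    Module.Finite.equiv
      (KaehlerDifferential.tensorKaehlerEquivOfFormallyEtale k A (Localization.AtPrime p))
  have hg' : ∀ i : Fin n, algebraMap A (Localization.AtPrime p)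
      (algebraMap (MvPolynomial (Fin n) k) A (MvPolynomial.X i)) ∈
      RingHom.ker (algebraMap (Localization.AtPrime p)
        (ResidueField (Localization.AtPrime p))) := by
    intro i
    rw [hker]
    exact (IsLocalization.AtPrime.to_map_mem_maximal_iff (Localization.AtPrime p) p _).mpr (hg i)
  have hfg : (RingHom.ker (algebraMap (Localization.AtPrime p)
      (ResidueField (Localization.AtPrime p)))).FG := IsNoetherian.noetherian _
  have := CotKaehler.span_D_eq_top_iff k (Localization.AtPrime p)
    (fun i : Fin n => algebraMap A (Localization.AtPrime p)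
      (algebraMap (MvPolynomial (Fin n) k) A (MvPolynomial.X i))) hg' hfg
  rw [this, hker]

end Groth.Agent.Lib.helper19.EtPolyMax
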