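import Mathlib

open Polynomial

namespace Groth.Agent.Lib.helper19.EtaleSmoothQF

universe u

theorem eq_zero_of_flat_of_quasiFinite {R T : Type u} [CommRing R] [CommRing T] [Algebra R T]
    [Algebra.QuasiFinite R T] [Nontrivial T] (n : ℕ)
    [Algebra (MvPolynomial (Fin n) R) T] [IsScalarTower R (MvPolynomial (Fin n) R) T]
    [Module.Flat (MvPolynomial (Fin n) R) T] : n = 0 := by
  cases n with
  | zero => rfl
  | succ m =>
    exfalso
    let e : Polynomial (MvPolynomial (Fin m) R) ≃ₐ[R] MvPolynomial (Fin (m + 1)) R :=
      (MvPolynomial.finSuccEquiv R m).symm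
    letI a1 : Algebra (Polynomial (MvPolynomial (Fin m) R)) T :=
      ((algebraMap (MvPolynomial (Fin (m + 1)) R) T).comp e.toRingHom).toAlgebra
    letI a2 : Algebra (MvPolynomial (Fin m) R) T :=
      ((algebraMap (Polynomial (MvPolynomial (Fin m) R)) T).comp Polynomial.C).toAlgebra
    haveI : IsScalarTower (MvPolynomial (Fin m) R) (Polynomial (MvPolynomial (Fin m) R)) T :=
      IsScalarTower.of_algebraMap_eq' rfl
    haveI : IsScalarTower R (MvPolynomial (Fin m) R) T := IsScalarTower.of_algebraMap_eq' (by
      ext r
      simp only [RingHom.algebraMap_toAlgebra, RingHom.comp_apply]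
      have : e.toRingHom (Polynomial.C (algebraMap R (MvPolynomial (Fin m) R) r)) =
          algebraMap R (MvPolynomial (Fin (m + 1)) R) r := by
        have := e.commutes r
        simpa using this
      rw [this, ← IsScalarTower.algebraMap_apply])
    haveI : Algebra.QuasiFinite (MvPolynomial (Fin m) R) T :=
      Algebra.QuasiFinite.of_restrictScalars R (MvPolynomial (Fin m) R) T
    haveI : Module.Flat (Polynomial (MvPolynomial (Fin m) R)) T := by
      have h1 : (algebraMap (MvPolynomial (Fin (m + 1)) R) T).Flat :=
        RingHom.flat_algebraMap_iff.mpr inferInstance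
      have h2 : (e.toRingHom).Flat := RingHom.Flat.of_bijective e.bijective
      exact h2.comp h1
    obtain ⟨q', hq'⟩ := Ideal.exists_maximal T
    haveI := hq'.isPrime
    let f : Polynomial (MvPolynomial (Fin m) R) →ₐ[MvPolynomial (Fin m) R] T :=
      IsScalarTower.toAlgHom (MvPolynomial (Fin m) R) (Polynomial (MvPolynomial (Fin m) R)) T
    have hlt := Polynomial.map_under_lt_comap_of_quasiFiniteAt f q'
    haveI : q'.LiesOver (q'.comap (f : Polynomial (MvPolynomial (Fin m) R) →+* T)) := ⟨rfl⟩
    obtain ⟨P', hP'le, hP'prime, hP'over⟩ := Ideal.exists_ideal_le_liesOver_of_le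
      (p := (q'.under (MvPolynomial (Fin m) R)).map C)
      (q := q'.comap (f : Polynomial (MvPolynomial (Fin m) R) →+* T)) q' hlt.le
    have hunder : P'.under (MvPolynomial (Fin m) R) = q'.under (MvPolynomial (Fin m) R) := by
      have h3 : P'.under (Polynomial (MvPolynomial (Fin m) R)) =
          (q'.under (MvPolynomial (Fin m) R)).map C := (hP'over.over).symm
      have h4 : P'.under (MvPolynomial (Fin m) R) =
          (P'.under (Polynomial (MvPolynomial (Fin m) R))).under (MvPolynomial (Fin m) R) :=
        (Ideal.under_under (B := Polynomial (MvPolynomial (Fin m) R)) P').symm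
      rw [h4, h3]
      ext x
      rw [Ideal.under_def, Ideal.mem_comap, Polynomial.algebraMap_apply, Algebra.algebraMap_self,
        RingHom.id_apply, Ideal.mem_map_C_iff]
      constructor
      · intro h
        have := h 0
        simpa using this
      · intro h k
        rw [Polynomial.coeff_C]
        split_ifs
        · exact h
        · exact Ideal.zero_mem _
    have heq : P' = q' :=
      Algebra.QuasiFinite.eq_of_le_of_under_eq (R := MvPolynomial (Fin m) R) P' q' hP'le hunder
    apply hlt.ne
    have h5 := hP'over.over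
    rw [heq] at h5
    exact h5

theorem etale_of_smooth_of_quasiFinite {R S : Type u} [CommRing R] [CommRing S] [Algebra R S]
    [Algebra.Smooth R S] [Algebra.QuasiFinite R S] : Algebra.Etale R S := by
  have hunr : Algebra.FormallyUnramified R S := by
    rw [Algebra.formallyUnramified_iff_forall]
    intro q
    haveI : Algebra.IsSmoothAt R q.asIdeal := inferInstance
    obtain ⟨f, hfq, n, alg, tower, hstd⟩ :=
      Algebra.IsSmoothAt.exists_isStandardEtale_mvPolynomial (R := R) (p := q.asIdeal)
    letI := alg
    haveI := tower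
    haveI := hstd
    haveI : Nontrivial (Localization.Away f) := by
      by_contra hnt
      rw [not_nontrivial_iff_subsingleton] at hnt
      have h0 : (algebraMap S (Localization.Away f)) 1 = 0 := Subsingleton.elim _ _
      rw [IsLocalization.map_eq_zero_iff (Submonoid.powers f)] at h0
      obtain ⟨⟨_, k, rfl⟩, hk⟩ := h0
      rw [mul_one] at hk
      have hk' : f ^ k = 0 := hk
      exact hfq (q.2.mem_of_pow_mem k (hk' ▸ q.asIdeal.zero_mem))
    have hn : n = 0 := eq_zero_of_flat_of_quasiFinite (R := R) (T := Localization.Away f) n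
    subst hn
    haveI : Algebra.Etale R (MvPolynomial (Fin 0) R) :=
      Algebra.Etale.of_equiv (MvPolynomial.isEmptyAlgEquiv R (Fin 0)).symm
    haveI : Algebra.Etale R (Localization.Away f) :=
      Algebra.Etale.comp R (MvPolynomial (Fin 0) R) _
    have hfu : Algebra.FormallyUnramified R (Localization.Away f) := inferInstance
    rw [← Algebra.basicOpen_subset_unramifiedLocus_iff] at hfu
    exact hfu hfq
  exact Algebra.Etale.iff_formallyUnramified_and_smooth.mpr ⟨hunr, inferInstance⟩

theorem ringHom_etale_iff {R S : Type u} [CommRing R] [CommRing S] (φ : R →+* S) :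
    φ.Etale ↔ φ.Smooth ∧ φ.QuasiFinite := by
  algebraize [φ]
  constructor
  · intro h
    haveI : Algebra.Etale R S := h
    exact ⟨(inferInstance : Algebra.Smooth R S), (inferInstance : Algebra.QuasiFinite R S)⟩
  · rintro ⟨h1, h2⟩
    haveI : Algebra.Smooth R S := h1
    haveI : Algebra.QuasiFinite R S := h2
    exact etale_of_smooth_of_quasiFinite

open AlgebraicGeometry in
theorem main {X Y : Scheme.{u}} (f : X ⟶ Y) :
    Etale f ↔ Smooth f ∧ LocallyQuasiFinite f := by
  rw [HasRingHomProperty.iff_appLE (P := @Etale), HasRingHomProperty.iff_appLE (P := @Smooth),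
    HasRingHomProperty.iff_appLE (P := @LocallyQuasiFinite)]
  simp only [ringHom_etale_iff]
  constructor
  · intro h
    exact ⟨fun U V e => (h U V e).1, fun U V e => (h U V e).2⟩
  · rintro ⟨h1, h2⟩ U V e
    exact ⟨h1 U V e, h2 U V e⟩

end Groth.Agent.Lib.helper19.EtaleSmoothQF
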