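import Mathlib
import Groth.Prelude.Def_Exal
import Groth.Agent.Lib.helper9.ExalLib

/-! Push-out extensions of `B = R/I` along `R`-linear maps `w : I → M`, as `A`-extensions. -/

set_option autoImplicit false
set_option linter.unusedSectionVars false
universe u v

namespace Groth.Agent.Lib.helper19.ExalT1

attribute [local instance] Exal.opModule Exal.isCentralScalar_opModule

open Exal Groth.Agent.Lib.helper9.ExalLib

noncomputable section

variable {A : Type u} {R B M : Type v} [CommRing A] [CommRing R] [CommRing B]
  [Algebra A R] [Algebra R B] [Algebra A B] [IsScalarTower A R B]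
  [AddCommGroup M] [Module B M] [Module R M] [IsScalarTower R B M]

/-- the kernel of `R → B`. -/
abbrev kerI (R B : Type v) [CommRing R] [CommRing B] [Algebra R B] : Ideal R :=
  RingHom.ker (algebraMap R B)

lemma smul_eq_zero_of_mem_ker {r : R} (hr : r ∈ kerI R B) (m : M) : r • m = 0 := by
  rw [← algebraMap_smul B r m, (RingHom.mem_ker.mp hr), zero_smul]

variable (w : kerI R B →ₗ[R] M)

/-- the element `(j, -w j)`. -/
def pushGen (j : kerI R B) : TrivSqZeroExt R M :=
  TrivSqZeroExt.inl (j : R) - TrivSqZeroExt.inr (w j)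

lemma pushGen_add (j j' : kerI R B) : pushGen w (j + j') = pushGen w j + pushGen w j' := by
  unfold pushGen
  rw [map_add, Submodule.coe_add, TrivSqZeroExt.inl_add, TrivSqZeroExt.inr_add]
  abel

lemma mul_pushGen (x : TrivSqZeroExt R M) (j : kerI R B) :
    x * pushGen w j = pushGen w (x.fst • j) := by
  unfold pushGen
  apply TrivSqZeroExt.ext
  · simp
  · simp only [TrivSqZeroExt.snd_mul, TrivSqZeroExt.snd_sub, TrivSqZeroExt.snd_inl,
      TrivSqZeroExt.snd_inr, zero_sub, TrivSqZeroExt.fst_sub, TrivSqZeroExt.fst_inl,
      TrivSqZeroExt.fst_inr, sub_zero, op_smul_eq_smul, map_smul, smul_neg]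
    rw [smul_eq_zero_of_mem_ker j.2, add_zero]

/-- The ideal `{(j, -w j)}` of `R ⊕ M`. -/
def pushIdeal : Ideal (TrivSqZeroExt R M) where
  carrier := Set.range (pushGen w)
  add_mem' := by
    rintro _ _ ⟨j, rfl⟩ ⟨j', rfl⟩
    exact ⟨j + j', pushGen_add w j j'⟩
  zero_mem' := ⟨0, by simp [pushGen]⟩
  smul_mem' := by
    rintro x _ ⟨j, rfl⟩
    exact ⟨x.fst • j, (mul_pushGen w x j).symm⟩

/-- Carrier of the pushout extension. -/
def PushCarrier : Type v := TrivSqZeroExt R M ⧸ pushIdeal w

instance : CommRing (PushCarrier w) :=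
  inferInstanceAs (CommRing (TrivSqZeroExt R M ⧸ pushIdeal w))

/-- quotient map -/
def pushMk : TrivSqZeroExt R M →+* PushCarrier w := Ideal.Quotient.mk (pushIdeal w)

lemma pushMk_surjective : Function.Surjective (pushMk w) := Ideal.Quotient.mk_surjective

lemma pushMk_eq_zero_iff (x : TrivSqZeroExt R M) : pushMk w x = 0 ↔ ∃ j, pushGen w j = x :=
  Ideal.Quotient.eq_zero_iff_mem

/-- the structure map `R → E_w`. -/
def pushOfR : R →+* PushCarrier w := (pushMk w).comp (TrivSqZeroExt.inlHom R M)

lemma pushOfR_apply (r : R) : pushOfR w r = pushMk w (TrivSqZeroExt.inl r) := rfl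

noncomputable instance : Algebra A (PushCarrier w) :=
  ((pushOfR w).comp (algebraMap A R)).toAlgebra

lemma push_algebraMap (a : A) :
    algebraMap A (PushCarrier w) a = pushOfR w (algebraMap A R a) := rfl

/-- projection of the pushout extension, as a ring hom -/
def pushProjRing : PushCarrier w →+* B :=
  Ideal.Quotient.lift (pushIdeal w)
    ((algebraMap R B).comp (TrivSqZeroExt.fstHom R R M : TrivSqZeroExt R M →+* R)) (by
      rintro _ ⟨j, rfl⟩
      change algebraMap R B (TrivSqZeroExt.fst (pushGen w j)) = 0
      have : TrivSqZeroExt.fst (pushGen w j) = (j : R) := by simp [pushGen]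
      rw [this]
      exact j.2)

lemma pushProjRing_mk (x : TrivSqZeroExt R M) :
    pushProjRing w (pushMk w x) = algebraMap R B x.fst := rfl

variable (hsurj : Function.Surjective (algebraMap R B))

/-- The pushout of `0 → I → R → B → 0` along `w`, as an `A`-extension of `B` by `M`. -/
noncomputable def pushExt : Ext A B M where
  E := PushCarrier w
  proj :=
    { pushProjRing w with
      commutes' := fun a => by
        change pushProjRing w (pushMk w (TrivSqZeroExt.inl (algebraMap A R a))) = _
        rw [pushProjRing_mk, TrivSqZeroExt.fst_inl, ← IsScalarTower.algebraMap_apply] }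
  incl := (pushMk w : TrivSqZeroExt R M →+ PushCarrier w).comp
    (TrivSqZeroExt.inrHom R M).toAddMonoidHom
  isExtension :=
    { proj_surjective := fun c => by
        obtain ⟨b, rfl⟩ := hsurj c
        exact ⟨pushMk w (TrivSqZeroExt.inl b), rfl⟩
      incl_injective := by
        rw [injective_iff_map_eq_zero]
        intro m hm
        change pushMk w (TrivSqZeroExt.inr m) = 0 at hm
        rw [pushMk_eq_zero_iff] at hm
        obtain ⟨j, hj⟩ := hm
        have h1 := congrArg TrivSqZeroExt.fst hj
        have h2 := congrArg TrivSqZeroExt.snd hj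
        simp only [pushGen, TrivSqZeroExt.fst_sub, TrivSqZeroExt.fst_inl, TrivSqZeroExt.fst_inr,
          sub_zero] at h1
        simp only [pushGen, TrivSqZeroExt.snd_sub, TrivSqZeroExt.snd_inl, TrivSqZeroExt.snd_inr,
          zero_sub] at h2
        have hj0 : j = 0 := Subtype.ext h1
        rw [hj0, map_zero, neg_zero] at h2
        exact h2.symm
      exact := fun x => by
        obtain ⟨x, rfl⟩ := pushMk_surjective w x
        change pushProjRing w (pushMk w x) = 0 ↔ _
        rw [pushProjRing_mk]
        constructor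
        · intro hx
          have hx' : x.fst ∈ kerI R B := hx
          refine ⟨x.snd + w ⟨x.fst, hx'⟩, ?_⟩
          change pushMk w (TrivSqZeroExt.inr _) = pushMk w x
          rw [← sub_eq_zero, ← map_sub, pushMk_eq_zero_iff]
          refine ⟨-⟨x.fst, hx'⟩, ?_⟩
          apply TrivSqZeroExt.ext
          · simp [pushGen]
          · simp [pushGen]
        · rintro ⟨m, hm⟩
          change pushMk w (TrivSqZeroExt.inr m) = pushMk w x at hm
          rw [← sub_eq_zero, ← map_sub, pushMk_eq_zero_iff] at hm
          obtain ⟨j, hj⟩ := hm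
          have h1 := congrArg TrivSqZeroExt.fst hj
          simp only [pushGen, TrivSqZeroExt.fst_sub, TrivSqZeroExt.fst_inl, TrivSqZeroExt.fst_inr,
            sub_zero, zero_sub] at h1
          have : x.fst = -(j : R) := by rw [h1, neg_neg]
          rw [this, map_neg, neg_eq_zero]
          exact j.2
      mul_incl := fun x z => by
        obtain ⟨x, rfl⟩ := pushMk_surjective w x
        change pushMk w x * pushMk w (TrivSqZeroExt.inr z) =
          pushMk w (TrivSqZeroExt.inr (pushProjRing w (pushMk w x) • z))
        rw [pushProjRing_mk, algebraMap_smul, ← map_mul]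
        congr 1
        apply TrivSqZeroExt.ext
        · simp
        · simp }

lemma pushExt_incl (m : M) : (pushExt w hsurj (A := A)).incl m = pushMk w (TrivSqZeroExt.inr m) :=
  rfl

lemma pushExt_proj_mk (x : TrivSqZeroExt R M) :
    (pushExt w hsurj (A := A)).proj (pushMk w x) = algebraMap R B x.fst := rfl

/-- In `E_w`, the image of `j ∈ I` is `incl (w j)`. -/
lemma pushOfR_mem (j : kerI R B) :
    pushOfR w (j : R) = pushMk w (TrivSqZeroExt.inr (w j)) := by
  rw [pushOfR_apply, ← sub_eq_zero, ← map_sub, pushMk_eq_zero_iff]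
  exact ⟨j, rfl⟩

end

end Groth.Agent.Lib.helper19.ExalT1
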