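import Mathlib
import Groth.Prelude.Def_Exal
import Groth.Agent.Lib.helper9.ExalLib
import Groth.Agent.Lib.helper19.ExalT1a

/-! Every `A`-extension of `B = R/I` with a lift `R → E` is a push-out extension. -/

set_option autoImplicit false
set_option linter.unusedSectionVars false
universe u v

namespace Groth.Agent.Lib.helper19.ExalT1

attribute [local instance] Exal.opModule Exal.isCentralScalar_opModule

open Exal Groth.Agent.Lib.helper9.ExalLib

noncomputable section

variable {A : Type u} {R B M : Type v} [CommRing A] [CommRing R] [CommRing B]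
  [Algebra A R] [Algebra R B] [Algebra A B] [IsScalarTower A R B]
  [AddCommGroup M] [Module B M] [Module R M] [IsScalarTower R B M]

section Lift

variable (X : Ext A B M) (u : R →ₐ[A] X.E) (hu : ∀ r, X.proj (u r) = algebraMap R B r)

include hu

lemma proj_u_mem (j : kerI R B) : X.proj (u (j : R)) = 0 := by
  rw [hu]; exact j.2

lemma u_mul_incl (r : R) (m : M) : u r * X.incl m = X.incl (r • m) := by
  rw [X.isExtension.mul_incl, hu, algebraMap_smul]

/-- The `R`-linear map `I → M` attached to a lift `u : R → E`. -/
def wOf : kerI R B →ₗ[R] M where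
  toFun j := X.kerLift (u (j : R)) (proj_u_mem X u hu j)
  map_add' j j' := by
    apply X.isExtension.incl_injective
    rw [map_add, Ext.incl_kerLift, Ext.incl_kerLift, Ext.incl_kerLift, Submodule.coe_add, map_add]
  map_smul' r j := by
    apply X.isExtension.incl_injective
    rw [RingHom.id_apply, Ext.incl_kerLift, ← u_mul_incl X u hu, Ext.incl_kerLift,
      Submodule.coe_smul, smul_eq_mul, map_mul]

lemma incl_wOf (j : kerI R B) : X.incl (wOf X u hu j) = u (j : R) :=
  Ext.incl_kerLift X (u (j : R)) (proj_u_mem X u hu j)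

/-- The ring hom `R ⊕ M → E`, `(r, m) ↦ u r + incl m`. -/
def fromTriv : TrivSqZeroExt R M →+* X.E where
  toFun x := u x.fst + X.incl x.snd
  map_one' := by simp
  map_mul' x y := by
    simp only [TrivSqZeroExt.fst_mul, TrivSqZeroExt.snd_mul, op_smul_eq_smul, map_mul, map_add]
    rw [← u_mul_incl X u hu, ← u_mul_incl X u hu]
    have h3 := incl_mul_incl X x.snd y.snd
    linear_combination (-1 : X.E) * h3
  map_zero' := by simp
  map_add' x y := by
    simp only [TrivSqZeroExt.fst_add, TrivSqZeroExt.snd_add, map_add]
    abel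

lemma fromTriv_apply (x : TrivSqZeroExt R M) : fromTriv X u hu x = u x.fst + X.incl x.snd := rfl

variable (hsurj : Function.Surjective (algebraMap R B))

/-- Every extension with a lift is equivalent to the push-out along `wOf`. -/
def pushEquiv : (pushExt (A := A) (wOf X u hu) hsurj).Equiv X := by
  let w := wOf X u hu
  let φ0 : PushCarrier w →+* X.E :=
    Ideal.Quotient.lift (pushIdeal w) (fromTriv X u hu) (by
      rintro _ ⟨j, rfl⟩
      rw [fromTriv_apply]
      simp only [pushGen, TrivSqZeroExt.fst_sub, TrivSqZeroExt.fst_inl, TrivSqZeroExt.fst_inr,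
        sub_zero, TrivSqZeroExt.snd_sub, TrivSqZeroExt.snd_inl, TrivSqZeroExt.snd_inr, zero_sub,
        map_neg]
      rw [incl_wOf, add_neg_cancel])
  have hφ0 : ∀ x, φ0 (pushMk w x) = fromTriv X u hu x := fun x => rfl
  let φ : (pushExt (A := A) w hsurj).E →ₐ[A] X.E :=
    { φ0 with
      commutes' := fun a => by
        change φ0 (pushMk w (TrivSqZeroExt.inl (algebraMap A R a))) = _
        rw [hφ0, fromTriv_apply]
        simp }
  refine equivOfAlgHom _ _ φ ?_ ?_
  · intro x
    obtain ⟨x, rfl⟩ := pushMk_surjective w x
    change X.proj (φ0 (pushMk w x)) = pushProjRing w (pushMk w x)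
    rw [hφ0, fromTriv_apply, pushProjRing_mk, map_add, proj_incl, add_zero, hu]
  · intro z
    change φ0 (pushMk w (TrivSqZeroExt.inr z)) = X.incl z
    rw [hφ0, fromTriv_apply]
    simp

end Lift

end

end Groth.Agent.Lib.helper19.ExalT1
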