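import Mathlib
import Groth.Prelude.Def_Exal
import Groth.Agent.Lib.helper9.ExalLib
import Groth.Agent.Lib.helper19.ExalT1b

/-! Two push-out extensions are equivalent iff the maps differ by a derivation. -/

set_option autoImplicit false
set_option linter.unusedSectionVars false
universe u v

namespace Groth.Agent.Lib.helper19.ExalT1

attribute [local instance] Exal.opModule Exal.isCentralScalar_opModule

open Exal Groth.Agent.Lib.helper9.ExalLib

noncomputable section

variable (A : Type u) {R B M : Type v} [CommRing A] [CommRing R] [CommRing B]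
  [Algebra A R] [Algebra R B] [Algebra A B] [IsScalarTower A R B]
  [AddCommGroup M] [Module B M] [Module R M] [IsScalarTower R B M]

variable (w w' : kerI R B →ₗ[R] M) (hsurj : Function.Surjective (algebraMap R B))

/-- the structure map `R → E_w` with codomain the middle ring of the extension. -/
def ofR : R →+* (pushExt (A := A) w hsurj).E := pushOfR w

lemma ofR_mem (j : kerI R B) : ofR A w hsurj (j : R) = (pushExt (A := A) w hsurj).incl (w j) :=
  pushOfR_mem w j

lemma proj_ofR (r : R) : (pushExt (A := A) w hsurj).proj (ofR A w hsurj r) = algebraMap R B r :=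
  rfl

lemma algebraMap_E (a : A) :
    algebraMap A (pushExt (A := A) w hsurj).E a = ofR A w hsurj (algebraMap A R a) := rfl

lemma ofR_mul_incl (r : R) (m : M) :
    ofR A w hsurj r * (pushExt (A := A) w hsurj).incl m =
      (pushExt (A := A) w hsurj).incl (r • m) := by
  rw [(pushExt (A := A) w hsurj).isExtension.mul_incl, proj_ofR, algebraMap_smul]

section OfDer

variable (D : R →+ M) (hD : ∀ r s, D (r * s) = r • D s + s • D r)
  (hDA : ∀ a : A, D (algebraMap A R a) = 0)

include hD in
lemma D_one : D 1 = 0 := by
  have := hD 1 1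
  rw [mul_one, one_smul] at this
  exact left_eq_add.mp this

/-- The lift `r ↦ [r] + incl (D r)` of `R → B` to `E_{w'}`. -/
def liftOfDer : R →ₐ[A] (pushExt (A := A) w' hsurj).E where
  toFun r := ofR A w' hsurj r + (pushExt (A := A) w' hsurj).incl (D r)
  map_one' := by rw [map_one, D_one D hD, map_zero, add_zero]
  map_mul' r s := by
    rw [map_mul, hD, map_add, ← ofR_mul_incl A w' hsurj, ← ofR_mul_incl A w' hsurj]
    have h3 := incl_mul_incl (pushExt (A := A) w' hsurj) (D r) (D s)
    linear_combination (-1 : (pushExt (A := A) w' hsurj).E) * h3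
  map_zero' := by rw [map_zero, map_zero, map_zero, add_zero]
  map_add' r s := by rw [map_add, map_add, map_add]; abel
  commutes' a := by
    rw [hDA, map_zero, add_zero, algebraMap_E]

lemma liftOfDer_apply (r : R) : liftOfDer A w' hsurj D hD hDA r =
    ofR A w' hsurj r + (pushExt (A := A) w' hsurj).incl (D r) := rfl

lemma proj_liftOfDer (r : R) :
    (pushExt (A := A) w' hsurj).proj (liftOfDer A w' hsurj D hD hDA r) = algebraMap R B r := by
  rw [liftOfDer_apply, map_add, proj_incl, add_zero, proj_ofR]

include hD hDA in
theorem equiv_of_der (hw : ∀ j : kerI R B, w j = w' j + D j) :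
    Nonempty ((pushExt (A := A) w hsurj).Equiv (pushExt (A := A) w' hsurj)) := by
  have hwOf : wOf (pushExt (A := A) w' hsurj) (liftOfDer A w' hsurj D hD hDA)
      (proj_liftOfDer A w' hsurj D hD hDA) = w := by
    apply LinearMap.ext
    intro j
    apply (pushExt (A := A) w' hsurj).isExtension.incl_injective
    rw [incl_wOf, liftOfDer_apply, hw, map_add, ofR_mem]
  have e := pushEquiv (pushExt (A := A) w' hsurj) (liftOfDer A w' hsurj D hD hDA)
    (proj_liftOfDer A w' hsurj D hD hDA) hsurj
  rw [hwOf] at e
  exact ⟨e⟩

end OfDer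

section OfEquiv

variable (e : (pushExt (A := A) w hsurj).Equiv (pushExt (A := A) w' hsurj))

lemma proj_sub (r : R) : (pushExt (A := A) w' hsurj).proj
    (e.toAlgEquiv (ofR A w hsurj r) - ofR A w' hsurj r) = 0 := by
  rw [map_sub, e.proj_apply, proj_ofR, proj_ofR, sub_self]

/-- The derivation attached to an equivalence of push-out extensions. -/
def derOfEquiv : R →+ M where
  toFun r := (pushExt (A := A) w' hsurj).kerLift _ (proj_sub A w w' hsurj e r)
  map_zero' := by
    apply (pushExt (A := A) w' hsurj).isExtension.incl_injective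
    simp only [Ext.incl_kerLift, map_zero, sub_zero]
  map_add' r s := by
    apply (pushExt (A := A) w' hsurj).isExtension.incl_injective
    simp only [Ext.incl_kerLift, map_add]
    abel

lemma incl_derOfEquiv (r : R) :
    (pushExt (A := A) w' hsurj).incl (derOfEquiv A w w' hsurj e r) =
      e.toAlgEquiv (ofR A w hsurj r) - ofR A w' hsurj r :=
  Ext.incl_kerLift _ _ (proj_sub A w w' hsurj e r)

lemma derOfEquiv_mul (r s : R) : derOfEquiv A w w' hsurj e (r * s) =
    r • derOfEquiv A w w' hsurj e s + s • derOfEquiv A w w' hsurj e r := by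
  apply (pushExt (A := A) w' hsurj).isExtension.incl_injective
  rw [map_add, ← ofR_mul_incl A w' hsurj, ← ofR_mul_incl A w' hsurj, incl_derOfEquiv,
    incl_derOfEquiv, incl_derOfEquiv, map_mul, map_mul, map_mul]
  have h3 := incl_mul_incl (pushExt (A := A) w' hsurj) (derOfEquiv A w w' hsurj e r)
    (derOfEquiv A w w' hsurj e s)
  rw [incl_derOfEquiv, incl_derOfEquiv] at h3
  linear_combination h3

lemma derOfEquiv_algebraMap (a : A) : derOfEquiv A w w' hsurj e (algebraMap A R a) = 0 := by
  apply (pushExt (A := A) w' hsurj).isExtension.incl_injective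
  rw [incl_derOfEquiv, map_zero, sub_eq_zero, ← algebraMap_E, ← algebraMap_E]
  exact e.toAlgEquiv.commutes a

lemma derOfEquiv_mem (j : kerI R B) : w j = w' j + derOfEquiv A w w' hsurj e j := by
  apply (pushExt (A := A) w' hsurj).isExtension.incl_injective
  rw [map_add, incl_derOfEquiv, ofR_mem, ofR_mem, e.apply_incl]
  abel

end OfEquiv

end

end Groth.Agent.Lib.helper19.ExalT1
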