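import Mathlib
import Groth.Prelude.Def_Exal
import Groth.Prelude.Def_CotT
import Groth.Agent.Lib.helper9.ExalLib
import Groth.Agent.Lib.helper19.ExalT1c
import Groth.Agent.Lib.helper19.CotTSeq

/-! `Exalcom A B M ≃ T¹(B/A, M)`. -/

set_option autoImplicit false
set_option linter.unusedSectionVars false
universe u t
open scoped TensorProduct

namespace Groth.Agent.Lib.helper19.ExalT1

attribute [local instance] Exal.opModule Exal.isCentralScalar_opModule

open Exal Groth.Agent.Lib.helper9.ExalLib CotT

noncomputable section

variable {A B : Type u} [CommRing A] [CommRing B] [Algebra A B] {ι : Type u} {σ : Type t}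
variable (P : Algebra.Presentation A B ι σ)
variable (M : Type u) [AddCommGroup M] [Module B M]

/-- `M` as a module over the polynomial ring of the presentation (a type synonym). -/
def MR (_P : Algebra.Presentation A B ι σ) (M : Type u) : Type u := M

instance : AddCommGroup (MR P M) := inferInstanceAs (AddCommGroup M)
instance : Module B (MR P M) := inferInstanceAs (Module B M)
instance : Module P.toExtension.Ring (MR P M) :=
  Module.compHom M (algebraMap P.toExtension.Ring B)
instance : IsScalarTower P.toExtension.Ring B (MR P M) :=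
  IsScalarTower.of_compHom P.toExtension.Ring B M

lemma hsurjP : Function.Surjective (algebraMap P.toExtension.Ring B) :=
  P.toExtension.algebraMap_surjective

/-- the identity `M → MR`. -/
def toMR : M ≃ₗ[B] MR P M := LinearEquiv.refl B M

/-- `φ ↦ φ ∘ mk`, an `R`-linear map `I → M`. -/
def wHom (φ : P.toExtension.Cotangent →ₗ[B] M) :
    kerI P.toExtension.Ring B →ₗ[P.toExtension.Ring] MR P M where
  toFun x := toMR P M (φ (Algebra.Extension.Cotangent.mk x))
  map_add' x y := by rw [map_add, map_add, map_add]
  map_smul' r x := by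
    rw [map_smul, RingHom.id_apply, ← algebraMap_smul B r (Algebra.Extension.Cotangent.mk x),
      map_smul, map_smul, algebraMap_smul]

lemma wHom_apply (φ : P.toExtension.Cotangent →ₗ[B] M) (x : kerI P.toExtension.Ring B) :
    wHom P M φ x = toMR P M (φ (Algebra.Extension.Cotangent.mk x)) := rfl

variable {P M}

lemma w_eq_zero_of_mem_sq (w : kerI P.toExtension.Ring B →ₗ[P.toExtension.Ring] MR P M)
    (z : P.toExtension.Ring) (hz : z ∈ P.toExtension.ker ^ 2) :
    ∃ hz' : z ∈ kerI P.toExtension.Ring B, w ⟨z, hz'⟩ = 0 := by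
  rw [pow_two] at hz
  refine Submodule.mul_induction_on hz ?_ ?_
  · intro a ha b hb
    refine ⟨Ideal.mul_mem_left _ _ hb, ?_⟩
    have : (⟨a * b, Ideal.mul_mem_left _ _ hb⟩ : kerI P.toExtension.Ring B) = a • ⟨b, hb⟩ := rfl
    rw [this, map_smul]
    exact smul_eq_zero_of_mem_ker ha _
  · rintro x y ⟨hx, hx0⟩ ⟨hy, hy0⟩
    refine ⟨Ideal.add_mem _ hx hy, ?_⟩
    have : (⟨x + y, Ideal.add_mem _ hx hy⟩ : kerI P.toExtension.Ring B) = ⟨x, hx⟩ + ⟨y, hy⟩ := rfl
    rw [this, map_add, hx0, hy0, add_zero]

lemma w_eq_of_mk_eq (w : kerI P.toExtension.Ring B →ₗ[P.toExtension.Ring] MR P M)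
    (x y : P.toExtension.ker)
    (h : Algebra.Extension.Cotangent.mk x = Algebra.Extension.Cotangent.mk y) : w x = w y := by
  rw [Algebra.Extension.Cotangent.mk_eq_mk_iff_sub_mem] at h
  obtain ⟨hz', h0⟩ := w_eq_zero_of_mem_sq w _ h
  have : (⟨(x : P.toExtension.Ring) - y, hz'⟩ : kerI P.toExtension.Ring B) = x - y := rfl
  rw [this, map_sub, sub_eq_zero] at h0
  exact h0

/-- An `R`-linear map `I → M` as a `B`-linear map `I/I² → M`. -/
def cotLift (w : kerI P.toExtension.Ring B →ₗ[P.toExtension.Ring] MR P M) :
    P.toExtension.Cotangent →ₗ[B] M where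
  toFun c := (toMR P M).symm (w (Algebra.Extension.Cotangent.mk_surjective c).choose)
  map_add' c c' := by
    rw [← map_add, ← map_add]
    congr 1
    apply w_eq_of_mk_eq
    rw [map_add, (Algebra.Extension.Cotangent.mk_surjective c).choose_spec,
      (Algebra.Extension.Cotangent.mk_surjective c').choose_spec,
      (Algebra.Extension.Cotangent.mk_surjective (c + c')).choose_spec]
  map_smul' b c := by
    obtain ⟨r, rfl⟩ := P.toExtension.algebraMap_surjective b
    have hxc := (Algebra.Extension.Cotangent.mk_surjective c).choose_spec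
    have key : w (Algebra.Extension.Cotangent.mk_surjective
        (algebraMap P.toExtension.Ring B r • c)).choose =
        w (r • (Algebra.Extension.Cotangent.mk_surjective c).choose) := by
      apply w_eq_of_mk_eq
      rw [(Algebra.Extension.Cotangent.mk_surjective _).choose_spec, map_smul, hxc,
        algebraMap_smul]
    change (toMR P M).symm (w _) = algebraMap P.toExtension.Ring B r • (toMR P M).symm (w _)
    rw [key, map_smul, ← algebraMap_smul B r (w _), map_smul]

lemma cotLift_mk (w : kerI P.toExtension.Ring B →ₗ[P.toExtension.Ring] MR P M)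
    (x : P.toExtension.ker) :
    cotLift w (Algebra.Extension.Cotangent.mk x) = (toMR P M).symm (w x) := by
  change (toMR P M).symm (w _) = _
  congr 1
  apply w_eq_of_mk_eq
  exact (Algebra.Extension.Cotangent.mk_surjective _).choose_spec

lemma wHom_cotLift (w : kerI P.toExtension.Ring B →ₗ[P.toExtension.Ring] MR P M) :
    wHom P M (cotLift w) = w := by
  apply LinearMap.ext
  intro x
  rw [wHom_apply, cotLift_mk, LinearEquiv.apply_symm_apply]

end

end Groth.Agent.Lib.helper19.ExalT1
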