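import Mathlib
import Groth.Prelude.Def_Exal
import Groth.Prelude.Def_CotT
import Groth.Agent.Lib.helper9.ExalLib
import Groth.Agent.Lib.helper19.ExalT1d

/-! `Exalcom A B M ≃ T¹(B/A, M)`: surjectivity and the kernel. -/

set_option autoImplicit false
set_option linter.unusedSectionVars false
universe u t
open scoped TensorProduct

namespace Groth.Agent.Lib.helper19.ExalT1

attribute [local instance] Exal.opModule Exal.isCentralScalar_opModule

open Exal Groth.Agent.Lib.helper9.ExalLib CotT

noncomputable section

variable {A B : Type u} [CommRing A] [CommRing B] [Algebra A B] {ι : Type u} {σ : Type t}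
variable (P : Algebra.Presentation A B ι σ)
variable (M : Type u) [AddCommGroup M] [Module B M]

/-- The class of the push-out extension along `φ ∘ mk`. -/
def F (φ : P.toExtension.Cotangent →ₗ[B] M) : Exalcom A B (MR P M) :=
  (pushExt (A := A) (wHom P M φ) (hsurjP P)).cl

section Surj

variable (X : Ext A B (MR P M))

/-- a lift `R → E` of `R → B`. -/
def liftU : P.toExtension.Ring →ₐ[A] X.E :=
  (MvPolynomial.aeval (fun i => (X.isExtension.proj_surjective (P.val i)).choose) :
    MvPolynomial ι A →ₐ[A] X.E)

lemma proj_liftU (r : P.toExtension.Ring) :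
    X.proj (liftU P M X r) = algebraMap P.toExtension.Ring B r := by
  have h : (X.proj.comp (liftU P M X) : MvPolynomial ι A →ₐ[A] B) =
      (IsScalarTower.toAlgHom A P.toExtension.Ring B : MvPolynomial ι A →ₐ[A] B) := by
    refine MvPolynomial.algHom_ext (fun i => ?_)
    change X.proj (MvPolynomial.aeval _ (MvPolynomial.X i)) =
      algebraMap P.toExtension.Ring B (MvPolynomial.X i)
    rw [MvPolynomial.aeval_X, (X.isExtension.proj_surjective (P.val i)).choose_spec,
      algebraMap_toExtension, MvPolynomial.aeval_X]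
  exact AlgHom.congr_fun h r

lemma F_surjective : ∀ x : Exalcom A B (MR P M), ∃ φ, F P M φ = x := by
  intro x
  induction x using Quotient.inductionOn with
  | h X =>
    refine ⟨cotLift (wOf X (liftU P M X) (proj_liftU P M X)), ?_⟩
    unfold F
    rw [wHom_cotLift]
    exact Quotient.sound ⟨pushEquiv X (liftU P M X) (proj_liftU P M X) (hsurjP P)⟩

end Surj

section Ker

variable (φ φ' : P.toExtension.Cotangent →ₗ[B] M)

lemma F_eq_of_sub_mem (h : φ - φ' ∈ LinearMap.range
    (LinearMap.lcomp B M P.toExtension.cotangentComplex)) : F P M φ = F P M φ' := by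
  obtain ⟨ψ, hψ⟩ := h
  let ψ' : L0 P →ₗ[B] MR P M := (toMR P M).toLinearMap ∘ₗ ψ
  let D : P.toExtension.Ring →+ MR P M :=
    { toFun := fun r => ψ' ((1 : B) ⊗ₜ KaehlerDifferential.D A P.toExtension.Ring r)
      map_zero' := by rw [map_zero, TensorProduct.tmul_zero, map_zero]
      map_add' := fun r s => by rw [map_add, TensorProduct.tmul_add, map_add] }
  have hD : ∀ r s, D (r * s) = r • D s + s • D r := by
    intro r s
    change ψ' ((1 : B) ⊗ₜ KaehlerDifferential.D A P.toExtension.Ring (r * s)) =
      r • ψ' ((1 : B) ⊗ₜ KaehlerDifferential.D A P.toExtension.Ring s) +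
      s • ψ' ((1 : B) ⊗ₜ KaehlerDifferential.D A P.toExtension.Ring r)
    rw [Derivation.leibniz, TensorProduct.tmul_add, TensorProduct.tmul_smul,
      TensorProduct.tmul_smul, map_add, LinearMap.map_smul_of_tower, LinearMap.map_smul_of_tower]
  have hDA : ∀ a : A, D (algebraMap A P.toExtension.Ring a) = 0 := by
    intro a
    change ψ' ((1 : B) ⊗ₜ KaehlerDifferential.D A P.toExtension.Ring (algebraMap A _ a)) = 0
    rw [Derivation.map_algebraMap, TensorProduct.tmul_zero, map_zero]
  have hw : ∀ j : kerI P.toExtension.Ring B, wHom P M φ j = wHom P M φ' j + D j := by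
    intro j
    change toMR P M (φ (Algebra.Extension.Cotangent.mk j)) =
      toMR P M (φ' (Algebra.Extension.Cotangent.mk j)) +
      toMR P M (ψ ((1 : B) ⊗ₜ KaehlerDifferential.D A P.toExtension.Ring j))
    rw [← map_add]
    congr 1
    have := LinearMap.congr_fun hψ (Algebra.Extension.Cotangent.mk j)
    rw [LinearMap.lcomp_apply, Algebra.Extension.cotangentComplex_mk, LinearMap.sub_apply] at this
    rw [this]
    abel
  exact Quotient.sound (equiv_of_der A (wHom P M φ) (wHom P M φ') (hsurjP P) D hD hDA hw)

instance : Module A (MR P M) := Module.compHom M (algebraMap A B)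
instance : IsScalarTower A B (MR P M) := IsScalarTower.of_compHom A B M
instance : IsScalarTower A P.toExtension.Ring (MR P M) := ⟨fun a r x => by
  change algebraMap P.toExtension.Ring B (a • r) • (x : M) =
    algebraMap A B a • (algebraMap P.toExtension.Ring B r • (x : M))
  rw [Algebra.smul_def, map_mul, ← IsScalarTower.algebraMap_apply, mul_smul]⟩

lemma sub_mem_of_F_eq (h : F P M φ = F P M φ') : φ - φ' ∈ LinearMap.range
    (LinearMap.lcomp B M P.toExtension.cotangentComplex) := by
  obtain ⟨e⟩ := Quotient.exact h
  let D := derOfEquiv A (wHom P M φ) (wHom P M φ') (hsurjP P) e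
  have hD := derOfEquiv_mul A (wHom P M φ) (wHom P M φ') (hsurjP P) e
  have hDA := derOfEquiv_algebraMap A (wHom P M φ) (wHom P M φ') (hsurjP P) e
  have hw := derOfEquiv_mem A (wHom P M φ) (wHom P M φ') (hsurjP P) e
  let D' : Derivation A P.toExtension.Ring (MR P M) :=
    { toFun := D
      map_add' := D.map_add
      map_smul' := fun a r => by
        rw [RingHom.id_apply, Algebra.smul_def, hD, hDA, smul_zero, add_zero, algebraMap_smul]
      map_one_eq_zero' := D_one D hD
      leibniz' := fun r s => hD r s }
  let ψ' : L0 P →ₗ[B] MR P M := LinearMap.liftBaseChange B D'.liftKaehlerDifferential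
  have hψ' : ∀ r, ψ' ((1 : B) ⊗ₜ KaehlerDifferential.D A P.toExtension.Ring r) = D r := by
    intro r
    change LinearMap.liftBaseChange B D'.liftKaehlerDifferential _ = _
    rw [LinearMap.liftBaseChange_tmul, one_smul, Derivation.liftKaehlerDifferential_comp_D]
    rfl
  refine ⟨(toMR P M).symm.toLinearMap ∘ₗ ψ', ?_⟩
  apply LinearMap.ext
  intro c
  obtain ⟨j, rfl⟩ := Algebra.Extension.Cotangent.mk_surjective c
  rw [LinearMap.lcomp_apply, Algebra.Extension.cotangentComplex_mk, LinearMap.sub_apply]
  change (toMR P M).symm (ψ' _) = _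
  rw [hψ']
  have := hw j
  rw [wHom_apply, wHom_apply] at this
  apply (toMR P M).injective
  rw [LinearEquiv.apply_symm_apply, map_sub, this]
  abel

end Ker

end

end Groth.Agent.Lib.helper19.ExalT1
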