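import Mathlib
import Groth.Prelude.Def_Exal
import Groth.Prelude.Def_CotT
import Groth.Agent.Lib.helper9.ExalLib
import Groth.Agent.Lib.helper19.ExalT1e

/-! `Exalcom A B M ≃ T¹(B/A, M)`: the bijection. -/

set_option autoImplicit false
set_option linter.unusedSectionVars false
universe u t
open scoped TensorProduct

namespace Groth.Agent.Lib.helper19.ExalT1

attribute [local instance] Exal.opModule Exal.isCentralScalar_opModule

open Exal Groth.Agent.Lib.helper9.ExalLib CotT

noncomputable section

variable {A B : Type u} [CommRing A] [CommRing B] [Algebra A B] {ι : Type u} {σ : Type t}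
variable (P : Algebra.Presentation A B ι σ)
variable (M : Type u) [AddCommGroup M] [Module B M]

lemma F_eq_iff (φ φ' : P.toExtension.Cotangent →ₗ[B] M) :
    F P M φ = F P M φ' ↔ homToT1 P M φ = homToT1 P M φ' := by
  have hk := (CotTSeq.main12289 P M).2.1
  constructor
  · intro h
    have := sub_mem_of_F_eq P M φ φ' h
    rw [← hk, LinearMap.mem_ker, map_sub, sub_eq_zero] at this
    exact this
  · intro h
    apply F_eq_of_sub_mem
    rw [← hk, LinearMap.mem_ker, map_sub, sub_eq_zero]
    exact h

/-- the lift `R → B ⊕ M` for the trivial extension. -/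
def trivU : P.toExtension.Ring →ₐ[A] (Ext.trivial A B (MR P M)).E :=
  { ((TrivSqZeroExt.inlHom B (MR P M)).comp (algebraMap P.toExtension.Ring B) :
      P.toExtension.Ring →+* Ext.TrivCarrier A B (MR P M)) with
    commutes' := fun a => by
      change (TrivSqZeroExt.inl (algebraMap P.toExtension.Ring B (algebraMap A _ a)) :
        TrivSqZeroExt B (MR P M)) = TrivSqZeroExt.inl (algebraMap A B a)
      rw [← IsScalarTower.algebraMap_apply] }

lemma proj_trivU (r : P.toExtension.Ring) :
    (Ext.trivial A B (MR P M)).proj (trivU P M r) = algebraMap P.toExtension.Ring B r := rfl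

lemma wOf_trivU : wOf (Ext.trivial A B (MR P M)) (trivU P M) (proj_trivU P M) = 0 := by
  apply LinearMap.ext
  intro j
  apply (Ext.trivial A B (MR P M)).isExtension.incl_injective
  rw [incl_wOf, LinearMap.zero_apply, map_zero]
  change (TrivSqZeroExt.inl (algebraMap P.toExtension.Ring B (j : P.toExtension.Ring)) :
    TrivSqZeroExt B (MR P M)) = 0
  have : algebraMap P.toExtension.Ring B (j : P.toExtension.Ring) = 0 := j.2
  rw [this, TrivSqZeroExt.inl_zero]

lemma wHom_zero : wHom P M 0 = 0 := by
  apply LinearMap.ext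
  intro j
  rw [wHom_apply, LinearMap.zero_apply, map_zero, LinearMap.zero_apply]

lemma F_zero : F P M 0 = 0 := by
  unfold F
  rw [wHom_zero]
  have e := pushEquiv (Ext.trivial A B (MR P M)) (trivU P M) (proj_trivU P M) (hsurjP P)
  rw [wOf_trivU] at e
  exact Quotient.sound ⟨e⟩

theorem exists_equiv : ∃ e : Exalcom A B (MR P M) ≃ T1 P M, e 0 = 0 := by
  have hs := (CotTSeq.main12289 P M).2.2
  let G : T1 P M → Exalcom A B (MR P M) := fun t => F P M (hs t).choose
  have hG : ∀ φ, G (homToT1 P M φ) = F P M φ := by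
    intro φ
    change F P M (hs (homToT1 P M φ)).choose = F P M φ
    rw [F_eq_iff]
    exact (hs (homToT1 P M φ)).choose_spec
  have hinj : Function.Injective G := by
    intro t t' h
    obtain ⟨φ, rfl⟩ := hs t
    obtain ⟨φ', rfl⟩ := hs t'
    rw [hG, hG, F_eq_iff] at h
    exact h
  have hsurj : Function.Surjective G := by
    intro x
    obtain ⟨φ, rfl⟩ := F_surjective P M x
    exact ⟨homToT1 P M φ, hG φ⟩
  refine ⟨(Equiv.ofBijective G ⟨hinj, hsurj⟩).symm, ?_⟩
  rw [Equiv.symm_apply_eq]
  change (0 : Exalcom A B (MR P M)) = G 0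
  have : G 0 = G (homToT1 P M 0) := by rw [map_zero]
  rw [this, hG, F_zero]

/-- The statement with the given module `M`. -/
theorem main12292 : ∃ e : Exal.Exalcom A B M ≃ CotT.T1 P M, e 0 = 0 :=
  exists_equiv P M

end

end Groth.Agent.Lib.helper19.ExalT1
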