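import Mathlib
import Groth.Prelude.Def_Exal
import Groth.Agent.Lib.helper9.ExalLib

/-! The middle ring of an extension of a Noetherian local ring by its residue field is a
Noetherian local ring; Krull intersection gives a power of the maximal ideal missing the kernel. -/

set_option autoImplicit false
universe u

namespace Groth.Agent.Lib.helper19.ExtLocal

open IsLocalRing Exal

variable {Λ : Type u} [CommRing Λ] {R : Type u} [CommRing R] [Algebra Λ R] [IsLocalRing R]
  (X : Exal.Ext Λ R (ResidueField R))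

lemma smul_one_eq (r : R) : r • (1 : ResidueField R) = residue R r := by
  rw [Algebra.smul_def, mul_one]
  rfl

lemma incl_eq_mul (z : ResidueField R) : ∃ x : X.E, X.incl z = x * X.incl 1 := by
  obtain ⟨r, rfl⟩ := residue_surjective z
  obtain ⟨x, rfl⟩ := X.isExtension.proj_surjective r
  exact ⟨x, by rw [X.isExtension.mul_incl, smul_one_eq]⟩

lemma proj_incl (z : ResidueField R) : X.proj (X.incl z) = 0 :=
  (X.isExtension.exact _).mpr ⟨z, rfl⟩

lemma ker_eq_span : RingHom.ker X.proj = Ideal.span {X.incl 1} := by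
  apply le_antisymm
  · intro x hx
    obtain ⟨z, rfl⟩ := (X.isExtension.exact x).mp ((RingHom.mem_ker).mp hx)
    obtain ⟨y, hy⟩ := incl_eq_mul X z
    rw [hy]
    exact Ideal.mul_mem_left _ _ (Ideal.mem_span_singleton_self _)
  · rw [Ideal.span_singleton_le_iff_mem, RingHom.mem_ker]
    exact proj_incl X 1

lemma incl_mul_incl (z z' : ResidueField R) : X.incl z * X.incl z' = 0 := by
  rw [X.isExtension.mul_incl, proj_incl, zero_smul, map_zero]

instance isLocalHom_proj : IsLocalHom X.proj.toRingHom where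
  map_nonunit a ha := by
    obtain ⟨r', hr'⟩ := ha.exists_right_inv
    obtain ⟨b, rfl⟩ := X.isExtension.proj_surjective r'
    have h0 : X.proj (a * b - 1) = 0 := by
      rw [map_sub, map_mul, map_one]
      exact sub_eq_zero.mpr hr'
    obtain ⟨z, hz⟩ := (X.isExtension.exact _).mp h0
    have hsq : X.incl z * X.incl z = 0 := incl_mul_incl X z z
    have hab : a * b = 1 + X.incl z := by rw [hz]; ring
    refine IsUnit.of_mul_eq_one (b * (1 - X.incl z)) ?_
    calc a * (b * (1 - X.incl z)) = (a * b) * (1 - X.incl z) := by ring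
      _ = (1 + X.incl z) * (1 - X.incl z) := by rw [hab]
      _ = 1 - X.incl z * X.incl z := by ring
      _ = 1 := by rw [hsq, sub_zero]

instance isLocalRing_E : IsLocalRing X.E :=
  haveI : Nontrivial X.E := by
    refine ⟨⟨0, 1, fun h => ?_⟩⟩
    have := congrArg X.proj h
    rw [map_zero, map_one] at this
    exact zero_ne_one this
  RingHom.domain_isLocalRing X.proj.toRingHom

lemma mem_maximalIdeal_iff (x : X.E) : x ∈ maximalIdeal X.E ↔ X.proj x ∈ maximalIdeal R := by
  rw [mem_maximalIdeal, mem_maximalIdeal, mem_nonunits_iff, mem_nonunits_iff, not_iff_not]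
  constructor
  · intro h
    exact h.map X.proj
  · intro h
    exact isUnit_of_map_unit X.proj.toRingHom x h

lemma mul_incl_eq_zero (x : X.E) (hx : x ∈ maximalIdeal X.E) (z : ResidueField R) :
    x * X.incl z = 0 := by
  rw [X.isExtension.mul_incl, Algebra.smul_def]
  have : algebraMap R (ResidueField R) (X.proj x) = 0 :=
    (residue_eq_zero_iff _).mpr ((mem_maximalIdeal_iff X x).mp hx)
  rw [this, zero_mul, map_zero]

lemma incl_mem_maximalIdeal (z : ResidueField R) : X.incl z ∈ maximalIdeal X.E := by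
  rw [mem_maximalIdeal_iff, proj_incl]
  exact Submodule.zero_mem _

lemma inf_ker (𝔞 : Ideal X.E) : 𝔞 ⊓ RingHom.ker X.proj = ⊥ ∨ RingHom.ker X.proj ≤ 𝔞 := by
  by_cases h : 𝔞 ⊓ RingHom.ker X.proj = ⊥
  · exact Or.inl h
  · right
    obtain ⟨x, hx, hx0⟩ := Submodule.exists_mem_ne_zero_of_ne_bot h
    obtain ⟨hxa, hxk⟩ := hx
    obtain ⟨z, rfl⟩ := (X.isExtension.exact x).mp ((RingHom.mem_ker).mp hxk)
    have hz : z ≠ 0 := by
      rintro rfl
      exact hx0 (map_zero _)
    obtain ⟨r', hr'⟩ := residue_surjective z⁻¹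
    obtain ⟨e', rfl⟩ := X.isExtension.proj_surjective r'
    have h1 : e' * X.incl z = X.incl 1 := by
      rw [X.isExtension.mul_incl, Algebra.smul_def]
      change X.incl (residue R (X.proj e') * z) = _
      rw [hr', inv_mul_cancel₀ hz]
    rw [ker_eq_span, Ideal.span_singleton_le_iff_mem, ← h1]
    exact Ideal.mul_mem_left _ _ hxa

lemma isNoetherianRing_E [IsNoetherianRing R] : IsNoetherianRing X.E := by
  rw [isNoetherianRing_iff_ideal_fg]
  intro 𝔞
  have hfg : (𝔞.map X.proj.toRingHom).FG := IsNoetherian.noetherian _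
  obtain ⟨S, hS⟩ := hfg
  have hlift : ∀ s ∈ S, ∃ e ∈ 𝔞, X.proj e = s := by
    intro s hs
    have : s ∈ 𝔞.map X.proj.toRingHom := by
      rw [← hS]
      exact Submodule.subset_span hs
    exact (Ideal.mem_map_iff_of_surjective X.proj.toRingHom X.isExtension.proj_surjective).mp this
  classical
  choose! ℓ hℓa hℓp using hlift
  have hdecomp : 𝔞 = Ideal.span (↑(S.image ℓ) : Set X.E) ⊔ (𝔞 ⊓ RingHom.ker X.proj) := by
    apply le_antisymm
    · intro x hx
      have hpx : X.proj x ∈ Ideal.span (↑S : Set R) := by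
        rw [hS]
        exact Ideal.mem_map_of_mem X.proj.toRingHom hx
      -- lift a combination
      have key : ∀ r ∈ Ideal.span (↑S : Set R),
          ∃ y ∈ Ideal.span (↑(S.image ℓ) : Set X.E), X.proj y = r := by
        intro r hr
        induction hr using Submodule.span_induction with
        | mem s hs =>
          refine ⟨ℓ s, Ideal.subset_span ?_, hℓp s hs⟩
          exact Finset.mem_coe.mpr (Finset.mem_image_of_mem ℓ hs)
        | zero => exact ⟨0, Submodule.zero_mem _, map_zero _⟩
        | add a b _ _ ha hb =>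
          obtain ⟨ya, hya, rfl⟩ := ha
          obtain ⟨yb, hyb, rfl⟩ := hb
          exact ⟨ya + yb, Submodule.add_mem _ hya hyb, map_add _ _ _⟩
        | smul c a _ ha =>
          obtain ⟨ya, hya, rfl⟩ := ha
          obtain ⟨ec, rfl⟩ := X.isExtension.proj_surjective c
          exact ⟨ec * ya, Ideal.mul_mem_left _ _ hya, by rw [map_mul, smul_eq_mul]⟩
      obtain ⟨y, hy, hyp⟩ := key _ hpx
      have hya : y ∈ 𝔞 := by
        have hle : Ideal.span (↑(S.image ℓ) : Set X.E) ≤ 𝔞 := by
          rw [Ideal.span_le]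
          intro e he
          obtain ⟨s, hs, rfl⟩ := Finset.mem_image.mp (Finset.mem_coe.mp he)
          exact hℓa s hs
        exact hle hy
      have : x = y + (x - y) := by ring
      rw [this]
      refine Submodule.add_mem_sup hy ⟨Submodule.sub_mem _ hx hya, ?_⟩
      change x - y ∈ RingHom.ker X.proj
      rw [RingHom.mem_ker, map_sub, hyp, sub_self]
    · refine sup_le ?_ inf_le_left
      rw [Ideal.span_le]
      intro e he
      obtain ⟨s, hs, rfl⟩ := Finset.mem_image.mp (Finset.mem_coe.mp he)
      exact hℓa s hs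
  rw [hdecomp]
  refine Submodule.FG.sup ⟨S.image ℓ, rfl⟩ ?_
  rcases inf_ker X 𝔞 with h | h
  · rw [h]
    exact Submodule.fg_bot
  · rw [inf_eq_right.mpr h, ker_eq_span]
    exact ⟨{X.incl 1}, by simp⟩

/-- Krull: some positive power of the maximal ideal misses the kernel. -/
lemma exists_pow_inf_ker_eq_bot [IsNoetherianRing R] :
    ∃ N : ℕ, 1 ≤ N ∧ maximalIdeal X.E ^ N ⊓ RingHom.ker X.proj = ⊥ := by
  haveI := isNoetherianRing_E X
  by_contra hcon
  push Not at hcon
  have hall : ∀ N : ℕ, RingHom.ker X.proj ≤ maximalIdeal X.E ^ N := by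
    intro N
    rcases Nat.eq_zero_or_pos N with rfl | hN
    · rw [pow_zero, Ideal.one_eq_top]; exact le_top
    · rcases inf_ker X (maximalIdeal X.E ^ N) with h | h
      · exact absurd h (hcon N hN)
      · exact h
  have hbot : RingHom.ker X.proj ≤ ⊥ := by
    rw [← Ideal.iInf_pow_eq_bot_of_isLocalRing (maximalIdeal X.E) Ideal.IsPrime.ne_top']
    exact le_iInf hall
  have h1 : X.incl 1 = 0 := by
    have : X.incl 1 ∈ RingHom.ker X.proj := (RingHom.mem_ker).mpr (proj_incl X 1)
    exact (Ideal.mem_bot).mp (hbot this)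
  have := X.isExtension.incl_injective (h1.trans (map_zero X.incl).symm)
  exact one_ne_zero this

end Groth.Agent.Lib.helper19.ExtLocal
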