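import Mathlib
import Groth.Prelude.Def_Exal
import Groth.Agent.Lib.helper9.ExalLib
import Groth.Agent.Lib.helper19.ExtLocal
import Groth.Agent.Lib.helper19.SmoothBase
import Groth.Agent.Lib.helper19.PSCRing
import Groth.Agent.Lib.helper19.ExalT1c

/-! Extensions of a quotient of a power series ring by a simple module. -/

set_option autoImplicit false
universe u

namespace Groth.Agent.Lib.helper19.PSExt

open IsLocalRing Exal MvPowerSeries Groth.Agent.Lib.helper19.ExtLocal

section Lift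

variable {Λ : Type u} [CommRing Λ] {R : Type u} [CommRing R] [Algebra Λ R] [IsLocalRing R]
  [IsNoetherianRing R] (X : Exal.Ext Λ R (ResidueField R)) {d : ℕ}

theorem lift_ps (π : MvPowerSeries (Fin d) Λ →ₐ[Λ] R)
    (hπ : ∀ i, π (MvPowerSeries.X i) ∈ maximalIdeal R) :
    ∃ u : MvPowerSeries (Fin d) Λ →ₐ[Λ] X.E, ∀ p, X.proj (u p) = π p := by
  haveI := isNoetherianRing_E X
  obtain ⟨N, -, hN⟩ := exists_pow_inf_ker_eq_bot X
  have hps := X.isExtension.proj_surjective
  choose e he using fun i => hps (π (MvPowerSeries.X i))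
  have hem : ∀ i, e i ∈ maximalIdeal X.E := fun i => by
    rw [ExtLocal.mem_maximalIdeal_iff, he]
    exact hπ i
  set mE := maximalIdeal X.E with hmE
  set mR := maximalIdeal R with hmR
  let mkB := Ideal.Quotient.mk (mE ^ N)
  let mkR := Ideal.Quotient.mk (mR ^ N)
  have hmapm : Ideal.map (X.proj : X.E →+* R) mE = mR := by
    apply le_antisymm
    · rw [Ideal.map_le_iff_le_comap]
      intro x hx
      exact (ExtLocal.mem_maximalIdeal_iff X x).mp hx
    · intro r hr
      obtain ⟨x, rfl⟩ := hps r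
      exact Ideal.mem_map_of_mem _ ((ExtLocal.mem_maximalIdeal_iff X x).mpr hr)
  have hmapN : Ideal.map (X.proj : X.E →+* R) (mE ^ N) = mR ^ N := by
    rw [Ideal.map_pow, hmapm]
  let b : Fin d → X.E ⧸ mE ^ N := fun i => mkB (e i)
  have hspan : Ideal.span (Set.range b) ^ N = ⊥ := by
    have h1 : Ideal.span (Set.range b) ≤ Ideal.map mkB mE := by
      rw [Ideal.span_le]
      rintro _ ⟨i, rfl⟩
      exact Ideal.mem_map_of_mem _ (hem i)
    have h2 := Ideal.pow_right_mono h1 N
    rw [← Ideal.map_pow, Ideal.map_quotient_self] at h2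
    exact le_bot_iff.mp h2
  obtain ⟨χ, hχC, hχX⟩ := SmoothBase.exists_ringHom_of_nilpotent
    (mkB.comp (algebraMap Λ X.E)) b N hspan
  let ρ : X.E ⧸ mE ^ N →+* R ⧸ mR ^ N :=
    Ideal.Quotient.lift (mE ^ N) (mkR.comp (X.proj : X.E →+* R)) (by
      intro a ha
      rw [RingHom.comp_apply, Ideal.Quotient.eq_zero_iff_mem, ← hmapN]
      exact Ideal.mem_map_of_mem _ ha)
  have hρ : ∀ x : X.E, ρ (mkB x) = mkR (X.proj x) := fun x => rfl
  have hJN : (Ideal.map mkR mR) ^ N = ⊥ := by
    rw [← Ideal.map_pow, Ideal.map_quotient_self]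
  have hCalg : ∀ r : Λ, (C r : MvPowerSeries (Fin d) Λ) = algebraMap Λ (MvPowerSeries (Fin d) Λ) r := by
    intro r
    rw [MvPowerSeries.algebraMap_apply, Algebra.algebraMap_self_apply]
  have hcmp : ρ.comp χ = mkR.comp (π : MvPowerSeries (Fin d) Λ →+* R) := by
    apply ps_ringHom_ext _ _ N
    · apply ps_ringHom_vanish _ (Ideal.map mkR mR) _ N hJN
      intro i
      rw [RingHom.comp_apply, hχX, hρ, he]
      exact Ideal.mem_map_of_mem _ (hπ i)
    · apply ps_ringHom_vanish _ (Ideal.map mkR mR) _ N hJN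
      intro i
      exact Ideal.mem_map_of_mem _ (hπ i)
    · intro r
      rw [RingHom.comp_apply, hχC, RingHom.comp_apply, hρ, RingHom.comp_apply, hCalg]
      change mkR (X.proj (algebraMap Λ X.E r)) = mkR (π (algebraMap Λ _ r))
      rw [AlgHom.commutes, AlgHom.commutes]
    · intro i
      rw [RingHom.comp_apply, hχX, hρ, he]
      rfl
  have key : ∀ p : MvPowerSeries (Fin d) Λ, ∃ x : X.E, X.proj x = π p ∧ mkB x = χ p := by
    intro p
    obtain ⟨x₀, hx₀⟩ := hps (π p)
    obtain ⟨y, hy⟩ := Ideal.Quotient.mk_surjective (χ p)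
    have h1 : mkR (X.proj y) = mkR (X.proj x₀) := by
      have := DFunLike.congr_fun hcmp p
      rw [RingHom.comp_apply, ← hy] at this
      rw [← hρ, hx₀]
      exact this
    have h2 : X.proj (y - x₀) ∈ mR ^ N := by
      rw [map_sub]
      exact Ideal.Quotient.eq.mp h1
    rw [← hmapN] at h2
    obtain ⟨f, hf, hfe⟩ := (Ideal.mem_map_iff_of_surjective (X.proj : X.E →+* R) hps).mp h2
    refine ⟨y - f, ?_, ?_⟩
    · have : X.proj f = X.proj (y - x₀) := hfe
      rw [map_sub, this, map_sub, hx₀]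
      ring
    · have hf0 : mkB f = 0 := Ideal.Quotient.eq_zero_iff_mem.mpr hf
      rw [map_sub, hf0, sub_zero]
      exact hy
  choose uf huf1 huf2 using key
  have uniq : ∀ x x' : X.E, X.proj x = X.proj x' → mkB x = mkB x' → x = x' := by
    intro x x' h1 h2
    have hmem : x - x' ∈ mE ^ N ⊓ RingHom.ker X.proj := by
      refine ⟨Ideal.Quotient.eq.mp h2, ?_⟩
      change x - x' ∈ RingHom.ker X.proj
      rw [RingHom.mem_ker, map_sub, h1, sub_self]
    rw [hN] at hmem
    exact sub_eq_zero.mp ((Ideal.mem_bot).mp hmem)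
  refine ⟨{ toFun := uf
            map_one' := uniq _ _ (by rw [huf1, map_one, map_one]) (by rw [huf2, map_one, map_one])
            map_mul' := fun p q => uniq _ _ (by rw [huf1, map_mul, map_mul, huf1, huf1])
              (by rw [huf2, map_mul, map_mul, huf2, huf2])
            map_zero' := uniq _ _ (by rw [huf1, map_zero, map_zero]) (by rw [huf2, map_zero, map_zero])
            map_add' := fun p q => uniq _ _ (by rw [huf1, map_add, map_add, huf1, huf1])
              (by rw [huf2, map_add, map_add, huf2, huf2])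
            commutes' := fun r => uniq _ _ (by rw [huf1, AlgHom.commutes, AlgHom.commutes])
              (by rw [huf2, ← hCalg, hχC]; rfl) }, huf1⟩

end Lift

section Transport

variable {Λ : Type u} [CommRing Λ] {R : Type u} [CommRing R] [Algebra Λ R]
  {L L' : Type u} [AddCommGroup L] [Module R L] [AddCommGroup L'] [Module R L']

/-- transport an extension along an isomorphism of kernels -/
def transport (e : L ≃ₗ[R] L') (X : Exal.Ext Λ R L) : Exal.Ext Λ R L' where
  E := X.E
  commRing := inferInstance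
  algebra := inferInstance
  proj := X.proj
  incl := X.incl.comp (e.symm : L' →ₗ[R] L).toAddMonoidHom
  isExtension :=
    { proj_surjective := X.isExtension.proj_surjective
      incl_injective := X.isExtension.incl_injective.comp e.symm.injective
      exact := fun x => by
        rw [X.isExtension.exact]
        constructor
        · rintro ⟨z, rfl⟩
          refine ⟨e z, ?_⟩
          change X.incl (e.symm (e z)) = X.incl z
          rw [e.symm_apply_apply]
        · rintro ⟨c, rfl⟩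
          exact ⟨e.symm c, rfl⟩
      mul_incl := fun x c => by
        change x * X.incl (e.symm c) = X.incl (e.symm (X.proj x • c))
        rw [X.isExtension.mul_incl, LinearEquiv.map_smul] }

end Transport

section Simple

variable {R : Type u} [CommRing R] [IsLocalRing R]
  (L : Type u) [AddCommGroup L] [Module R L] [IsSimpleModule R L]

theorem exists_equiv_residueField : Nonempty (L ≃ₗ[R] ResidueField R) := by
  obtain ⟨I, hI, ⟨e⟩⟩ := (isSimpleModule_iff_quot_maximal (R := R) (M := L)).mp inferInstance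
  have hIm : I = maximalIdeal R := IsLocalRing.eq_maximalIdeal hI
  subst hIm
  let e' : (R ⧸ maximalIdeal R) ≃ₗ[R] ResidueField R :=
    { toFun := fun x => x
      invFun := fun x => x
      left_inv := fun _ => rfl
      right_inv := fun _ => rfl
      map_add' := fun _ _ => rfl
      map_smul' := fun r c => by
        obtain ⟨x, rfl⟩ := Ideal.Quotient.mk_surjective c
        rfl }
  exact ⟨e.trans e'⟩

theorem smul_eq_zero_of_mem_maximalIdeal (r : R) (hr : r ∈ maximalIdeal R) (z : L) : r • z = 0 := by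
  obtain ⟨e⟩ := exists_equiv_residueField (R := R) L
  apply e.injective
  rw [map_smul, map_zero, Algebra.smul_def, IsLocalRing.ResidueField.algebraMap_eq,
    (residue_eq_zero_iff r).mpr hr, zero_mul]

end Simple

section Main

open Groth.Agent.Lib.helper19.ExalT1 Groth.Agent.Lib.helper9.ExalLib

variable {Λ : Type u} [CommRing Λ] [IsLocalRing Λ] [IsNoetherianRing Λ]
  (d : ℕ) (J : Ideal (MvPowerSeries (Fin d) Λ))
  (L : Type u) [AddCommGroup L] [Module (MvPowerSeries (Fin d) Λ ⧸ J) L]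
  [Module (MvPowerSeries (Fin d) Λ) L]
  [IsScalarTower (MvPowerSeries (Fin d) Λ) (MvPowerSeries (Fin d) Λ ⧸ J) L]
  [IsSimpleModule (MvPowerSeries (Fin d) Λ ⧸ J) L]

include L in
theorem nontrivial_quot : Nontrivial (MvPowerSeries (Fin d) Λ ⧸ J) := by
  by_contra h
  rw [not_nontrivial_iff_subsingleton] at h
  haveI := h
  haveI : Subsingleton L := Module.subsingleton (MvPowerSeries (Fin d) Λ ⧸ J) L
  haveI : Nontrivial L := IsSimpleModule.nontrivial (MvPowerSeries (Fin d) Λ ⧸ J) L
  exact not_subsingleton L inferInstance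

include L in
theorem isLocalRing_quot : IsLocalRing (MvPowerSeries (Fin d) Λ ⧸ J) := by
  haveI := nontrivial_quot d J L
  exact IsLocalRing.of_surjective' (Ideal.Quotient.mk J) Ideal.Quotient.mk_surjective

omit [IsNoetherianRing Λ] in
theorem X_mem_maximalIdeal (i : Fin d) :
    (MvPowerSeries.X i : MvPowerSeries (Fin d) Λ) ∈ maximalIdeal (MvPowerSeries (Fin d) Λ) := by
  rw [IsLocalRing.mem_maximalIdeal, mem_nonunits_iff, MvPowerSeries.isUnit_iff_constantCoeff,
    constantCoeff_X]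
  exact not_isUnit_zero

omit [IsNoetherianRing Λ] in
theorem span_X_le : Ideal.span (Set.range (MvPowerSeries.X : Fin d → MvPowerSeries (Fin d) Λ)) ≤
    maximalIdeal (MvPowerSeries (Fin d) Λ) := by
  rw [Ideal.span_le]
  rintro _ ⟨i, rfl⟩
  exact X_mem_maximalIdeal d i

include J in
theorem smul_eq_zero_of_mem_span_X (p : MvPowerSeries (Fin d) Λ)
    (hp : p ∈ Ideal.span (Set.range (MvPowerSeries.X : Fin d → MvPowerSeries (Fin d) Λ))) (z : L) :
    p • z = 0 := by
  haveI := isLocalRing_quot d J L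
  rw [← algebraMap_smul (MvPowerSeries (Fin d) Λ ⧸ J) p z]
  apply smul_eq_zero_of_mem_maximalIdeal L
  rw [← IsLocalRing.map_maximalIdeal_of_surjective (Ideal.Quotient.mk J)
    Ideal.Quotient.mk_surjective]
  exact Ideal.mem_map_of_mem _ (span_X_le d hp)

theorem part_a (X : Exal.Ext Λ (MvPowerSeries (Fin d) Λ ⧸ J) L) :
    ∃ u : MvPowerSeries (Fin d) Λ →ₐ[Λ] X.E, ∀ p, X.proj (u p) = Ideal.Quotient.mk J p := by
  haveI := isLocalRing_quot d J L
  obtain ⟨e⟩ := exists_equiv_residueField (R := MvPowerSeries (Fin d) Λ ⧸ J) L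
  obtain ⟨u, hu⟩ := lift_ps (transport e X) (Ideal.Quotient.mkₐ Λ J) (fun i => by
    rw [← IsLocalRing.map_maximalIdeal_of_surjective (Ideal.Quotient.mk J)
      Ideal.Quotient.mk_surjective]
    exact Ideal.mem_map_of_mem _ (X_mem_maximalIdeal d i))
  exact ⟨u, hu⟩

theorem part_b_mp (hJ : J ≤ Ideal.span (Set.range (MvPowerSeries.X : Fin d → MvPowerSeries (Fin d) Λ)) ^ 2)
    (X X' : Exal.Ext Λ (MvPowerSeries (Fin d) Λ ⧸ J) L)
    (u : MvPowerSeries (Fin d) Λ →ₐ[Λ] X.E) (u' : MvPowerSeries (Fin d) Λ →ₐ[Λ] X'.E)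
    (hu : ∀ p, X.proj (u p) = Ideal.Quotient.mk J p)
    (hu' : ∀ p, X'.proj (u' p) = Ideal.Quotient.mk J p) (eq : X.Equiv X') :
    ∀ j ∈ J, ∃ z : L, X.incl z = u j ∧ X'.incl z = u' j := by
  -- the difference of the two lifts
  let δ : MvPowerSeries (Fin d) Λ → X'.E := fun p => eq.toAlgEquiv (u p) - u' p
  have hδ_add : ∀ p q, δ (p + q) = δ p + δ q := by
    intro p q
    change eq.toAlgEquiv (u (p + q)) - u' (p + q) = _
    rw [map_add, map_add, map_add]
    change _ = (eq.toAlgEquiv (u p) - u' p) + (eq.toAlgEquiv (u q) - u' q)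
    ring
  have hδ_zero : δ 0 = 0 := by
    change eq.toAlgEquiv (u 0) - u' 0 = 0
    rw [map_zero, map_zero, map_zero, sub_zero]
  have hδ_proj : ∀ p, X'.proj (δ p) = 0 := by
    intro p
    change X'.proj (eq.toAlgEquiv (u p) - u' p) = 0
    rw [map_sub, eq.proj_apply, hu, hu', sub_self]
  have hδ_mul : ∀ p q, δ (p * q) = eq.toAlgEquiv (u p) * δ q + δ p * u' q := by
    intro p q
    change eq.toAlgEquiv (u (p * q)) - u' (p * q) =
      eq.toAlgEquiv (u p) * (eq.toAlgEquiv (u q) - u' q) + (eq.toAlgEquiv (u p) - u' p) * u' q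
    rw [map_mul, map_mul, map_mul]
    ring
  have hkill : ∀ (x : X'.E) (p : MvPowerSeries (Fin d) Λ),
      p ∈ Ideal.span (Set.range (MvPowerSeries.X : Fin d → MvPowerSeries (Fin d) Λ)) →
      X'.proj x = Ideal.Quotient.mk J p → ∀ y, X'.proj y = 0 → x * y = 0 := by
    intro x p hp hx y hy
    obtain ⟨z, rfl⟩ := exists_incl_eq X' y hy
    rw [X'.isExtension.mul_incl, hx]
    have : (Ideal.Quotient.mk J p) • z = p • z := algebraMap_smul _ p z
    rw [this, smul_eq_zero_of_mem_span_X d J L p hp, map_zero]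
  have hδ_sq : ∀ j ∈ Ideal.span (Set.range (MvPowerSeries.X : Fin d → MvPowerSeries (Fin d) Λ)) ^ 2,
      δ j = 0 := by
    intro j hj
    rw [pow_two] at hj
    refine Submodule.mul_induction_on hj ?_ ?_
    · intro a ha b hb
      rw [hδ_mul]
      have h1 : eq.toAlgEquiv (u a) * δ b = 0 :=
        hkill _ a ha (by rw [eq.proj_apply, hu]) _ (hδ_proj b)
      have h2 : δ a * u' b = 0 := by
        rw [mul_comm]
        exact hkill _ b hb (hu' b) _ (hδ_proj a)
      rw [h1, h2, add_zero]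
    · intro x y hx hy
      rw [hδ_add, hx, hy, add_zero]
  intro j hj
  have hpj : X.proj (u j) = 0 := by
    rw [hu]
    exact Ideal.Quotient.eq_zero_iff_mem.mpr hj
  obtain ⟨z, hz⟩ := exists_incl_eq X (u j) hpj
  refine ⟨z, hz, ?_⟩
  have h1 : δ j = 0 := hδ_sq j (hJ hj)
  have h2 : eq.toAlgEquiv (u j) = u' j := sub_eq_zero.mp h1
  rw [← h2, ← hz, eq.apply_incl]

theorem ker_eq : kerI (MvPowerSeries (Fin d) Λ) (MvPowerSeries (Fin d) Λ ⧸ J) = J :=
  Ideal.mk_ker

theorem part_b_mpr
    (X X' : Exal.Ext Λ (MvPowerSeries (Fin d) Λ ⧸ J) L)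
    (u : MvPowerSeries (Fin d) Λ →ₐ[Λ] X.E) (u' : MvPowerSeries (Fin d) Λ →ₐ[Λ] X'.E)
    (hu : ∀ p, X.proj (u p) = Ideal.Quotient.mk J p)
    (hu' : ∀ p, X'.proj (u' p) = Ideal.Quotient.mk J p)
    (h : ∀ j ∈ J, ∃ z : L, X.incl z = u j ∧ X'.incl z = u' j) : Nonempty (X.Equiv X') := by
  have hsurj : Function.Surjective (algebraMap (MvPowerSeries (Fin d) Λ) (MvPowerSeries (Fin d) Λ ⧸ J)) :=
    Ideal.Quotient.mk_surjective
  have hw : wOf X u hu = wOf X' u' hu' := by
    apply LinearMap.ext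
    intro j
    have hjJ : (j : MvPowerSeries (Fin d) Λ) ∈ J := (le_of_eq (ker_eq d J)) j.2
    obtain ⟨z, hz, hz'⟩ := h _ hjJ
    have h1 : wOf X u hu j = z := by
      apply X.isExtension.incl_injective
      rw [incl_wOf, hz]
    have h2 : wOf X' u' hu' j = z := by
      apply X'.isExtension.incl_injective
      rw [incl_wOf, hz']
    rw [h1, h2]
  have e₁ := pushEquiv X u hu hsurj
  have e₂ := pushEquiv X' u' hu' hsurj
  rw [hw] at e₁
  exact ⟨e₁.symm.trans e₂⟩

theorem part_c (δ : J →ₗ[MvPowerSeries (Fin d) Λ] L) :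
    ∃ (X : Exal.Ext Λ (MvPowerSeries (Fin d) Λ ⧸ J) L) (u : MvPowerSeries (Fin d) Λ →ₐ[Λ] X.E),
      (∀ p, X.proj (u p) = Ideal.Quotient.mk J p) ∧ ∀ j : J, X.incl (δ j) = u j := by
  have hsurj : Function.Surjective (algebraMap (MvPowerSeries (Fin d) Λ) (MvPowerSeries (Fin d) Λ ⧸ J)) :=
    Ideal.Quotient.mk_surjective
  let w : kerI (MvPowerSeries (Fin d) Λ) (MvPowerSeries (Fin d) Λ ⧸ J) →ₗ[MvPowerSeries (Fin d) Λ] L :=
    δ.comp (Submodule.inclusion (le_of_eq (ker_eq d J)))
  let u : MvPowerSeries (Fin d) Λ →ₐ[Λ] (pushExt (A := Λ) w hsurj).E :=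
    { toRingHom := ofR Λ w hsurj
      commutes' := fun a => (algebraMap_E Λ w hsurj a).symm }
  refine ⟨pushExt (A := Λ) w hsurj, u, fun p => rfl, ?_⟩
  intro j
  have hj : (j : MvPowerSeries (Fin d) Λ) ∈ kerI (MvPowerSeries (Fin d) Λ) (MvPowerSeries (Fin d) Λ ⧸ J) :=
    (le_of_eq (ker_eq d J).symm) j.2
  have := ofR_mem Λ w hsurj ⟨j, hj⟩
  change u (j : MvPowerSeries (Fin d) Λ) = _ at this
  rw [this]
  congr 1

end Main

end Groth.Agent.Lib.helper19.PSExt
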