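import Mathlib
import Groth.Prelude.Def_Exal
import Groth.Prelude.Def_Exal2
import Groth.Agent.Lib.helper9.ExalLib
import Groth.Agent.Lib.helper19.ExtLocal
import Groth.Agent.Lib.helper19.PSExt
import Groth.Agent.S0543

/-! Extensions of a Noetherian local ring `R` by a simple module versus extensions of a local
overring `S` in which `R` is dense with the induced topology (e.g. the completion) (S11283). -/

set_option autoImplicit false
universe u

namespace Groth.Agent.Lib.helper19.ExtCompl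

open IsLocalRing Exal Groth.Agent.Lib.helper9.ExalLib

section General

variable {Λ : Type u} [CommRing Λ] {B : Type u} [CommRing B] [Algebra Λ B] [IsLocalRing B]
  {L : Type u} [AddCommGroup L] [Module B L] [IsSimpleModule B L] (X : Exal.Ext Λ B L)

lemma isLocalRing_E : IsLocalRing X.E := by
  obtain ⟨e⟩ := PSExt.exists_equiv_residueField (R := B) L
  exact ExtLocal.isLocalRing_E (PSExt.transport e X)

instance : IsLocalRing X.E := isLocalRing_E X

lemma isNoetherianRing_E [IsNoetherianRing B] : IsNoetherianRing X.E := by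
  obtain ⟨e⟩ := PSExt.exists_equiv_residueField (R := B) L
  exact ExtLocal.isNoetherianRing_E (PSExt.transport e X)

lemma mem_maximalIdeal_iff (x : X.E) : x ∈ maximalIdeal X.E ↔ X.proj x ∈ maximalIdeal B := by
  obtain ⟨e⟩ := PSExt.exists_equiv_residueField (R := B) L
  exact ExtLocal.mem_maximalIdeal_iff (PSExt.transport e X) x

lemma map_proj_pow (N : ℕ) :
    Ideal.map X.proj (maximalIdeal X.E ^ N) = maximalIdeal B ^ N := by
  haveI : IsLocalHom X.proj.toRingHom := ⟨fun a ha => by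
    by_contra h
    have := (mem_maximalIdeal_iff X a).mp ((mem_maximalIdeal a).mpr h)
    exact ((mem_maximalIdeal _).mp this) ha⟩
  rw [Ideal.map_pow]
  congr 1
  exact map_maximalIdeal_of_surjective X.proj.toRingHom X.isExtension.proj_surjective

lemma proj_mem_pow (N : ℕ) (y : X.E) (hy : y ∈ maximalIdeal X.E ^ N) :
    X.proj y ∈ maximalIdeal B ^ N := by
  rw [← map_proj_pow X N]
  exact Ideal.mem_map_of_mem _ hy

lemma exists_mem_pow (N : ℕ) (b : B) (hb : b ∈ maximalIdeal B ^ N) :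
    ∃ y ∈ maximalIdeal X.E ^ N, X.proj y = b := by
  rw [← map_proj_pow X N] at hb
  exact (Ideal.mem_map_iff_of_surjective X.proj X.isExtension.proj_surjective).mp hb

lemma exists_pow [IsNoetherianRing B] :
    ∃ N : ℕ, 1 ≤ N ∧ ∀ N', N ≤ N' → ∀ z : L, X.incl z ∈ maximalIdeal X.E ^ N' → z = 0 := by
  obtain ⟨e⟩ := PSExt.exists_equiv_residueField (R := B) L
  obtain ⟨N, hN, h⟩ := ExtLocal.exists_pow_inf_ker_eq_bot (PSExt.transport e X)
  refine ⟨N, hN, fun N' hN' z hz => ?_⟩
  have h1 : X.incl z ∈ maximalIdeal X.E ^ N ⊓ RingHom.ker X.proj :=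
    ⟨Ideal.pow_le_pow_right hN' hz, (RingHom.mem_ker).mpr (proj_incl X z)⟩
  have h2 : X.incl z = 0 := by
    have h3 : maximalIdeal X.E ^ N ⊓ RingHom.ker X.proj = ⊥ := h
    rw [h3] at h1
    exact (Ideal.mem_bot).mp h1
  exact (incl_eq_zero_iff X z).mp h2

lemma smul_eq_zero_of_mem (b : B) (hb : b ∈ maximalIdeal B) (z : L) : b • z = 0 :=
  PSExt.smul_eq_zero_of_mem_maximalIdeal L b hb z

end General

section Dense

variable {Λ : Type u} [CommRing Λ] {R : Type u} [CommRing R] [Algebra Λ R] [IsLocalRing R]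
  [IsNoetherianRing R]
  {S : Type u} [CommRing S] [Algebra Λ S] [IsLocalRing S] [IsNoetherianRing S]
  [Algebra R S] [IsScalarTower Λ R S] [IsLocalHom (algebraMap R S)]
  (hD : ∀ (N : ℕ) (s : S), ∃ r : R, s - algebraMap R S r ∈ maximalIdeal S ^ N)
  (hC : ∀ (N : ℕ) (r : R), algebraMap R S r ∈ maximalIdeal S ^ N → r ∈ maximalIdeal R ^ N)
  {L : Type u} [AddCommGroup L] [Module S L] [Module R L] [IsScalarTower R S L]
  [IsSimpleModule R L]

lemma isSimpleModule_S (R : Type u) [CommRing R] (S : Type u) [CommRing S] [Algebra R S]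
    (L : Type u) [AddCommGroup L] [Module S L] [Module R L] [IsScalarTower R S L]
    [IsSimpleModule R L] : IsSimpleModule S L := by
  rw [isSimpleModule_iff]
  haveI : Nontrivial L := IsSimpleModule.nontrivial R L
  haveI : Nontrivial (Submodule S L) := inferInstance
  refine ⟨fun N => ?_⟩
  rcases eq_bot_or_eq_top (N.restrictScalars R) with h | h
  · left
    exact (Submodule.restrictScalars_eq_bot_iff R S L).mp h
  · right
    exact (Submodule.restrictScalars_eq_top_iff R S L).mp h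

omit [IsNoetherianRing R] [IsNoetherianRing S] in
lemma algebraMap_mem_pow (N : ℕ) (r : R) (hr : r ∈ maximalIdeal R ^ N) :
    algebraMap R S r ∈ maximalIdeal S ^ N := by
  have h1 : Ideal.map (algebraMap R S) (maximalIdeal R) ≤ maximalIdeal S :=
    ((IsLocalRing.local_hom_TFAE (algebraMap R S)).out 0 2).mp ‹_›
  have h2 : Ideal.map (algebraMap R S) (maximalIdeal R ^ N) ≤ maximalIdeal S ^ N := by
    rw [Ideal.map_pow]
    exact Ideal.pow_right_mono h1 N
  exact h2 (Ideal.mem_map_of_mem _ hr)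

section Part2

variable (Y : Exal.Ext Λ R L) (N : ℕ)

/-- the common target `S/𝔪^N`. -/
abbrev Q (S : Type u) [CommRing S] [IsLocalRing S] (N : ℕ) : Type u := S ⧸ maximalIdeal S ^ N

/-- `E/𝔪_E^N`. -/
abbrev F : Type u := Y.E ⧸ maximalIdeal Y.E ^ N

/-- `E/𝔪_E^N → S/𝔪_S^N`. -/
noncomputable def bmap : F Y N →ₐ[Λ] Q S N :=
  Ideal.Quotient.liftₐ (maximalIdeal Y.E ^ N)
    ((Ideal.Quotient.mkₐ Λ (maximalIdeal S ^ N)).comp
      ((IsScalarTower.toAlgHom Λ R S).comp Y.proj))
    (fun a ha => by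
      change Ideal.Quotient.mk (maximalIdeal S ^ N) (algebraMap R S (Y.proj a)) = 0
      rw [Ideal.Quotient.eq_zero_iff_mem]
      exact algebraMap_mem_pow N _ (proj_mem_pow Y N a ha))

omit [IsNoetherianRing R] [IsNoetherianRing S] in
lemma bmap_mk (e : Y.E) : bmap (S := S) Y N (Ideal.Quotient.mk _ e) =
    Ideal.Quotient.mk (maximalIdeal S ^ N) (algebraMap R S (Y.proj e)) := rfl

/-- the fibre product `S ×_{S/𝔪^N} E/𝔪_E^N`. -/
noncomputable def T : Subalgebra Λ (S × F Y N) :=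
  AlgHom.equalizer ((Ideal.Quotient.mkₐ Λ (maximalIdeal S ^ N)).comp (AlgHom.fst Λ S (F Y N)))
    ((bmap (S := S) Y N).comp (AlgHom.snd Λ S (F Y N)))

omit [IsNoetherianRing R] [IsNoetherianRing S] in
lemma mem_T (x : S × F Y N) : x ∈ T (S := S) Y N ↔
    Ideal.Quotient.mk (maximalIdeal S ^ N) x.1 = bmap (S := S) Y N x.2 := Iff.rfl

omit [IsNoetherianRing R] [IsNoetherianRing S] in
lemma mem_T_mk (s : S) (e : Y.E) : (s, Ideal.Quotient.mk (maximalIdeal Y.E ^ N) e) ∈ T (S := S) Y N ↔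
    s - algebraMap R S (Y.proj e) ∈ maximalIdeal S ^ N := by
  rw [mem_T, bmap_mk, Ideal.Quotient.eq]

variable (hN1 : 1 ≤ N) (hN : ∀ z : L, Y.incl z ∈ maximalIdeal Y.E ^ N → z = 0)

/-- inclusion of `L` in the fibre product. -/
noncomputable def cIncl : L →+ T (S := S) Y N where
  toFun z := ⟨(0, Ideal.Quotient.mk _ (Y.incl z)), by
    rw [mem_T_mk, proj_incl, map_zero, sub_zero]; exact zero_mem _⟩
  map_zero' := by
    apply Subtype.ext
    refine Prod.ext rfl ?_
    change Ideal.Quotient.mk _ (Y.incl 0) = 0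
    rw [map_zero, map_zero]
  map_add' z z' := by
    apply Subtype.ext
    refine Prod.ext (add_zero _).symm ?_
    change Ideal.Quotient.mk _ (Y.incl (z + z')) = Ideal.Quotient.mk _ (Y.incl z) +
      Ideal.Quotient.mk _ (Y.incl z')
    rw [map_add, map_add]

/-- projection of the fibre product to `S`. -/
noncomputable def cProj : T (S := S) Y N →ₐ[Λ] S := (AlgHom.fst Λ S (F Y N)).comp (T (S := S) Y N).val

include hD hC hN1 hN in
omit [IsNoetherianRing R] [IsNoetherianRing S] in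
theorem cIsExtension : Exal.IsExtension (cProj (S := S) Y N) (cIncl (S := S) Y N) where
  proj_surjective := fun s => by
    obtain ⟨r, hr⟩ := hD N s
    obtain ⟨e, he⟩ := Y.isExtension.proj_surjective r
    exact ⟨⟨(s, Ideal.Quotient.mk _ e), (mem_T_mk Y N s e).mpr (by rw [he]; exact hr)⟩, rfl⟩
  incl_injective := fun z z' h => by
    have h1 : Ideal.Quotient.mk (maximalIdeal Y.E ^ N) (Y.incl z) =
        Ideal.Quotient.mk (maximalIdeal Y.E ^ N) (Y.incl z') :=
      congrArg (fun x : T (S := S) Y N => (x : S × F Y N).2) h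
    rw [Ideal.Quotient.eq, ← map_sub] at h1
    exact sub_eq_zero.mp (hN _ h1)
  exact := fun x => by
    obtain ⟨⟨s, f⟩, hx⟩ := x
    obtain ⟨e, rfl⟩ := Ideal.Quotient.mk_surjective f
    rw [mem_T_mk] at hx
    constructor
    · intro hs
      change s = 0 at hs
      subst hs
      rw [zero_sub, neg_mem_iff] at hx
      have h1 := hC N _ hx
      obtain ⟨y, hy, hye⟩ := exists_mem_pow Y N _ h1
      obtain ⟨z, hz⟩ := exists_incl_eq Y (e - y) (by rw [map_sub, hye, sub_self])
      refine ⟨z, ?_⟩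
      apply Subtype.ext
      refine Prod.ext rfl ?_
      change Ideal.Quotient.mk _ (Y.incl z) = Ideal.Quotient.mk _ e
      rw [hz, Ideal.Quotient.eq, sub_sub_cancel_left, neg_mem_iff]
      exact hy
    · rintro ⟨z, hz⟩
      have := congrArg (fun x : T (S := S) Y N => (x : S × F Y N).1) hz
      exact this.symm
  mul_incl := fun x z => by
    obtain ⟨⟨s, f⟩, hx⟩ := x
    obtain ⟨e, rfl⟩ := Ideal.Quotient.mk_surjective f
    rw [mem_T_mk] at hx
    apply Subtype.ext
    refine Prod.ext ?_ ?_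
    · change s * 0 = 0
      exact mul_zero _
    · change Ideal.Quotient.mk _ e * Ideal.Quotient.mk _ (Y.incl z) =
        Ideal.Quotient.mk _ (Y.incl (s • z))
      rw [← map_mul, Y.isExtension.mul_incl]
      congr 2
      haveI := isSimpleModule_S R S L
      have h1 : (s - algebraMap R S (Y.proj e)) • z = 0 :=
        smul_eq_zero_of_mem (B := S) _ (Ideal.pow_le_self (by omega) hx) z
      rw [sub_smul, algebraMap_smul, sub_eq_zero] at h1
      exact h1.symm

/-- the extension of `S` by `L` built from an extension of `R` by `L`. -/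
noncomputable def cExt : Exal.Ext Λ S L where
  E := T (S := S) Y N
  proj := cProj Y N
  incl := cIncl Y N
  isExtension := cIsExtension hD hC Y N hN1 hN

/-- `E → S ×_{S/𝔪^N} E/𝔪^N`. -/
noncomputable def phi2 : Y.E →ₐ[Λ] T (S := S) Y N :=
  AlgHom.codRestrict (AlgHom.prod ((IsScalarTower.toAlgHom Λ R S).comp Y.proj)
    (Ideal.Quotient.mkₐ Λ (maximalIdeal Y.E ^ N))) (T (S := S) Y N)
    (fun e => (mem_T_mk Y N _ e).mpr (by
      change algebraMap R S (Y.proj e) - algebraMap R S (Y.proj e) ∈ _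
      rw [sub_self]; exact zero_mem _))

include hD hC hN1 hN in
omit [IsNoetherianRing R] [IsNoetherianRing S] in
theorem part2 : ∃ X : Exal.Ext Λ S L, Nonempty ((X.pullback R).Equiv Y) := by
  refine ⟨cExt hD hC Y N hN1 hN, ⟨Exal.Ext.Equiv.symm ?_⟩⟩
  let φ : Y.E →ₐ[Λ] ((cExt hD hC Y N hN1 hN).pullback R).E :=
    AlgHom.codRestrict (AlgHom.prod (phi2 (S := S) Y N) Y.proj)
      ((cExt hD hC Y N hN1 hN).fiberProd R) (fun e => rfl)
  refine equivOfAlgHom Y _ φ (fun e => rfl) (fun z => ?_)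
  apply Subtype.ext
  refine Prod.ext ?_ ?_
  · apply Subtype.ext
    refine Prod.ext ?_ rfl
    change algebraMap R S (Y.proj (Y.incl z)) = 0
    rw [proj_incl, map_zero]
  · change Y.proj (Y.incl z) = 0
    exact proj_incl Y z

end Part2

section Part1

variable [IsSimpleModule S L] (X : Exal.Ext Λ S L)

/-- first projection `E ×_S R → E`. -/
noncomputable def fstE : (X.pullback R).E →ₐ[Λ] X.E :=
  (AlgHom.fst Λ X.E R).comp (X.fiberProd R).val

omit [IsNoetherianRing R] [IsNoetherianRing S] [IsLocalRing R] [IsLocalRing S]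
  [IsLocalHom (algebraMap R S)] [IsSimpleModule R L] [IsSimpleModule S L] in
lemma proj_fstE (x₀ : (X.pullback R).E) :
    X.proj (fstE X x₀) = algebraMap R S ((X.pullback R).proj x₀) := x₀.2

omit [IsNoetherianRing R] [IsNoetherianRing S] [IsLocalRing R] [IsLocalRing S]
  [IsLocalHom (algebraMap R S)] [IsSimpleModule R L] [IsSimpleModule S L] in
lemma fstE_incl (z : L) : fstE X ((X.pullback R).incl z) = X.incl z := rfl

omit [IsNoetherianRing R] [IsNoetherianRing S] in
lemma fstE_mem_pow (N : ℕ) (x₀ : (X.pullback R).E) (h : x₀ ∈ maximalIdeal (X.pullback R).E ^ N) :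
    fstE X x₀ ∈ maximalIdeal X.E ^ N := by
  have h1 : Ideal.map (fstE X) (maximalIdeal (X.pullback R).E) ≤ maximalIdeal X.E := by
    rw [Ideal.map_le_iff_le_comap]
    intro x hx
    rw [Ideal.mem_comap, mem_maximalIdeal_iff, proj_fstE]
    have := (mem_maximalIdeal_iff (X.pullback R) x).mp hx
    have h2 := algebraMap_mem_pow (S := S) 1 ((X.pullback R).proj x) (by rw [pow_one]; exact this)
    rwa [pow_one] at h2
  have h2 : Ideal.map (fstE X) (maximalIdeal (X.pullback R).E ^ N) ≤ maximalIdeal X.E ^ N := by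
    rw [Ideal.map_pow]
    exact Ideal.pow_right_mono h1 N
  exact h2 (Ideal.mem_map_of_mem _ h)

include hC in
omit [IsNoetherianRing R] [IsNoetherianRing S] in
lemma mem_pow_of_fstE (N : ℕ) (hN : ∀ z : L, X.incl z ∈ maximalIdeal X.E ^ N → z = 0)
    (x₀ : (X.pullback R).E) (h : fstE X x₀ ∈ maximalIdeal X.E ^ N) :
    x₀ ∈ maximalIdeal (X.pullback R).E ^ N := by
  have h1 : algebraMap R S ((X.pullback R).proj x₀) ∈ maximalIdeal S ^ N := by
    rw [← proj_fstE]
    exact proj_mem_pow X N _ h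
  have h2 := hC N _ h1
  obtain ⟨y, hy, hyx⟩ := exists_mem_pow (X.pullback R) N _ h2
  obtain ⟨z, hz⟩ := exists_incl_eq (X.pullback R) (x₀ - y) (by rw [map_sub, hyx, sub_self])
  have h3 : X.incl z ∈ maximalIdeal X.E ^ N := by
    have h5 : X.incl z = fstE X ((X.pullback R).incl z) := rfl
    rw [h5, hz, map_sub]
    exact Ideal.sub_mem _ h (fstE_mem_pow X N y hy)
  have h4 := hN z h3
  rw [h4, map_zero] at hz
  have h6 : x₀ = y := sub_eq_zero.mp hz.symm
  rw [h6]
  exact hy

variable (X' : Exal.Ext Λ S L) (ε : (X.pullback R).Equiv (X'.pullback R))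

omit [IsNoetherianRing R] [IsNoetherianRing S] [IsLocalRing S] [IsLocalHom (algebraMap R S)]
  [IsSimpleModule S L] in
lemma eps_mem_pow (N : ℕ) (x₀ : (X.pullback R).E) (h : x₀ ∈ maximalIdeal (X.pullback R).E ^ N) :
    ε.toAlgEquiv x₀ ∈ maximalIdeal (X'.pullback R).E ^ N := by
  have h1 : Ideal.map (ε.toAlgEquiv : (X.pullback R).E →ₐ[Λ] (X'.pullback R).E)
      (maximalIdeal (X.pullback R).E) ≤ maximalIdeal (X'.pullback R).E := by
    rw [Ideal.map_le_iff_le_comap]
    intro x hx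
    rw [Ideal.mem_comap, mem_maximalIdeal_iff]
    change (X'.pullback R).proj (ε.toAlgEquiv x) ∈ _
    rw [ε.proj_apply]
    exact (mem_maximalIdeal_iff (X.pullback R) x).mp hx
  have h2 : Ideal.map (ε.toAlgEquiv : (X.pullback R).E →ₐ[Λ] (X'.pullback R).E)
      (maximalIdeal (X.pullback R).E ^ N) ≤ maximalIdeal (X'.pullback R).E ^ N := by
    rw [Ideal.map_pow]
    exact Ideal.pow_right_mono h1 N
  exact h2 (Ideal.mem_map_of_mem _ h)

/-- the relation defining the extension of `ε` to `E → E'`. -/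
def Rel (N : ℕ) (e : X.E) (e' : X'.E) : Prop :=
  X'.proj e' = X.proj e ∧ ∃ x₀ : (X.pullback R).E,
    e - fstE X x₀ ∈ maximalIdeal X.E ^ N ∧ e' - fstE X' (ε.toAlgEquiv x₀) ∈ maximalIdeal X'.E ^ N

variable (N : ℕ)
  (hNX : ∀ z : L, X.incl z ∈ maximalIdeal X.E ^ N → z = 0)
  (hNX' : ∀ z : L, X'.incl z ∈ maximalIdeal X'.E ^ N → z = 0)

include hC hNX hNX' in
omit [IsNoetherianRing R] [IsNoetherianRing S] in
lemma rel_unique (e : X.E) (e₁ e₂ : X'.E) (h1 : Rel X X' ε N e e₁) (h2 : Rel X X' ε N e e₂) :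
    e₁ = e₂ := by
  obtain ⟨hp1, x₁, ha1, hb1⟩ := h1
  obtain ⟨hp2, x₂, ha2, hb2⟩ := h2
  have h3 : fstE X (x₁ - x₂) ∈ maximalIdeal X.E ^ N := by
    have : fstE X (x₁ - x₂) = (e - fstE X x₂) - (e - fstE X x₁) := by rw [map_sub]; ring
    rw [this]; exact Ideal.sub_mem _ ha2 ha1
  have h4 := mem_pow_of_fstE hC X N hNX _ h3
  have h5 := eps_mem_pow X X' ε N _ h4
  have h6 := fstE_mem_pow X' N _ h5
  rw [map_sub, map_sub] at h6
  have h7 : e₁ - e₂ ∈ maximalIdeal X'.E ^ N := by
    have : e₁ - e₂ = (e₁ - fstE X' (ε.toAlgEquiv x₁)) - (e₂ - fstE X' (ε.toAlgEquiv x₂)) +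
        (fstE X' (ε.toAlgEquiv x₁) - fstE X' (ε.toAlgEquiv x₂)) := by ring
    rw [this]; exact Ideal.add_mem _ (Ideal.sub_mem _ hb1 hb2) h6
  obtain ⟨z, hz⟩ := exists_incl_eq X' (e₁ - e₂) (by rw [map_sub, hp1, hp2, sub_self])
  rw [← hz] at h7
  have := hNX' z h7
  rw [this, map_zero] at hz
  exact sub_eq_zero.mp hz.symm

include hD in
omit [IsNoetherianRing R] [IsNoetherianRing S] in
lemma rel_exists (e : X.E) : ∃ e', Rel X X' ε N e e' := by
  obtain ⟨r, hr⟩ := hD N (X.proj e)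
  obtain ⟨x₀, hx₀⟩ := (X.pullback R).isExtension.proj_surjective r
  have h1 : X.proj (e - fstE X x₀) ∈ maximalIdeal S ^ N := by
    rw [map_sub, proj_fstE, hx₀]; exact hr
  obtain ⟨y, hy, hye⟩ := exists_mem_pow X N _ h1
  obtain ⟨z, hz⟩ := exists_incl_eq X (e - fstE X x₀ - y) (by rw [map_sub, hye, sub_self])
  obtain ⟨x₁, hx₁def⟩ : ∃ x₁, x₁ = x₀ + (X.pullback R).incl z := ⟨_, rfl⟩
  have hx₁ : e - fstE X x₁ = y := by
    rw [hx₁def, map_add]
    have : fstE X ((X.pullback R).incl z) = X.incl z := rfl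
    rw [this, hz]; ring
  have hpx₁ : (X.pullback R).proj x₁ = r := by
    rw [hx₁def, map_add, hx₀, proj_incl, add_zero]
  obtain ⟨y', hy', hye'⟩ := exists_mem_pow X' N _ hr
  refine ⟨fstE X' (ε.toAlgEquiv x₁) + y', ?_, x₁, ?_, ?_⟩
  · rw [map_add, proj_fstE, hye']
    have : (X'.pullback R).proj (ε.toAlgEquiv x₁) = r := by rw [ε.proj_apply, hpx₁]
    rw [this]; ring
  · rw [hx₁]; exact hy
  · rw [add_sub_cancel_left]; exact hy'

omit [IsNoetherianRing R] [IsNoetherianRing S] in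
lemma rel_zero : Rel X X' ε N 0 0 :=
  ⟨by rw [map_zero, map_zero], 0, by rw [map_zero, sub_zero]; exact zero_mem _,
    by rw [map_zero, map_zero, sub_zero]; exact zero_mem _⟩

omit [IsNoetherianRing R] [IsNoetherianRing S] in
lemma rel_one : Rel X X' ε N 1 1 :=
  ⟨by rw [map_one, map_one], 1, by rw [map_one, sub_self]; exact zero_mem _,
    by rw [map_one, map_one, sub_self]; exact zero_mem _⟩

omit [IsNoetherianRing R] [IsNoetherianRing S] in
lemma rel_add {e₁ e₂ : X.E} {e₁' e₂' : X'.E} (h1 : Rel X X' ε N e₁ e₁') (h2 : Rel X X' ε N e₂ e₂') :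
    Rel X X' ε N (e₁ + e₂) (e₁' + e₂') := by
  obtain ⟨hp1, x₁, ha1, hb1⟩ := h1
  obtain ⟨hp2, x₂, ha2, hb2⟩ := h2
  refine ⟨by rw [map_add, map_add, hp1, hp2], x₁ + x₂, ?_, ?_⟩
  · have : e₁ + e₂ - fstE X (x₁ + x₂) = (e₁ - fstE X x₁) + (e₂ - fstE X x₂) := by
      rw [map_add]; ring
    rw [this]; exact Ideal.add_mem _ ha1 ha2
  · have : e₁' + e₂' - fstE X' (ε.toAlgEquiv (x₁ + x₂)) =
        (e₁' - fstE X' (ε.toAlgEquiv x₁)) + (e₂' - fstE X' (ε.toAlgEquiv x₂)) := by
      rw [map_add, map_add]; ring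
    rw [this]; exact Ideal.add_mem _ hb1 hb2

omit [IsNoetherianRing R] [IsNoetherianRing S] in
lemma rel_mul {e₁ e₂ : X.E} {e₁' e₂' : X'.E} (h1 : Rel X X' ε N e₁ e₁') (h2 : Rel X X' ε N e₂ e₂') :
    Rel X X' ε N (e₁ * e₂) (e₁' * e₂') := by
  obtain ⟨hp1, x₁, ha1, hb1⟩ := h1
  obtain ⟨hp2, x₂, ha2, hb2⟩ := h2
  refine ⟨by rw [map_mul, map_mul, hp1, hp2], x₁ * x₂, ?_, ?_⟩
  · have : e₁ * e₂ - fstE X (x₁ * x₂) = e₁ * (e₂ - fstE X x₂) + fstE X x₂ * (e₁ - fstE X x₁) := by
      rw [map_mul]; ring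
    rw [this]
    exact Ideal.add_mem _ (Ideal.mul_mem_left _ _ ha2) (Ideal.mul_mem_left _ _ ha1)
  · have : e₁' * e₂' - fstE X' (ε.toAlgEquiv (x₁ * x₂)) =
        e₁' * (e₂' - fstE X' (ε.toAlgEquiv x₂)) +
          fstE X' (ε.toAlgEquiv x₂) * (e₁' - fstE X' (ε.toAlgEquiv x₁)) := by
      rw [map_mul, map_mul]; ring
    rw [this]
    exact Ideal.add_mem _ (Ideal.mul_mem_left _ _ hb2) (Ideal.mul_mem_left _ _ hb1)

omit [IsNoetherianRing R] [IsNoetherianRing S] in
lemma rel_algebraMap (c : Λ) : Rel X X' ε N (algebraMap Λ X.E c) (algebraMap Λ X'.E c) :=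
  ⟨by rw [AlgHom.commutes, AlgHom.commutes], algebraMap Λ _ c,
    by rw [AlgHom.commutes, sub_self]; exact zero_mem _,
    by rw [AlgEquiv.commutes, AlgHom.commutes, sub_self]; exact zero_mem _⟩

omit [IsNoetherianRing R] [IsNoetherianRing S] in
lemma rel_incl (z : L) : Rel X X' ε N (X.incl z) (X'.incl z) := by
  refine ⟨by rw [proj_incl, proj_incl], (X.pullback R).incl z, ?_, ?_⟩
  · have : fstE X ((X.pullback R).incl z) = X.incl z := rfl
    rw [this, sub_self]; exact zero_mem _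
  · rw [ε.apply_incl]
    have : fstE X' ((X'.pullback R).incl z) = X'.incl z := rfl
    rw [this, sub_self]; exact zero_mem _

/-- the extension of `ε`. -/
noncomputable def psiFun (e : X.E) : X'.E := Classical.choose (rel_exists hD X X' ε N e)

omit [IsNoetherianRing R] [IsNoetherianRing S] in
lemma psiFun_spec (e : X.E) : Rel X X' ε N e (psiFun hD X X' ε N e) :=
  Classical.choose_spec (rel_exists hD X X' ε N e)

include hC hNX hNX' in
omit [IsNoetherianRing R] [IsNoetherianRing S] in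
lemma psiFun_eq (e : X.E) (e' : X'.E) (h : Rel X X' ε N e e') : psiFun hD X X' ε N e = e' :=
  rel_unique hC X X' ε N hNX hNX' e _ _ (psiFun_spec hD X X' ε N e) h

include hD hC hNX hNX' ε in
omit [IsNoetherianRing R] [IsNoetherianRing S] in
theorem part1 : Nonempty (X.Equiv X') := by
  let ψ : X.E →ₐ[Λ] X'.E :=
    { toFun := psiFun hD X X' ε N
      map_one' := psiFun_eq hD hC X X' ε N hNX hNX' _ _ (rel_one X X' ε N)
      map_mul' := fun a b => psiFun_eq hD hC X X' ε N hNX hNX' _ _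
        (rel_mul X X' ε N (psiFun_spec hD X X' ε N a) (psiFun_spec hD X X' ε N b))
      map_zero' := psiFun_eq hD hC X X' ε N hNX hNX' _ _ (rel_zero X X' ε N)
      map_add' := fun a b => psiFun_eq hD hC X X' ε N hNX hNX' _ _
        (rel_add X X' ε N (psiFun_spec hD X X' ε N a) (psiFun_spec hD X X' ε N b))
      commutes' := fun c => psiFun_eq hD hC X X' ε N hNX hNX' _ _ (rel_algebraMap X X' ε N c) }
  exact ⟨equivOfAlgHom X X' ψ (fun e => (psiFun_spec hD X X' ε N e).1)
    (fun z => psiFun_eq hD hC X X' ε N hNX hNX' _ _ (rel_incl X X' ε N z))⟩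

end Part1

include hD hC in
theorem main_abstract :
    (∀ X X' : Exal.Ext Λ S L,
        Nonempty ((X.pullback R).Equiv (X'.pullback R)) → Nonempty (X.Equiv X')) ∧
    (∀ Y : Exal.Ext Λ R L, ∃ X : Exal.Ext Λ S L, Nonempty ((X.pullback R).Equiv Y)) := by
  haveI := isSimpleModule_S R S L
  constructor
  · rintro X X' ⟨ε⟩
    obtain ⟨N₁, h1, hN₁⟩ := exists_pow X
    obtain ⟨N₂, h2, hN₂⟩ := exists_pow X'
    exact part1 hD hC X X' ε (max N₁ N₂) (hN₁ _ (le_max_left _ _)) (hN₂ _ (le_max_right _ _))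
  · intro Y
    obtain ⟨N, h1, hN⟩ := exists_pow Y
    exact part2 hD hC Y N h1 (hN N le_rfl)

end Dense

section Completion

variable {R : Type u} [CommRing R] [IsLocalRing R] [IsNoetherianRing R]

lemma mem_pow_iff (N : ℕ) (x : AdicCompletion (maximalIdeal R) R) :
    x ∈ maximalIdeal (AdicCompletion (maximalIdeal R) R) ^ N ↔
      AdicCompletion.eval (maximalIdeal R) R N x = 0 := by
  have : (AdicCompletion.eval (maximalIdeal R) R N).ker =
      (maximalIdeal R ^ N) • (⊤ : Submodule R (AdicCompletion (maximalIdeal R) R)) :=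
    (AdicCompletion.pow_smul_top_eq_ker_eval (maximalIdeal R).fg_of_isNoetherianRing).symm
  rw [AdicCompletion.maximalIdeal_eq_map, ← Ideal.map_pow, ← Submodule.restrictScalars_mem R,
    ← Ideal.smul_top_eq_map, ← this, LinearMap.mem_ker]

lemma dense (N : ℕ) (s : AdicCompletion (maximalIdeal R) R) :
    ∃ r : R, s - algebraMap R (AdicCompletion (maximalIdeal R) R) r ∈
      maximalIdeal (AdicCompletion (maximalIdeal R) R) ^ N := by
  obtain ⟨r, hr⟩ := Submodule.mkQ_surjective _ (AdicCompletion.eval (maximalIdeal R) R N s)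
  refine ⟨r, ?_⟩
  rw [mem_pow_iff, map_sub, AdicCompletion.algebraMap_apply, Algebra.algebraMap_self,
    RingHom.id_apply, AdicCompletion.eval_of, hr, sub_self]

lemma closed (N : ℕ) (r : R)
    (h : algebraMap R (AdicCompletion (maximalIdeal R) R) r ∈
      maximalIdeal (AdicCompletion (maximalIdeal R) R) ^ N) : r ∈ maximalIdeal R ^ N := by
  rw [mem_pow_iff, AdicCompletion.algebraMap_apply, Algebra.algebraMap_self,
    RingHom.id_apply, AdicCompletion.eval_of, Submodule.mkQ_apply,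
    Submodule.Quotient.mk_eq_zero] at h
  simpa using h

end Completion

end Groth.Agent.Lib.helper19.ExtCompl
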