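import Mathlib

/-! A flat algebra over a local ring whose closed fibre is formally smooth over the residue field `k`
lifts along surjections whose kernel has square zero and is killed by the maximal ideal. -/

set_option autoImplicit false
universe u

namespace Groth.Agent.Lib.helper19.FSLift

open IsLocalRing

section Sec

variable {k : Type u} [Field k] {A : Type u} [CommRing A] [Algebra k A] [IsLocalRing A]
  (hres : ∀ a : A, ∃ c : k, a - algebraMap k A c ∈ maximalIdeal A)
  {B : Type u} [CommRing B] [Algebra A B] [Algebra k B] [IsScalarTower k A B]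
  {E : Type u} [CommRing E] [Algebra A E]
  (p : E →ₐ[A] B) (hp : Function.Surjective p)
  (hK2 : ∀ x y : E, p x = 0 → p y = 0 → x * y = 0)
  (hmK : ∀ a ∈ maximalIdeal A, ∀ x : E, p x = 0 → a • x = 0)

include hp hmK in
/-- flatness: `mE ∩ K = 0`. -/
lemma inter_eq_zero [Module.Flat A B] (e : E)
    (he : e ∈ Ideal.map (algebraMap A E) (maximalIdeal A)) (hpe : p e = 0) : e = 0 := by
  unfold Ideal.map Ideal.span at he
  obtain ⟨t, ht, c, rfl⟩ := (Submodule.mem_span_image_iff_exists_fun E).mp he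
  have hrel : ∑ i : t, ((i : A)) • p (c i) = 0 := by
    rw [← hpe, map_sum]
    refine Finset.sum_congr rfl fun i _ => ?_
    rw [smul_eq_mul, map_mul, AlgHom.commutes, Algebra.smul_def, mul_comm]
  obtain ⟨l, a, y, hxy, hay⟩ := Module.Flat.isTrivialRelation_of_sum_smul_eq_zero
    (R := A) (M := B) (f := fun i : t => (i : A)) (x := fun i : t => p (c i)) hrel
  simp only at hxy hay
  choose y' hy' using fun j => hp (y j)
  have hn : ∀ i : t, p (c i - ∑ j, a i j • y' j) = 0 := by
    intro i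
    rw [map_sub, hxy i, map_sum, sub_eq_zero]
    refine Finset.sum_congr rfl fun j _ => ?_
    rw [map_smul, hy']
  have h1 : ∀ i : t, c i • algebraMap A E (i : A) =
      (i : A) • (c i - ∑ j, a i j • y' j) + ∑ j, ((i : A) * a i j) • y' j := by
    intro i
    rw [smul_sub, Finset.smul_sum, sub_add_eq_add_sub]
    simp only [mul_smul]
    rw [add_sub_cancel_right, smul_eq_mul, Algebra.smul_def, mul_comm]
  rw [Finset.sum_congr rfl fun i _ => h1 i, Finset.sum_add_distrib]
  have h2 : ∑ i : t, (i : A) • (c i - ∑ j, a i j • y' j) = 0 :=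
    Finset.sum_eq_zero fun i _ => hmK _ (ht i.2) _ (hn i)
  have h3 : ∑ i : t, ∑ j, ((i : A) * a i j) • y' j = 0 := by
    rw [Finset.sum_comm]
    refine Finset.sum_eq_zero fun j _ => ?_
    rw [← Finset.sum_smul, hay j, zero_smul]
  rw [h2, h3, add_zero]

include hres hp hK2 hmK in
theorem exists_section [Module.Flat A B]
    [hsm : Algebra.FormallySmooth k (B ⧸ Ideal.map (algebraMap A B) (maximalIdeal A))] :
    ∃ s : B →ₐ[A] E, ∀ b, p (s b) = b := by
  letI : Algebra k E := ((algebraMap A E).comp (algebraMap k A)).toAlgebra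
  haveI : IsScalarTower k A E := IsScalarTower.of_algebraMap_eq (fun _ => rfl)
  have hle : Ideal.map (algebraMap A E) (maximalIdeal A) ≤
      (Ideal.map (algebraMap A B) (maximalIdeal A)).comap (p.restrictScalars k) := by
    rw [Ideal.map_le_iff_le_comap]
    intro a ha
    rw [Ideal.mem_comap, Ideal.mem_comap]
    change p (algebraMap A E a) ∈ _
    rw [AlgHom.commutes]
    exact Ideal.mem_map_of_mem _ ha
  let p₀ : (E ⧸ Ideal.map (algebraMap A E) (maximalIdeal A)) →ₐ[k]
      (B ⧸ Ideal.map (algebraMap A B) (maximalIdeal A)) :=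
    Ideal.quotientMapₐ _ (p.restrictScalars k) hle
  have hp₀ : ∀ e : E, p₀ (Ideal.Quotient.mk _ e) = Ideal.Quotient.mk _ (p e) := fun e => rfl
  have hp₀surj : Function.Surjective p₀ := by
    intro y
    obtain ⟨b, rfl⟩ := Ideal.Quotient.mk_surjective y
    obtain ⟨e, rfl⟩ := hp b
    exact ⟨Ideal.Quotient.mk _ e, hp₀ e⟩
  have hmapmap : Ideal.map (algebraMap A B) (maximalIdeal A) =
      Ideal.map (p : E →+* B) (Ideal.map (algebraMap A E) (maximalIdeal A)) := by
    rw [Ideal.map_map]
    congr 1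
    ext a
    exact (AlgHom.commutes p a).symm
  have hker : ∀ x₀, p₀ x₀ = 0 → ∃ x : E, p x = 0 ∧ Ideal.Quotient.mk _ x = x₀ := by
    intro x₀ hx₀
    obtain ⟨e, rfl⟩ := Ideal.Quotient.mk_surjective x₀
    rw [hp₀, Ideal.Quotient.eq_zero_iff_mem, hmapmap] at hx₀
    obtain ⟨e', he', hpe'⟩ := (Ideal.mem_map_iff_of_surjective (p : E →+* B) hp).mp hx₀
    have hpe' : p e' = p e := hpe'
    refine ⟨e - e', by rw [map_sub, hpe', sub_self], ?_⟩
    rw [map_sub, Ideal.Quotient.eq_zero_iff_mem.mpr he', sub_zero]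
  have hnil : IsNilpotent (RingHom.ker (p₀ : (E ⧸ Ideal.map (algebraMap A E) (maximalIdeal A)) →+*
      (B ⧸ Ideal.map (algebraMap A B) (maximalIdeal A)))) := by
    refine ⟨2, ?_⟩
    rw [Ideal.zero_eq_bot, eq_bot_iff, pow_two, Ideal.mul_le]
    intro r hr s hs
    obtain ⟨x, hx, rfl⟩ := hker r hr
    obtain ⟨y, hy, rfl⟩ := hker s hs
    rw [← map_mul, hK2 x y hx hy, map_zero]
    exact Submodule.zero_mem _
  let s₀ := Algebra.FormallySmooth.liftOfSurjective
    (AlgHom.id k (B ⧸ Ideal.map (algebraMap A B) (maximalIdeal A))) p₀ hp₀surj hnil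
  have hs₀ : ∀ x, p₀ (s₀ x) = x := fun x =>
    Algebra.FormallySmooth.liftOfSurjective_apply _ p₀ hp₀surj hnil x
  have hex : ∀ b : B, ∃ e : E, p e = b ∧
      Ideal.Quotient.mk (Ideal.map (algebraMap A E) (maximalIdeal A)) e =
        s₀ (Ideal.Quotient.mk _ b) := by
    intro b
    obtain ⟨e', rfl⟩ := hp b
    have h0 : p₀ (s₀ (Ideal.Quotient.mk _ (p e')) - Ideal.Quotient.mk _ e') = 0 := by
      rw [map_sub, hs₀, hp₀, sub_self]
    obtain ⟨x, hx, hx'⟩ := hker _ h0
    refine ⟨e' + x, by rw [map_add, hx, add_zero], ?_⟩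
    rw [map_add, hx']
    ring
  have huniq : ∀ e₁ e₂ : E, p e₁ = p e₂ →
      Ideal.Quotient.mk (Ideal.map (algebraMap A E) (maximalIdeal A)) e₁ =
        Ideal.Quotient.mk _ e₂ → e₁ = e₂ := by
    intro e₁ e₂ h1 h2
    have := inter_eq_zero p hp hmK (e₁ - e₂) (Ideal.Quotient.eq.mp h2)
      (by rw [map_sub, h1, sub_self])
    exact sub_eq_zero.mp this
  choose sf hsf1 hsf2 using hex
  have hchar : ∀ (b : B) (e : E), p e = b →
      Ideal.Quotient.mk (Ideal.map (algebraMap A E) (maximalIdeal A)) e =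
        s₀ (Ideal.Quotient.mk _ b) → sf b = e := fun b e h1 h2 =>
    huniq _ _ ((hsf1 b).trans h1.symm) ((hsf2 b).trans h2.symm)
  refine ⟨{ toFun := sf
            map_one' := hchar 1 1 (map_one _) (by rw [map_one, map_one, map_one])
            map_mul' := fun b b' => hchar _ _ (by rw [map_mul, hsf1, hsf1])
              (by rw [map_mul, hsf2, hsf2, map_mul, map_mul])
            map_zero' := hchar 0 0 (map_zero _) (by rw [map_zero, map_zero, map_zero])
            map_add' := fun b b' => hchar _ _ (by rw [map_add, hsf1, hsf1])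
              (by rw [map_add, hsf2, hsf2, map_add, map_add])
            commutes' := fun a => hchar _ _ (AlgHom.commutes p a) ?_ }, hsf1⟩
  obtain ⟨c, hc⟩ := hres a
  have h1 : Ideal.Quotient.mk (Ideal.map (algebraMap A E) (maximalIdeal A)) (algebraMap A E a) =
      algebraMap k (E ⧸ Ideal.map (algebraMap A E) (maximalIdeal A)) c := by
    rw [← Ideal.Quotient.mk_algebraMap, IsScalarTower.algebraMap_apply k A E, Ideal.Quotient.eq,
      ← map_sub]
    exact Ideal.mem_map_of_mem _ hc
  have h2 : Ideal.Quotient.mk (Ideal.map (algebraMap A B) (maximalIdeal A)) (algebraMap A B a) =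
      algebraMap k (B ⧸ Ideal.map (algebraMap A B) (maximalIdeal A)) c := by
    rw [← Ideal.Quotient.mk_algebraMap, IsScalarTower.algebraMap_apply k A B, Ideal.Quotient.eq,
      ← map_sub]
    exact Ideal.mem_map_of_mem _ hc
  rw [h1, h2, AlgHom.commutes]

end Sec

section Lift

variable {k : Type u} [Field k] {A : Type u} [CommRing A] [Algebra k A] [IsLocalRing A]
  (hres : ∀ a : A, ∃ c : k, a - algebraMap k A c ∈ maximalIdeal A)
  {B : Type u} [CommRing B] [Algebra A B] [Algebra k B] [IsScalarTower k A B] [Module.Flat A B]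
  [hsm : Algebra.FormallySmooth k (B ⧸ Ideal.map (algebraMap A B) (maximalIdeal A))]
  {C D : Type u} [CommRing C] [Algebra A C] [CommRing D] [Algebra A D]
  (π : C →ₐ[A] D) (hπ : Function.Surjective π)
  (hN2 : ∀ x y : C, π x = 0 → π y = 0 → x * y = 0)
  (hmN : ∀ a ∈ maximalIdeal A, ∀ x : C, π x = 0 → a • x = 0)
  (g : B →ₐ[A] D)

include hres hπ hN2 hmN in
theorem exists_lift : ∃ τ : B →ₐ[A] C, ∀ b, π (τ b) = g b := by
  let E : Subalgebra A (B × C) :=
    AlgHom.equalizer (g.comp (AlgHom.fst A B C)) (π.comp (AlgHom.snd A B C))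
  have hmem : ∀ x : B × C, x ∈ E ↔ g x.1 = π x.2 := fun x => Iff.rfl
  let p : E →ₐ[A] B := (AlgHom.fst A B C).comp E.val
  have hpapp : ∀ x : E, p x = (x : B × C).1 := fun x => rfl
  have hp : Function.Surjective p := by
    intro b
    obtain ⟨c, hc⟩ := hπ (g b)
    exact ⟨⟨(b, c), (hmem _).mpr hc.symm⟩, rfl⟩
  have hker : ∀ x : E, p x = 0 → π (x : B × C).2 = 0 := by
    intro x hx
    have h1 := (hmem _).mp x.2
    rw [hpapp] at hx
    rw [← h1, hx, map_zero]
  have hK2 : ∀ x y : E, p x = 0 → p y = 0 → x * y = 0 := by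
    intro x y hx hy
    apply Subtype.ext
    refine Prod.ext ?_ ?_
    · change (x : B × C).1 * (y : B × C).1 = 0
      rw [hpapp] at hx
      rw [hx, zero_mul]
    · change (x : B × C).2 * (y : B × C).2 = 0
      exact hN2 _ _ (hker x hx) (hker y hy)
  have hmK : ∀ a ∈ maximalIdeal A, ∀ x : E, p x = 0 → a • x = 0 := by
    intro a ha x hx
    apply Subtype.ext
    refine Prod.ext ?_ ?_
    · change a • (x : B × C).1 = 0
      rw [hpapp] at hx
      rw [hx, smul_zero]
    · change a • (x : B × C).2 = 0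
      exact hmN a ha _ (hker x hx)
  obtain ⟨s, hs⟩ := exists_section hres p hp hK2 hmK
  refine ⟨(AlgHom.snd A B C).comp (E.val.comp s), fun b => ?_⟩
  have h1 := (hmem _).mp (s b).2
  change π ((s b : B × C).2) = g b
  rw [← h1]
  congr 1
  exact hs b

end Lift

section NearId

variable {A : Type u} [CommRing A] {B : Type u} [CommRing B] [Algebra A B] (t : B) (ht2 : t * t = 0)

include ht2 in
lemma bijective_of_sub_mem (u : B →ₐ[A] B) (hut : u t = t)
    (hu : ∀ b, u b - b ∈ Ideal.span {t}) : Function.Bijective u := by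
  have hfix : ∀ x ∈ Ideal.span {t}, u x = x := by
    intro x hx
    obtain ⟨c, rfl⟩ := Ideal.mem_span_singleton'.mp hx
    obtain ⟨d, hd⟩ := Ideal.mem_span_singleton'.mp (hu c)
    have : u c = c + d * t := by rw [hd]; ring
    rw [map_mul, hut, this]
    calc (c + d * t) * t = c * t + d * (t * t) := by ring
      _ = c * t := by rw [ht2, mul_zero, add_zero]
  constructor
  · rw [injective_iff_map_eq_zero]
    intro b hb
    have h1 := hu b
    rw [hb, zero_sub] at h1
    have h2 : b ∈ Ideal.span {t} := by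
      have := Submodule.neg_mem _ h1
      rwa [neg_neg] at this
    rw [← hfix b h2, hb]
  · intro b
    refine ⟨b - (u b - b), ?_⟩
    rw [map_sub, hfix _ (hu b)]
    ring

end NearId

section Main

theorem main11280
    {k : Type u} [Field k]
    {A : Type u} [CommRing A] [Algebra k A] [IsLocalRing A]
    (hres : ∀ a : A, ∃ c : k, a - algebraMap k A c ∈ IsLocalRing.maximalIdeal A)
    (t : A) (ht : t ∈ IsLocalRing.maximalIdeal A)
    (htm : ∀ a ∈ IsLocalRing.maximalIdeal A, a * t = 0)
    {B : Type u} [CommRing B] [Algebra A B] [Module.Flat A B] [Algebra k B] [IsScalarTower k A B]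
    (hsm : Algebra.FormallySmooth k (B ⧸ (IsLocalRing.maximalIdeal A).map (algebraMap A B)))
    (σ : (B ⧸ Ideal.span {algebraMap A B t}) ≃ₐ[A] (B ⧸ Ideal.span {algebraMap A B t})) :
    ∃ τ : B ≃ₐ[A] B, ∀ b : B,
      Ideal.Quotient.mk (Ideal.span {algebraMap A B t}) (τ b) =
        σ (Ideal.Quotient.mk (Ideal.span {algebraMap A B t}) b) := by
  have ht2 : algebraMap A B t * algebraMap A B t = 0 := by
    rw [← map_mul, htm t ht, map_zero]
  set π : B →ₐ[A] (B ⧸ Ideal.span {algebraMap A B t}) :=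
    Ideal.Quotient.mkₐ A (Ideal.span {algebraMap A B t}) with hπdef
  have hπ : Function.Surjective π := Ideal.Quotient.mk_surjective
  have hπ0 : ∀ x : B, π x = 0 → ∃ x', x' * algebraMap A B t = x := fun x hx =>
    Ideal.mem_span_singleton'.mp (Ideal.Quotient.eq_zero_iff_mem.mp hx)
  have hN2 : ∀ x y : B, π x = 0 → π y = 0 → x * y = 0 := by
    intro x y hx hy
    obtain ⟨x', rfl⟩ := hπ0 x hx
    obtain ⟨y', rfl⟩ := hπ0 y hy
    calc x' * algebraMap A B t * (y' * algebraMap A B t)
        = x' * y' * (algebraMap A B t * algebraMap A B t) := by ring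
      _ = 0 := by rw [ht2, mul_zero]
  have hmN : ∀ a ∈ maximalIdeal A, ∀ x : B, π x = 0 → a • x = 0 := by
    intro a ha x hx
    obtain ⟨x', rfl⟩ := hπ0 x hx
    rw [Algebra.smul_def]
    calc algebraMap A B a * (x' * algebraMap A B t)
        = x' * (algebraMap A B a * algebraMap A B t) := by ring
      _ = 0 := by rw [← map_mul, htm a ha, map_zero, mul_zero]
  obtain ⟨τ, hτ⟩ := exists_lift hres π hπ hN2 hmN (σ.toAlgHom.comp π)
  obtain ⟨τ', hτ'⟩ := exists_lift hres π hπ hN2 hmN (σ.symm.toAlgHom.comp π)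
  have hτ1 : ∀ b, π (τ b) = σ (π b) := hτ
  have hτ'1 : ∀ b, π (τ' b) = σ.symm (π b) := hτ'
  have hu : Function.Bijective (τ'.comp τ) := by
    refine bijective_of_sub_mem (algebraMap A B t) ht2 _ (AlgHom.commutes _ t) fun b => ?_
    rw [← Ideal.Quotient.eq]
    change π (τ' (τ b)) = π b
    rw [hτ'1, hτ1, AlgEquiv.symm_apply_apply]
  have hu' : Function.Bijective (τ.comp τ') := by
    refine bijective_of_sub_mem (algebraMap A B t) ht2 _ (AlgHom.commutes _ t) fun b => ?_
    rw [← Ideal.Quotient.eq]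
    change π (τ (τ' b)) = π b
    rw [hτ1, hτ'1, AlgEquiv.apply_symm_apply]
  have hbij : Function.Bijective τ := by
    constructor
    · exact Function.Injective.of_comp (f := τ') hu.1
    · exact Function.Surjective.of_comp (g := τ') hu'.2
  exact ⟨AlgEquiv.ofBijective τ hbij, hτ1⟩

end Main

end Groth.Agent.Lib.helper19.FSLift
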