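import Mathlib

/-! Base change of a fibre product of rings along `S` with `S ⊗ J → S ⊗ B'` injective. -/

set_option autoImplicit false
universe u
open TensorProduct

namespace Groth.Agent.Lib.helper19.FibTensor

variable (R B' B C S : Type u) [CommRing R] [CommRing B'] [CommRing B] [CommRing C]
    [CommRing S] [Algebra R B'] [Algebra R B] [Algebra R C] [Algebra R S]

lemma atm_eq {X Y : Type u} [CommRing X] [CommRing Y] [Algebra R X] [Algebra R Y] (h : X →ₐ[R] Y)
    (z : S ⊗[R] X) :
    Algebra.TensorProduct.map (AlgHom.id R S) h z = LinearMap.lTensor S h.toLinearMap z := by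
  induction z using TensorProduct.induction_on with
  | zero => rw [map_zero, map_zero]
  | tmul s x => rfl
  | add a b ha hb => rw [map_add, map_add, ha, hb]

variable {R B' B C S}

theorem main (f : B' →ₐ[R] B) (hf : Function.Surjective f) (g : C →ₐ[R] B)
    (hJ : Function.Injective (LinearMap.lTensor S (LinearMap.ker f.toLinearMap).subtype)) :
    letI P := AlgHom.equalizer (f.comp (AlgHom.fst R B' C)) (g.comp (AlgHom.snd R B' C))
    letI φ₁ := Algebra.TensorProduct.map (AlgHom.id R S) ((AlgHom.fst R B' C).comp P.val)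
    letI φ₂ := Algebra.TensorProduct.map (AlgHom.id R S) ((AlgHom.snd R B' C).comp P.val)
    Function.Injective (fun z : S ⊗[R] ↥P => (φ₁ z, φ₂ z)) ∧
    ∀ (x : S ⊗[R] B') (y : S ⊗[R] C),
      Algebra.TensorProduct.map (AlgHom.id R S) f x = Algebra.TensorProduct.map (AlgHom.id R S) g y →
        ∃ z : S ⊗[R] ↥P, φ₁ z = x ∧ φ₂ z = y := by
  let P := AlgHom.equalizer (f.comp (AlgHom.fst R B' C)) (g.comp (AlgHom.snd R B' C))
  let φ₁ := Algebra.TensorProduct.map (AlgHom.id R S) ((AlgHom.fst R B' C).comp P.val)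
  let φ₂ := Algebra.TensorProduct.map (AlgHom.id R S) ((AlgHom.snd R B' C).comp P.val)
  change Function.Injective (fun z : S ⊗[R] ↥P => (φ₁ z, φ₂ z)) ∧
    ∀ (x : S ⊗[R] B') (y : S ⊗[R] C),
      Algebra.TensorProduct.map (AlgHom.id R S) f x = Algebra.TensorProduct.map (AlgHom.id R S) g y →
        ∃ z : S ⊗[R] ↥P, φ₁ z = x ∧ φ₂ z = y
  let J := LinearMap.ker f.toLinearMap
  let p₁ : P →ₗ[R] B' := ((AlgHom.fst R B' C).comp P.val).toLinearMap
  let p₂ : P →ₗ[R] C := ((AlgHom.snd R B' C).comp P.val).toLinearMap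
  have hP : ∀ z : P, f (z : B' × C).1 = g (z : B' × C).2 := fun z => z.2
  let ι : J →ₗ[R] P :=
    { toFun := fun j => ⟨((j : B'), 0), by
        change f (j : B') = g 0
        rw [map_zero]
        exact j.2⟩
      map_add' := fun a b => by
        apply Subtype.ext
        apply Prod.ext
        · rfl
        · exact (add_zero (0 : C)).symm
      map_smul' := fun r a => by
        apply Subtype.ext
        apply Prod.ext
        · rfl
        · exact (smul_zero r).symm }
  have hp₁ι : p₁ ∘ₗ ι = J.subtype := rfl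
  have hp₂ι : p₂ ∘ₗ ι = 0 := rfl
  have hp₂s : Function.Surjective p₂ := by
    intro c
    obtain ⟨b', hb'⟩ := hf (g c)
    exact ⟨⟨(b', c), hb'⟩, rfl⟩
  have hex : Function.Exact ι p₂ := by
    intro z
    constructor
    · intro hz
      have hz2 : (z : B' × C).2 = 0 := hz
      have hz1 : (z : B' × C).1 ∈ J := by
        change f (z : B' × C).1 = 0
        rw [hP, hz2, map_zero]
      refine ⟨⟨_, hz1⟩, ?_⟩
      apply Subtype.ext
      apply Prod.ext
      · rfl
      · exact hz2.symm
    · rintro ⟨j, rfl⟩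
      rfl
  have hexS : Function.Exact (LinearMap.lTensor S ι) (LinearMap.lTensor S p₂) :=
    lTensor_exact S hex hp₂s
  have hp₂sS : Function.Surjective (LinearMap.lTensor S p₂) := LinearMap.lTensor_surjective S hp₂s
  have hexf : Function.Exact J.subtype f.toLinearMap := by
    intro b'
    constructor
    · intro hb
      exact ⟨⟨b', hb⟩, rfl⟩
    · rintro ⟨j, rfl⟩
      exact j.2
  have hexfS : Function.Exact (LinearMap.lTensor S J.subtype) (LinearMap.lTensor S f.toLinearMap) :=
    lTensor_exact S hexf hf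
  have hφ₁ : ∀ z, φ₁ z = LinearMap.lTensor S p₁ z := fun z => atm_eq R S _ z
  have hφ₂ : ∀ z, φ₂ z = LinearMap.lTensor S p₂ z := fun z => atm_eq R S _ z
  have h1ι : ∀ w, LinearMap.lTensor S p₁ (LinearMap.lTensor S ι w) = LinearMap.lTensor S J.subtype w := by
    intro w
    rw [← LinearMap.comp_apply, ← LinearMap.lTensor_comp, hp₁ι]
  have h2ι : ∀ w, LinearMap.lTensor S p₂ (LinearMap.lTensor S ι w) = 0 := by
    intro w
    rw [← LinearMap.comp_apply, ← LinearMap.lTensor_comp, hp₂ι, LinearMap.lTensor_zero,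
      LinearMap.zero_apply]
  constructor
  · intro z z' hzz'
    have e1 : φ₁ z = φ₁ z' := congrArg Prod.fst hzz'
    have e2 : φ₂ z = φ₂ z' := congrArg Prod.snd hzz'
    rw [hφ₁, hφ₁] at e1
    rw [hφ₂, hφ₂] at e2
    have d2 : LinearMap.lTensor S p₂ (z - z') = 0 := by rw [map_sub, e2, sub_self]
    obtain ⟨w, hw⟩ := (hexS (z - z')).mp d2
    have d1 : LinearMap.lTensor S J.subtype w = 0 := by
      rw [← h1ι, hw, map_sub, e1, sub_self]
    have hw0 : w = 0 := hJ (by rw [d1, map_zero])
    rw [hw0, map_zero] at hw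
    exact (sub_eq_zero.mp hw.symm)
  · intro x y hxy
    rw [atm_eq, atm_eq] at hxy
    obtain ⟨z₀, hz₀⟩ := hp₂sS y
    have hcomm : f.toLinearMap ∘ₗ p₁ = g.toLinearMap ∘ₗ p₂ := by
      apply LinearMap.ext
      intro z
      exact hP z
    have h3 : LinearMap.lTensor S f.toLinearMap (x - LinearMap.lTensor S p₁ z₀) = 0 := by
      rw [map_sub, ← LinearMap.comp_apply, ← LinearMap.lTensor_comp, hcomm, LinearMap.lTensor_comp,
        LinearMap.comp_apply, hz₀, hxy, sub_self]
    obtain ⟨w, hw⟩ := (hexfS _).mp h3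
    refine ⟨z₀ + LinearMap.lTensor S ι w, ?_, ?_⟩
    · rw [hφ₁, map_add, h1ι, hw]
      abel
    · rw [hφ₂, map_add, h2ι, hz₀, add_zero]

end Groth.Agent.Lib.helper19.FibTensor
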