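import Mathlib

/-!
# A surjection onto a flat algebra that is an isomorphism modulo `I` is an isomorphism near `q`
(S9166)
-/

open IsLocalRing

namespace Groth.Agent.Lib.helper19.FlatFibreIso

universe u

variable (R S S' : Type u) [CommRing R] [CommRing S] [CommRing S'] [Algebra R S] [Algebra R S']

theorem ker_fg [Algebra.FiniteType R S] [Algebra.FinitePresentation R S'] (f : S →ₐ[R] S')
    (hf : Function.Surjective f) : (RingHom.ker f.toRingHom).FG := by
  obtain ⟨n, π, hπ⟩ := Algebra.FiniteType.iff_quotient_mvPolynomial''.mp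
    (inferInstance : Algebra.FiniteType R S)
  have h1 : (RingHom.ker (f.comp π).toRingHom).FG :=
    Algebra.FinitePresentation.ker_fG_of_surjective (f.comp π) (hf.comp hπ)
  have h2 : RingHom.ker f.toRingHom = (RingHom.ker (f.comp π).toRingHom).map π.toRingHom := by
    apply le_antisymm
    · intro s hs
      obtain ⟨p, rfl⟩ := hπ s
      exact Ideal.mem_map_of_mem _ hs
    · rw [Ideal.map_le_iff_le_comap]
      intro p hp
      exact hp
  rw [h2]
  exact h1.map _

/-- a finitely generated ideal whose localization at `q` vanishes is killed by some `g ∉ q`. -/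
theorem exists_kill {S : Type u} [CommRing S] (q : Ideal S) [q.IsPrime] (K : Ideal S) (hK : K.FG)
    (h : ∀ x ∈ K, algebraMap S (Localization.AtPrime q) x = 0) :
    ∃ g : S, g ∉ q ∧ ∀ x ∈ K, g * x = 0 := by
  revert h
  refine Submodule.fg_induction
    (motive := fun (N : Submodule S S) _ => (∀ x ∈ N, algebraMap S (Localization.AtPrime q) x = 0) →
      ∃ g : S, g ∉ q ∧ ∀ x ∈ N, g * x = 0) ?_ ?_ K hK
  · intro x hx
    obtain ⟨m, hm⟩ := (IsLocalization.map_eq_zero_iff q.primeCompl (Localization.AtPrime q) x).mp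
      (hx x (Submodule.mem_span_singleton_self x))
    refine ⟨m, m.2, fun y hy => ?_⟩
    obtain ⟨c, rfl⟩ := Submodule.mem_span_singleton.mp hy
    rw [smul_eq_mul, mul_left_comm, hm, mul_zero]
  · intro N₁ N₂ _ _ h₁ h₂ h
    obtain ⟨g₁, hg₁, hk₁⟩ := h₁ (fun x hx => h x (Submodule.mem_sup_left hx))
    obtain ⟨g₂, hg₂, hk₂⟩ := h₂ (fun x hx => h x (Submodule.mem_sup_right hx))
    refine ⟨g₁ * g₂, fun hmem => ?_, fun x hx => ?_⟩
    · rcases Ideal.IsPrime.mem_or_mem ‹_› hmem with h' | h'
      · exact hg₁ h'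
      · exact hg₂ h'
    · obtain ⟨y, hy, z, hz, rfl⟩ := Submodule.mem_sup.mp hx
      have e1 : g₁ * g₂ * y = g₂ * (g₁ * y) := by ring
      have e2 : g₁ * g₂ * z = g₁ * (g₂ * z) := by ring
      rw [mul_add, e1, e2, hk₁ y hy, hk₂ z hz, mul_zero, mul_zero, add_zero]

section Core

variable {R S S'}
variable (I : Ideal R) (f : S →ₐ[R] S') (hf : Function.Surjective f) (q : Ideal S) [q.IsPrime]

include hf in
theorem map_ker_eq_bot (hKfg : (RingHom.ker f.toRingHom).FG)
    (hq : I.map (algebraMap R S) ≤ q)
    (hker : ∀ j : S, f j = 0 →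
      algebraMap S (Localization.AtPrime q) j ∈ I.map (algebraMap R (Localization.AtPrime q)))
    (hflat : letI : Module S S' := f.toRingHom.toModule
      Module.Flat R (LocalizedModule q.primeCompl S')) :
    (RingHom.ker f.toRingHom).map (algebraMap S (Localization.AtPrime q)) = ⊥ := by
  letI : Module S S' := f.toRingHom.toModule
  haveI : Module.Flat R (LocalizedModule q.primeCompl S') := hflat
  set T := Localization.AtPrime q with hT
  set N := LocalizedModule q.primeCompl S' with hN
  set K := RingHom.ker f.toRingHom with hK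
  have hsm : ∀ (s : S) (x : S'), s • x = f s * x := fun s x => rfl
  let one : N := LocalizedModule.mk (1 : S') 1
  let ψ : T →ₗ[T] N := LinearMap.toSpanSingleton T N one
  have hψ_mk : ∀ (s : S) (u : q.primeCompl),
      ψ (IsLocalization.mk' T s u) = LocalizedModule.mk (f s) u := by
    intro s u
    change (IsLocalization.mk' T s u) • (LocalizedModule.mk (1 : S') (1 : q.primeCompl)) = _
    rw [← Localization.mk_eq_mk'_apply, LocalizedModule.mk_smul_mk, hsm, mul_one, mul_one]
  have hψker : ∀ t : T, ψ t = 0 → t ∈ K.map (algebraMap S T) := by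
    intro t ht
    obtain ⟨⟨s, u⟩, rfl⟩ := IsLocalization.mk'_surjective q.primeCompl t
    change ψ (IsLocalization.mk' T s u) = 0 at ht
    change IsLocalization.mk' T s u ∈ _
    rw [hψ_mk, ← LocalizedModule.zero_mk u, LocalizedModule.mk_eq] at ht
    obtain ⟨v, hv⟩ := ht
    rw [smul_zero, smul_zero] at hv
    rw [IsLocalization.mk'_mem_map_algebraMap_iff]
    refine ⟨(v : S) * (u : S), (v * u).2, ?_⟩
    rw [hK, RingHom.mem_ker]
    change f ((v : S) * (u : S) * s) = 0
    rw [mul_assoc, map_mul, map_mul]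
    exact hv
  have hψsurj : Function.Surjective ψ := by
    intro n
    induction n using LocalizedModule.induction_on with
    | h m u =>
      obtain ⟨s, rfl⟩ := hf m
      exact ⟨IsLocalization.mk' T s u, hψ_mk s u⟩
  have hIm : I.map (algebraMap R T) ≤ maximalIdeal T := by
    rw [IsScalarTower.algebraMap_eq R S T, ← Ideal.map_map, Ideal.map_le_iff_le_comap]
    intro s hs
    rw [Ideal.mem_comap, IsLocalization.AtPrime.to_map_mem_maximal_iff T q]
    exact hq hs
  refine Submodule.eq_bot_of_le_smul_of_le_jacobson_bot (maximalIdeal T) _ (hKfg.map _) ?_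
    (IsLocalRing.maximalIdeal_le_jacobson ⊥)
  refine le_trans ?_ (Submodule.smul_mono_left hIm)
  rw [Ideal.map, Ideal.span_le]
  rintro _ ⟨k, hk, rfl⟩
  have hk0 : f k = 0 := hk
  have h1 := hker k hk0
  rw [Ideal.map, Ideal.span, Submodule.mem_span_image_iff_exists_fun] at h1
  obtain ⟨t, ht, c, hc⟩ := h1
  have hrel : ∑ i : t, (i : R) • ψ (c i) = 0 := by
    have h2 : ψ (algebraMap S T k) = 0 := by
      rw [← IsLocalization.mk'_one (M := q.primeCompl) T k, hψ_mk, hk0, LocalizedModule.zero_mk]
    rw [← h2, ← hc, map_sum]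
    refine Finset.sum_congr rfl (fun i _ => ?_)
    rw [← LinearMap.map_smul_of_tower, Algebra.smul_def, smul_eq_mul, mul_comm]
  obtain ⟨κ, b, y, hxy, hb⟩ := Module.Flat.isTrivialRelation_of_sum_smul_eq_zero (R := R) (M := N)
    (f := fun i : t => (i : R)) (x := fun i : t => ψ (c i)) hrel
  replace hxy : ∀ i : t, ψ (c i) = ∑ j, b i j • y j := hxy
  replace hb : ∀ j, ∑ i : t, (i : R) * b i j = 0 := hb
  choose z hz using fun j => hψsurj (y j)
  have hki : ∀ i : t, c i - ∑ j, b i j • z j ∈ K.map (algebraMap S T) := by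
    intro i
    apply hψker
    rw [map_sub, map_sum, hxy i, sub_eq_zero]
    refine Finset.sum_congr rfl (fun j _ => ?_)
    rw [LinearMap.map_smul_of_tower, hz]
  have hsum : algebraMap S T k =
      ∑ i : t, algebraMap R T (i : R) • (c i - ∑ j, b i j • z j) := by
    have h3 : ∑ i : t, algebraMap R T (i : R) • (∑ j, b i j • z j) = 0 := by
      simp_rw [Finset.smul_sum]
      rw [Finset.sum_comm]
      refine Finset.sum_eq_zero (fun j _ => ?_)
      have h4 : ∀ i : t, algebraMap R T (i : R) • b i j • z j = ((i : R) * b i j) • z j := by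
        intro i
        rw [algebraMap_smul, smul_smul]
      simp_rw [h4]
      rw [← Finset.sum_smul, hb j, zero_smul]
    simp_rw [smul_sub]
    rw [Finset.sum_sub_distrib, h3, sub_zero, ← hc]
    refine Finset.sum_congr rfl (fun i _ => ?_)
    rw [smul_eq_mul, smul_eq_mul, mul_comm]
  rw [hsum]
  refine Submodule.sum_mem _ (fun i _ => ?_)
  exact Submodule.smul_mem_smul (Ideal.mem_map_of_mem _ (ht i.2)) (hki i)

end Core

theorem main (R S S' : Type u) [CommRing R] [CommRing S]
    [CommRing S'] [Algebra R S] [Algebra R S'] [Algebra.FiniteType R S]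
    [Algebra.FinitePresentation R S']
    (I : Ideal R) (f : S →ₐ[R] S') (hf : Function.Surjective f) (q : Ideal S) [q.IsPrime]
    (hq : I.map (algebraMap R S) ≤ q)
    (hker : ∀ j : S, f j = 0 →
      algebraMap S (Localization.AtPrime q) j ∈ I.map (algebraMap R (Localization.AtPrime q)))
    (hflat : letI : Module S S' := f.toRingHom.toModule
      Module.Flat R (LocalizedModule q.primeCompl S')) :
    ∃ g : S, g ∉ q ∧ Function.Bijective (Localization.awayMap f.toRingHom g) := by
  have hKfg := ker_fg R S S' f hf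
  have hbot := map_ker_eq_bot I f hf q hKfg hq hker hflat
  obtain ⟨g, hg, hkill⟩ := exists_kill q (RingHom.ker f.toRingHom) hKfg (fun x hx => by
    have : algebraMap S (Localization.AtPrime q) x ∈
        (RingHom.ker f.toRingHom).map (algebraMap S (Localization.AtPrime q)) :=
      Ideal.mem_map_of_mem _ hx
    rw [hbot] at this
    exact this)
  refine ⟨g, hg, ?_, ?_⟩
  · rw [Localization.awayMap_injective_iff]
    intro a ha
    exact ⟨1, by rw [pow_one]; exact hkill a ha⟩
  · rw [Localization.awayMap_surjective_iff]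
    intro a
    obtain ⟨b, hb⟩ := hf a
    exact ⟨b, 0, by rw [pow_zero, one_mul]; exact hb⟩

end Groth.Agent.Lib.helper19.FlatFibreIso
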