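import Mathlib

/-!
# Vanishing of the localized differentials of a quotient of a polynomial ring (S9568)
-/

open TensorProduct KaehlerDifferential IsLocalRing

namespace Groth.Agent.Lib.helper19.OmegaLocZero

universe u

section T

variable {P B W : Type u} [CommRing P] [CommRing B] [Algebra P B] [AddCommGroup W] [Module P W]

theorem mem_smul_top_of_tmul_eq_zero (hs : Function.Surjective (algebraMap P B)) (v : W)
    (h : (1 : B) ⊗ₜ[P] v = 0) :
    v ∈ (RingHom.ker (algebraMap P B)) • (⊤ : Submodule P W) := by
  set I : Ideal P := RingHom.ker (algebraMap P B) with hI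
  have hex : Function.Exact (Submodule.subtype I) (Algebra.linearMap P B) := by
    intro y
    rw [Submodule.coe_subtype, Subtype.range_coe_subtype]
    exact Iff.rfl
  have hs' : Function.Surjective (Algebra.linearMap P B) := hs
  have hex' := rTensor_exact W hex hs'
  have h0 : (Algebra.linearMap P B).rTensor W ((1 : P) ⊗ₜ[P] v) = 0 := by
    rw [LinearMap.rTensor_tmul, Algebra.linearMap_apply, map_one, h]
  obtain ⟨z, hz⟩ := (hex' _).mp h0
  have key : ∀ z : I ⊗[P] W, TensorProduct.lid P W ((Submodule.subtype I).rTensor W z) ∈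
      I • (⊤ : Submodule P W) := by
    intro z
    induction z using TensorProduct.induction_on with
    | zero => simp
    | tmul i w =>
      rw [LinearMap.rTensor_tmul, TensorProduct.lid_tmul, Submodule.subtype_apply]
      exact Submodule.smul_mem_smul i.2 trivial
    | add a b ha hb =>
      rw [map_add, map_add]
      exact Submodule.add_mem _ ha hb
  have := key z
  rwa [hz, TensorProduct.lid_tmul, one_smul] at this

end T

section Main

variable {A P B : Type u} [CommRing A] [CommRing P] [CommRing B] [Algebra A P] [Algebra A B]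
  [Algebra P B] [IsScalarTower A P B] (hs : Function.Surjective (algebraMap P B))

include hs in
theorem ker_map_le (w : Ω[P⁄A]) (hw : KaehlerDifferential.map A A P B w = 0) :
    w ∈ Submodule.span P ((D A P) '' (RingHom.ker (algebraMap P B) : Set P)) ⊔
      (RingHom.ker (algebraMap P B)) • (⊤ : Submodule P (Ω[P⁄A])) := by
  have h1 : mapBaseChange A P B ((1 : B) ⊗ₜ[P] w) = 0 := by
    rw [mapBaseChange_tmul, one_smul, hw]
  obtain ⟨c, hc⟩ := (exact_kerCotangentToTensor_mapBaseChange A P B hs _).mp h1
  obtain ⟨g, rfl⟩ := Ideal.toCotangent_surjective _ c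
  rw [kerCotangentToTensor_toCotangent] at hc
  have h2 : (1 : B) ⊗ₜ[P] (w - D A P (g : P)) = 0 := by
    rw [TensorProduct.tmul_sub, hc, sub_self]
  have h3 := mem_smul_top_of_tmul_eq_zero hs _ h2
  have h4 : w = D A P (g : P) + (w - D A P (g : P)) := by abel
  rw [h4]
  exact Submodule.add_mem _ (Submodule.mem_sup_left (Submodule.subset_span ⟨g, g.2, rfl⟩))
    (Submodule.mem_sup_right h3)

theorem map_eq_zero_of_mem (w : Ω[P⁄A])
    (hw : w ∈ Submodule.span P ((D A P) '' (RingHom.ker (algebraMap P B) : Set P))) :
    KaehlerDifferential.map A A P B w = 0 := by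
  have : Submodule.span P ((D A P) '' (RingHom.ker (algebraMap P B) : Set P)) ≤
      LinearMap.ker (KaehlerDifferential.map A A P B) := by
    rw [Submodule.span_le]
    rintro _ ⟨g, hg, rfl⟩
    rw [SetLike.mem_coe, LinearMap.mem_ker, map_D, (RingHom.mem_ker).mp hg, map_zero]
  exact this hw

include hs in
theorem main [Module.Finite P (Ω[P⁄A])] (q : Ideal B) [q.IsPrime] :
    Subsingleton (LocalizedModule q.primeCompl (Ω[B⁄A])) ↔
      Submodule.span (Localization.AtPrime (q.comap (algebraMap P B)))
        ((LocalizedModule.mkLinearMap (q.comap (algebraMap P B)).primeCompl (Ω[P⁄A])) ''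
          ((D A P) '' (RingHom.ker (algebraMap P B) : Set P))) = ⊤ := by
  set 𝔮 := q.comap (algebraMap P B) with h𝔮
  set S := 𝔮.primeCompl with hS
  set mkW := LocalizedModule.mkLinearMap S (Ω[P⁄A]) with hmkW
  set I := RingHom.ker (algebraMap P B) with hI
  set N := Submodule.span P ((D A P) '' (I : Set P)) with hN
  set P' := Localization.AtPrime 𝔮 with hP'
  have hI𝔮 : I ≤ 𝔮 := by
    intro i hi
    rw [h𝔮, Ideal.mem_comap, (RingHom.mem_ker).mp hi]
    exact zero_mem _
  have hsmul : ∀ (t : P) (w : Ω[P⁄A]),
      KaehlerDifferential.map A A P B (t • w) = algebraMap P B t • KaehlerDifferential.map A A P B w := by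
    intro t w
    rw [map_smul, algebraMap_smul]
  rw [LocalizedModule.subsingleton_iff]
  constructor
  · intro h
    set N' := Submodule.span P' (mkW '' ((D A P) '' (I : Set P))) with hN'
    set Z' := N' ⊔ maximalIdeal P' • (⊤ : Submodule P' (LocalizedModule S (Ω[P⁄A]))) with hZ'
    have hNle : N ≤ (Z'.restrictScalars P).comap mkW := by
      rw [hN, Submodule.span_le]
      rintro _ ⟨g, hg, rfl⟩
      exact Submodule.mem_sup_left (Submodule.subset_span ⟨_, ⟨g, hg, rfl⟩, rfl⟩)
    have hIle : I • (⊤ : Submodule P (Ω[P⁄A])) ≤ (Z'.restrictScalars P).comap mkW := by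
      rw [Submodule.smul_le]
      intro i hi w _
      refine Submodule.mem_sup_right ?_
      rw [map_smul, ← algebraMap_smul P' i (mkW w)]
      exact Submodule.smul_mem_smul
        ((IsLocalization.AtPrime.to_map_mem_maximal_iff P' 𝔮 i).mpr (hI𝔮 hi)) trivial
    have hw : ∀ w : Ω[P⁄A], mkW w ∈ Z' := by
      intro w
      obtain ⟨r, hr, hr0⟩ := h (KaehlerDifferential.map A A P B w)
      obtain ⟨t, rfl⟩ := hs r
      have htS : t ∈ S := hr
      have h1 : KaehlerDifferential.map A A P B (t • w) = 0 := by rw [hsmul, hr0]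
      have h2 := ker_map_le hs _ h1
      have h3 : mkW (t • w) ∈ Z' := (sup_le hNle hIle) h2
      rw [map_smul, ← algebraMap_smul P' t (mkW w)] at h3
      exact (Submodule.smul_mem_iff_of_isUnit _
        (IsLocalization.map_units (M := S) P' ⟨t, htS⟩)).mp h3
    have hall : ∀ y : LocalizedModule S (Ω[P⁄A]), y ∈ Z' := by
      intro y
      obtain ⟨⟨w, s⟩, hws⟩ := IsLocalizedModule.surj S mkW y
      have h3 : (algebraMap P P' (s : P)) • y ∈ Z' := by
        rw [algebraMap_smul]
        change s • y ∈ Z'
        rw [hws]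
        exact hw w
      exact (Submodule.smul_mem_iff_of_isUnit _
        (IsLocalization.map_units (M := S) P' s)).mp h3
    rw [eq_top_iff]
    apply Submodule.le_of_le_smul_of_le_jacobson_bot (Module.Finite.fg_top)
      (IsLocalRing.maximalIdeal_le_jacobson ⊥)
    intro y _
    exact hall y
  · intro h ω
    obtain ⟨w, rfl⟩ := KaehlerDifferential.map_surjective_of_surjective A A P B hs ω
    have h1 : mkW w ∈ N.localized' P' S mkW := by
      rw [hN, Submodule.localized'_span, h]
      trivial
    obtain ⟨m, hm, s, hms⟩ := h1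
    rw [IsLocalizedModule.mk'_eq_iff, Submonoid.smul_def, ← map_smul] at hms
    obtain ⟨c, hc⟩ := (IsLocalizedModule.eq_iff_exists S mkW).mp hms
    refine ⟨algebraMap P B ((c : P) * (s : P)), (c * s).2, ?_⟩
    rw [← hsmul, mul_smul]
    have h2 : (c : P) • (s : P) • w = (c : P) • m := hc.symm
    rw [h2, map_smul, map_eq_zero_of_mem m hm, smul_zero]

end Main

end Groth.Agent.Lib.helper19.OmegaLocZero
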