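import Mathlib
import Groth.Agent.Lib.helper19.FlatFibreIso
import Groth.Agent.Lib.helper19.OmegaLocZero

open TensorProduct IsLocalRing

namespace Groth.Agent.Lib.helper19.FiniteFlatIso

universe u

/-- Tor-vanishing for a flat quotient: `I M ∩ ker g = I ker g`. -/
theorem mem_smul_ker {R : Type u} [CommRing R] {M N : Type u} [AddCommGroup M] [Module R M]
    [AddCommGroup N] [Module R N] [Module.Flat R N] (g : M →ₗ[R] N) (hg : Function.Surjective g)
    (I : Ideal R) (x : M) (hx : x ∈ I • (⊤ : Submodule R M)) (hgx : g x = 0) :
    x ∈ I • LinearMap.ker g := by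
  classical
  rw [← Submodule.span_univ, ← Set.range_id,
    Submodule.mem_ideal_smul_span_iff_exists_sum] at hx
  obtain ⟨a, ha, rfl⟩ := hx
  have hsumdef : (a.sum fun i c => c • id i) = ∑ i ∈ a.support, a i • i := rfl
  rw [hsumdef] at hgx ⊢
  have hrel : ∑ i : a.support, (a i) • g (i : M) = 0 := by
    have h := hgx
    rw [map_sum, ← Finset.sum_coe_sort] at h
    rw [← h]
    refine Finset.sum_congr rfl (fun i _ => ?_)
    rw [map_smul]
  obtain ⟨κ, b, y, hxy, hb⟩ :=
    Module.Flat.isTrivialRelation_of_sum_smul_eq_zero (R := R) (M := N)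
      (f := fun i : a.support => a i) (x := fun i : a.support => g (i : M)) hrel
  replace hxy : ∀ i : a.support, g (i : M) = ∑ j, b i j • y j := hxy
  replace hb : ∀ j, ∑ i : a.support, a i * b i j = 0 := hb
  choose z hz using fun j => hg (y j)
  have hki : ∀ i : a.support, (i : M) - ∑ j, b i j • z j ∈ LinearMap.ker g := by
    intro i
    rw [LinearMap.mem_ker, map_sub, map_sum, hxy i, sub_eq_zero]
    refine Finset.sum_congr rfl (fun j _ => ?_)
    rw [map_smul, hz]
  have hsum : ∑ i ∈ a.support, a i • (i : M) =
      ∑ i : a.support, a i • ((i : M) - ∑ j, b i j • z j) := by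
    have h3 : ∑ i : a.support, a i • (∑ j, b i j • z j) = 0 := by
      simp_rw [Finset.smul_sum]
      rw [Finset.sum_comm]
      refine Finset.sum_eq_zero (fun j _ => ?_)
      simp_rw [smul_smul]
      rw [← Finset.sum_smul, hb j, zero_smul]
    simp_rw [smul_sub]
    rw [Finset.sum_sub_distrib, h3, sub_zero, ← Finset.sum_coe_sort]
  rw [hsum]
  refine Submodule.sum_mem _ (fun i _ => ?_)
  exact Submodule.smul_mem_smul (ha i) (hki i)


section Fibres

variable {R A B : Type u} [CommRing R] [CommRing A] [CommRing B] [Algebra R A] [Algebra R B]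

/-- Surjectivity from surjectivity on all closed fibres. -/
theorem surjective_of_fibres [Module.Finite R A] (f : B →ₐ[R] A)
    (hmax : ∀ (m : Ideal R) [m.IsMaximal],
      Function.Surjective (LinearMap.lTensor m.ResidueField f.toLinearMap)) :
    Function.Surjective f := by
  let N : Submodule R A := LinearMap.range f.toLinearMap
  suffices h : Subsingleton (A ⧸ N) by
    intro a
    have : N.mkQ a = 0 := Subsingleton.elim _ _
    rw [Submodule.mkQ_apply, Submodule.Quotient.mk_eq_zero] at this
    obtain ⟨b, hb⟩ := this
    exact ⟨b, hb⟩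
  rw [← Module.support_eq_empty_iff (R := R), Set.eq_empty_iff_forall_notMem]
  intro p hp
  obtain ⟨m, hm, hpm⟩ := Ideal.exists_le_maximal p.asIdeal p.2.ne_top
  have hm' : (⟨m, hm.isPrime⟩ : PrimeSpectrum R) ∈ Module.support R (A ⧸ N) :=
    Module.mem_support_mono (p := p) (q := ⟨m, hm.isPrime⟩) hpm hp
  rw [Module.mem_support_iff_nontrivial_residueField_tensorProduct] at hm'
  have hsub : Subsingleton (m.ResidueField ⊗[R] (A ⧸ N)) := by
    have h1 : Function.Surjective (LinearMap.lTensor m.ResidueField N.mkQ) :=
      LinearMap.lTensor_surjective _ N.mkQ_surjective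
    refine ⟨fun x y => ?_⟩
    have h0 : ∀ z, z = (0 : m.ResidueField ⊗[R] (A ⧸ N)) := by
      intro z
      obtain ⟨z', rfl⟩ := h1 z
      obtain ⟨z'', rfl⟩ := hmax m z'
      rw [← LinearMap.comp_apply, ← LinearMap.lTensor_comp]
      have : N.mkQ ∘ₗ f.toLinearMap = 0 := by
        ext b
        simp only [LinearMap.comp_apply, LinearMap.zero_apply, Submodule.mkQ_apply,
          Submodule.Quotient.mk_eq_zero]
        exact ⟨b, rfl⟩
      rw [this, LinearMap.lTensor_zero, LinearMap.zero_apply]
    rw [h0 x, h0 y]
  exact not_subsingleton _ hsub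

/-- Equal fibre ranks and surjectivity give bijectivity on the fibre. -/
theorem fibre_bijective [Module.Finite R A] (f : B →ₐ[R] A) (hf : Function.Surjective f)
    (p : Ideal R) [p.IsPrime]
    (hrank : Module.rank p.ResidueField (p.ResidueField ⊗[R] B) =
        Module.rank p.ResidueField (p.ResidueField ⊗[R] A)) :
    Function.Injective (LinearMap.lTensor p.ResidueField f.toLinearMap) := by
  have hfinA : Module.rank p.ResidueField (p.ResidueField ⊗[R] A) < Cardinal.aleph0 :=
    Module.rank_lt_aleph0 _ _
  haveI : Module.Finite p.ResidueField (p.ResidueField ⊗[R] B) := by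
    rw [← Module.rank_lt_aleph0_iff, hrank]
    exact hfinA
  have hfr : Module.finrank p.ResidueField (p.ResidueField ⊗[R] B) =
      Module.finrank p.ResidueField (p.ResidueField ⊗[R] A) := by
    unfold Module.finrank
    rw [hrank]
  have hsurj : Function.Surjective (f.toLinearMap.baseChange p.ResidueField) := by
    have := LinearMap.lTensor_surjective p.ResidueField (g := f.toLinearMap) hf
    intro y
    obtain ⟨x, hx⟩ := this y
    exact ⟨x, by rw [← hx]; rfl⟩
  have hinj := (LinearMap.injective_iff_surjective_of_finrank_eq_finrank hfr).mpr hsurj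
  intro x y hxy
  apply hinj
  exact hxy

end Fibres

section Local

variable {R A B : Type u} [CommRing R] [CommRing A] [CommRing B] [Algebra R A] [Algebra R B]
  [Module.Finite R A] [Module.Flat R A] [Algebra.FiniteType R B]
  (f : B →ₐ[R] A) (p : Ideal R) [p.IsPrime]

/-- the base change of `f` to the local ring at `p` -/
noncomputable def locMap : (Localization.AtPrime p) ⊗[R] B →ₐ[Localization.AtPrime p]
    (Localization.AtPrime p) ⊗[R] A :=
  Algebra.TensorProduct.map (AlgHom.id (Localization.AtPrime p) (Localization.AtPrime p)) f

theorem locMap_tmul (r : Localization.AtPrime p) (b : B) :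
    locMap f p (r ⊗ₜ b) = r ⊗ₜ f b := by
  simp [locMap]

theorem locMap_surjective (hf : Function.Surjective f) : Function.Surjective (locMap f p) := by
  intro y
  induction y using TensorProduct.induction_on with
  | zero => exact ⟨0, map_zero _⟩
  | tmul r a =>
    obtain ⟨b, rfl⟩ := hf a
    exact ⟨r ⊗ₜ b, locMap_tmul f p r b⟩
  | add y z hy hz =>
    obtain ⟨y', rfl⟩ := hy
    obtain ⟨z', rfl⟩ := hz
    exact ⟨y' + z', map_add _ _ _⟩

theorem tmul_eq_zero_of_locMap_eq_zero
    (hinj : Function.Injective (LinearMap.lTensor p.ResidueField f.toLinearMap))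
    (x : (Localization.AtPrime p) ⊗[R] B) (hx : locMap f p x = 0) :
    (1 : p.ResidueField) ⊗ₜ[Localization.AtPrime p] x = 0 := by
  let eB := AlgebraTensorModule.cancelBaseChange R (Localization.AtPrime p) p.ResidueField
    p.ResidueField B
  let eA := AlgebraTensorModule.cancelBaseChange R (Localization.AtPrime p) p.ResidueField
    p.ResidueField A
  have hnat : ∀ y : (Localization.AtPrime p) ⊗[R] B,
      LinearMap.lTensor p.ResidueField f.toLinearMap (eB ((1 : p.ResidueField) ⊗ₜ y)) =
        eA ((1 : p.ResidueField) ⊗ₜ (locMap f p y)) := by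
    intro y
    induction y using TensorProduct.induction_on with
    | zero => simp
    | tmul r b =>
      rw [locMap_tmul]
      simp [eB, eA]
    | add y z hy hz =>
      rw [TensorProduct.tmul_add, map_add, map_add, hy, hz, map_add, TensorProduct.tmul_add,
        map_add]
  have h1 := hnat x
  rw [hx, TensorProduct.tmul_zero, map_zero] at h1
  have h2 := hinj (h1.trans (map_zero _).symm)
  exact eB.injective (h2.trans (map_zero _).symm)

theorem exists_annihilator (hf : Function.Surjective f)
    (hinj : Function.Injective (LinearMap.lTensor p.ResidueField f.toLinearMap)) :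
    ∃ b' : (Localization.AtPrime p) ⊗[R] B,
      b' - 1 ∈ (maximalIdeal (Localization.AtPrime p)).map
        (algebraMap (Localization.AtPrime p) ((Localization.AtPrime p) ⊗[R] B)) ∧
      ∀ k', locMap f p k' = 0 → b' * k' = 0 := by
  have hsurj := locMap_surjective f p hf
  haveI : Module.Free (Localization.AtPrime p) ((Localization.AtPrime p) ⊗[R] A) :=
    Module.free_of_flat_of_isLocalRing
  haveI : Module.FinitePresentation (Localization.AtPrime p) ((Localization.AtPrime p) ⊗[R] A) :=
    Module.finitePresentation_of_projective _ _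
  haveI : Algebra.FinitePresentation (Localization.AtPrime p)
    ((Localization.AtPrime p) ⊗[R] A) := inferInstance
  have hKfg : (RingHom.ker (locMap f p).toRingHom).FG :=
    FlatFibreIso.ker_fg _ _ _ (locMap f p) hsurj
  have hle : RingHom.ker (locMap f p).toRingHom ≤
      ((maximalIdeal (Localization.AtPrime p)).map
        (algebraMap (Localization.AtPrime p) ((Localization.AtPrime p) ⊗[R] B))) •
        RingHom.ker (locMap f p).toRingHom := by
    intro x hx
    have hx0 : locMap f p x = 0 := hx
    have h1 := tmul_eq_zero_of_locMap_eq_zero f p hinj x hx0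
    have h2 := OmegaLocZero.mem_smul_top_of_tmul_eq_zero (P := Localization.AtPrime p)
      (B := p.ResidueField) (W := (Localization.AtPrime p) ⊗[R] B)
      IsLocalRing.residue_surjective x h1
    have hker : RingHom.ker (algebraMap (Localization.AtPrime p) p.ResidueField) =
        maximalIdeal (Localization.AtPrime p) := IsLocalRing.ker_residue
    rw [hker] at h2
    have h3 := mem_smul_ker (locMap f p).toLinearMap hsurj
      (maximalIdeal (Localization.AtPrime p)) x h2 hx0
    refine Submodule.smul_induction_on h3 ?_ ?_
    · intro r hr k hk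
      rw [Algebra.smul_def]
      exact Submodule.smul_mem_smul (Ideal.mem_map_of_mem _ hr) hk
    · intro y z hy hz
      exact add_mem hy hz
  obtain ⟨b', hb1, hb2⟩ :=
    Submodule.exists_sub_one_mem_and_smul_eq_zero_of_fg_of_le_smul _ _ hKfg hle
  exact ⟨b', hb1, fun k' hk' => hb2 k' hk'⟩

theorem exists_notMem_mul_eq_zero (hf : Function.Surjective f) (q : Ideal B) [q.IsPrime]
    (hinj : Function.Injective
      (LinearMap.lTensor (q.comap (algebraMap R B)).ResidueField f.toLinearMap))
    (x : B) (hx : f x = 0) : ∃ e : B, e ∉ q ∧ e * x = 0 := by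
  obtain ⟨b', hb1, hb2⟩ := exists_annihilator f (q.comap (algebraMap R B)) hf hinj
  have h1 : b' * ((1 : Localization.AtPrime (q.comap (algebraMap R B))) ⊗ₜ[R] x) = 0 :=
    hb2 _ (by rw [locMap_tmul, hx, TensorProduct.tmul_zero])
  obtain ⟨⟨b, s⟩, hbs⟩ := IsLocalizedModule.surj (q.comap (algebraMap R B)).primeCompl
    (TensorProduct.mk R (Localization.AtPrime (q.comap (algebraMap R B))) B 1) b'
  replace hbs : s • b' = (1 : Localization.AtPrime (q.comap (algebraMap R B))) ⊗ₜ[R] b := hbs
  have h2 : (TensorProduct.mk R (Localization.AtPrime (q.comap (algebraMap R B))) B 1)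
      (b * x) = 0 := by
    change (1 : Localization.AtPrime (q.comap (algebraMap R B))) ⊗ₜ[R] (b * x) = 0
    have h3 : (1 : Localization.AtPrime (q.comap (algebraMap R B))) ⊗ₜ[R] (b * x) =
        ((1 : Localization.AtPrime (q.comap (algebraMap R B))) ⊗ₜ[R] b) *
          ((1 : Localization.AtPrime (q.comap (algebraMap R B))) ⊗ₜ[R] x) := by
      rw [Algebra.TensorProduct.tmul_mul_tmul, one_mul]
    rw [h3, ← hbs, smul_mul_assoc, h1, smul_zero]
  obtain ⟨c, hc⟩ := (IsLocalizedModule.eq_zero_iff (q.comap (algebraMap R B)).primeCompl
    (TensorProduct.mk R (Localization.AtPrime (q.comap (algebraMap R B))) B 1)).mp h2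
  refine ⟨algebraMap R B c * b, ?_, ?_⟩
  · intro hmem
    rcases (inferInstance : q.IsPrime).mem_or_mem hmem with h | h
    · exact c.2 h
    · -- `b ∈ q`: contradiction
      have hunit : ∀ y : (q.comap (algebraMap R B)).primeCompl,
          IsUnit (algebraMap R (Localization.AtPrime q) y) := by
        intro y
        rw [IsScalarTower.algebraMap_apply R B (Localization.AtPrime q)]
        exact IsLocalization.map_units (Localization.AtPrime q)
          (⟨algebraMap R B y, y.2⟩ : q.primeCompl)
      let φ : Localization.AtPrime (q.comap (algebraMap R B)) →ₐ[R] Localization.AtPrime q :=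
        IsLocalization.liftAlgHom (M := (q.comap (algebraMap R B)).primeCompl)
          (f := Algebra.ofId R (Localization.AtPrime q)) hunit
      let ψ : (Localization.AtPrime (q.comap (algebraMap R B))) ⊗[R] B →ₐ[R]
          Localization.AtPrime q :=
        Algebra.TensorProduct.lift φ (IsScalarTower.toAlgHom R B (Localization.AtPrime q))
          (fun _ _ => Commute.all _ _)
      have hφ : ∀ m ∈ maximalIdeal (Localization.AtPrime (q.comap (algebraMap R B))),
          φ m ∈ maximalIdeal (Localization.AtPrime q) := by
        intro m hm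
        obtain ⟨r, t, rfl⟩ := IsLocalization.exists_mk'_eq
          (q.comap (algebraMap R B)).primeCompl m
        rw [IsLocalization.AtPrime.mk'_mem_maximal_iff
          (Localization.AtPrime (q.comap (algebraMap R B))) (q.comap (algebraMap R B))] at hm
        have h4 : φ (IsLocalization.mk' _ r t) * algebraMap R (Localization.AtPrime q) t =
            algebraMap R (Localization.AtPrime q) r := by
          have := IsLocalization.mk'_spec (Localization.AtPrime (q.comap (algebraMap R B))) r t
          have h5 := congrArg φ this
          rw [map_mul, AlgHom.commutes, AlgHom.commutes] at h5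
          exact h5
        have h6 : algebraMap R (Localization.AtPrime q) r ∈
            maximalIdeal (Localization.AtPrime q) := by
          rw [IsScalarTower.algebraMap_apply R B (Localization.AtPrime q),
            IsLocalization.AtPrime.to_map_mem_maximal_iff (Localization.AtPrime q) q]
          exact hm
        rw [← h4] at h6
        rcases (Ideal.IsMaximal.isPrime' _).mem_or_mem h6 with h7 | h7
        · exact h7
        · exact absurd (hunit t) ((IsLocalRing.mem_maximalIdeal _).mp h7)
      have hψJ : ψ (b' - 1) ∈ maximalIdeal (Localization.AtPrime q) := by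
        have hle : (maximalIdeal (Localization.AtPrime (q.comap (algebraMap R B)))).map
            (algebraMap (Localization.AtPrime (q.comap (algebraMap R B)))
              ((Localization.AtPrime (q.comap (algebraMap R B))) ⊗[R] B)) ≤
            (maximalIdeal (Localization.AtPrime q)).comap ψ.toRingHom := by
          rw [Ideal.map_le_iff_le_comap]
          intro m hm
          rw [Ideal.mem_comap, Ideal.mem_comap]
          have : ψ.toRingHom (algebraMap _ _ m) = φ m := by
            rw [Algebra.TensorProduct.algebraMap_apply]
            simp [ψ]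
          rw [this]
          exact hφ m hm
        exact hle hb1
      have hψb' : IsUnit (ψ b') := by
        rw [← IsLocalRing.notMem_maximalIdeal]
        intro h8
        have : (1 : Localization.AtPrime q) ∈ maximalIdeal (Localization.AtPrime q) := by
          have h9 := sub_mem h8 hψJ
          rwa [map_sub, map_one, sub_sub_cancel] at h9
        exact (Ideal.IsMaximal.ne_top inferInstance) ((Ideal.eq_top_iff_one _).mpr this)
      have h10 : ψ (s • b') = algebraMap B (Localization.AtPrime q) b := by
        rw [hbs]
        simp [ψ]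
      have h11 : ψ (s • b') = algebraMap R (Localization.AtPrime q) s * ψ b' := by
        rw [Submonoid.smul_def, map_smul, Algebra.smul_def]
      have h12 : IsUnit (algebraMap B (Localization.AtPrime q) b) := by
        rw [← h10, h11]
        exact (hunit s).mul hψb'
      have h13 : algebraMap B (Localization.AtPrime q) b ∈ maximalIdeal (Localization.AtPrime q) := by
        rw [IsLocalization.AtPrime.to_map_mem_maximal_iff (Localization.AtPrime q) q]
        exact h
      exact ((IsLocalRing.mem_maximalIdeal _).mp h13) h12
  · rw [mul_assoc, ← Algebra.smul_def]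
    exact hc

end Local


theorem main
    {R A B : Type u} [CommRing R] [CommRing A] [CommRing B] [Algebra R A] [Algebra R B]
    [Module.Finite R A] [Module.Flat R A] [Algebra.FiniteType R B]
    (f : B →ₐ[R] A)
    (hrank : ∀ p : PrimeSpectrum R,
      Module.rank p.asIdeal.ResidueField (p.asIdeal.ResidueField ⊗[R] B) =
        Module.rank p.asIdeal.ResidueField (p.asIdeal.ResidueField ⊗[R] A))
    (hmax : ∀ (m : Ideal R) [m.IsMaximal],
      Function.Bijective (LinearMap.lTensor m.ResidueField f.toLinearMap)) :
    Function.Bijective f := by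
  have hsurj : Function.Surjective f := surjective_of_fibres f (fun m _ => (hmax m).2)
  refine ⟨?_, hsurj⟩
  rw [injective_iff_map_eq_zero]
  intro x hx
  by_contra hne
  let I : Ideal B := LinearMap.ker (LinearMap.toSpanSingleton B B x)
  have hI : I ≠ ⊤ := by
    intro h
    have h1 : (1 : B) ∈ I := h ▸ Submodule.mem_top
    rw [LinearMap.mem_ker, LinearMap.toSpanSingleton_apply, one_smul] at h1
    exact hne h1
  obtain ⟨q, hq, hIq⟩ := Ideal.exists_le_maximal I hI
  haveI := hq.isPrime
  have hinj := fibre_bijective f hsurj (q.comap (algebraMap R B))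
    (hrank ⟨q.comap (algebraMap R B), inferInstance⟩)
  obtain ⟨e, heq, hex⟩ := exists_notMem_mul_eq_zero f hsurj q hinj x hx
  apply heq
  apply hIq
  rw [LinearMap.mem_ker, LinearMap.toSpanSingleton_apply, smul_eq_mul]
  exact hex

end Groth.Agent.Lib.helper19.FiniteFlatIso
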