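import Mathlib

/-!
# The difference of two flat lifts of an ideal is a homomorphism `I → (B/I) ⊗ J`
(S17367, S11464)
-/

open TensorProduct

namespace Groth.Agent.Lib.helper19.FlatLift

universe u

section mu
variable (A' : Type u) [CommRing A'] (J : Ideal A')

/-- multiplication map `M ⊗ J → M` -/
noncomputable def mu (M : Type u) [AddCommGroup M] [Module A' M] : M ⊗[A'] ↥J →ₗ[A'] M :=
  (TensorProduct.rid A' M).toLinearMap ∘ₗ LinearMap.lTensor M (Submodule.subtype J)

theorem mu_tmul (M : Type u) [AddCommGroup M] [Module A' M] (m : M) (j : ↥J) :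
    mu A' J M (m ⊗ₜ j) = (j : A') • m := by
  simp [mu]

theorem mu_injective (M : Type u) [AddCommGroup M] [Module A' M] [Module.Flat A' M] :
    Function.Injective (mu A' J M) := by
  have h1 : Function.Injective (LinearMap.lTensor M (Submodule.subtype J)) :=
    Module.Flat.lTensor_preserves_injective_linearMap (M := M) (Submodule.subtype J)
      (Submodule.subtype_injective J)
  intro a b hab
  apply h1
  exact (TensorProduct.rid A' M).injective hab

theorem mu_natural {M N : Type u} [AddCommGroup M] [Module A' M] [AddCommGroup N] [Module A' N]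
    (f : M →ₗ[A'] N) (z : M ⊗[A'] ↥J) :
    mu A' J N (LinearMap.rTensor ↥J f z) = f (mu A' J M z) := by
  induction z using TensorProduct.induction_on with
  | zero => simp
  | tmul m j => rw [LinearMap.rTensor_tmul, mu_tmul, mu_tmul, map_smul]
  | add x y hx hy => rw [map_add, map_add, hx, hy, map_add, map_add]

theorem rho_eq_zero_of_mu_mem (B' : Type u) [CommRing B'] [Algebra A' B']
    {Q : Type u} [CommRing Q] [Algebra A' Q] (f : B' →ₐ[A'] Q)
    (I₁ : Ideal B') [Module.Flat A' (B' ⧸ I₁)] (hf : ∀ a ∈ I₁, f a = 0)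
    (z : B' ⊗[A'] ↥J) (hz : mu A' J B' z ∈ I₁) : LinearMap.rTensor ↥J f.toLinearMap z = 0 := by
  let π₁ : B' →ₗ[A'] (B' ⧸ I₁) := (Ideal.Quotient.mkₐ A' I₁).toLinearMap
  let q₁ : (B' ⧸ I₁) →ₗ[A'] Q := (Ideal.Quotient.liftₐ I₁ f hf).toLinearMap
  have hcomp : f.toLinearMap = q₁ ∘ₗ π₁ := by
    apply LinearMap.ext
    intro b
    rfl
  have h1 : LinearMap.rTensor ↥J π₁ z = 0 := by
    apply mu_injective A' J (B' ⧸ I₁)
    rw [mu_natural, map_zero]
    exact Ideal.Quotient.eq_zero_iff_mem.2 hz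
  rw [hcomp, LinearMap.rTensor_comp, LinearMap.comp_apply, h1, map_zero]

end mu

theorem existsUnique_hom (A' : Type u) [CommRing A'] (J : Ideal A') (B' : Type u) [CommRing B']
    [Algebra A' B'] [Module.Flat A' B']
    (I : Ideal (B' ⧸ J.map (algebraMap A' B')))
    (I' I'' : Ideal B') [Module.Flat A' (B' ⧸ I')] [Module.Flat A' (B' ⧸ I'')]
    (hI' : I'.map (Ideal.Quotient.mk (J.map (algebraMap A' B'))) = I)
    (hI'' : I''.map (Ideal.Quotient.mk (J.map (algebraMap A' B'))) = I) :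
    ∃! φ : ↥I →ₗ[B'] (((B' ⧸ J.map (algebraMap A' B')) ⧸ I) ⊗[A'] ↥J),
      (∀ (x : (B' ⧸ J.map (algebraMap A' B'))) (hx : x ∈ I) (x' x'' : B'), x' ∈ I' → x'' ∈ I'' →
          Ideal.Quotient.mk (J.map (algebraMap A' B')) x' = x →
          Ideal.Quotient.mk (J.map (algebraMap A' B')) x'' = x →
          ∀ z : B' ⊗[A'] ↥J,
            TensorProduct.rid A' B' (LinearMap.lTensor B' (Submodule.subtype J) z) = x'' - x' →
            LinearMap.rTensor ↥J
              (IsScalarTower.toAlgHom A' B' ((B' ⧸ J.map (algebraMap A' B')) ⧸ I)).toLinearMap z =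
                φ ⟨x, hx⟩) := by
  classical
  let f : B' →ₐ[A'] ((B' ⧸ (J.map (algebraMap A' B'))) ⧸ I) := IsScalarTower.toAlgHom A' B' ((B' ⧸ (J.map (algebraMap A' B'))) ⧸ I)
  let μ : B' ⊗[A'] ↥J →ₗ[A'] B' := mu A' J B'
  let ρ : B' ⊗[A'] ↥J →ₗ[A'] ((B' ⧸ (J.map (algebraMap A' B'))) ⧸ I) ⊗[A'] ↥J := LinearMap.rTensor ↥J f.toLinearMap
  have hf_apply : ∀ b, f b = Ideal.Quotient.mk I (Ideal.Quotient.mk (J.map (algebraMap A' B')) b) := fun b => rfl
  have hfI' : ∀ a ∈ I', f a = 0 := by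
    intro a ha
    rw [hf_apply, Ideal.Quotient.eq_zero_iff_mem, ← hI']
    exact Ideal.mem_map_of_mem _ ha
  have hfI'' : ∀ a ∈ I'', f a = 0 := by
    intro a ha
    rw [hf_apply, Ideal.Quotient.eq_zero_iff_mem, ← hI'']
    exact Ideal.mem_map_of_mem _ ha
  have hKrange : ∀ y ∈ (J.map (algebraMap A' B')), ∃ z, μ z = y := by
    intro y hy
    have hy' : y ∈ Submodule.span B' ((algebraMap A' B') '' (J : Set A')) := hy
    refine Submodule.span_induction (p := fun y _ => ∃ z, μ z = y) ?_ ?_ ?_ ?_ hy'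
    · rintro _ ⟨j, hj, rfl⟩
      refine ⟨(1 : B') ⊗ₜ ⟨j, hj⟩, ?_⟩
      show mu A' J B' _ = _
      rw [mu_tmul, Algebra.smul_def, mul_one]
    · exact ⟨0, map_zero _⟩
    · rintro a b _ _ ⟨za, rfl⟩ ⟨zb, rfl⟩
      exact ⟨za + zb, map_add _ _ _⟩
    · rintro b a _ ⟨za, rfl⟩
      refine ⟨LinearMap.rTensor ↥J (LinearMap.mulLeft A' b) za, ?_⟩
      show mu A' J B' _ = _
      rw [mu_natural]
      rfl
  let V : (B' ⧸ (J.map (algebraMap A' B'))) → (B' ⊗[A'] ↥J) → Prop := fun x z =>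
    ∃ x' ∈ I', ∃ x'' ∈ I'', Ideal.Quotient.mk (J.map (algebraMap A' B')) x' = x ∧ Ideal.Quotient.mk (J.map (algebraMap A' B')) x'' = x ∧
      μ z = x'' - x'
  have hVex : ∀ x ∈ I, ∃ z, V x z := by
    intro x hx
    have hx1 : x ∈ I'.map (Ideal.Quotient.mk (J.map (algebraMap A' B'))) := by rw [hI']; exact hx
    have hx2 : x ∈ I''.map (Ideal.Quotient.mk (J.map (algebraMap A' B'))) := by rw [hI'']; exact hx
    obtain ⟨x', hx'm, hx'⟩ :=
      (Ideal.mem_map_iff_of_surjective _ Ideal.Quotient.mk_surjective).1 hx1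
    obtain ⟨x'', hx''m, hx''⟩ :=
      (Ideal.mem_map_iff_of_surjective _ Ideal.Quotient.mk_surjective).1 hx2
    have hd : x'' - x' ∈ (J.map (algebraMap A' B')) := by
      rw [← Ideal.Quotient.eq_zero_iff_mem, map_sub, hx', hx'', sub_self]
    obtain ⟨z, hz⟩ := hKrange _ hd
    exact ⟨z, x', hx'm, x'', hx''m, hx', hx'', hz⟩
  have hWD : ∀ x z w, V x z → V x w → ρ z = ρ w := by
    rintro x z w ⟨x', hx'm, x'', hx''m, hx', hx'', hz⟩ ⟨y', hy'm, y'', hy''m, hy', hy'', hw⟩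
    have hd1 : x' - y' ∈ (J.map (algebraMap A' B')) := by
      rw [← Ideal.Quotient.eq_zero_iff_mem, map_sub, hx', hy', sub_self]
    have hd2 : x'' - y'' ∈ (J.map (algebraMap A' B')) := by
      rw [← Ideal.Quotient.eq_zero_iff_mem, map_sub, hx'', hy'', sub_self]
    obtain ⟨w₁, hw₁⟩ := hKrange _ hd1
    obtain ⟨w₂, hw₂⟩ := hKrange _ hd2
    have hρ1 : ρ w₁ = 0 := rho_eq_zero_of_mu_mem A' J B' f I' hfI' w₁
      (by show μ w₁ ∈ I'; rw [hw₁]; exact I'.sub_mem hx'm hy'm)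
    have hρ2 : ρ w₂ = 0 := rho_eq_zero_of_mu_mem A' J B' f I'' hfI'' w₂
      (by show μ w₂ ∈ I''; rw [hw₂]; exact I''.sub_mem hx''m hy''m)
    have heq : z - w = w₂ - w₁ := by
      apply mu_injective A' J B'
      show μ (z - w) = μ (w₂ - w₁)
      rw [map_sub, map_sub, hz, hw, hw₁, hw₂]
      ring
    have h0 : ρ z - ρ w = 0 := by
      rw [← map_sub, heq, map_sub, hρ1, hρ2, sub_zero]
    exact sub_eq_zero.1 h0
  have hVadd : ∀ x y z w, V x z → V y w → V (x + y) (z + w) := by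
    rintro x y z w ⟨x', hx'm, x'', hx''m, hx', hx'', hz⟩ ⟨y', hy'm, y'', hy''m, hy', hy'', hw⟩
    refine ⟨x' + y', I'.add_mem hx'm hy'm, x'' + y'', I''.add_mem hx''m hy''m,
      by rw [map_add, hx', hy'], by rw [map_add, hx'', hy''], ?_⟩
    rw [map_add, hz, hw]
    ring
  have hVsmul : ∀ (b : B') x z, V x z →
      V (b • x) (LinearMap.rTensor ↥J (LinearMap.mulLeft A' b) z) := by
    rintro b x z ⟨x', hx'm, x'', hx''m, hx', hx'', hz⟩
    refine ⟨b * x', I'.mul_mem_left b hx'm, b * x'', I''.mul_mem_left b hx''m, ?_, ?_, ?_⟩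
    · rw [map_mul, hx', Algebra.smul_def]
      rfl
    · rw [map_mul, hx'', Algebra.smul_def]
      rfl
    · show mu A' J B' _ = _
      rw [mu_natural]
      show b * μ z = _
      rw [hz]
      ring
  have hρsmul : ∀ (b : B') z,
      ρ (LinearMap.rTensor ↥J (LinearMap.mulLeft A' b) z) = b • ρ z := by
    intro b z
    induction z using TensorProduct.induction_on with
    | zero => simp
    | tmul m j =>
      show LinearMap.rTensor ↥J f.toLinearMap
          (LinearMap.rTensor ↥J (LinearMap.mulLeft A' b) (m ⊗ₜ j)) =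
        b • LinearMap.rTensor ↥J f.toLinearMap (m ⊗ₜ j)
      rw [LinearMap.rTensor_tmul, LinearMap.rTensor_tmul, LinearMap.rTensor_tmul,
        TensorProduct.smul_tmul']
      congr 1
    | add x y hx hy => rw [map_add, map_add, hx, hy, map_add, smul_add]
  choose! zc hzc using hVex
  let φ : ↥I →ₗ[B'] ((B' ⧸ (J.map (algebraMap A' B'))) ⧸ I) ⊗[A'] ↥J :=
    { toFun := fun x => ρ (zc x.1)
      map_add' := fun x y => by
        have h1 := hWD _ _ _ (hzc _ (x + y).2) (hVadd _ _ _ _ (hzc _ x.2) (hzc _ y.2))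
        rw [map_add] at h1
        exact h1
      map_smul' := fun b x => by
        have h1 := hWD _ _ _ (hzc _ (b • x).2) (hVsmul b _ _ (hzc _ x.2))
        rw [hρsmul] at h1
        exact h1 }
  refine ⟨φ, ?_, ?_⟩
  · intro x hx x' x'' hx'm hx''m hx' hx'' z hz
    show ρ z = ρ (zc x)
    exact hWD x z (zc x) ⟨x', hx'm, x'', hx''m, hx', hx'', hz⟩ (hzc x hx)
  · intro ψ hψ
    apply LinearMap.ext
    rintro ⟨x, hx⟩
    obtain ⟨x', hx'm, x'', hx''m, hx', hx'', hz⟩ := hzc x hx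
    have h1 := hψ x hx x' x'' hx'm hx''m hx' hx'' (zc x) hz
    exact h1.symm

end Groth.Agent.Lib.helper19.FlatLift
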