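import Mathlib
import Groth.Agent.Lib.helper19.FlatLift
import Groth.Agent.Lib.helper24.NilFlat

/-!
# Flat lifts of an ideal along a square-zero extension form a torsor: existence and uniqueness of
the translate of a flat lift `I'` by `φ : I → (B/I) ⊗ J`  (S17368, S11465)
-/

open TensorProduct

namespace Groth.Agent.Lib.helper19.FlatLift

universe u

section gen
variable (A' : Type u) [CommRing A'] (J : Ideal A') (B' : Type u) [CommRing B'] [Algebra A' B']

/-- multiplication by `b` on `B' ⊗ J` -/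
noncomputable abbrev bmul (b : B') : B' ⊗[A'] ↥J →ₗ[A'] B' ⊗[A'] ↥J :=
  LinearMap.rTensor ↥J (LinearMap.mulLeft A' b)

theorem mu_bmul (b : B') (z : B' ⊗[A'] ↥J) :
    mu A' J B' (bmul A' J B' b z) = b * mu A' J B' z := by
  rw [bmul, mu_natural]
  rfl

theorem mu_mem_map (z : B' ⊗[A'] ↥J) : mu A' J B' z ∈ J.map (algebraMap A' B') := by
  induction z using TensorProduct.induction_on with
  | zero => simp
  | tmul b j =>
    rw [mu_tmul, Algebra.smul_def]
    exact Ideal.mul_mem_right _ _ (Ideal.mem_map_of_mem _ j.2)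
  | add x y hx hy =>
    rw [map_add]
    exact Ideal.add_mem _ hx hy

theorem exists_mu_eq (y : B') (hy : y ∈ J.map (algebraMap A' B')) : ∃ z, mu A' J B' z = y := by
  have hy' : y ∈ Submodule.span B' ((algebraMap A' B') '' (J : Set A')) := hy
  refine Submodule.span_induction (p := fun y _ => ∃ z, mu A' J B' z = y) ?_ ?_ ?_ ?_ hy'
  · rintro _ ⟨j, hj, rfl⟩
    refine ⟨(1 : B') ⊗ₜ ⟨j, hj⟩, ?_⟩
    rw [mu_tmul, Algebra.smul_def, mul_one]
  · exact ⟨0, map_zero _⟩
  · rintro a b _ _ ⟨za, rfl⟩ ⟨zb, rfl⟩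
    exact ⟨za + zb, map_add _ _ _⟩
  · rintro b a _ ⟨za, rfl⟩
    exact ⟨bmul A' J B' b za, mu_bmul A' J B' b za⟩

variable {C : Type u} [CommRing C] [Algebra A' C] [Algebra B' C] [IsScalarTower A' B' C]

theorem rho_bmul (b : B') (z : B' ⊗[A'] ↥J) :
    LinearMap.rTensor ↥J (IsScalarTower.toAlgHom A' B' C).toLinearMap (bmul A' J B' b z) =
      b • LinearMap.rTensor ↥J (IsScalarTower.toAlgHom A' B' C).toLinearMap z := by
  induction z using TensorProduct.induction_on with
  | zero => simp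
  | tmul m j =>
    rw [bmul, LinearMap.rTensor_tmul, LinearMap.rTensor_tmul, LinearMap.rTensor_tmul,
      TensorProduct.smul_tmul']
    congr 1
    simp [Algebra.smul_def]
  | add x y hx hy => rw [map_add, map_add, hx, hy, map_add, smul_add]

variable {A' J B'}

theorem mk_tmul_eq_zero (hJ : J * J = ⊥) (I₂ : Ideal B') (k : B')
    (hk : k ∈ J.map (algebraMap A' B')) (j : ↥J) :
    (Ideal.Quotient.mk I₂ k) ⊗ₜ[A'] j = (0 : (B' ⧸ I₂) ⊗[A'] ↥J) := by
  have hk' : k ∈ Submodule.span B' ((algebraMap A' B') '' (J : Set A')) := hk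
  refine Submodule.span_induction
    (p := fun k _ => (Ideal.Quotient.mk I₂ k) ⊗ₜ[A'] j = (0 : (B' ⧸ I₂) ⊗[A'] ↥J)) ?_ ?_ ?_ ?_ hk'
  · rintro _ ⟨j', hj', rfl⟩
    have h1 : Ideal.Quotient.mk I₂ (algebraMap A' B' j') = j' • (1 : B' ⧸ I₂) := by
      rw [Algebra.algebraMap_eq_smul_one, ← Ideal.Quotient.mkₐ_eq_mk A', map_smul, map_one]
    have h2 : j' • j = 0 := by
      apply Subtype.ext
      have : j' * (j : A') ∈ J * J := Ideal.mul_mem_mul hj' j.2
      rw [hJ] at this
      simpa using this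
    rw [h1, TensorProduct.smul_tmul, h2, TensorProduct.tmul_zero]
  · rw [map_zero, TensorProduct.zero_tmul]
  · intro a b _ _ ha hb
    rw [map_add, TensorProduct.add_tmul, ha, hb, add_zero]
  · intro b a _ ha
    have h1 : Ideal.Quotient.mk I₂ (b • a) = b • Ideal.Quotient.mk I₂ a := by
      rw [smul_eq_mul, map_mul, Algebra.smul_def]
      rfl
    rw [h1, ← TensorProduct.smul_tmul', ha, smul_zero]

/-- if `ker f ≤ I₂ + JB'` then `ker (f ⊗ J) ≤ ker (π₂ ⊗ J)` -/
theorem rTensor_mk_eq_zero_of_rho (hJ : J * J = ⊥) (I₂ : Ideal B')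
    {C : Type u} [CommRing C] [Algebra A' C]
    (f : B' →ₐ[A'] C) (hf : Function.Surjective f)
    (hker : ∀ b, f b = 0 → ∃ a ∈ I₂, b - a ∈ J.map (algebraMap A' B'))
    (z : B' ⊗[A'] ↥J) (hz : LinearMap.rTensor ↥J f.toLinearMap z = 0) :
    LinearMap.rTensor ↥J (Ideal.Quotient.mkₐ A' I₂).toLinearMap z = 0 := by
  have hex := rTensor_exact ↥J (LinearMap.exact_subtype_ker_map f.toLinearMap) hf
  obtain ⟨t, rfl⟩ := (hex z).mp hz
  clear hz
  induction t using TensorProduct.induction_on with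
  | zero => simp
  | tmul b j =>
    rw [LinearMap.rTensor_tmul, LinearMap.rTensor_tmul]
    obtain ⟨a, ha, hk⟩ := hker b.1 (LinearMap.mem_ker.mp b.2)
    have h1 : (Ideal.Quotient.mkₐ A' I₂).toLinearMap ((LinearMap.ker f.toLinearMap).subtype b) =
        Ideal.Quotient.mk I₂ (b.1 - a) := by
      rw [map_sub, Ideal.Quotient.eq_zero_iff_mem.mpr ha, sub_zero]
      rfl
    rw [h1]
    exact mk_tmul_eq_zero hJ I₂ _ hk j
  | add x y hx hy => rw [map_add, map_add, hx, hy, add_zero]

end gen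

section flat
variable {A' : Type u} [CommRing A'] {J : Ideal A'} {M : Type u} [AddCommGroup M] [Module A' M]
  {C : Type u} [AddCommGroup C] [Module A' C] [Module (A' ⧸ J) C] [IsScalarTower A' (A' ⧸ J) C]

/-- if `g : M → C` is surjective with kernel `J M` and `C` is flat over `A'/J`, then
`(A'/J) ⊗ M` is flat over `A'/J`. -/
theorem flat_baseChange_of_surjective [Module.Flat (A' ⧸ J) C] (g : M →ₗ[A'] C)
    (hg : Function.Surjective g)
    (hker : ∀ m, g m = 0 → m ∈ (J • ⊤ : Submodule A' M)) :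
    Module.Flat (A' ⧸ J) ((A' ⧸ J) ⊗[A'] M) := by
  let G : (A' ⧸ J) ⊗[A'] M →ₗ[A' ⧸ J] C := LinearMap.liftBaseChange (A' ⧸ J) g
  have hG1 : ∀ m, G (1 ⊗ₜ m) = g m := fun m => by
    simp [G]
  have hsurj : Function.Surjective G := by
    intro c
    obtain ⟨m, rfl⟩ := hg c
    exact ⟨1 ⊗ₜ m, hG1 m⟩
  have hmk : ∀ t : (A' ⧸ J) ⊗[A'] M, ∃ m : M, t = 1 ⊗ₜ m := by
    intro t
    induction t using TensorProduct.induction_on with
    | zero => exact ⟨0, (TensorProduct.tmul_zero _ _).symm⟩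
    | tmul a m =>
      obtain ⟨a, rfl⟩ := Ideal.Quotient.mk_surjective a
      refine ⟨a • m, ?_⟩
      rw [TensorProduct.tmul_smul, TensorProduct.smul_tmul', Algebra.smul_def, mul_one]
      rfl
    | add x y hx hy =>
      obtain ⟨m, rfl⟩ := hx
      obtain ⟨n, rfl⟩ := hy
      exact ⟨m + n, (TensorProduct.tmul_add _ _ _).symm⟩
  have hzero : ∀ m ∈ (J • ⊤ : Submodule A' M), (1 : A' ⧸ J) ⊗ₜ[A'] m = 0 := by
    intro m hm
    refine Submodule.smul_induction_on hm ?_ ?_
    · intro j hj n _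
      rw [TensorProduct.tmul_smul, TensorProduct.smul_tmul', Algebra.smul_def, mul_one]
      have : algebraMap A' (A' ⧸ J) j = 0 := Ideal.Quotient.eq_zero_iff_mem.mpr hj
      rw [this, TensorProduct.zero_tmul]
    · intro x y hx hy
      rw [TensorProduct.tmul_add, hx, hy, add_zero]
  have hinj : Function.Injective G := by
    rw [injective_iff_map_eq_zero]
    intro t ht
    obtain ⟨m, rfl⟩ := hmk t
    rw [hG1] at ht
    exact hzero m (hker m ht)
  exact Module.Flat.of_linearEquiv (LinearEquiv.ofBijective G ⟨hinj, hsurj⟩)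

/-- injectivity of `J ⊗ M → A' ⊗ M` from injectivity of `mu : M ⊗ J → M` -/
theorem rTensor_subtype_injective_of_mu (h : Function.Injective (mu A' J M)) :
    Function.Injective (LinearMap.rTensor M (Submodule.subtype J)) := by
  have h1 : Function.Injective (LinearMap.lTensor M (Submodule.subtype J)) := by
    have : (mu A' J M : M ⊗[A'] ↥J → M) =
        (TensorProduct.rid A' M) ∘ (LinearMap.lTensor M (Submodule.subtype J)) := rfl
    rw [this] at h
    exact Function.Injective.of_comp h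
  have h2 : LinearMap.rTensor M (Submodule.subtype J) =
      (TensorProduct.comm A' M A').toLinearMap ∘ₗ (LinearMap.lTensor M (Submodule.subtype J)) ∘ₗ
        (TensorProduct.comm A' ↥J M).toLinearMap := by
    apply TensorProduct.ext'
    intro j m
    simp
  rw [h2]
  exact (TensorProduct.comm A' M A').injective.comp (h1.comp (TensorProduct.comm A' ↥J M).injective)

end flat

theorem existsUnique_ideal (A' : Type u) [CommRing A'] (J : Ideal A') (hJ : J * J = ⊥)
    (B' : Type u) [CommRing B'] [Algebra A' B'] [Module.Flat A' B']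
    (I : Ideal (B' ⧸ J.map (algebraMap A' B')))
    [Module.Flat (A' ⧸ J) ((B' ⧸ J.map (algebraMap A' B')) ⧸ I)]
    (I' : Ideal B') [Module.Flat A' (B' ⧸ I')]
    (hI' : I'.map (Ideal.Quotient.mk (J.map (algebraMap A' B'))) = I)
    (φ : ↥I →ₗ[B'] (((B' ⧸ J.map (algebraMap A' B')) ⧸ I) ⊗[A'] ↥J)) :
    ∃! I'' : Ideal B', Module.Flat A' (B' ⧸ I'') ∧
      I''.map (Ideal.Quotient.mk (J.map (algebraMap A' B'))) = I ∧
      (∀ (x : (B' ⧸ J.map (algebraMap A' B'))) (hx : x ∈ I) (x' x'' : B'), x' ∈ I' → x'' ∈ I'' →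
          Ideal.Quotient.mk (J.map (algebraMap A' B')) x' = x →
          Ideal.Quotient.mk (J.map (algebraMap A' B')) x'' = x →
          ∀ z : B' ⊗[A'] ↥J,
            TensorProduct.rid A' B' (LinearMap.lTensor B' (Submodule.subtype J) z) = x'' - x' →
            LinearMap.rTensor ↥J
              (IsScalarTower.toAlgHom A' B' ((B' ⧸ J.map (algebraMap A' B')) ⧸ I)).toLinearMap z =
                φ ⟨x, hx⟩) := by
  classical
  let K : Ideal B' := J.map (algebraMap A' B')
  let mkK : B' →+* B' ⧸ K := Ideal.Quotient.mk K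
  let f : B' →ₐ[A'] ((B' ⧸ K) ⧸ I) := IsScalarTower.toAlgHom A' B' ((B' ⧸ K) ⧸ I)
  let μ : B' ⊗[A'] ↥J →ₗ[A'] B' := mu A' J B'
  let ρ : B' ⊗[A'] ↥J →ₗ[A'] ((B' ⧸ K) ⧸ I) ⊗[A'] ↥J := LinearMap.rTensor ↥J f.toLinearMap
  have hf_apply : ∀ b, f b = Ideal.Quotient.mk I (mkK b) := fun b => rfl
  have hf_surj : Function.Surjective f := fun c => by
    obtain ⟨c', rfl⟩ := Ideal.Quotient.mk_surjective c
    obtain ⟨b, rfl⟩ := Ideal.Quotient.mk_surjective c'
    exact ⟨b, rfl⟩
  have hρ_surj : Function.Surjective ρ := LinearMap.rTensor_surjective ↥J hf_surj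
  have hfI' : ∀ a ∈ I', f a = 0 := by
    intro a ha
    rw [hf_apply, Ideal.Quotient.eq_zero_iff_mem, ← hI']
    exact Ideal.mem_map_of_mem _ ha
  have hμK : ∀ z, mkK (μ z) = 0 := fun z =>
    Ideal.Quotient.eq_zero_iff_mem.mpr (mu_mem_map A' J B' z)
  have hφc : ∀ (x₁ x₂ : B' ⧸ K) (h₁ : x₁ ∈ I) (h₂ : x₂ ∈ I), x₁ = x₂ → φ ⟨x₁, h₁⟩ = φ ⟨x₂, h₂⟩ := by
    intro x₁ x₂ h₁ h₂ h
    subst h
    rfl
  -- ρ z = 0 when μ z ∈ I'
  have hρ0 : ∀ z, μ z ∈ I' → ρ z = 0 := fun z hz =>
    rho_eq_zero_of_mu_mem A' J B' f I' hfI' z hz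
  let I'' : Ideal B' :=
    { carrier := {y | ∃ z : B' ⊗[A'] ↥J, ∃ h : mkK y ∈ I, y - μ z ∈ I' ∧ ρ z = φ ⟨mkK y, h⟩}
      zero_mem' := by
        refine ⟨0, by rw [map_zero]; exact I.zero_mem, ?_, ?_⟩
        · rw [map_zero, sub_zero]; exact I'.zero_mem
        · rw [map_zero]
          have : (⟨mkK 0, by rw [map_zero]; exact I.zero_mem⟩ : ↥I) = 0 :=
            Subtype.ext (map_zero mkK)
          rw [this, map_zero]
      add_mem' := by
        rintro a b ⟨za, ha, ha1, ha2⟩ ⟨zb, hb, hb1, hb2⟩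
        refine ⟨za + zb, by rw [map_add]; exact I.add_mem ha hb, ?_, ?_⟩
        · have : a + b - μ (za + zb) = (a - μ za) + (b - μ zb) := by rw [map_add]; ring
          rw [this]
          exact I'.add_mem ha1 hb1
        · rw [map_add, ha2, hb2, ← map_add]
          exact hφc _ _ _ _ (map_add mkK a b).symm
      smul_mem' := by
        rintro b a ⟨za, ha, ha1, ha2⟩
        have hmem : mkK (b • a) ∈ I := by
          rw [smul_eq_mul, map_mul]
          exact I.mul_mem_left _ ha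
        refine ⟨bmul A' J B' b za, hmem, ?_, ?_⟩
        · have : b • a - μ (bmul A' J B' b za) = b * (a - μ za) := by
            show b • a - mu A' J B' (bmul A' J B' b za) = _
            rw [mu_bmul, smul_eq_mul]
            ring
          rw [this]
          exact I'.mul_mem_left _ ha1
        · show LinearMap.rTensor ↥J (IsScalarTower.toAlgHom A' B' ((B' ⧸ K) ⧸ I)).toLinearMap
            (bmul A' J B' b za) = _
          rw [rho_bmul]
          show b • ρ za = _
          rw [ha2, ← map_smul]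
          apply hφc
          show b • mkK a = mkK (b • a)
          rw [smul_eq_mul, map_mul, Algebra.smul_def]
          rfl }
  have hmemI'' : ∀ y, y ∈ I'' ↔
      ∃ z : B' ⊗[A'] ↥J, ∃ h : mkK y ∈ I, y - μ z ∈ I' ∧ ρ z = φ ⟨mkK y, h⟩ := fun y => Iff.rfl
  -- image of I''
  have hP1 : I''.map mkK = I := by
    apply le_antisymm
    · rw [Ideal.map_le_iff_le_comap]
      rintro y ⟨z, h, -, -⟩
      exact h
    · intro x hx
      have hx1 : x ∈ I'.map mkK := by rw [hI']; exact hx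
      obtain ⟨x', hx'm, hx'⟩ :=
        (Ideal.mem_map_iff_of_surjective _ Ideal.Quotient.mk_surjective).1 hx1
      obtain ⟨z, hz⟩ := hρ_surj (φ ⟨x, hx⟩)
      have hy : mkK (x' + μ z) = x := by rw [map_add, hμK, add_zero, hx']
      rw [← hy]
      apply Ideal.mem_map_of_mem
      rw [hmemI'']
      refine ⟨z, by rw [hy]; exact hx, ?_, ?_⟩
      · rw [add_sub_cancel_right]; exact hx'm
      · rw [hz]
        exact hφc _ _ _ _ hy.symm
  -- the difference property
  have hP2 : ∀ (x : B' ⧸ K) (hx : x ∈ I) (x' x'' : B'), x' ∈ I' → x'' ∈ I'' →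
      mkK x' = x → mkK x'' = x → ∀ z : B' ⊗[A'] ↥J, μ z = x'' - x' → ρ z = φ ⟨x, hx⟩ := by
    rintro x hx x' x'' hx'm ⟨z₀, h, h1, h2⟩ hx' hx'' z hz
    have h3 : ρ (z - z₀) = 0 := by
      apply hρ0
      have : μ (z - z₀) = (x'' - μ z₀) - x' := by rw [map_sub, hz]; ring
      rw [this]
      exact I'.sub_mem h1 hx'm
    rw [map_sub, sub_eq_zero] at h3
    rw [h3, h2]
    exact hφc _ _ _ _ hx''
  -- kernel of f in terms of an ideal with image I
  have hkerOf : ∀ I₂ : Ideal B', I₂.map mkK = I →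
      ∀ b, f b = 0 → ∃ a ∈ I₂, b - a ∈ K := by
    intro I₂ hI₂ b hb
    rw [hf_apply, Ideal.Quotient.eq_zero_iff_mem, ← hI₂] at hb
    obtain ⟨a, ha, hab⟩ := (Ideal.mem_map_iff_of_surjective _ Ideal.Quotient.mk_surjective).1 hb
    refine ⟨a, ha, ?_⟩
    rw [← Ideal.Quotient.eq_zero_iff_mem, map_sub]
    show mkK b - mkK a = 0
    rw [hab, sub_self]
  -- flatness
  have hP3 : Module.Flat A' (B' ⧸ I'') := by
    have hmuinj : Function.Injective (mu A' J (B' ⧸ I'')) := by
      rw [injective_iff_map_eq_zero]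
      intro w hw
      obtain ⟨z, rfl⟩ := LinearMap.rTensor_surjective ↥J
        (g := (Ideal.Quotient.mkₐ A' I'').toLinearMap) Ideal.Quotient.mk_surjective w
      rw [mu_natural] at hw
      have hw' : μ z ∈ I'' := Ideal.Quotient.eq_zero_iff_mem.mp hw
      obtain ⟨z₁, h, h1, h2⟩ := hw'
      have h3 : ρ z₁ = 0 := by
        rw [h2]
        have : (⟨mkK (μ z), h⟩ : ↥I) = 0 := Subtype.ext (hμK z)
        rw [this, map_zero]
      have h4 : ρ (z - z₁) = 0 := by
        apply hρ0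
        rw [map_sub]
        exact h1
      have h5 : ρ z = 0 := by
        rw [map_sub, h3, sub_zero] at h4
        exact h4
      exact rTensor_mk_eq_zero_of_rho hJ I'' f hf_surj (hkerOf I'' hP1) z h5
    have hb := rTensor_subtype_injective_of_mu hmuinj
    -- the quotient map B'/I'' → C
    have hle : ∀ a ∈ I'', f a = 0 := by
      intro a ha
      rw [hf_apply, Ideal.Quotient.eq_zero_iff_mem, ← hP1]
      exact Ideal.mem_map_of_mem _ ha
    let g : (B' ⧸ I'') →ₗ[A'] ((B' ⧸ K) ⧸ I) := (Ideal.Quotient.liftₐ I'' f hle).toLinearMap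
    have hg : ∀ b, g (Ideal.Quotient.mk I'' b) = f b := fun b => rfl
    have hgs : Function.Surjective g := fun c => by
      obtain ⟨b, rfl⟩ := hf_surj c
      exact ⟨Ideal.Quotient.mk I'' b, hg b⟩
    have hgk : ∀ m, g m = 0 → m ∈ (J • ⊤ : Submodule A' (B' ⧸ I'')) := by
      intro m hm
      obtain ⟨b, rfl⟩ := Ideal.Quotient.mk_surjective m
      rw [hg] at hm
      obtain ⟨a, ha, hk⟩ := hkerOf I'' hP1 b hm
      have h1 : Ideal.Quotient.mk I'' b = Ideal.Quotient.mk I'' (b - a) := by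
        rw [map_sub, Ideal.Quotient.eq_zero_iff_mem.mpr ha, sub_zero]
      rw [h1]
      obtain ⟨z, hz⟩ := exists_mu_eq A' J B' _ hk
      rw [← hz]
      have h2 : Ideal.Quotient.mk I'' (mu A' J B' z) =
          mu A' J (B' ⧸ I'') (LinearMap.rTensor ↥J (Ideal.Quotient.mkₐ A' I'').toLinearMap z) := by
        rw [mu_natural]
        rfl
      rw [h2]
      generalize LinearMap.rTensor ↥J (Ideal.Quotient.mkₐ A' I'').toLinearMap z = t
      induction t using TensorProduct.induction_on with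
      | zero => rw [map_zero]; exact Submodule.zero_mem _
      | tmul m j =>
        rw [mu_tmul]
        exact Submodule.smul_mem_smul j.2 Submodule.mem_top
      | add x y hx hy => rw [map_add]; exact Submodule.add_mem _ hx hy
    haveI := flat_baseChange_of_surjective (J := J) g hgs hgk
    exact Groth.Agent.Lib.helper24.NilFlat.flat_of_isNilpotent J (B' ⧸ I'')
      ⟨2, by rw [pow_two, hJ]; rfl⟩ hb
  refine ⟨I'', ⟨hP3, hP1, ?_⟩, ?_⟩
  · intro x hx x' x'' hx'm hx''m hx' hx'' z hz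
    exact hP2 x hx x' x'' hx'm hx''m hx' hx'' z hz
  · rintro I₁ ⟨-, hI₁, hd⟩
    apply le_antisymm
    · intro y₁ hy₁
      have hx : mkK y₁ ∈ I := by rw [← hI₁]; exact Ideal.mem_map_of_mem _ hy₁
      have hx1 : mkK y₁ ∈ I'.map mkK := by rw [hI']; exact hx
      obtain ⟨x', hx'm, hx'⟩ :=
        (Ideal.mem_map_iff_of_surjective _ Ideal.Quotient.mk_surjective).1 hx1
      have hk : y₁ - x' ∈ K := by
        rw [← Ideal.Quotient.eq_zero_iff_mem, map_sub]
        show mkK y₁ - mkK x' = 0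
        rw [hx', sub_self]
      obtain ⟨z, hz⟩ := exists_mu_eq A' J B' _ hk
      have h1 := hd (mkK y₁) hx x' y₁ hx'm hy₁ hx' rfl z hz
      rw [hmemI'']
      refine ⟨z, hx, ?_, h1⟩
      have : y₁ - μ z = x' := by
        show y₁ - mu A' J B' z = x'
        rw [hz]; ring
      rw [this]
      exact hx'm
    · rintro y ⟨z, h, h1, h2⟩
      have hx1 : mkK y ∈ I₁.map mkK := by rw [hI₁]; exact h
      obtain ⟨y₁, hy₁m, hy₁⟩ :=
        (Ideal.mem_map_iff_of_surjective _ Ideal.Quotient.mk_surjective).1 hx1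
      have hx' : mkK (y - μ z) = mkK y := by rw [map_sub, hμK, sub_zero]
      have hk : y₁ - (y - μ z) ∈ K := by
        rw [← Ideal.Quotient.eq_zero_iff_mem, map_sub]
        show mkK y₁ - mkK (y - μ z) = 0
        rw [hx', hy₁, sub_self]
      obtain ⟨z₁, hz₁⟩ := exists_mu_eq A' J B' _ hk
      have h3 := hd (mkK y) h (y - μ z) y₁ h1 hy₁m hx' hy₁ z₁ hz₁
      have h4 : ρ (z - z₁) = 0 := by
        rw [map_sub, h2]
        show φ ⟨mkK y, h⟩ - LinearMap.rTensor ↥J f.toLinearMap z₁ = 0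
        rw [h3, sub_self]
      have h5 := rTensor_mk_eq_zero_of_rho hJ I₁ f hf_surj (hkerOf I₁ hI₁) _ h4
      have h6 : Ideal.Quotient.mk I₁ (μ (z - z₁)) = 0 := by
        have := congrArg (mu A' J (B' ⧸ I₁)) h5
        rw [mu_natural, map_zero] at this
        exact this
      rw [Ideal.Quotient.eq_zero_iff_mem, map_sub] at h6
      have h7 : y = y₁ + (μ z - μ z₁) := by
        show y = y₁ + (μ z - mu A' J B' z₁)
        rw [hz₁]; ring
      rw [h7]
      exact I₁.add_mem hy₁m h6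

end Groth.Agent.Lib.helper19.FlatLift
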