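import Mathlib
import Groth.Prelude.Def_ArtFun3
import Groth.Agent.Lib.helper19.ArtInduction

/-! A finite module over an Artinian local ring for which `M ⊗ I → M ⊗ A'` is injective along all
small extensions is free. -/

set_option autoImplicit false
universe u
open ArtFun ArtFun.Art IsLocalRing TensorProduct CategoryTheory

namespace Groth.Agent.Lib.helper19.FlatSmall

variable (R : Type u) [CommRing R] [IsArtinianRing R] [IsLocalRing R]
    (k : Type u) [Field k] [Algebra R k] (hk : Function.Surjective (algebraMap R k))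

/-- `R` itself as an object -/
@[reducible] noncomputable def R₀ : Art R k :=
  { carrier := R, res := Algebra.ofId R k, res_surjective := hk }

variable {R k}

lemma exists_maximal_lt (I : Ideal R) (hI0 : I ≠ ⊥) :
    ∃ J' : Ideal R, J' < I ∧ ∀ K : Ideal R, J' < K → K ≤ I → K = I := by
  haveI : IsNoetherianRing R := inferInstance
  obtain ⟨J', hJ', hmax⟩ := (wellFounded_gt (α := Ideal R)).has_min {J' | J' < I}
    ⟨⊥, bot_lt_iff_ne_bot.mpr hI0⟩
  refine ⟨J', hJ', fun K hK hKI => ?_⟩
  by_contra hne
  exact hmax K (lt_of_le_of_ne hKI hne) hK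

lemma smul_le_of_maximal (I J' : Ideal R) (hJ' : J' < I)
    (hmax : ∀ K : Ideal R, J' < K → K ≤ I → K = I) : maximalIdeal R * I ≤ J' := by
  by_contra hnot
  have h1 : J' < J' ⊔ maximalIdeal R * I := by
    refine lt_of_le_of_ne le_sup_left ?_
    intro h
    apply hnot
    rw [h]
    exact le_sup_right
  have h2 : J' ⊔ maximalIdeal R * I ≤ I := sup_le hJ'.le Ideal.mul_le_right
  have h3 := hmax _ h1 h2
  have h4 : I ≤ J' := by
    apply Submodule.le_of_le_smul_of_le_jacobson_bot (I := maximalIdeal R)
      (IsNoetherian.noetherian I) (IsLocalRing.maximalIdeal_le_jacobson ⊥)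
    rw [smul_eq_mul, h3]
  exact absurd (lt_of_lt_of_le hJ' h4) (lt_irrefl _)

section Step

variable (M : Type u) [AddCommGroup M] [Module R M]
  (h : ∀ (A' A : Art R k) (p : A' ⟶ A), IsSmallExt p →
      Function.Injective
        (LinearMap.lTensor M (((RingHom.ker p.toAlgHom).restrictScalars R).subtype)))

include hk h in
theorem step (I J' : Ideal R) (hIm : I ≤ maximalIdeal R) (hJ' : J' < I)
    (hmax : ∀ K : Ideal R, J' < K → K ≤ I → K = I)
    (ih : Function.Injective (LinearMap.lTensor M J'.subtype)) :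
    Function.Injective (LinearMap.lTensor M I.subtype) := by
  have hJ'm : J' ≤ maximalIdeal R := hJ'.le.trans hIm
  have hmI : maximalIdeal R * I ≤ J' := smul_le_of_maximal I J' hJ' hmax
  let C : Art R k := R₀ R k hk
  let A' : Art R k := Art.quot C J' hJ'm
  let A : Art R k := Art.quot C I hIm
  let π' : C ⟶ A' := Art.quotMk C J' hJ'm
  let π : C ⟶ A := Art.quotMk C I hIm
  have hπ's : Function.Surjective π' := Art.quotMk_surjective C J' hJ'm
  have hπs : Function.Surjective π := Art.quotMk_surjective C I hIm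
  have hπ'0 : ∀ r : R, π' r = 0 ↔ r ∈ J' := fun r =>
    Groth.Agent.Lib.helper19.quotMk_eq_zero_iff C J' hJ'm r
  have hπ0 : ∀ r : R, π r = 0 ↔ r ∈ I := fun r =>
    Groth.Agent.Lib.helper19.quotMk_eq_zero_iff C I hIm r
  have hle : J' ≤ RingHom.ker π.toAlgHom := by
    intro x hx
    exact (RingHom.mem_ker).mpr ((hπ0 x).mpr (hJ'.le hx))
  let p : A' ⟶ A := Art.quotFactor hJ'm π hle
  have hpπ : π' ≫ p = π := Art.quotMk_quotFactor hJ'm π hle
  have hp : ∀ r : R, p (π' r) = π r := fun r => by
    rw [← hpπ]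
    rfl
  have hker : ∀ r : R, π' r ∈ RingHom.ker p.toAlgHom ↔ r ∈ I := by
    intro r
    rw [RingHom.mem_ker]
    change p (π' r) = 0 ↔ _
    rw [hp, hπ0]
  obtain ⟨x, hxI, hxJ'⟩ := SetLike.exists_of_lt hJ'
  have hspan : J' ⊔ Ideal.span {x} = I := by
    apply hmax
    · refine lt_of_le_of_ne le_sup_left ?_
      intro heq
      apply hxJ'
      rw [heq]
      exact Ideal.mem_sup_right (Ideal.mem_span_singleton_self x)
    · exact sup_le hJ'.le ((Ideal.span_singleton_le_iff_mem I).mpr hxI)
  have hsmall : IsSmallExt p := by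
    refine ⟨?_, ?_, ?_, ?_⟩
    · intro a
      obtain ⟨r, rfl⟩ := hπs a
      exact ⟨π' r, hp r⟩
    · intro hbot
      have h1 : π' x ∈ RingHom.ker p.toAlgHom := (hker x).mpr hxI
      rw [hbot, Ideal.mem_bot] at h1
      exact hxJ' ((hπ'0 x).mp h1)
    · refine ⟨⟨π' x, ?_⟩⟩
      apply le_antisymm
      · intro y hy
        obtain ⟨r, rfl⟩ := hπ's y
        have hr : r ∈ I := (hker r).mp hy
        rw [← hspan] at hr
        obtain ⟨j, hj, t, ht, rfl⟩ := Submodule.mem_sup.mp hr
        obtain ⟨c, rfl⟩ := Ideal.mem_span_singleton'.mp ht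
        rw [map_add, (hπ'0 j).mpr hj, zero_add, map_mul]
        exact Ideal.mem_span_singleton'.mpr ⟨_, rfl⟩
      · change Ideal.span {π' x} ≤ _
        rw [Ideal.span_singleton_le_iff_mem]
        exact (hker x).mpr hxI
    · rw [eq_bot_iff, Ideal.mul_le]
      intro a ha y hy
      obtain ⟨s, rfl⟩ := hπ's a
      obtain ⟨r, rfl⟩ := hπ's y
      have hs : s ∈ maximalIdeal R := by
        rw [Art.mem_maximalIdeal_iff, Art.res_app] at ha
        have h1 : algebraMap R k s = 0 := ha
        have hmaxk : (RingHom.ker (algebraMap R k)).IsMaximal :=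
          RingHom.ker_isMaximal_of_surjective (algebraMap R k) hk
        rw [← IsLocalRing.eq_maximalIdeal hmaxk, RingHom.mem_ker]
        exact h1
      have hr : r ∈ I := (hker r).mp hy
      rw [Ideal.mem_bot, ← map_mul]
      exact (hπ'0 _).mpr (hmI (Ideal.mul_mem_mul hs hr))
  have hinj := h A' A p hsmall
  set Kp := (RingHom.ker p.toAlgHom).restrictScalars R with hKp
  let q : I →ₗ[R] Kp :=
    { toFun := fun j => ⟨π' (j : R), (hker j).mpr j.2⟩
      map_add' := fun a b => Subtype.ext (map_add π'.toAlgHom (a : R) (b : R))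
      map_smul' := fun c a => Subtype.ext (by
        change π' (c • (a : R)) = c • π' (a : R)
        exact map_smul π'.toAlgHom c (a : R)) }
  let inc : J' →ₗ[R] I := Submodule.inclusion hJ'.le
  have hex : Function.Exact inc q := by
    intro j
    constructor
    · intro hj
      have h1 : π' (j : R) = 0 := congrArg Subtype.val hj
      exact ⟨⟨(j : R), (hπ'0 _).mp h1⟩, rfl⟩
    · rintro ⟨j', rfl⟩
      apply Subtype.ext
      exact (hπ'0 _).mpr j'.2
  have hqs : Function.Surjective q := by
    rintro ⟨y, hy⟩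
    obtain ⟨r, rfl⟩ := hπ's y
    exact ⟨⟨r, (hker r).mp hy⟩, rfl⟩
  have hexM := lTensor_exact M hex hqs
  let mkl : R →ₗ[R] A' := π'.toAlgHom.toLinearMap
  have hcomm : Kp.subtype ∘ₗ q = mkl ∘ₗ I.subtype := rfl
  have hcomm2 : I.subtype ∘ₗ inc = J'.subtype := rfl
  rw [injective_iff_map_eq_zero]
  intro z hz
  have h1 : LinearMap.lTensor M Kp.subtype (LinearMap.lTensor M q z) = 0 := by
    rw [← LinearMap.comp_apply, ← LinearMap.lTensor_comp, hcomm, LinearMap.lTensor_comp,
      LinearMap.comp_apply, hz, map_zero]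
  have h2 : LinearMap.lTensor M q z = 0 := hinj (by rw [h1, map_zero])
  obtain ⟨z', rfl⟩ := (hexM z).mp h2
  have h3 : LinearMap.lTensor M J'.subtype z' = 0 := by
    rw [← hcomm2, LinearMap.lTensor_comp, LinearMap.comp_apply, hz]
  have h4 : z' = 0 := ih (by rw [h3, map_zero])
  rw [h4, map_zero]

include hk h in
theorem main [Module.Finite R M] : Module.Free R M := by
  have key : ∀ I : Ideal R, Function.Injective (LinearMap.lTensor M I.subtype) := by
    intro I
    induction I using WellFoundedLT.induction with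
    | ind I ih =>
      by_cases hI0 : I = ⊥
      · subst hI0
        haveI : Subsingleton (M ⊗[R] (⊥ : Ideal R)) := by
          haveI : Subsingleton (⊥ : Ideal R) := inferInstance
          infer_instance
        exact Function.injective_of_subsingleton _
      by_cases hIt : I = ⊤
      · subst hIt
        have : (⊤ : Ideal R).subtype = (Submodule.topEquiv : (⊤ : Ideal R) ≃ₗ[R] R).toLinearMap := rfl
        rw [this]
        exact (LinearEquiv.lTensor M Submodule.topEquiv).injective
      · obtain ⟨J', hJ', hmax⟩ := exists_maximal_lt I hI0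
        exact step hk M h I J' (IsLocalRing.le_maximalIdeal hIt) hJ' hmax (ih J' hJ')
  haveI : Module.Flat R M := Module.Flat.iff_lTensor_injective'.mpr key
  exact Module.free_of_flat_of_isLocalRing

end Step

end Groth.Agent.Lib.helper19.FlatSmall
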