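import Mathlib
import Groth.Prelude.Def_W4sfdMinVersal
import Groth.Agent.Lib.helper19.ArtFormal
import Groth.Agent.Lib.helper19.ArtFibre
import Groth.Agent.Lib.helper19.ArtVersal2
import Groth.Agent.Lib.helper19.CRingPush

set_option autoImplicit false
universe u v
open CategoryTheory IsLocalRing ArtFun ArtFun.Art

namespace Groth.Agent.Lib.helper19

variable {Λ : Type u} {k : Type u} [CommRing Λ] [Field k] [Algebra Λ k]

section Theta

variable {A' A : CRing Λ k} (g : A'.carrier →ₐ[Λ] A.carrier) (hg : A.res.comp g = A'.res)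

theorem truncMapOfHom_mk (n : ℕ) (a : A'.carrier) :
    CRing.truncMapOfHom g hg n (Ideal.Quotient.mk (A'.mpow n) a) = Ideal.Quotient.mk (A.mpow n) (g a) :=
  rfl

theorem truncMapOfHom_surjective (hgs : Function.Surjective g) (n : ℕ) :
    Function.Surjective (CRing.truncMapOfHom g hg n) := by
  intro x
  obtain ⟨a, rfl⟩ := Ideal.Quotient.mk_surjective x
  obtain ⟨a', rfl⟩ := hgs a
  exact ⟨Ideal.Quotient.mk _ a', rfl⟩

include hg in
theorem map_maximalIdeal_pow_of_surjective (hgs : Function.Surjective g) (n : ℕ) :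
    Ideal.map g (maximalIdeal A'.carrier ^ n) = maximalIdeal A.carrier ^ n := by
  rw [Ideal.map_pow]
  congr 1
  apply le_antisymm
  · rw [Ideal.map_le_iff_le_comap]
    exact CRing.maximalIdeal_le_comap g hg
  · intro a ha
    obtain ⟨a', rfl⟩ := hgs a
    apply Ideal.mem_map_of_mem
    rw [CRing.mem_maximalIdeal_iff] at ha ⊢
    rw [← ha]
    exact (CRing.res_comp_apply g hg a').symm

/-- the map from `A'/m^(n+2)` to the fibre product of `A'/m^(n+1)` and `A/m^(n+2)` is surjective -/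
theorem theta_surjective (hgs : Function.Surjective g) (n : ℕ) {P : Art Λ k}
    (p₁ : P ⟶ A'.trunc n) (p₂ : P ⟶ A.trunc (n + 1))
    (h : IsFibreProd p₁ p₂ (CRing.truncMapOfHom g hg n) (A.truncMap n))
    (θ : A'.trunc (n + 1) ⟶ P) (hθ1 : θ ≫ p₁ = A'.truncMap n)
    (hθ2 : θ ≫ p₂ = CRing.truncMapOfHom g hg (n + 1)) : Function.Surjective θ := by
  intro z
  obtain ⟨α', hα'⟩ := Ideal.Quotient.mk_surjective (p₁ z)
  obtain ⟨α, hα⟩ := Ideal.Quotient.mk_surjective (p₂ z)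
  have hw := h.w_apply z
  rw [← hα', ← hα] at hw
  have hw' : Ideal.Quotient.mk (A.mpow n) (g α') = Ideal.Quotient.mk (A.mpow n) α := hw
  have hmem : g α' - α ∈ maximalIdeal A.carrier ^ (n + 1) := Ideal.Quotient.eq.mp hw'
  rw [← map_maximalIdeal_pow_of_surjective g hg hgs (n + 1)] at hmem
  obtain ⟨c, hc, hgc⟩ := (Ideal.mem_map_iff_of_surjective g hgs).mp hmem
  refine ⟨Ideal.Quotient.mk (A'.mpow (n + 1)) (α' - c), ?_⟩
  apply h.inj
  · have h1 : p₁ (θ (Ideal.Quotient.mk (A'.mpow (n + 1)) (α' - c))) =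
        A'.truncMap n (Ideal.Quotient.mk (A'.mpow (n + 1)) (α' - c)) := by
      rw [← hθ1]; rfl
    rw [h1, ← hα']
    change Ideal.Quotient.mk (A'.mpow n) (α' - c) = Ideal.Quotient.mk (A'.mpow n) α'
    rw [Ideal.Quotient.eq]
    have : α' - c - α' = -c := by ring
    rw [this]
    exact neg_mem hc
  · have h1 : p₂ (θ (Ideal.Quotient.mk (A'.mpow (n + 1)) (α' - c))) =
        CRing.truncMapOfHom g hg (n + 1) (Ideal.Quotient.mk (A'.mpow (n + 1)) (α' - c)) := by
      rw [← hθ2]; rfl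
    rw [h1, ← hα, truncMapOfHom_mk, map_sub, hgc]
    congr 1
    ring

end Theta

section Lift

variable [IsNoetherianRing Λ] [Module.Finite Λ k]

theorem exists_lift_along_toFormalElt_eq_of_isVersal_of_surjective
    {F : Art Λ k ⥤ Type v}
    (hRS : ∀ ⦃B A A₁ A₂ : Art Λ k⦄ (p₁ : B ⟶ A₁) (p₂ : B ⟶ A₂) (f₁ : A₁ ⟶ A) (f₂ : A₂ ⟶ A)
        (h : IsFibreProd p₁ p₂ f₁ f₂), Function.Surjective f₂ → Function.Bijective (cmp F h))
    (R : CRing Λ k) (ξ : Family R.carrier R.res F) (hξ : IsVersal ξ)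
    (A' A : CRing Λ k) (g : A'.carrier →ₐ[Λ] A.carrier) (hg : A.res.comp g = A'.res)
    (hgs : Function.Surjective g) (η' : FormalElt F A')
    (φ : R.carrier →ₐ[Λ] A.carrier) (hφ : A.res.comp φ = R.res)
    (hsq : (ξ.along φ hφ).toFormalElt = η'.push g hg) :
    ∃ (ψ : R.carrier →ₐ[Λ] A'.carrier) (hψ : A'.res.comp ψ = R.res),
      g.comp ψ = φ ∧ (ξ.along ψ hψ).toFormalElt = η' := by
  let φn : ∀ n, HomSet R.carrier R.res (A.trunc n) := fun n =>
    ⟨(A.truncHom n).1.comp φ, by rw [← AlgHom.comp_assoc, (A.truncHom n).2, hφ]⟩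
  have hφn : ∀ n, HomSet.map (A.truncMap n) (φn (n + 1)) = φn n := by
    intro n
    apply Subtype.ext
    apply AlgHom.ext
    intro r
    rfl
  have hsqn : ∀ n, ξ.app _ (φn n) = F.map (CRing.truncMapOfHom g hg n) (η'.elt n) := by
    intro n
    exact congrArg (fun u => u.elt n) hsq
  have step : ∀ (n : ℕ) (ψ : {ψ : HomSet R.carrier R.res (A'.trunc n) //
        HomSet.map (CRing.truncMapOfHom g hg n) ψ = φn n ∧ ξ.app _ ψ = η'.elt n}),
      ∃ ψ' : {ψ' : HomSet R.carrier R.res (A'.trunc (n + 1)) //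
        HomSet.map (CRing.truncMapOfHom g hg (n + 1)) ψ' = φn (n + 1) ∧
          ξ.app _ ψ' = η'.elt (n + 1)},
        HomSet.map (A'.truncMap n) ψ'.1 = ψ.1 := by
    rintro n ⟨ψ, hψ1, hψ2⟩
    have hf₂ : Function.Surjective (A.truncMap n) := truncMap_surjective A n
    have h := isFibreProd_fibreProd (CRing.truncMapOfHom g hg n) (A.truncMap n) hf₂
    set p₁ := fibreProdFst (CRing.truncMapOfHom g hg n) (A.truncMap n) hf₂ with hp₁
    set p₂ := fibreProdSnd (CRing.truncMapOfHom g hg n) (A.truncMap n) hf₂ with hp₂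
    obtain ⟨θ, hθ1, hθ2⟩ := IsFibreProd.exists_lift h (A'.truncMap n)
      (CRing.truncMapOfHom g hg (n + 1)) (CRing.truncMapOfHom_truncMap g hg n).symm
    have hθs := theta_surjective g hg hgs n p₁ p₂ h θ hθ1 hθ2
    obtain ⟨χ, hχ1, hχ2⟩ := IsFibreProd.exists_homSet_lift h ψ (φn (n + 1)) (by
      rw [hψ1, hφn])
    have hinj := (hRS p₁ p₂ _ _ h hf₂).1
    have hz : F.map θ (η'.elt (n + 1)) = ξ.app _ χ := by
      apply hinj
      apply FibProd.ext
      · change F.map p₁ (F.map θ (η'.elt (n + 1))) = F.map p₁ (ξ.app _ χ)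
        rw [← Functor.map_comp_apply, hθ1, η'.compat, ← ξ.natural, hχ1, hψ2]
      · change F.map p₂ (F.map θ (η'.elt (n + 1))) = F.map p₂ (ξ.app _ χ)
        rw [← Functor.map_comp_apply, hθ2, ← ξ.natural, hχ2, hsqn]
    obtain ⟨ψ', hψ'1, hψ'2⟩ := hξ θ hθs χ (η'.elt (n + 1)) hz
    refine ⟨⟨ψ', ?_, hψ'2⟩, ?_⟩
    · rw [← hχ2, ← hψ'1, ← HomSet.map_comp, hθ2]
    · change HomSet.map (A'.truncMap n) ψ' = ψ
      rw [← hχ1, ← hψ'1, ← HomSet.map_comp, hθ1]
  choose next hnext using step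
  have h00 : ∃ ψ : HomSet R.carrier R.res (A'.trunc 0),
      HomSet.map (CRing.truncMapOfHom g hg 0) ψ = φn 0 ∧ ξ.app _ ψ = η'.elt 0 :=
    hξ (CRing.truncMapOfHom g hg 0) (truncMapOfHom_surjective g hg hgs 0) (φn 0) (η'.elt 0)
      (hsqn 0).symm
  let seq : ∀ n, {ψ : HomSet R.carrier R.res (A'.trunc n) //
        HomSet.map (CRing.truncMapOfHom g hg n) ψ = φn n ∧ ξ.app _ ψ = η'.elt n} := fun n =>
    Nat.rec (⟨Classical.choose h00, Classical.choose_spec h00⟩) (fun n u => next n u) n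
  obtain ⟨ψ, hψ, hψn⟩ := exists_algHom_of_compatible A' (fun n => (seq n).1)
    (fun n => hnext n (seq n))
  refine ⟨ψ, hψ, ?_, ?_⟩
  · apply CRing.algHom_ext_trunc A
    intro n
    have h1 : (A.truncHom n).1.comp (g.comp ψ) =
        (CRing.truncMapOfHom g hg n).toAlgHom.comp ((A'.truncHom n).1.comp ψ) := by
      apply AlgHom.ext
      intro r
      rfl
    rw [h1, hψn n]
    exact congrArg Subtype.val (seq n).2.1
  · apply FormalElt.ext'
    intro n
    change ξ.app _ _ = η'.elt n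
    rw [← (seq n).2.2]
    congr 1
    exact Subtype.ext (hψn n)

end Lift

end Groth.Agent.Lib.helper19
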