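import Mathlib
import Groth.Prelude.Def_Curv2

universe u
open CategoryTheory AlgebraicGeometry Limits Opposite

namespace Groth.Agent.Lib.helper19.GlobGenExt

/-- lifting a global section along a map surjective on sections over `⊤`. -/
theorem exists_section_lift {X : Scheme.{u}} {M N : X.Modules} (g : M ⟶ N)
    (hsurj : Function.Surjective (g.val.app (op ⊤)).hom) (t : N.sections) :
    ∃ s : M.sections, SheafOfModules.sectionsMap g s = t := by
  obtain ⟨a, ha⟩ := hsurj (t.1 (op ⊤))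
  refine ⟨PresheafOfModules.sectionsMk (fun U => M.val.map (homOfLE le_top).op a) ?_, ?_⟩
  · intro U V f
    have hf : (homOfLE (le_top : U.unop ≤ ⊤)).op ≫ f = (homOfLE (le_top : V.unop ≤ ⊤)).op :=
      Subsingleton.elim _ _
    rw [← hf]
    exact (PresheafOfModules.map_comp_apply _ _ _ _).symm
  · apply PresheafOfModules.sections_ext
    intro U
    have hnat := PresheafOfModules.naturality_apply g.val (homOfLE (le_top : U.unop ≤ ⊤)).op a
    have h2 : N.val.map (homOfLE (le_top : U.unop ≤ ⊤)).op (t.1 (op ⊤)) = t.1 U :=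
      PresheafOfModules.sections_property t _
    rw [← h2, ← ha]
    exact hnat
  
end Groth.Agent.Lib.helper19.GlobGenExt

namespace Groth.Agent.Lib.helper19.GlobGenExt

theorem main (X : Scheme.{u}) (S : ShortComplex X.Modules) (hS : S.ShortExact)
    (hsurj : Function.Surjective (S.g.val.app (op ⊤)).hom)
    (h1 : Curv2.IsGloballyGenerated S.X₁) (h3 : Curv2.IsGloballyGenerated S.X₃) :
    Curv2.IsGloballyGenerated S.X₂ := by
  obtain ⟨ι₁, p₁, hp₁⟩ := h1
  obtain ⟨ι₃, p₃, hp₃⟩ := h3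
  have hlift : ∃ l₃ : (SheafOfModules.free ι₃ : X.Modules) ⟶ S.X₂, l₃ ≫ S.g = p₃ := by
    choose s hs using fun i => exists_section_lift S.g hsurj (S.X₃.freeHomEquiv p₃ i)
    refine ⟨S.X₂.freeHomEquiv.symm s, ?_⟩
    rw [SheafOfModules.freeHomEquiv_symm_comp]
    apply S.X₃.freeHomEquiv.injective
    rw [Equiv.apply_symm_apply]
    funext i
    exact hs i
  obtain ⟨l₃, hl₃⟩ := hlift
  let q : (SheafOfModules.free ι₁ : X.Modules) ⨿ (SheafOfModules.free ι₃ : X.Modules) ⟶ S.X₂ :=
    coprod.desc (p₁ ≫ S.f) l₃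
  have hq : Epi q := by
    apply Preadditive.epi_of_cancel_zero
    intro Z h hqh
    have e1 : coprod.inl ≫ q = p₁ ≫ S.f := coprod.inl_desc _ _
    have e2 : coprod.inr ≫ q = l₃ := coprod.inr_desc _ _
    have h1 : (p₁ ≫ S.f) ≫ h = 0 := by
      rw [← e1, Category.assoc, hqh, comp_zero]
    have h2 : l₃ ≫ h = 0 := by
      rw [← e2, Category.assoc, hqh, comp_zero]
    have h3 : S.f ≫ h = 0 := by
      rw [Category.assoc] at h1
      exact (cancel_epi p₁).mp (h1.trans comp_zero.symm)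
    haveI := hS.epi_g
    have h4 : S.g ≫ hS.exact.desc h h3 = h := hS.exact.g_desc h h3
    have h5 : p₃ ≫ hS.exact.desc h h3 = 0 := by
      rw [← hl₃, Category.assoc]
      exact (congrArg (fun m => l₃ ≫ m) h4).trans h2
    have h6 : hS.exact.desc h h3 = 0 := (cancel_epi p₃).mp (h5.trans comp_zero.symm)
    exact h4.symm.trans ((congrArg (fun m => S.g ≫ m) h6).trans comp_zero)
  refine ⟨ι₁ ⊕ ι₃, (SheafOfModules.freeSumIso ι₁ ι₃).inv ≫ q, ?_⟩
  exact epi_comp _ _

end Groth.Agent.Lib.helper19.GlobGenExt
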