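import Mathlib

namespace Groth.Agent.Lib.helper19.Hilb

open MvPolynomial

variable {k : Type*} [Field k]

lemma finrank_homog (r n : ℕ) :
    Module.finrank k (homogeneousSubmodule (Fin (r + 1)) k n) = (n + r).choose r := by
  classical
  rw [homogeneousSubmodule_eq_finsupp_supported]
  have e := AddMonoidAlgebra.supportedEquivFinsupp (R := k) (S := k)
    {d : Fin (r + 1) →₀ ℕ | d.degree = n}
  rw [e.finrank_eq]
  haveI : Fintype {d : Fin (r + 1) →₀ ℕ | d.degree = n} :=
    Fintype.ofFinset (Finset.univ.finsuppAntidiag n)
      (by intro d; simp [Finset.mem_finsuppAntidiag, Finsupp.degree_eq_sum])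
  rw [Module.finrank_finsupp_self, Fintype.card_of_subtype (Finset.univ.finsuppAntidiag n)
    (fun d => by simp [Finset.mem_finsuppAntidiag, Finsupp.degree_eq_sum]),
    Finset.card_finsuppAntidiag_nat_eq_choose]
  simp only [Finset.card_univ, Fintype.card_fin]
  have : r + 1 + n - 1 = n + r := by omega
  rw [this, Nat.choose_symm_add]

lemma hc_mul {σ : Type*} {m : ℕ} (f g : MvPolynomial σ k) (hf : f.IsHomogeneous m) (j : ℕ) :
    homogeneousComponent (m + j) (f * g) = f * homogeneousComponent j g := by
  classical
  ext d
  rw [coeff_homogeneousComponent, coeff_mul, coeff_mul]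
  have h1 : (if d.degree = m + j then ∑ x ∈ Finset.HasAntidiagonal.antidiagonal d, coeff x.1 f * coeff x.2 g
      else 0) = ∑ x ∈ Finset.HasAntidiagonal.antidiagonal d,
        if d.degree = m + j then coeff x.1 f * coeff x.2 g else 0 := by
    split_ifs <;> simp
  rw [h1]
  apply Finset.sum_congr rfl
  intro x hx
  rw [coeff_homogeneousComponent]
  have hd : d = x.1 + x.2 := (Finset.HasAntidiagonal.mem_antidiagonal.1 hx).symm
  by_cases h0 : coeff x.1 f = 0
  · simp [h0]
  · have h2 : x.1.degree = m := by
      rw [Finsupp.degree_eq_weight_one]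
      exact hf h0
    have h3 : d.degree = m + j ↔ x.2.degree = j := by
      rw [hd, map_add, h2]; omega
    simp [h3]

lemma isHomogeneous_of_mul {σ : Type*} {m t : ℕ} (f g : MvPolynomial σ k)
    (hf : f.IsHomogeneous m) (hf0 : f ≠ 0) (hmt : m ≤ t) (hfg : (f * g).IsHomogeneous t) :
    g.IsHomogeneous (t - m) := by
  have h1 := hc_mul f g hf (t - m)
  have h2 : m + (t - m) = t := by omega
  rw [h2, homogeneousComponent_eq_self hfg] at h1
  have h3 : g = homogeneousComponent (t - m) g := mul_left_cancel₀ hf0 h1
  rw [h3]
  exact homogeneousComponent_isHomogeneous _ _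

theorem main (r m : ℕ)
    (f : MvPolynomial (Fin (r + 1)) k) (hf : f.IsHomogeneous m) (hf0 : f ≠ 0) (t : ℕ) (ht : m ≤ t) :
    Module.finrank k
        (Submodule.map ((Ideal.Quotient.mkₐ k (Ideal.span {f})).toLinearMap)
          (MvPolynomial.homogeneousSubmodule (Fin (r + 1)) k t)) =
      Nat.choose (t + r) r - Nat.choose (t + r - m) r := by
  set V := homogeneousSubmodule (Fin (r + 1)) k t with hV
  set W := homogeneousSubmodule (Fin (r + 1)) k (t - m) with hW
  set π := (Ideal.Quotient.mkₐ k (Ideal.span {f})).toLinearMap with hπ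
  haveI : Module.Finite k V := Module.Finite.iff_fg.2 (homogeneousSubmodule_fg _ _ _)
  let πt : V →ₗ[k] _ := π.domRestrict V
  have hrange : LinearMap.range πt = V.map π := LinearMap.range_domRestrict _ _
  have hrn := LinearMap.finrank_range_add_finrank_ker πt
  -- multiplication by f
  let μ : W →ₗ[k] V :=
    { toFun := fun g => ⟨f * g.1, by
        have := hf.mul g.2
        rwa [Nat.add_sub_cancel' ht] at this⟩
      map_add' := fun a b => by ext1; simp [mul_add]
      map_smul' := fun c a => by ext1; simp }
  have hμinj : Function.Injective μ := by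
    intro a b h
    have := congrArg Subtype.val h
    exact Subtype.ext (mul_left_cancel₀ hf0 this)
  have hμrange : LinearMap.range μ = LinearMap.ker πt := by
    ext v
    constructor
    · rintro ⟨g, rfl⟩
      rw [LinearMap.mem_ker]
      change Ideal.Quotient.mk _ (f * g.1) = 0
      rw [Ideal.Quotient.eq_zero_iff_mem]
      exact Ideal.mul_mem_right _ _ (Ideal.mem_span_singleton_self f)
    · intro hv
      rw [LinearMap.mem_ker] at hv
      change Ideal.Quotient.mk _ v.1 = 0 at hv
      rw [Ideal.Quotient.eq_zero_iff_mem, Ideal.mem_span_singleton] at hv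
      obtain ⟨g, hg⟩ := hv
      have hgh : g.IsHomogeneous (t - m) := by
        apply isHomogeneous_of_mul f g hf hf0 ht
        rw [← hg]
        exact v.2
      exact ⟨⟨g, hgh⟩, Subtype.ext hg.symm⟩
  have hker : Module.finrank k (LinearMap.ker πt) = Module.finrank k W := by
    rw [← hμrange]
    exact LinearMap.finrank_range_of_inj hμinj
  rw [← hrange]
  have h1 : Module.finrank k V = (t + r).choose r := finrank_homog r t
  have h2 : Module.finrank k W = (t - m + r).choose r := finrank_homog r (t - m)
  have h3 : t + r - m = t - m + r := by omega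
  rw [h3]
  omega

end Groth.Agent.Lib.helper19.Hilb
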