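import Mathlib
import Groth.Prelude.Def_W4sfdMinVersal
import Groth.Agent.Lib.helper19.PSUniv3

set_option autoImplicit false
universe u v
open IsLocalRing MvPowerSeries ArtFun ArtFun.Art CategoryTheory

namespace Groth.Agent.Lib.helper19

variable {Λ : Type u} {k : Type u} [CommRing Λ] [Field k] [Algebra Λ k]

/-- the base ring as a coefficient ring -/
@[reducible] noncomputable def baseCRing [IsNoetherianRing Λ] [IsLocalRing Λ]
    [IsAdicComplete (IsLocalRing.maximalIdeal Λ) Λ]
    (hk : Function.Surjective (algebraMap Λ k)) : CRing Λ k :=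
  { carrier := Λ
    res := Algebra.ofId Λ k
    res_surjective := hk
    isAdicComplete := inferInstance }

theorem isSmoothFunctor_hR_iff_powerSeries [IsNoetherianRing Λ] [Module.Finite Λ k]
    [IsLocalRing Λ] [IsAdicComplete (IsLocalRing.maximalIdeal Λ) Λ]
    (hk : Function.Surjective (algebraMap Λ k)) (R : CRing Λ k) :
    IsSmoothFunctor (hR R.carrier R.res) ↔
      ∃ n : ℕ, Nonempty (R.carrier ≃ₐ[Λ] MvPowerSeries (Fin n) Λ) := by
  have hRS : R.res.comp (IsScalarTower.toAlgHom Λ (baseCRing hk).carrier R.carrier) =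
      (baseCRing hk).res := by
    apply AlgHom.ext
    intro l
    exact R.res.commutes l
  have key := isVersal_along_iff_powerSeries (baseCRing hk) R hRS
  rw [← key]
  have hsub : ∀ A : Art Λ k, Subsingleton (HomSet Λ (Algebra.ofId Λ k) A) := by
    intro A
    constructor
    intro a b
    apply Subtype.ext
    exact Subsingleton.elim _ _
  constructor
  · intro hs B A μ hμ φ y hy
    obtain ⟨ψ, hψ⟩ := hs μ hμ φ
    exact ⟨ψ, hψ, (hsub B).elim _ _⟩
  · intro hv B A μ hμ φ
    let y : HomSet Λ (Algebra.ofId Λ k) B := ⟨Algebra.ofId Λ B, by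
      apply AlgHom.ext
      intro l
      exact B.res.commutes l⟩
    obtain ⟨ψ, hψ1, hψ2⟩ := hv μ hμ φ y ((hsub A).elim _ _)
    exact ⟨ψ, hψ1⟩

end Groth.Agent.Lib.helper19
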