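import Mathlib
import Groth.Prelude.Def_ArtFun5
import Groth.Agent.Lib.helper19.ArtVersal2
import Groth.Agent.Lib.helper19.ArtHull
import Groth.Agent.Lib.helper19.PSUniv4

set_option autoImplicit false
universe u v
open CategoryTheory IsLocalRing

namespace Groth.Agent.Lib.helper19

variable {Λ : Type u} {k : Type u} [CommRing Λ] [Field k] [Algebra Λ k]
  [IsNoetherianRing Λ] [Module.Finite Λ k]
open ArtFun ArtFun.Art

/-- a family that is surjective on `k[ε]` forces `F(k)` to be a point -/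
theorem h0_of_surjective_dual {F : Art Λ k ⥤ Type v} {R : Type u} [CommRing R] [Algebra Λ R]
    {resR : R →ₐ[Λ] k} (ξ : Family R resR F) (hξ : Function.Surjective (ξ.app (dual Λ k))) :
    H0 F := by
  let φ₀ : HomSet R resR (base Λ k) := ⟨resR, AlgHom.id_comp _⟩
  have key : ∀ x : F.obj (base Λ k), x = ξ.app _ φ₀ := by
    intro x
    obtain ⟨φ, hφ⟩ := hξ (F.map (baseToDual : base Λ k ⟶ dual Λ k) x)
    have hcomp : ((baseToDual : base Λ k ⟶ dual Λ k) ≫ toBase (dual Λ k) : base Λ k ⟶ base Λ k) = 𝟙 _ :=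
      (eq_toBase _).trans (eq_toBase _).symm
    have h1 : F.map (toBase (dual Λ k)) (F.map (baseToDual : base Λ k ⟶ dual Λ k) x) = x := by
      rw [← Functor.map_comp_apply, hcomp, F.map_id]
      rfl
    rw [← h1, ← hφ, ← ξ.natural]
    congr 1
    exact HomSet.base_subsingleton _ _
  refine ⟨⟨ξ.app _ φ₀⟩, ⟨fun x x' => ?_⟩⟩
  rw [key x, key x']

theorem main16048
    [IsLocalRing Λ] [IsAdicComplete (IsLocalRing.maximalIdeal Λ) Λ]
    (hk : Function.Surjective (algebraMap Λ k))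
    {F : ArtFun.Art Λ k ⥤ Type v} (hF : ArtFun.HasHull F)
    (R : ArtFun.CRing Λ k) (n : ℕ) (e : R.carrier ≃ₐ[Λ] MvPowerSeries (Fin n) Λ)
    (ξ : ArtFun.Family R.carrier R.res F)
    (hξ : Function.Bijective (ArtFun.TangentSpace.ofFamily ξ)) :
    ArtFun.IsMiniversal ξ := by
  obtain ⟨P⟩ := hF
  have h0 : H0 F := h0_of_surjective_dual P.family P.miniversal.2.2
  have hS1 : S1 F := s1_of_isVersal h0 P.family P.miniversal.1
  have hHeps : Heps F := heps_of_isMiniversal h0 P.family P.miniversal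
  have hsm : IsSmoothFunctor (hR R.carrier R.res) :=
    (isSmoothFunctor_hR_iff_powerSeries hk R).2 ⟨n, ⟨e⟩⟩
  refine ⟨?_, hξ⟩
  rw [isVersal_iff_tangent_surjective_and_exists_lift h0 hS1 hHeps ξ]
  refine ⟨hξ.2, ?_⟩
  intro B A μ hμ φ y _
  obtain ⟨ψ, hψ⟩ := hsm μ hμ.1 φ
  exact ⟨ψ, hψ⟩

end Groth.Agent.Lib.helper19
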