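import Mathlib
import Groth.Agent.Lib.helper19.JacLocal
import Groth.Agent.Lib.helper19.JacobiAtPrime

/-!
# Zariski's Jacobian criterion with derivations (S4580)
-/

open TensorProduct KaehlerDifferential
open Groth.Agent.Lib.helper19.JacLocal

namespace Groth.Agent.Lib.helper19.JacZariski

universe u

section minor

variable {K W I : Type*} [Field K] [AddCommGroup W] [Module K W]

/-- If a family of functionals separates points and `y` is linearly independent, some `m × m`
"minor" is invertible. -/
theorem exists_det_ne_zero {m : ℕ} (y : Fin m → W) (hy : LinearIndependent K y)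
    (Ψ : I → (W →ₗ[K] K)) (hΨ : ∀ w : W, (∀ i, Ψ i w = 0) → w = 0) :
    ∃ j : Fin m → I, Matrix.det (Matrix.of fun a b => Ψ (j b) (y a)) ≠ 0 := by
  classical
  let U : Submodule K W := Submodule.span K (Set.range y)
  let bU : Module.Basis (Fin m) K U := Module.Basis.span hy
  haveI : Module.Finite K U := Module.Finite.of_basis bU
  have hdim : Module.finrank K U = m := by
    rw [Module.finrank_eq_card_basis bU, Fintype.card_fin]
  -- the restricted functionals
  let S : Set (Module.Dual K U) := Set.range fun i => (Ψ i).comp U.subtype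
  have hS : Submodule.span K S = ⊤ := by
    have h1 : (Submodule.span K S).dualCoannihilator = ⊥ := by
      rw [eq_bot_iff]
      intro u hu
      rw [Submodule.mem_dualCoannihilator] at hu
      have : (u : W) = 0 := hΨ u (fun i => hu _ (Submodule.subset_span ⟨i, rfl⟩))
      rw [Submodule.mem_bot]
      exact Subtype.ext this
    have h2 := Subspace.dualCoannihilator_dualAnnihilator_eq (W := Submodule.span K S)
    rw [h1] at h2
    rw [← h2]
    exact Submodule.dualAnnihilator_bot
  obtain ⟨g, hgS, hgspan, -⟩ := Submodule.exists_fun_fin_finrank_span_eq K S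
  have hcard : Module.finrank K (Submodule.span K S) = m := by
    rw [hS, finrank_top, Subspace.dual_finrank_eq, hdim]
  replace hgspan := hgspan.trans hS
  let e : Fin m ≃ Fin (Module.finrank K (Submodule.span K S)) := finCongr hcard.symm
  have hj : ∀ b : Fin m, ∃ i : I, (Ψ i).comp U.subtype = g (e b) := fun b => hgS (e b)
  choose j hj using hj
  refine ⟨j, ?_⟩
  intro hdet
  obtain ⟨v, hv0, hv⟩ := Matrix.exists_vecMul_eq_zero_iff.mpr hdet
  apply hv0
  -- u = Σ v a • y a
  let u : U := ∑ a, v a • bU a
  have hu : ∀ φ : Module.Dual K U, φ u = 0 := by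
    intro φ
    have hφ : φ ∈ Submodule.span K (Set.range g) := by rw [hgspan]; trivial
    induction hφ using Submodule.span_induction with
    | mem φ h =>
      obtain ⟨b', rfl⟩ := h
      obtain ⟨b, rfl⟩ := e.surjective b'
      rw [← hj b]
      have := congrFun hv b
      simp only [Matrix.vecMul, dotProduct, Matrix.of_apply, Pi.zero_apply] at this
      simp only [u, map_sum, map_smul, LinearMap.comp_apply, Submodule.subtype_apply,
        smul_eq_mul]
      rw [← this]
      apply Finset.sum_congr rfl
      intro a _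
      have hba : ((bU a : U) : W) = y a := congrArg Subtype.val (Module.Basis.span_apply hy a)
      rw [hba]
    | zero => simp
    | add x y _ _ hx hy => rw [LinearMap.add_apply, hx, hy, add_zero]
    | smul c x _ hx => rw [LinearMap.smul_apply, hx, smul_zero]
  have hu0 : u = 0 := (Module.forall_dual_apply_eq_zero_iff K u).mp hu
  have := (Fintype.linearIndependent_iff.mp bU.linearIndependent) v hu0
  funext a
  exact this a

end minor

section separation

variable {B Ω K : Type*} [CommRing B] [AddCommGroup Ω] [Module B Ω] [CommRing K] [Algebra B K]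

/-- the functional on `K ⊗ Ω` induced by `φ : Ω → B` -/
noncomputable def psi' (φ : Ω →ₗ[B] B) : K ⊗[B] Ω →ₗ[K] K :=
  LinearMap.liftBaseChange K ((Algebra.linearMap B K) ∘ₗ φ)

@[simp] theorem psi'_tmul (φ : Ω →ₗ[B] B) (k : K) (ω : Ω) :
    psi' (K := K) φ (k ⊗ₜ[B] ω) = k * algebraMap B K (φ ω) := by
  simp [psi']

theorem separation [Module.Projective B Ω] (w : K ⊗[B] Ω)
    (h : ∀ φ : Ω →ₗ[B] B, psi' (K := K) φ w = 0) : w = 0 := by
  classical
  obtain ⟨s, hs⟩ := Module.projective_def'.mp (inferInstance : Module.Projective B Ω)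
  have hinj : Function.Injective (s.baseChange K) := by
    intro x y hxy
    have := congrArg ((Finsupp.linearCombination B id).baseChange K) hxy
    rwa [← LinearMap.comp_apply, ← LinearMap.comp_apply, ← LinearMap.baseChange_comp, hs,
      LinearMap.baseChange_id] at this
  have hcoord : ∀ (w : K ⊗[B] Ω) (ω₀ : Ω),
      TensorProduct.finsuppScalarRight B B K Ω (s.baseChange K w) ω₀ =
        psi' (K := K) ((Finsupp.lapply ω₀) ∘ₗ s) w := by
    intro w ω₀
    induction w using TensorProduct.induction_on with
    | zero => simp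
    | tmul k ω =>
      rw [LinearMap.baseChange_tmul, TensorProduct.finsuppScalarRight_apply_tmul_apply, psi'_tmul,
        Algebra.smul_def, mul_comm]
      rfl
    | add x y hx hy => simp only [map_add, Finsupp.add_apply, hx, hy]
  apply hinj
  rw [map_zero]
  apply (TensorProduct.finsuppScalarRight B B K Ω).injective
  rw [map_zero]
  ext ω₀
  rw [hcoord, h]
  rfl

end separation

section setup

variable {A B C : Type u} [CommRing A] [CommRing B] [CommRing C] [Algebra A B] [Algebra B C]
  [Algebra A C] [IsScalarTower A B C] (hsurj : Function.Surjective (algebraMap B C))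
  (p : Ideal C) [p.IsPrime]

/-- the comparison map `κ(p) ⊗_C J/J² → κ(p) ⊗_B Ω_{B/A}` -/
noncomputable def LL : p.ResidueField ⊗[C] (ext (A := A) hsurj).Cotangent →ₗ[p.ResidueField]
    p.ResidueField ⊗[B] Ω[B⁄A] :=
  (AlgebraTensorModule.cancelBaseChange B C p.ResidueField p.ResidueField Ω[B⁄A]).toLinearMap ∘ₗ
    ((ext (A := A) hsurj).cotangentComplex.baseChange p.ResidueField)

theorem LL_mk (x : (ext (A := A) hsurj).ker) :
    LL (A := A) hsurj p ((1 : p.ResidueField) ⊗ₜ[C] Algebra.Extension.Cotangent.mk x) =
      (1 : p.ResidueField) ⊗ₜ[B] D A B (x.1 : B) := by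
  unfold LL
  rw [LinearMap.comp_apply, LinearMap.baseChange_tmul, Algebra.Extension.cotangentComplex_mk,
    LinearEquiv.coe_coe]
  have := AlgebraTensorModule.cancelBaseChange_tmul B C p.ResidueField (1 : p.ResidueField)
    (D A B (x.1 : B)) (1 : C)
  rw [one_smul] at this
  exact this

theorem LL_injective_iff :
    Function.Injective (LL (A := A) hsurj p) ↔
      Function.Injective ((ext (A := A) hsurj).cotangentComplex.lTensor p.ResidueField) := by
  unfold LL
  rw [LinearMap.coe_comp, LinearEquiv.coe_coe, Function.Injective.of_comp_iff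
    (AlgebraTensorModule.cancelBaseChange B C p.ResidueField p.ResidueField Ω[B⁄A]).injective]
  rfl

theorem algebraMap_eq_zero_iff (z : B) :
    algebraMap B p.ResidueField z = 0 ↔ z ∈ p.comap (algebraMap B C) := by
  rw [IsScalarTower.algebraMap_apply B C p.ResidueField, Ideal.algebraMap_residueField_eq_zero,
    Ideal.mem_comap]

/-- the vectors `1 ⊗ [x]` span `κ(p) ⊗ J/J²` -/
theorem span_one_tmul_mk :
    Submodule.span p.ResidueField
      (Set.range fun x : (ext (A := A) hsurj).ker =>
        (1 : p.ResidueField) ⊗ₜ[C] (Algebra.Extension.Cotangent.mk x : (ext (A := A) hsurj).Cotangent)) = ⊤ := by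
  have h1 : Submodule.span C (Set.range (Algebra.Extension.Cotangent.mk (P := ext (A := A) hsurj))) = ⊤ := by
    rw [eq_top_iff]
    rintro z -
    obtain ⟨x, rfl⟩ := Algebra.Extension.Cotangent.mk_surjective z
    exact Submodule.subset_span ⟨x, rfl⟩
  have := JacobiAtPrime.span_one_tmul (K := p.ResidueField) _ h1
  rw [← Set.range_comp] at this
  exact this

theorem mk_smul (b : B) (x : (ext (A := A) hsurj).ker) :
    (Algebra.Extension.Cotangent.mk (b • x) : (ext (A := A) hsurj).Cotangent) =
      algebraMap B C b • Algebra.Extension.Cotangent.mk x := by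
  rw [map_smul, algebraMap_smul]

/-- local generation: every element of the kernel is, up to a unit at `q`, a combination of the `f i`. -/
theorem exists_mul_mem_span {m : ℕ} (f : Fin m → B)
    (hgen : (RingHom.ker (algebraMap B C)).map
        (algebraMap B (Localization.AtPrime (p.comap (algebraMap B C)))) =
      Ideal.span (Set.range fun i => algebraMap B (Localization.AtPrime (p.comap (algebraMap B C))) (f i)))
    (x : B) (hx : x ∈ RingHom.ker (algebraMap B C)) :
    ∃ s : B, s ∉ p.comap (algebraMap B C) ∧ s * x ∈ Ideal.span (Set.range f) := by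
  have h1 : algebraMap B (Localization.AtPrime (p.comap (algebraMap B C))) x ∈
      Ideal.map (algebraMap B (Localization.AtPrime (p.comap (algebraMap B C))))
        (Ideal.span (Set.range f)) := by
    rw [Ideal.map_span, ← Set.range_comp]
    have : (⇑(algebraMap B (Localization.AtPrime (p.comap (algebraMap B C)))) ∘ f) =
        fun i => algebraMap B (Localization.AtPrime (p.comap (algebraMap B C))) (f i) := rfl
    rw [this, ← hgen]
    exact Ideal.mem_map_of_mem _ hx
  rw [IsLocalization.mem_map_algebraMap_iff (p.comap (algebraMap B C)).primeCompl] at h1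
  obtain ⟨⟨a, s⟩, has⟩ := h1
  rw [← map_mul] at has
  obtain ⟨t, ht⟩ := (IsLocalization.eq_iff_exists (p.comap (algebraMap B C)).primeCompl _).mp has
  refine ⟨t * s, (t * s).2, ?_⟩
  have : ((t * s : (p.comap (algebraMap B C)).primeCompl) : B) * x = t * a := by
    rw [Submonoid.coe_mul, mul_assoc, mul_comm (s : B) x, ht]
  exact this ▸ Ideal.mul_mem_left _ _ a.2

theorem injective_of_det {m : ℕ} (f : Fin m → B) (D : Fin m → Derivation A B B)
    (hf : ∀ i, f i ∈ RingHom.ker (algebraMap B C))
    (hgen : (RingHom.ker (algebraMap B C)).map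
        (algebraMap B (Localization.AtPrime (p.comap (algebraMap B C)))) =
      Ideal.span (Set.range fun i => algebraMap B (Localization.AtPrime (p.comap (algebraMap B C))) (f i)))
    (hdet : Matrix.det (Matrix.of fun i j => D j (f i)) ∉ p.comap (algebraMap B C)) :
    Function.Injective ((ext (A := A) hsurj).cotangentComplex.lTensor p.ResidueField) := by
  rw [← LL_injective_iff]
  let fk : Fin m → (ext (A := A) hsurj).ker := fun i => ⟨f i, hf i⟩
  let v : Fin m → p.ResidueField ⊗[C] (ext (A := A) hsurj).Cotangent :=
    fun i => (1 : p.ResidueField) ⊗ₜ[C] Algebra.Extension.Cotangent.mk (fk i)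
  apply JacobiAtPrime.injective_of_span_of_li (LL (A := A) hsurj p) v
  · -- spanning
    rw [eq_top_iff, ← span_one_tmul_mk (A := A) hsurj p, Submodule.span_le]
    rintro _ ⟨x, rfl⟩
    obtain ⟨s, hs, hsx⟩ := exists_mul_mem_span p f hgen x.1 x.2
    obtain ⟨c, hc⟩ := (Ideal.mem_span_range_iff_exists_fun).mp hsx
    have hs0 : algebraMap B p.ResidueField s ≠ 0 := fun h => hs ((algebraMap_eq_zero_iff p s).mp h)
    have hkey : s • x = ∑ i, c i • fk i := by
      apply Subtype.ext
      simp only [Submodule.coe_smul_of_tower, smul_eq_mul, AddSubmonoidClass.coe_finsetSum,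
        Submodule.coe_sum, fk]
      exact hc.symm
    have h2 : algebraMap B p.ResidueField s • ((1 : p.ResidueField) ⊗ₜ[C]
        (Algebra.Extension.Cotangent.mk x : (ext (A := A) hsurj).Cotangent)) =
        ∑ i, algebraMap B p.ResidueField (c i) • v i := by
      have h3 : ∀ (b : B) (y : (ext (A := A) hsurj).ker),
          algebraMap B p.ResidueField b • ((1 : p.ResidueField) ⊗ₜ[C]
            (Algebra.Extension.Cotangent.mk y : (ext (A := A) hsurj).Cotangent)) =
          (1 : p.ResidueField) ⊗ₜ[C] Algebra.Extension.Cotangent.mk (b • y) := by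
        intro b y
        rw [mk_smul, TensorProduct.tmul_smul, TensorProduct.smul_tmul', TensorProduct.smul_tmul',
          smul_eq_mul, Algebra.smul_def, IsScalarTower.algebraMap_apply B C p.ResidueField]
      rw [h3, hkey, map_sum, TensorProduct.tmul_sum]
      apply Finset.sum_congr rfl
      intro i _
      rw [h3]
    have h4 : (1 : p.ResidueField) ⊗ₜ[C]
        (Algebra.Extension.Cotangent.mk x : (ext (A := A) hsurj).Cotangent) =
        (algebraMap B p.ResidueField s)⁻¹ • ∑ i, algebraMap B p.ResidueField (c i) • v i := by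
      rw [← h2, smul_smul, inv_mul_cancel₀ hs0, one_smul]
    change (1 : p.ResidueField) ⊗ₜ[C]
        (Algebra.Extension.Cotangent.mk x : (ext (A := A) hsurj).Cotangent) ∈ _
    rw [h4]
    refine Submodule.smul_mem _ _ (Submodule.sum_mem _ fun i _ => Submodule.smul_mem _ _ ?_)
    exact Submodule.subset_span ⟨i, rfl⟩
  · -- linear independence
    rw [Fintype.linearIndependent_iff]
    intro c hc
    have hLv : ∀ i, LL (A := A) hsurj p (v i) = (1 : p.ResidueField) ⊗ₜ[B] KaehlerDifferential.D A B (f i) :=
      fun i => LL_mk hsurj p (fk i)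
    simp only [hLv] at hc
    have hj : ∀ j, ∑ i, c i * algebraMap B p.ResidueField (D j (f i)) = 0 := by
      intro j
      have := congrArg (psi' (K := p.ResidueField) (D j).liftKaehlerDifferential) hc
      rw [map_sum, map_zero] at this
      rw [← this]
      apply Finset.sum_congr rfl
      intro i _
      rw [map_smul, psi'_tmul, one_mul, smul_eq_mul, Derivation.liftKaehlerDifferential_comp_D]
    have hM : Matrix.vecMul c ((algebraMap B p.ResidueField).mapMatrix
        (Matrix.of fun i j => D j (f i))) = 0 := by
      funext j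
      simp only [Matrix.vecMul, dotProduct, RingHom.mapMatrix_apply, Matrix.map_apply,
        Matrix.of_apply, Pi.zero_apply]
      exact hj j
    have hdet' : ((algebraMap B p.ResidueField).mapMatrix
        (Matrix.of fun i j => D j (f i))).det ≠ 0 := by
      rw [← RingHom.map_det]
      exact fun h => hdet ((algebraMap_eq_zero_iff p _).mp h)
    have := Matrix.eq_zero_of_vecMul_eq_zero hdet' hM
    intro i
    exact congrFun this i

theorem map_ker_eq_span [IsNoetherianRing B] {m : ℕ} (fk : Fin m → (ext (A := A) hsurj).ker)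
    (hspan : Submodule.span p.ResidueField (Set.range fun i =>
      (1 : p.ResidueField) ⊗ₜ[C] (Algebra.Extension.Cotangent.mk (fk i) : (ext (A := A) hsurj).Cotangent)) = ⊤) :
    (RingHom.ker (algebraMap B C)).map
        (algebraMap B (Localization.AtPrime (p.comap (algebraMap B C)))) =
      Ideal.span (Set.range fun i =>
        algebraMap B (Localization.AtPrime (p.comap (algebraMap B C))) ((fk i).1)) := by
  have hfg : (ext (A := A) hsurj).ker.FG := IsNoetherian.noetherian _
  haveI : Module.Finite C (ext (A := A) hsurj).Cotangent := Algebra.Extension.Cotangent.finite hfg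
  let M' : Submodule C (ext (A := A) hsurj).Cotangent :=
    Submodule.span C (Set.range fun i => Algebra.Extension.Cotangent.mk (fk i))
  have h' : Submodule.span p.ResidueField
      ((fun z : (ext (A := A) hsurj).Cotangent => (1 : p.ResidueField) ⊗ₜ[C] z) '' (M' : Set _)) = ⊤ := by
    rw [eq_top_iff, ← hspan, Submodule.span_le]
    rintro _ ⟨i, rfl⟩
    exact Submodule.subset_span ⟨_, Submodule.subset_span ⟨i, rfl⟩, rfl⟩
  obtain ⟨g₀, hg₀, hmem⟩ := Groth.Agent.S4530.H5S4530.exists_smul_mem p M' h'
  obtain ⟨g', rfl⟩ := hsurj g₀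
  apply le_antisymm
  · -- Nakayama
    set 𝔍 := (RingHom.ker (algebraMap B C)).map
        (algebraMap B (Localization.AtPrime (p.comap (algebraMap B C)))) with h𝔍
    set N := Ideal.span (Set.range fun i =>
        algebraMap B (Localization.AtPrime (p.comap (algebraMap B C))) ((fk i).1)) with hN
    have h𝔍fg : 𝔍.FG := Ideal.FG.map (IsNoetherian.noetherian (RingHom.ker (algebraMap B C))) _
    have h𝔍le : 𝔍 ≤ IsLocalRing.maximalIdeal _ := by
      rw [h𝔍, Ideal.map_le_iff_le_comap]
      intro x hx
      rw [Ideal.mem_comap, IsLocalization.AtPrime.to_map_mem_maximal_iff _ (p.comap (algebraMap B C)),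
        Ideal.mem_comap, RingHom.mem_ker.mp hx]
      exact p.zero_mem
    refine Submodule.le_of_le_smul_of_le_jacobson_bot h𝔍fg
      (h𝔍le.trans (IsLocalRing.maximalIdeal_le_jacobson _)) ?_
    rw [h𝔍, Ideal.map_le_iff_le_comap]
    intro x hx
    rw [Ideal.mem_comap]
    -- g' x ≡ Σ b_i f_i mod ker²
    have h1 := hmem (Algebra.Extension.Cotangent.mk ⟨x, hx⟩)
    obtain ⟨c, hc⟩ := (Submodule.mem_span_range_iff_exists_fun C).mp h1
    choose b hb using fun i => hsurj (c i)
    have h2 : (Algebra.Extension.Cotangent.mk (g' • (⟨x, hx⟩ : (ext (A := A) hsurj).ker) -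
        ∑ i, b i • fk i) : (ext (A := A) hsurj).Cotangent) = 0 := by
      rw [map_sub, map_sum, mk_smul, ← hc, sub_eq_zero]
      apply Finset.sum_congr rfl
      intro i _
      rw [mk_smul, hb]
    rw [Algebra.Extension.Cotangent.mk_eq_zero_iff] at h2
    have hu : IsUnit (algebraMap B (Localization.AtPrime (p.comap (algebraMap B C))) g') :=
      IsLocalization.map_units _ (⟨g', hg₀⟩ : (p.comap (algebraMap B C)).primeCompl)
    obtain ⟨w, hw⟩ := hu.exists_left_inv
    have h3 : algebraMap B (Localization.AtPrime (p.comap (algebraMap B C))) x =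
        w * (∑ i, algebraMap B _ (b i) * algebraMap B _ ((fk i).1)) +
        w * algebraMap B _ ((g' • (⟨x, hx⟩ : (ext (A := A) hsurj).ker) - ∑ i, b i • fk i : (ext (A := A) hsurj).ker) : B) := by
      have : ((g' • (⟨x, hx⟩ : (ext (A := A) hsurj).ker) - ∑ i, b i • fk i : (ext (A := A) hsurj).ker) : B) =
          g' * x - ∑ i, b i * (fk i).1 := by
        simp [AddSubmonoidClass.coe_finsetSum]
      rw [this, map_sub, map_sum, map_mul]
      simp only [map_mul]
      rw [← mul_add, add_sub_cancel, ← mul_assoc, hw, one_mul]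
    rw [h3]
    apply Submodule.add_mem
    · apply Submodule.mem_sup_left
      apply Ideal.mul_mem_left
      apply Ideal.sum_mem
      intro i _
      apply Ideal.mul_mem_left
      exact Ideal.subset_span ⟨i, rfl⟩
    · apply Submodule.mem_sup_right
      apply Ideal.mul_mem_left
      rw [smul_eq_mul, ← pow_two, ← Ideal.map_pow]
      exact Ideal.mem_map_of_mem _ h2
  · rw [Ideal.span_le]
    rintro _ ⟨i, rfl⟩
    exact Ideal.mem_map_of_mem _ (fk i).2

theorem exists_det_of_injective [IsNoetherianRing B] [Algebra.FormallySmooth A B]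
    (h : Function.Injective ((ext (A := A) hsurj).cotangentComplex.lTensor p.ResidueField)) :
    ∃ (m : ℕ) (f : Fin m → B) (D : Fin m → Derivation A B B),
      (∀ i, f i ∈ RingHom.ker (algebraMap B C)) ∧
      (RingHom.ker (algebraMap B C)).map
          (algebraMap B (Localization.AtPrime (p.comap (algebraMap B C)))) =
        Ideal.span (Set.range fun i =>
          algebraMap B (Localization.AtPrime (p.comap (algebraMap B C))) (f i)) ∧
      Matrix.det (Matrix.of fun i j => D j (f i)) ∉ p.comap (algebraMap B C) := by
  have hfg : (ext (A := A) hsurj).ker.FG := IsNoetherian.noetherian _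
  haveI : Module.Finite C (ext (A := A) hsurj).Cotangent := Algebra.Extension.Cotangent.finite hfg
  have hspan := span_one_tmul_mk (A := A) hsurj p
  obtain ⟨g, hgS, hgspan, hgli⟩ := Submodule.exists_fun_fin_finrank_span_eq p.ResidueField
    (Set.range fun x : (ext (A := A) hsurj).ker =>
        (1 : p.ResidueField) ⊗ₜ[C] (Algebra.Extension.Cotangent.mk x : (ext (A := A) hsurj).Cotangent))
  replace hgspan := hgspan.trans hspan
  choose fk hfk using hgS
  have hg : g = fun i => (1 : p.ResidueField) ⊗ₜ[C]
      (Algebra.Extension.Cotangent.mk (fk i) : (ext (A := A) hsurj).Cotangent) := by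
    funext i
    exact (hfk i).symm
  rw [hg] at hgspan hgli
  have hgen := map_ker_eq_span hsurj p fk hgspan
  -- linear independence of the images
  have hLinj : Function.Injective (LL (A := A) hsurj p) := (LL_injective_iff hsurj p).mpr h
  have hyli : LinearIndependent p.ResidueField (fun i =>
      (1 : p.ResidueField) ⊗ₜ[B] KaehlerDifferential.D A B ((fk i).1)) := by
    have := hgli.map' (LL (A := A) hsurj p) (LinearMap.ker_eq_bot.mpr hLinj)
    have h2 : (⇑(LL (A := A) hsurj p) ∘ fun i => (1 : p.ResidueField) ⊗ₜ[C]
      (Algebra.Extension.Cotangent.mk (fk i) : (ext (A := A) hsurj).Cotangent)) =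
        fun i => (1 : p.ResidueField) ⊗ₜ[B] KaehlerDifferential.D A B ((fk i).1) := by
      funext i
      exact LL_mk hsurj p (fk i)
    rwa [h2] at this
  obtain ⟨j, hj⟩ := exists_det_ne_zero _ hyli
    (fun φ : Ω[B⁄A] →ₗ[B] B => psi' (K := p.ResidueField) φ) (fun w hw => separation w hw)
  refine ⟨_, fun i => (fk i).1, fun b => (j b).compDer (KaehlerDifferential.D A B),
    fun i => (fk i).2, hgen, ?_⟩
  intro hmem
  apply hj
  have h0 := (algebraMap_eq_zero_iff p _).mpr hmem
  rw [RingHom.map_det] at h0
  rw [← h0]
  congr 1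
  ext a b
  simp [psi'_tmul]

end setup

section wrap

variable {A B C : Type u} [CommRing A] [CommRing B] [CommRing C] [Algebra A B] [Algebra B C]
  [Algebra A C] [IsScalarTower A B C]
  (p : Ideal C) [p.IsPrime]

theorem iff_det (hsurj : Function.Surjective (algebraMap B C))
    [IsNoetherianRing B] [Algebra.FormallySmooth A B] (q : Ideal B) [q.IsPrime]
    (hq : p.comap (algebraMap B C) = q) :
    Function.Injective ((ext (A := A) hsurj).cotangentComplex.lTensor p.ResidueField) ↔
    ∃ (m : ℕ) (f : Fin m → B) (D : Fin m → Derivation A B B),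
      (∀ i, f i ∈ RingHom.ker (algebraMap B C)) ∧
      (RingHom.ker (algebraMap B C)).map (algebraMap B (Localization.AtPrime q)) =
        Ideal.span (Set.range fun i => algebraMap B (Localization.AtPrime q) (f i)) ∧
      Matrix.det (Matrix.of fun i j => D j (f i)) ∉ q := by
  subst hq
  exact ⟨exists_det_of_injective hsurj p,
    fun ⟨m, f, D, hf, hgen, hdet⟩ => injective_of_det hsurj p f D hf hgen hdet⟩

/-- Zariski's Jacobian criterion, generic form. -/
theorem formallySmooth_atPrime_iff_det (hsurj : Function.Surjective (algebraMap B C))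
    [IsNoetherianRing B] [Algebra.FormallySmooth A B]
    (q : Ideal B) [q.IsPrime] (hq : p.comap (algebraMap B C) = q) :
    Algebra.FormallySmooth A (Localization.AtPrime p) ↔
    ∃ (m : ℕ) (f : Fin m → B) (D : Fin m → Derivation A B B),
      (∀ i, f i ∈ RingHom.ker (algebraMap B C)) ∧
      (RingHom.ker (algebraMap B C)).map (algebraMap B (Localization.AtPrime q)) =
        Ideal.span (Set.range fun i => algebraMap B (Localization.AtPrime q) (f i)) ∧
      Matrix.det (Matrix.of fun i j => D j (f i)) ∉ q := by
  haveI : Module.Finite B (RingHom.ker (algebraMap B C)).Cotangent :=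
    Module.Finite.of_surjective (RingHom.ker (algebraMap B C)).toCotangent
      (Ideal.toCotangent_surjective _)
  rw [← iff_det (A := A) p hsurj q hq, ← lTensor_injective_iff hsurj p.ResidueField]
  exact (main2463 (A := A) hsurj p).out 0 1

end wrap

theorem main4580 {k₀ k : Type u} [Field k₀] [Field k] [Algebra k₀ k]
    [Algebra.FormallySmooth k₀ k] (r : ℕ) (J q : Ideal (MvPolynomial (Fin r) k)) [q.IsPrime] (hJq : J ≤ q)
    [(q.map (Ideal.Quotient.mk J)).IsPrime] :
    Algebra.FormallySmooth k₀ (Localization.AtPrime (q.map (Ideal.Quotient.mk J))) ↔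
      ∃ (m : ℕ) (f : Fin m → MvPolynomial (Fin r) k) (D : Fin m → Derivation k₀ (MvPolynomial (Fin r) k) (MvPolynomial (Fin r) k)),
        (∀ i, f i ∈ J) ∧
        J.map (algebraMap (MvPolynomial (Fin r) k) (Localization.AtPrime q)) =
          Ideal.span (Set.range fun i => algebraMap (MvPolynomial (Fin r) k) (Localization.AtPrime q) (f i)) ∧
        Matrix.det (Matrix.of fun i j => D j (f i)) ∉ q := by
  haveI : Algebra.FormallySmooth k₀ (MvPolynomial (Fin r) k) :=
    Algebra.FormallySmooth.comp k₀ k (MvPolynomial (Fin r) k)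
  have hsurj : Function.Surjective (algebraMap (MvPolynomial (Fin r) k) (MvPolynomial (Fin r) k ⧸ J)) :=
    Ideal.Quotient.mk_surjective
  have hker : RingHom.ker (algebraMap (MvPolynomial (Fin r) k) (MvPolynomial (Fin r) k ⧸ J)) = J :=
    Ideal.mk_ker
  have hq : (q.map (Ideal.Quotient.mk J)).comap
      (algebraMap (MvPolynomial (Fin r) k) (MvPolynomial (Fin r) k ⧸ J)) = q := by
    change (q.map (Ideal.Quotient.mk J)).comap (Ideal.Quotient.mk J) = q
    rw [Ideal.comap_map_of_surjective _ Ideal.Quotient.mk_surjective, ← RingHom.ker_eq_comap_bot,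
      Ideal.mk_ker, sup_eq_left.mpr hJq]
  have := formallySmooth_atPrime_iff_det (A := k₀) (q.map (Ideal.Quotient.mk J)) hsurj q hq
  rw [hker] at this
  exact this

end Groth.Agent.Lib.helper19.JacZariski
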