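import Mathlib

/-!
# Kernel of the conormal map for a quotient formally smooth over `Λ/p` (S4594)
-/

open TensorProduct KaehlerDifferential

namespace Groth.Agent.Lib.helper19.KerCotP

universe u

/-- for an extension with square-zero kernel of a formally smooth algebra, the conormal map is
injective on the kernel -/
theorem eq_zero_of_cotangentComplex {R S : Type u} [CommRing R] [CommRing S] [Algebra R S]
    [Algebra.FormallySmooth R S] (Q : Algebra.Extension.{u} R S) (hsq : Q.ker ^ 2 = ⊥)
    (x : Q.ker) (hx : Q.cotangentComplex (Algebra.Extension.Cotangent.mk x) = 0) : x = 0 := by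
  let g : S →ₐ[R] Q.Ring :=
    Algebra.FormallySmooth.liftOfSurjective (AlgHom.id R S)
      (IsScalarTower.toAlgHom R Q.Ring S) Q.algebraMap_surjective ⟨2, hsq⟩
  have hg : (IsScalarTower.toAlgHom R Q.Ring S).comp g = AlgHom.id R S :=
    Algebra.FormallySmooth.comp_liftOfSurjective _ _ _ _
  have hret := retractionOfSectionOfKerSqZero_comp_kerToTensor g hsq hg
  rw [Algebra.Extension.cotangentComplex_mk] at hx
  have h2 : KaehlerDifferential.kerToTensor R Q.Ring S x = 0 := hx
  have h3 := LinearMap.congr_fun hret x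
  rw [LinearMap.comp_apply, h2, map_zero, LinearMap.id_apply] at h3
  exact h3.symm

section main
variable {Λ A C : Type u} [CommRing Λ] [CommRing A] [CommRing C] [Algebra Λ A] [Algebra A C]
  [Algebra Λ C] [IsScalarTower Λ A C] (p : ℕ)

/-- the ideal `J² + (p)` -/
abbrev K : Ideal A := RingHom.ker (algebraMap A C) ^ 2 ⊔ Ideal.span {(p : A)}

variable (hp : (p : A) ∈ RingHom.ker (algebraMap A C))

include hp in
theorem K_le : K (A := A) (C := C) p ≤ RingHom.ker (algebraMap A C) := by
  apply sup_le
  · exact Ideal.pow_le_self two_ne_zero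
  · rw [Ideal.span_le, Set.singleton_subset_iff]
    exact hp

/-- `E = A/(J²+p)` as an algebra over `Λ/p` -/
@[reducible] noncomputable def algΛE : Algebra (Λ ⧸ Ideal.span {(p : Λ)}) (A ⧸ K (A := A) (C := C) p) :=
  (Ideal.Quotient.lift (Ideal.span {(p : Λ)})
    ((Ideal.Quotient.mk (K (A := A) (C := C) p)).comp (algebraMap Λ A)) (by
      intro a ha
      obtain ⟨b, rfl⟩ := Ideal.mem_span_singleton'.mp ha
      rw [RingHom.comp_apply, map_mul, map_natCast, Ideal.Quotient.eq_zero_iff_mem]
      exact Ideal.mul_mem_left _ _ (Ideal.mem_sup_right (Ideal.mem_span_singleton_self _)))).toAlgebra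

/-- `E → C` -/
@[reducible] noncomputable def algEC : Algebra (A ⧸ K (A := A) (C := C) p) C :=
  (Ideal.Quotient.lift (K (A := A) (C := C) p) (algebraMap A C) (fun a ha => K_le p hp ha)).toAlgebra

variable [Algebra (Λ ⧸ Ideal.span {(p : Λ)}) C] [IsScalarTower Λ (Λ ⧸ Ideal.span {(p : Λ)}) C]
  [Algebra.FormallySmooth (Λ ⧸ Ideal.span {(p : Λ)}) C]

include hp in
theorem mem_K_of_kerToTensor (hsurj : Function.Surjective (algebraMap A C))
    (x : RingHom.ker (algebraMap A C))
    (hx : kerCotangentToTensor Λ A C ((RingHom.ker (algebraMap A C)).toCotangent x) = 0) :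
    (x : A) ∈ K (A := A) (C := C) p := by
  letI := algΛE (Λ := Λ) (A := A) (C := C) p
  letI := algEC (A := A) (C := C) p hp
  haveI : IsScalarTower (Λ ⧸ Ideal.span {(p : Λ)}) (A ⧸ K (A := A) (C := C) p) C := by
    apply IsScalarTower.of_algebraMap_eq
    intro l
    obtain ⟨l, rfl⟩ := Ideal.Quotient.mk_surjective l
    have h1 : algebraMap (Λ ⧸ Ideal.span {(p : Λ)}) C (Ideal.Quotient.mk _ l) = algebraMap Λ C l :=
      (IsScalarTower.algebraMap_apply Λ (Λ ⧸ Ideal.span {(p : Λ)}) C l).symm
    rw [h1, IsScalarTower.algebraMap_apply Λ A C]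
    rfl
  -- the two extensions
  let P : Algebra.Extension.{u} Λ C := ⟨A, Function.surjInv hsurj, Function.surjInv_eq hsurj⟩
  have hsurj' : Function.Surjective (algebraMap (A ⧸ K (A := A) (C := C) p) C) := by
    intro c
    obtain ⟨a, rfl⟩ := hsurj c
    exact ⟨Ideal.Quotient.mk _ a, rfl⟩
  let P' : Algebra.Extension.{u} (Λ ⧸ Ideal.span {(p : Λ)}) C :=
    ⟨A ⧸ K (A := A) (C := C) p, Function.surjInv hsurj', Function.surjInv_eq hsurj'⟩
  let f : P.Hom P' :=
    { toRingHom := Ideal.Quotient.mk (K (A := A) (C := C) p)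
      toRingHom_algebraMap := fun l => rfl
      algebraMap_toRingHom := fun a => rfl }
  have hsq' : P'.ker ^ 2 = ⊥ := by
    rw [pow_two, eq_bot_iff, Ideal.mul_le]
    intro a ha b hb
    obtain ⟨a, rfl⟩ := Ideal.Quotient.mk_surjective a
    obtain ⟨b, rfl⟩ := Ideal.Quotient.mk_surjective b
    have ha' : a ∈ RingHom.ker (algebraMap A C) := ha
    have hb' : b ∈ RingHom.ker (algebraMap A C) := hb
    rw [Ideal.mem_bot, ← map_mul, Ideal.Quotient.eq_zero_iff_mem]
    apply Ideal.mem_sup_left
    rw [pow_two]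
    exact Ideal.mul_mem_mul ha' hb'
  let x' : P.ker := ⟨x.1, x.2⟩
  have h1 : P.cotangentComplex (Algebra.Extension.Cotangent.mk x') = 0 := by
    rw [Algebra.Extension.cotangentComplex_mk]
    exact hx
  have h2 : P'.cotangentComplex
      (Algebra.Extension.Cotangent.map f (Algebra.Extension.Cotangent.mk x')) = 0 := by
    rw [← Algebra.Extension.CotangentSpace.map_cotangentComplex, h1, map_zero]
  rw [Algebra.Extension.Cotangent.map_mk] at h2
  have h3 := eq_zero_of_cotangentComplex P' hsq' _ h2
  have h4 : Ideal.Quotient.mk (K (A := A) (C := C) p) x.1 = 0 := congrArg Subtype.val h3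
  exact Ideal.Quotient.eq_zero_iff_mem.mp h4

include hp in
theorem main (hsurj : Function.Surjective (algebraMap A C)) :
    LinearMap.ker (kerCotangentToTensor Λ A C) =
        Submodule.span A {(RingHom.ker (algebraMap A C)).toCotangent ⟨(p : A), hp⟩} ∧
      LinearMap.range (kerCotangentToTensor Λ A C) =
        (LinearMap.ker (mapBaseChange Λ A C)).restrictScalars A ∧
      Function.Surjective (mapBaseChange Λ A C) := by
  refine ⟨?_, KaehlerDifferential.range_kerCotangentToTensor Λ A C hsurj,
    KaehlerDifferential.mapBaseChange_surjective Λ A C hsurj⟩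
  apply le_antisymm
  · intro c hc
    obtain ⟨x, rfl⟩ := Ideal.toCotangent_surjective _ c
    have hK := mem_K_of_kerToTensor p hp hsurj x (LinearMap.mem_ker.mp hc)
    obtain ⟨y, hy, z, hz, hyz⟩ := Submodule.mem_sup.mp hK
    obtain ⟨a, rfl⟩ := Ideal.mem_span_singleton'.mp hz
    have hyJ : y ∈ RingHom.ker (algebraMap A C) := Ideal.pow_le_self two_ne_zero hy
    have hx : x = ⟨y, hyJ⟩ + a • ⟨(p : A), hp⟩ := by
      apply Subtype.ext
      rw [← hyz]
      rfl
    have h0 : (RingHom.ker (algebraMap A C)).toCotangent ⟨y, hyJ⟩ = 0 :=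
      (Ideal.toCotangent_eq_zero _ _).mpr hy
    rw [hx, map_add, map_smul, h0, zero_add]
    exact Submodule.smul_mem _ _ (Submodule.subset_span rfl)
  · rw [Submodule.span_le, Set.singleton_subset_iff]
    show _ ∈ LinearMap.ker _
    rw [LinearMap.mem_ker, kerCotangentToTensor_toCotangent]
    have : KaehlerDifferential.D Λ A ((p : ℕ) : A) = 0 := by
      rw [← map_natCast (algebraMap Λ A), Derivation.map_algebraMap]
    rw [this, TensorProduct.tmul_zero]

end main

end Groth.Agent.Lib.helper19.KerCotP
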