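import Mathlib
import Groth.Prelude.Def_W4stkremschemesLRS

/-!
# Kernel of a quasi-compact morphism of schemes is locally generated by sections
-/

universe u

namespace Groth.Agent.Lib.helper19.LRSClosedImm

open AlgebraicGeometry CategoryTheory TopologicalSpace Opposite

theorem kerLocallyGenerated {X Y : Scheme.{u}} (f : X ⟶ Y) [QuasiCompact f] :
    LRSImm.KerLocallyGenerated f.toLRSHom := by
  intro y
  obtain ⟨_, ⟨U, hU, rfl⟩, hyU, -⟩ :=
    Y.isBasis_affineOpens.exists_subset_of_mem_open (Set.mem_univ y) isOpen_univ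
  refine ⟨U, hyU, RingHom.ker (f.app U).hom, fun j => j.1, fun j => j.2, ?_⟩
  intro y' hy'
  apply le_antisymm
  · rw [Ideal.span_le]
    rintro _ ⟨j, rfl⟩
    have h1 := TopCat.Presheaf.stalkFunctor_map_germ_apply U y' hy' f.c j.1
    have h2 : (f.app U).hom j.1 = 0 := j.2
    show ((TopCat.Presheaf.stalkFunctor CommRingCat y').map f.c).hom
      (Y.presheaf.germ U y' hy' j.1) = 0
    refine h1.trans ?_
    erw [h2]
    exact map_zero _
  · intro t ht
    have ht' : ((TopCat.Presheaf.stalkFunctor CommRingCat y').map f.c).hom t = 0 := ht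
    obtain ⟨W₀, hW₀U, hy'W₀, t₀, rfl⟩ := TopCat.Presheaf.exists_le_germ_eq Y.presheaf t hy'
    have h1 := TopCat.Presheaf.stalkFunctor_map_germ_apply W₀ y' hy'W₀ f.c t₀
    have h0 : (f.base _* X.presheaf).germ W₀ y' hy'W₀ (f.c.app (op W₀) t₀) =
        (f.base _* X.presheaf).germ W₀ y' hy'W₀ 0 := by
      rw [map_zero]
      exact h1.symm.trans ht'
    obtain ⟨W₁, hy'W₁, iU, iV, hres⟩ := TopCat.Presheaf.germ_eq _ y' hy'W₀ hy'W₀ _ _ h0
    rw [map_zero] at hres
    obtain ⟨g, hgW₁, hy'g⟩ := hU.exists_basicOpen_le (V := W₁) ⟨y', hy'W₁⟩ hy'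
    have hgW₀ : Y.basicOpen g ≤ W₀ := hgW₁.trans iU.le
    set t₂ : Γ(Y, Y.basicOpen g) := Y.presheaf.map (homOfLE hgW₀).op t₀ with ht₂
    have hker : t₂ ∈ RingHom.ker (f.app (Y.basicOpen g)).hom := by
      rw [RingHom.mem_ker]
      have hnat := congr($(f.c.naturality (homOfLE hgW₀).op) t₀)
      have hnat' : (f.app (Y.basicOpen g)).hom t₂ =
          (f.base _* X.presheaf).map (homOfLE hgW₀).op (f.c.app (op W₀) t₀) := hnat
      rw [hnat']
      have hfac : (homOfLE hgW₀).op = iU.op ≫ (homOfLE hgW₁).op := rfl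
      rw [hfac, Functor.map_comp]
      change (f.base _* X.presheaf).map (homOfLE hgW₁).op
        ((f.base _* X.presheaf).map iU.op (f.c.app (op W₀) t₀)) = 0
      rw [hres, map_zero]
    have hmem : t₂ ∈ Ideal.map (Y.presheaf.map (homOfLE (Y.basicOpen_le g)).op).hom
        (RingHom.ker (f.app U).hom) := by
      have e1 := f.ker.map_ideal_basicOpen ⟨U, hU⟩ g
      rw [Scheme.Hom.ker_apply, Scheme.Hom.ker_apply] at e1
      rw [e1]
      exact hker
    have hgerm : Y.presheaf.germ W₀ y' hy'W₀ t₀ = Y.presheaf.germ (Y.basicOpen g) y' hy'g t₂ :=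
      (TopCat.Presheaf.germ_res_apply Y.presheaf (homOfLE hgW₀) y' hy'g t₀).symm
    rw [hgerm]
    have h3 := Ideal.mem_map_of_mem (Y.presheaf.germ (Y.basicOpen g) y' hy'g).hom hmem
    rw [Ideal.map_map] at h3
    have hcomp : (Y.presheaf.germ (Y.basicOpen g) y' hy'g).hom.comp
        (Y.presheaf.map (homOfLE (Y.basicOpen_le g)).op).hom = (Y.presheaf.germ U y' hy').hom := by
      rw [← CommRingCat.hom_comp, TopCat.Presheaf.germ_res]
    rw [hcomp] at h3
    have hrange : (Set.range fun j : RingHom.ker (f.app U).hom => Y.presheaf.germ U y' hy' j.1) =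
        (Y.presheaf.germ U y' hy').hom '' (RingHom.ker (f.app U).hom : Set Γ(Y, U)) := by
      ext z
      constructor
      · rintro ⟨j, rfl⟩
        exact ⟨j.1, j.2, rfl⟩
      · rintro ⟨a, ha, rfl⟩
        exact ⟨⟨a, ha⟩, rfl⟩
    rw [hrange]
    exact h3

end Groth.Agent.Lib.helper19.LRSClosedImm
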