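import Mathlib
import Groth.Prelude.Def_LocRes

namespace Groth.Agent.Lib.helper19.LaurentRes

open LaurentSeries HahnSeries LocRes

theorem main18617 (k : Type*) [Field k] [CharZero k] :
    (∀ f : LaurentSeries k, LocRes.D k f = 0 ↔ f = HahnSeries.C (f.coeff 0)) ∧
      ∀ g : LaurentSeries k, (∃ f : LaurentSeries k, LocRes.D k f = g) ↔ LocRes.res k g = 0 := by
  constructor
  · intro f
    constructor
    · intro h
      ext n
      rw [HahnSeries.C_apply, HahnSeries.coeff_single]
      split_ifs with hn
      · rw [hn]
      · have h1 := congrArg (fun x => HahnSeries.coeff x (n - 1)) h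
        simp only [D_coeff, sub_add_cancel, HahnSeries.coeff_zero] at h1
        rw [zsmul_eq_mul] at h1
        rcases mul_eq_zero.1 h1 with h2 | h2
        · exact absurd (Int.cast_eq_zero.1 h2) hn
        · exact h2
    · intro h
      ext n
      rw [D_coeff, HahnSeries.coeff_zero, h, HahnSeries.C_apply, HahnSeries.coeff_single]
      split_ifs with hn
      · rw [hn, zero_smul]
      · rw [smul_zero]
  · intro g
    constructor
    · rintro ⟨f, rfl⟩
      rw [res_apply, D_coeff]
      simp
    · intro hg
      rw [res_apply] at hg
      have hsupp : (Function.support fun n : ℤ => g.coeff n / ((n : k) + 1)) ⊆ g.support := by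
        intro i hi
        rw [Function.mem_support] at hi
        rw [HahnSeries.mem_support]
        intro h
        apply hi
        rw [h, zero_div]
      let g' : LaurentSeries k := ⟨fun n : ℤ => g.coeff n / ((n : k) + 1), g.isPWO_support.mono hsupp⟩
      refine ⟨HahnSeries.single 1 (1 : k) * g', ?_⟩
      ext n
      rw [D_coeff, HahnSeries.coeff_single_mul_add, one_mul]
      show (n + 1) • (g.coeff n / ((n : k) + 1)) = g.coeff n
      by_cases hn : n = -1
      · subst hn
        rw [hg]
        simp
      · have hn' : ((n : k) + 1) ≠ 0 := by
          intro h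
          apply hn
          have : ((n + 1 : ℤ) : k) = 0 := by push_cast; exact h
          have := Int.cast_eq_zero.1 this
          omega
        rw [zsmul_eq_mul]
        push_cast
        field_simp

end Groth.Agent.Lib.helper19.LaurentRes
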