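import Mathlib

/-!
# Three-dimensional Lie algebras with abelian derived algebra, in coordinates

`L` free with basis `x = bs 0, y = bs 1, z = bs 2`, `[y,z] = 0`,
`[x,y] = n11 y + n21 z`, `[x,z] = n12 y + n22 z`.
-/

namespace Groth.Agent.Lib.helper19.Lie3

variable {A : Type*} [CommRing A] {L : Type*} [LieRing L] [LieAlgebra A L]

theorem lie_eq (bs : Module.Basis (Fin 3) A L) (n11 n21 n12 n22 : A)
    (hxy : ⁅bs 0, bs 1⁆ = n11 • bs 1 + n21 • bs 2)
    (hxz : ⁅bs 0, bs 2⁆ = n12 • bs 1 + n22 • bs 2) (hyz : ⁅bs 1, bs 2⁆ = 0) (u v : L) :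
    ⁅u, v⁆ =
      ((bs.repr u 0 * bs.repr v 1 - bs.repr u 1 * bs.repr v 0) * n11 +
        (bs.repr u 0 * bs.repr v 2 - bs.repr u 2 * bs.repr v 0) * n12) • bs 1 +
      ((bs.repr u 0 * bs.repr v 1 - bs.repr u 1 * bs.repr v 0) * n21 +
        (bs.repr u 0 * bs.repr v 2 - bs.repr u 2 * bs.repr v 0) * n22) • bs 2 := by
  have hyx : ⁅bs 1, bs 0⁆ = -(n11 • bs 1 + n21 • bs 2) := by rw [← lie_skew, hxy]
  have hzx : ⁅bs 2, bs 0⁆ = -(n12 • bs 1 + n22 • bs 2) := by rw [← lie_skew, hxz]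
  have hzy : ⁅bs 2, bs 1⁆ = 0 := by rw [← lie_skew, hyz, neg_zero]
  conv_lhs => rw [← bs.sum_repr u, ← bs.sum_repr v]
  simp only [Fin.sum_univ_three, add_lie, lie_add, smul_lie, lie_smul, lie_self, hxy, hxz, hyz,
    hyx, hzx, hzy]
  module

theorem repr_lie (bs : Module.Basis (Fin 3) A L) (n11 n21 n12 n22 : A)
    (hxy : ⁅bs 0, bs 1⁆ = n11 • bs 1 + n21 • bs 2)
    (hxz : ⁅bs 0, bs 2⁆ = n12 • bs 1 + n22 • bs 2) (hyz : ⁅bs 1, bs 2⁆ = 0) (u v : L) :
    bs.repr ⁅u, v⁆ 0 = 0 ∧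
    bs.repr ⁅u, v⁆ 1 = (bs.repr u 0 * bs.repr v 1 - bs.repr u 1 * bs.repr v 0) * n11 +
        (bs.repr u 0 * bs.repr v 2 - bs.repr u 2 * bs.repr v 0) * n12 ∧
    bs.repr ⁅u, v⁆ 2 = (bs.repr u 0 * bs.repr v 1 - bs.repr u 1 * bs.repr v 0) * n21 +
        (bs.repr u 0 * bs.repr v 2 - bs.repr u 2 * bs.repr v 0) * n22 := by
  rw [lie_eq bs n11 n21 n12 n22 hxy hxz hyz u v]
  refine ⟨?_, ?_, ?_⟩ <;> simp


variable {L' : Type*} [LieRing L'] [LieAlgebra A L']

/-- the matrix of a Lie isomorphism between two such algebras and the equations it satisfies. -/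
theorem equiv_data (bs : Module.Basis (Fin 3) A L) (n11 n21 n12 n22 : A)
    (hxy : ⁅bs 0, bs 1⁆ = n11 • bs 1 + n21 • bs 2)
    (hxz : ⁅bs 0, bs 2⁆ = n12 • bs 1 + n22 • bs 2) (hyz : ⁅bs 1, bs 2⁆ = 0)
    (bs' : Module.Basis (Fin 3) A L') (k11 k21 k12 k22 : A)
    (hxy' : ⁅bs' 0, bs' 1⁆ = k11 • bs' 1 + k21 • bs' 2)
    (hxz' : ⁅bs' 0, bs' 2⁆ = k12 • bs' 1 + k22 • bs' 2) (hyz' : ⁅bs' 1, bs' 2⁆ = 0)
    (φ : L ≃ₗ⁅A⁆ L') :
    ∃ (m : Fin 3 → Fin 3 → A) (d' : A),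
      (∀ j, φ (bs j) = m 0 j • bs' 0 + m 1 j • bs' 1 + m 2 j • bs' 2) ∧
      (m 0 0 * m 1 1 * m 2 2 - m 0 0 * m 1 2 * m 2 1 - m 0 1 * m 1 0 * m 2 2 +
        m 0 1 * m 1 2 * m 2 0 + m 0 2 * m 1 0 * m 2 1 - m 0 2 * m 1 1 * m 2 0) * d' = 1 ∧
      n11 * m 0 1 + n21 * m 0 2 = 0 ∧
      n11 * m 1 1 + n21 * m 1 2 = (m 0 0 * m 1 1 - m 1 0 * m 0 1) * k11 +
        (m 0 0 * m 2 1 - m 2 0 * m 0 1) * k12 ∧
      n11 * m 2 1 + n21 * m 2 2 = (m 0 0 * m 1 1 - m 1 0 * m 0 1) * k21 +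
        (m 0 0 * m 2 1 - m 2 0 * m 0 1) * k22 ∧
      n12 * m 0 1 + n22 * m 0 2 = 0 ∧
      n12 * m 1 1 + n22 * m 1 2 = (m 0 0 * m 1 2 - m 1 0 * m 0 2) * k11 +
        (m 0 0 * m 2 2 - m 2 0 * m 0 2) * k12 ∧
      n12 * m 2 1 + n22 * m 2 2 = (m 0 0 * m 1 2 - m 1 0 * m 0 2) * k21 +
        (m 0 0 * m 2 2 - m 2 0 * m 0 2) * k22 ∧
      0 = (m 0 1 * m 1 2 - m 1 1 * m 0 2) * k11 + (m 0 1 * m 2 2 - m 2 1 * m 0 2) * k12 ∧
      0 = (m 0 1 * m 1 2 - m 1 1 * m 0 2) * k21 + (m 0 1 * m 2 2 - m 2 1 * m 0 2) * k22 := by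
  let m : Fin 3 → Fin 3 → A := fun i j => bs'.repr (φ (bs j)) i
  have hdet : IsUnit (LinearMap.toMatrix bs bs' (φ : L →ₗ[A] L')).det :=
    LinearEquiv.isUnit_det φ.toLinearEquiv bs bs'
  obtain ⟨d', hd'⟩ := hdet.exists_right_inv
  have hm : ∀ i j, LinearMap.toMatrix bs bs' (φ : L →ₗ[A] L') i j = m i j := by
    intro i j
    rw [LinearMap.toMatrix_apply]
    rfl
  have hφ : ∀ j, φ (bs j) = m 0 j • bs' 0 + m 1 j • bs' 1 + m 2 j • bs' 2 := by
    intro j
    conv_lhs => rw [← bs'.sum_repr (φ (bs j))]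
    rw [Fin.sum_univ_three]
  have hr := fun u v => repr_lie bs' k11 k21 k12 k22 hxy' hxz' hyz' u v
  have hlie : ∀ j k, ⁅φ (bs j), φ (bs k)⁆ = φ ⁅bs j, bs k⁆ := fun j k => (φ.map_lie _ _).symm
  have e01 := hr (φ (bs 0)) (φ (bs 1))
  have e02 := hr (φ (bs 0)) (φ (bs 2))
  have e12 := hr (φ (bs 1)) (φ (bs 2))
  rw [hlie, hxy] at e01
  rw [hlie, hxz] at e02
  rw [hlie, hyz] at e12
  simp only [map_add, map_smul, map_zero, Finsupp.coe_add, Finsupp.coe_smul, Pi.add_apply,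
    Pi.smul_apply, smul_eq_mul, Finsupp.coe_zero, Pi.zero_apply] at e01 e02 e12
  refine ⟨m, d', hφ, ?_, e01.1, e01.2.1, e01.2.2, e02.1, e02.2.1, e02.2.2, e12.2.1, e12.2.2⟩
  rw [Matrix.det_fin_three] at hd'
  simp only [hm] at hd'
  exact hd'


theorem alg13101 (A : Type*) [CommRing A] (two' : A) (h2 : 2 * two' = 1)
    (α b c p0 p r q0 q s d' : A)
    (hdet : (α * p * s - α * q * r - p0 * b * s + p0 * q * c + q0 * b * r - q0 * p * c) * d' = 1)
    (e1 : 1 * p0 + 0 * q0 = 0)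
    (e2 : 1 * p + 0 * q = (α * p - b * p0) * 1 + (α * r - c * p0) * 1)
    (e3 : 1 * r + 0 * s = (α * p - b * p0) * 0 + (α * r - c * p0) * 1)
    (e4 : 1 * p0 + 1 * q0 = 0)
    (e5 : 1 * p + 1 * q = (α * q - b * q0) * 1 + (α * s - c * q0) * 1)
    (e6 : 1 * r + 1 * s = (α * q - b * q0) * 0 + (α * s - c * q0) * 1) :
    α = 1 ∧ r = 0 ∧ p = s ∧ p0 = 0 ∧ q0 = 0 ∧ p * (p * (α * d')) = 1 := by
  have hp0 : p0 = 0 := by linear_combination e1
  have hq0 : q0 = 0 := by linear_combination e4 - e1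
  have E1 : p = α * p + α * r := by linear_combination e2 - (b + c) * hp0
  have E2 : r = α * r := by linear_combination e3 - c * hp0
  have E3 : p + q = α * q + α * s := by linear_combination e5 - (b + c) * hq0
  have E4 : r + s = α * s := by linear_combination e6 - c * hq0
  have hD : α * (p * s - q * r) * d' = 1 := by
    linear_combination hdet + (b * s - q * c) * d' * hp0 + (p * c - b * r) * d' * hq0
  have ha : (1 - α) * r = 0 := by linear_combination E2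
  have hb : r = -((1 - α) * s) := by linear_combination E4
  have hc : (1 - α) * p = r := by linear_combination E1 - E2
  have hq : (1 - α) * q = α * s - p := by linear_combination E3
  have hf : (1 - α) * (p * s - q * r) = r * s := by linear_combination s * hc - q * ha
  have hg : (1 - α) * (p * s - q * r) = -(r * s) := by
    linear_combination p * hb - r * hq + s * E2
  have hrs : r * s = 0 := by linear_combination two' * (hg - hf) - r * s * h2
  have hε : 1 - α = 0 := by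
    linear_combination -(1 - α) * hD + α * d' * hf + α * d' * hrs
  have hα : α = 1 := by linear_combination -hε
  have hr : r = 0 := by rw [hb, hε]; ring
  have hps : p = s := by
    rw [hα] at E3
    linear_combination E3
  refine ⟨hα, hr, hps, hp0, hq0, ?_⟩
  rw [hr, ← hps] at hD
  linear_combination hD

theorem main13101 (A : Type*) [CommRing A] (h2 : IsUnit (2 : A))
    (L : Type*) [LieRing L] [LieAlgebra A L] (bs : Module.Basis (Fin 3) A L)
    (hxy : ⁅bs 0, bs 1⁆ = bs 1) (hxz : ⁅bs 0, bs 2⁆ = bs 1 + bs 2) (hyz : ⁅bs 1, bs 2⁆ = 0)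
    (φ : L ≃ₗ⁅A⁆ L) :
    ∃ b c h i : A, IsUnit i ∧ φ (bs 0) = bs 0 + b • bs 1 + c • bs 2 ∧ φ (bs 1) = i • bs 1 ∧
      φ (bs 2) = h • bs 1 + i • bs 2 := by
  obtain ⟨two', h2'⟩ := h2.exists_right_inv
  have hxy' : ⁅bs 0, bs 1⁆ = (1 : A) • bs 1 + (0 : A) • bs 2 := by rw [hxy]; simp
  have hxz' : ⁅bs 0, bs 2⁆ = (1 : A) • bs 1 + (1 : A) • bs 2 := by rw [hxz]; simp
  obtain ⟨m, d', hφ, hdet, e1, e2, e3, e4, e5, e6, -, -⟩ :=
    equiv_data bs 1 0 1 1 hxy' hxz' hyz bs 1 0 1 1 hxy' hxz' hyz φ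
  obtain ⟨hα, hr, hps, hp0, hq0, hu⟩ := alg13101 A two' h2' (m 0 0) (m 1 0) (m 2 0) (m 0 1)
    (m 1 1) (m 2 1) (m 0 2) (m 1 2) (m 2 2) d' hdet e1 e2 e3 e4 e5 e6
  refine ⟨m 1 0, m 2 0, m 1 2, m 1 1, IsUnit.of_mul_eq_one _ hu, ?_, ?_, ?_⟩
  · rw [hφ 0, hα, one_smul]
  · rw [hφ 1, hp0, hr, zero_smul, zero_smul, zero_add, add_zero]
  · rw [hφ 2, hq0, ← hps, zero_smul, zero_add]


theorem alg13102a (A : Type*) [CommRing A] (a a' v : A) (haa' : a * a' = 1)
    (hv : (a * a - 1) * v = 1)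
    (μ b c p0 p r q0 q s d' : A)
    (hdet : (μ * p * s - μ * q * r - p0 * b * s + p0 * q * c + q0 * b * r - q0 * p * c) * d' = 1)
    (e1 : 1 * p0 + 0 * q0 = 0)
    (e2 : 1 * p + 0 * q = (μ * p - b * p0) * 1 + (μ * r - c * p0) * 0)
    (e3 : 1 * r + 0 * s = (μ * p - b * p0) * 0 + (μ * r - c * p0) * a)
    (e4 : 0 * p0 + a * q0 = 0)
    (e5 : 0 * p + a * q = (μ * q - b * q0) * 1 + (μ * s - c * q0) * 0)
    (e6 : 0 * r + a * s = (μ * q - b * q0) * 0 + (μ * s - c * q0) * a) :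
    μ = 1 ∧ p0 = 0 ∧ q0 = 0 ∧ r = 0 ∧ q = 0 ∧ p * (s * d') = 1 ∧ s * (p * d') = 1 := by
  have hp0 : p0 = 0 := by linear_combination e1
  have hq0 : q0 = 0 := by linear_combination a' * e4 - q0 * haa'
  have E2 : p = μ * p := by linear_combination e2 - b * hp0
  have E3 : r = a * μ * r := by linear_combination e3 - a * c * hp0
  have E5 : a * q = μ * q := by linear_combination e5 - b * hq0
  have E6 : s = μ * s := by
    linear_combination a' * e6 - a' * a * c * hq0 - (s - μ * s) * haa'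
  have hD : μ * (p * s - q * r) * d' = 1 := by
    linear_combination hdet + (b * s - q * c) * d' * hp0 + (p * c - b * r) * d' * hq0
  have hεp : (1 - μ) * p = 0 := by linear_combination E2
  have hεq : (1 - μ) * q = (1 - a) * q := by linear_combination E5
  have hεr : a * (1 - μ) * r = (a - 1) * r := by linear_combination E3
  have hqr : q * r = 0 := by
    linear_combination v * (a * r * hεq - q * hεr) - q * r * hv
  have hεD : (1 - μ) * (p * s - q * r) = 0 := by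
    linear_combination s * hεp - r * hεq - (1 - a) * hqr
  have hε : 1 - μ = 0 := by linear_combination -(1 - μ) * hD + μ * d' * hεD
  have hμ : μ = 1 := by linear_combination -hε
  have hq : q = 0 := by
    linear_combination (a + 1) * v * E5 + (a + 1) * v * q * hμ - q * hv
  have hr : r = 0 := by
    linear_combination -(a + 1) * v * E3 - (a + 1) * v * a * r * hμ - r * hv
  refine ⟨hμ, hp0, hq0, hr, hq, ?_, ?_⟩
  · rw [hμ, hq] at hD
    linear_combination hD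
  · rw [hμ, hq] at hD
    linear_combination hD

theorem alg13102b (A : Type*) [CommRing A] (a : A) (ha0 : a = 0)
    (μ b c p0 p r q0 q s d' : A)
    (hdet : (μ * p * s - μ * q * r - p0 * b * s + p0 * q * c + q0 * b * r - q0 * p * c) * d' = 1)
    (e1 : 1 * p0 + 0 * q0 = 0)
    (e2 : 1 * p + 0 * q = (μ * p - b * p0) * 1 + (μ * r - c * p0) * 0)
    (e3 : 1 * r + 0 * s = (μ * p - b * p0) * 0 + (μ * r - c * p0) * a)
    (e5 : 0 * p + a * q = (μ * q - b * q0) * 1 + (μ * s - c * q0) * 0)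
    (e7 : 0 = (p0 * q - p * q0) * 1 + (p0 * s - r * q0) * 0) :
    μ = 1 ∧ p0 = 0 ∧ q0 = 0 ∧ r = 0 ∧ q = 0 ∧ p * (s * d') = 1 ∧ s * (p * d') = 1 := by
  have hp0 : p0 = 0 := by linear_combination e1
  have hr : r = 0 := by linear_combination e3 + (μ * r - c * p0) * ha0
  have E2 : p = μ * p := by linear_combination e2 - b * hp0
  have E7 : p * q0 = 0 := by linear_combination e7 + q * hp0
  have hD0 : p * (μ * s - q0 * c) * d' = 1 := by
    linear_combination hdet + (μ * q - q0 * b) * d' * hr + (b * s - q * c) * d' * hp0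
  have hq0 : q0 = 0 := by linear_combination -q0 * hD0 + (μ * s - q0 * c) * d' * E7
  have hε : 1 - μ = 0 := by
    linear_combination -(1 - μ) * hD0 + (μ * s - q0 * c) * d' * E2
  have hμ : μ = 1 := by linear_combination -hε
  have hq : q = 0 := by linear_combination -e5 + q * ha0 + b * hq0 + q * hε
  refine ⟨hμ, hp0, hq0, hr, hq, ?_, ?_⟩
  · linear_combination hD0 + p * d' * s * hε + p * d' * c * hq0
  · linear_combination hD0 + p * d' * s * hε + p * d' * c * hq0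

theorem alg13102c (A : Type*) [CommRing A] (a : A) (ha1 : a = 1)
    (μ b c p0 p r q0 q s d' : A)
    (hdet : (μ * p * s - μ * q * r - p0 * b * s + p0 * q * c + q0 * b * r - q0 * p * c) * d' = 1)
    (e1 : 1 * p0 + 0 * q0 = 0)
    (e2 : 1 * p + 0 * q = (μ * p - b * p0) * 1 + (μ * r - c * p0) * 0)
    (e3 : 1 * r + 0 * s = (μ * p - b * p0) * 0 + (μ * r - c * p0) * a)
    (e4 : 0 * p0 + a * q0 = 0)
    (e5 : 0 * p + a * q = (μ * q - b * q0) * 1 + (μ * s - c * q0) * 0)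
    (e6 : 0 * r + a * s = (μ * q - b * q0) * 0 + (μ * s - c * q0) * a) :
    μ = 1 ∧ p0 = 0 ∧ q0 = 0 ∧ (p * s - r * q) * (μ * d') = 1 := by
  have hp0 : p0 = 0 := by linear_combination e1
  have hq0 : q0 = 0 := by linear_combination e4 - q0 * ha1
  have E2 : p = μ * p := by linear_combination e2 - b * hp0
  have E5 : q = μ * q := by linear_combination e5 - q * ha1 - b * hq0
  have hD : μ * (p * s - q * r) * d' = 1 := by
    linear_combination hdet + (b * s - q * c) * d' * hp0 + (p * c - b * r) * d' * hq0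
  have hεD : (1 - μ) * (p * s - q * r) = 0 := by linear_combination s * E2 - r * E5
  have hε : 1 - μ = 0 := by linear_combination -(1 - μ) * hD + μ * d' * hεD
  have hμ : μ = 1 := by linear_combination -hε
  refine ⟨hμ, hp0, hq0, ?_⟩
  linear_combination hD


theorem main13102 (K : Type*) [Field K] (α : K) (A : Type*) [CommRing A] [Algebra K A]
    (L : Type*) [LieRing L] [LieAlgebra A L] (bs : Module.Basis (Fin 3) A L)
    (hxy : ⁅bs 0, bs 1⁆ = bs 1) (hxz : ⁅bs 0, bs 2⁆ = algebraMap K A α • bs 2) (hyz : ⁅bs 1, bs 2⁆ = 0)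
    (φ : L ≃ₗ⁅A⁆ L) :
    (α ^ 2 ≠ 1 → ∃ b c e i : A, IsUnit e ∧ IsUnit i ∧ φ (bs 0) = bs 0 + b • bs 1 + c • bs 2 ∧
        φ (bs 1) = e • bs 1 ∧ φ (bs 2) = i • bs 2) ∧
    (α = 1 → ∃ b c e f h i : A, IsUnit (e * i - f * h) ∧ φ (bs 0) = bs 0 + b • bs 1 + c • bs 2 ∧
        φ (bs 1) = e • bs 1 + f • bs 2 ∧ φ (bs 2) = h • bs 1 + i • bs 2) := by
  set a : A := algebraMap K A α with ha
  have hxy' : ⁅bs 0, bs 1⁆ = (1 : A) • bs 1 + (0 : A) • bs 2 := by rw [hxy]; simp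
  have hxz' : ⁅bs 0, bs 2⁆ = (0 : A) • bs 1 + a • bs 2 := by rw [hxz]; simp
  obtain ⟨m, d', hφ, hdet, e1, e2, e3, e4, e5, e6, e7, -⟩ :=
    equiv_data bs 1 0 0 a hxy' hxz' hyz bs 1 0 0 a hxy' hxz' hyz φ
  constructor
  · intro hα
    have key : m 0 0 = 1 ∧ m 0 1 = 0 ∧ m 0 2 = 0 ∧ m 2 1 = 0 ∧ m 1 2 = 0 ∧
        m 1 1 * (m 2 2 * d') = 1 ∧ m 2 2 * (m 1 1 * d') = 1 := by
      by_cases hα0 : α = 0
      · have ha0 : a = 0 := by rw [ha, hα0, map_zero]
        exact alg13102b A a ha0 (m 0 0) (m 1 0) (m 2 0) (m 0 1) (m 1 1) (m 2 1) (m 0 2) (m 1 2)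
          (m 2 2) d' hdet e1 e2 e3 e5 e7
      · have haa' : a * algebraMap K A α⁻¹ = 1 := by
          rw [ha, ← map_mul, mul_inv_cancel₀ hα0, map_one]
        have hne : α * α - 1 ≠ 0 := by
          intro h
          apply hα
          rw [pow_two]
          exact sub_eq_zero.1 h
        have hv : (a * a - 1) * algebraMap K A (α * α - 1)⁻¹ = 1 := by
          rw [ha, ← map_mul, ← map_one (algebraMap K A), ← map_sub, ← map_mul,
            mul_inv_cancel₀ hne]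
        exact alg13102a A a _ _ haa' hv (m 0 0) (m 1 0) (m 2 0) (m 0 1) (m 1 1) (m 2 1) (m 0 2)
          (m 1 2) (m 2 2) d' hdet e1 e2 e3 e4 e5 e6
    obtain ⟨hμ, hp0, hq0, hr, hq, hu1, hu2⟩ := key
    refine ⟨m 1 0, m 2 0, m 1 1, m 2 2, IsUnit.of_mul_eq_one _ hu1, IsUnit.of_mul_eq_one _ hu2,
      ?_, ?_, ?_⟩
    · rw [hφ 0, hμ, one_smul]
    · rw [hφ 1, hp0, hr, zero_smul, zero_smul, zero_add, add_zero]
    · rw [hφ 2, hq0, hq, zero_smul, zero_smul, zero_add, zero_add]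
  · intro hα
    have ha1 : a = 1 := by rw [ha, hα, map_one]
    obtain ⟨hμ, hp0, hq0, hu⟩ := alg13102c A a ha1 (m 0 0) (m 1 0) (m 2 0) (m 0 1) (m 1 1)
      (m 2 1) (m 0 2) (m 1 2) (m 2 2) d' hdet e1 e2 e3 e4 e5 e6
    refine ⟨m 1 0, m 2 0, m 1 1, m 2 1, m 1 2, m 2 2, IsUnit.of_mul_eq_one _ hu, ?_, ?_, ?_⟩
    · rw [hφ 0, hμ, one_smul]
    · rw [hφ 1, hp0, zero_smul, zero_add]
    · rw [hφ 2, hq0, zero_smul, zero_add]




theorem map_lie_of_basis {ι : Type*} (bs : Module.Basis ι A L) (f : L →ₗ[A] L')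
    (h : ∀ i j, f ⁅bs i, bs j⁆ = ⁅f (bs i), f (bs j)⁆) (u v : L) :
    f ⁅u, v⁆ = ⁅f u, f v⁆ := by
  let B : L →ₗ[A] L →ₗ[A] L' := LinearMap.mk₂ A (fun u v => f ⁅u, v⁆ - ⁅f u, f v⁆)
    (fun m₁ m₂ n => by simp only [add_lie, map_add]; abel)
    (fun c m n => by simp only [smul_lie, map_smul, smul_sub])
    (fun m n₁ n₂ => by simp only [lie_add, map_add]; abel)
    (fun c m n => by simp only [lie_smul, map_smul, smul_sub])
  have hB : B = 0 := by
    apply bs.ext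
    intro i
    apply bs.ext
    intro j
    simp [B, h i j]
  have := LinearMap.congr_fun (LinearMap.congr_fun hB u) v
  simpa [B, sub_eq_zero] using this

theorem nonempty_lieEquiv_of {ι ι' : Type*} (bs : Module.Basis ι A L) (bs' : Module.Basis ι' A L')
    (f : L →ₗ[A] L') (g : L' →ₗ[A] L) (hfg : ∀ i, g (f (bs i)) = bs i)
    (hgf : ∀ i, f (g (bs' i)) = bs' i)
    (hlie : ∀ i j, f ⁅bs i, bs j⁆ = ⁅f (bs i), f (bs j)⁆) : Nonempty (L ≃ₗ⁅A⁆ L') := by
  have h1 : g ∘ₗ f = LinearMap.id := bs.ext fun i => by simpa using hfg i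
  have h2 : f ∘ₗ g = LinearMap.id := bs'.ext fun i => by simpa using hgf i
  exact ⟨{ toLinearMap := f
           map_lie' := fun {x y} => map_lie_of_basis bs f hlie x y
           invFun := g
           left_inv := fun x => LinearMap.congr_fun h1 x
           right_inv := fun x => LinearMap.congr_fun h2 x }⟩


theorem alg13108 (k : Type*) [Field k] (t t' : k) (ht : t ≠ 0)
    (μ b c p0 p r q0 q s d' : k)
    (hdet : (μ * p * s - μ * q * r - p0 * b * s + p0 * q * c + q0 * b * r - q0 * p * c) * d' = 1)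
    (e1 : 1 * p0 + 0 * q0 = 0)
    (e2 : 1 * p + 0 * q = (μ * p - b * p0) * 1 + (μ * r - c * p0) * 0)
    (e3 : 1 * r + 0 * s = (μ * p - b * p0) * 0 + (μ * r - c * p0) * t')
    (e4 : 0 * p0 + t * q0 = 0)
    (e5 : 0 * p + t * q = (μ * q - b * q0) * 1 + (μ * s - c * q0) * 0)
    (e6 : 0 * r + t * s = (μ * q - b * q0) * 0 + (μ * s - c * q0) * t') :
    t' = t ∨ t' = t⁻¹ := by
  have hp0 : p0 = 0 := by linear_combination e1
  have hq0 : q0 = 0 := by
    have : t * q0 = 0 := by linear_combination e4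
    rcases mul_eq_zero.1 this with h | h
    · exact absurd h ht
    · exact h
  have E2 : (1 - μ) * p = 0 := by linear_combination e2 - b * hp0
  have E3 : (1 - t' * μ) * r = 0 := by linear_combination e3 - t' * c * hp0
  have E5 : (t - μ) * q = 0 := by linear_combination e5 - b * hq0
  have E6 : (t - t' * μ) * s = 0 := by linear_combination e6 - t' * c * hq0
  have hD : μ * (p * s - q * r) * d' = 1 := by
    linear_combination hdet + (b * s - q * c) * d' * hp0 + (p * c - b * r) * d' * hq0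
  by_cases hp : p = 0
  · have hq : q ≠ 0 := by
      rintro rfl
      rw [hp] at hD
      simp at hD
    have hr : r ≠ 0 := by
      rintro rfl
      rw [hp] at hD
      simp at hD
    have h1 : t - μ = 0 := (mul_eq_zero.1 E5).resolve_right hq
    have h2 : 1 - t' * μ = 0 := (mul_eq_zero.1 E3).resolve_right hr
    right
    apply eq_inv_of_mul_eq_one_left
    have : μ = t := by linear_combination -h1
    rw [this] at h2
    linear_combination -h2
  · have hμ : 1 - μ = 0 := (mul_eq_zero.1 E2).resolve_right hp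
    have hμ' : μ = 1 := by linear_combination -hμ
    by_cases hs : s = 0
    · have hq : q ≠ 0 := by
        rintro rfl
        rw [hs] at hD
        simp at hD
      have hr : r ≠ 0 := by
        rintro rfl
        rw [hs] at hD
        simp at hD
      have h1 : t - μ = 0 := (mul_eq_zero.1 E5).resolve_right hq
      have h2 : 1 - t' * μ = 0 := (mul_eq_zero.1 E3).resolve_right hr
      left
      rw [hμ'] at h1 h2
      linear_combination -h1 - h2
    · have h3 : t - t' * μ = 0 := (mul_eq_zero.1 E6).resolve_right hs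
      left
      rw [hμ'] at h3
      linear_combination -h3

theorem main13108 (k : Type*) [Field k] (t t' : k) (ht : t ≠ 0) (ht' : t' ≠ 0)
    (L : Type*) [LieRing L] [LieAlgebra k L] (b : Module.Basis (Fin 3) k L)
    (h01 : ⁅b 0, b 1⁆ = b 1) (h02 : ⁅b 0, b 2⁆ = t • b 2) (h12 : ⁅b 1, b 2⁆ = 0)
    (L' : Type*) [LieRing L'] [LieAlgebra k L'] (b' : Module.Basis (Fin 3) k L')
    (h01' : ⁅b' 0, b' 1⁆ = b' 1) (h02' : ⁅b' 0, b' 2⁆ = t' • b' 2) (h12' : ⁅b' 1, b' 2⁆ = 0) :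
    Nonempty (L ≃ₗ⁅k⁆ L') ↔ (t' = t ∨ t' = t⁻¹) := by
  have h10 : ⁅b 1, b 0⁆ = -b 1 := by rw [← lie_skew, h01]
  have h20 : ⁅b 2, b 0⁆ = -(t • b 2) := by rw [← lie_skew, h02]
  have h21 : ⁅b 2, b 1⁆ = 0 := by rw [← lie_skew, h12, neg_zero]
  have h10' : ⁅b' 1, b' 0⁆ = -b' 1 := by rw [← lie_skew, h01']
  have h20' : ⁅b' 2, b' 0⁆ = -(t' • b' 2) := by rw [← lie_skew, h02']
  have h21' : ⁅b' 2, b' 1⁆ = 0 := by rw [← lie_skew, h12', neg_zero]
  constructor
  · rintro ⟨φ⟩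
    have hxy : ⁅b 0, b 1⁆ = (1 : k) • b 1 + (0 : k) • b 2 := by rw [h01]; simp
    have hxz : ⁅b 0, b 2⁆ = (0 : k) • b 1 + t • b 2 := by rw [h02]; simp
    have hxy' : ⁅b' 0, b' 1⁆ = (1 : k) • b' 1 + (0 : k) • b' 2 := by rw [h01']; simp
    have hxz' : ⁅b' 0, b' 2⁆ = (0 : k) • b' 1 + t' • b' 2 := by rw [h02']; simp
    obtain ⟨m, d', -, hdet, e1, e2, e3, e4, e5, e6, -, -⟩ :=
      equiv_data b 1 0 0 t hxy hxz h12 b' 1 0 0 t' hxy' hxz' h12' φ
    exact alg13108 k t t' ht (m 0 0) (m 1 0) (m 2 0) (m 0 1) (m 1 1) (m 2 1) (m 0 2) (m 1 2)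
      (m 2 2) d' hdet e1 e2 e3 e4 e5 e6
  · rintro (rfl | rfl)
    · have hf : ∀ i, (b.constr k ![b' 0, b' 1, b' 2]) (b i) = ![b' 0, b' 1, b' 2] i :=
        fun i => b.constr_basis k _ i
      have hg : ∀ i, (b'.constr k ![b 0, b 1, b 2]) (b' i) = ![b 0, b 1, b 2] i :=
        fun i => b'.constr_basis k _ i
      have hf0 := hf 0
      have hf1 := hf 1
      have hf2 := hf 2
      have hg0 := hg 0
      have hg1 := hg 1
      have hg2 := hg 2
      simp only [Matrix.cons_val_zero, Matrix.cons_val_one, Matrix.cons_val_two,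
        Matrix.head_cons, Matrix.tail_cons] at hf0 hf1 hf2 hg0 hg1 hg2
      obtain ⟨f, hf0, hf1, hf2⟩ : ∃ f : L →ₗ[k] L', f (b 0) = b' 0 ∧ f (b 1) = b' 1 ∧
        f (b 2) = b' 2 := ⟨_, hf0, hf1, hf2⟩
      obtain ⟨g, hg0, hg1, hg2⟩ : ∃ g : L' →ₗ[k] L, g (b' 0) = b 0 ∧ g (b' 1) = b 1 ∧
        g (b' 2) = b 2 := ⟨_, hg0, hg1, hg2⟩
      clear hf hg
      refine nonempty_lieEquiv_of b b' f g ?_ ?_ ?_
      · intro i; fin_cases i <;> simp [hf0, hf1, hf2, hg0, hg1, hg2]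
      · intro i; fin_cases i <;> simp [hf0, hf1, hf2, hg0, hg1, hg2]
      · intro i j
        fin_cases i <;> fin_cases j <;>
          simp [h01, h02, h12, h10, h20, h21, h01', h02', h12', h10', h20', h21',
            hf0, hf1, hf2]
    · have hf : ∀ i, (b.constr k ![t • b' 0, b' 2, b' 1]) (b i) = ![t • b' 0, b' 2, b' 1] i :=
        fun i => b.constr_basis k _ i
      have hg : ∀ i, (b'.constr k ![t⁻¹ • b 0, b 2, b 1]) (b' i) = ![t⁻¹ • b 0, b 2, b 1] i :=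
        fun i => b'.constr_basis k _ i
      have hf0 := hf 0
      have hf1 := hf 1
      have hf2 := hf 2
      have hg0 := hg 0
      have hg1 := hg 1
      have hg2 := hg 2
      simp only [Matrix.cons_val_zero, Matrix.cons_val_one, Matrix.cons_val_two,
        Matrix.head_cons, Matrix.tail_cons] at hf0 hf1 hf2 hg0 hg1 hg2
      obtain ⟨f, hf0, hf1, hf2⟩ : ∃ f : L →ₗ[k] L', f (b 0) = t • b' 0 ∧ f (b 1) = b' 2 ∧
        f (b 2) = b' 1 := ⟨_, hf0, hf1, hf2⟩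
      obtain ⟨g, hg0, hg1, hg2⟩ : ∃ g : L' →ₗ[k] L, g (b' 0) = t⁻¹ • b 0 ∧ g (b' 1) = b 2 ∧
        g (b' 2) = b 1 := ⟨_, hg0, hg1, hg2⟩
      clear hf hg
      refine nonempty_lieEquiv_of b b' f g ?_ ?_ ?_
      · intro i
        fin_cases i <;>
          simp [hf0, hf1, hf2, hg0, hg1, hg2, smul_smul, inv_mul_cancel₀ ht, mul_inv_cancel₀ ht]
      · intro i
        fin_cases i <;>
          simp [hf0, hf1, hf2, hg0, hg1, hg2, smul_smul, inv_mul_cancel₀ ht, mul_inv_cancel₀ ht]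
      · intro i j
        fin_cases i <;> fin_cases j <;>
          simp [h01, h02, h12, h10, h20, h21, h01', h02', h12', h10', h20', h21',
            hf0, hf1, hf2, smul_smul, mul_inv_cancel₀ ht]



theorem alg13107 (K : Type*) [CommRing K] (T : K)
    (μ b c p0 p r q0 q s d' : K)
    (hdet : (μ * p * s - μ * q * r - p0 * b * s + p0 * q * c + q0 * b * r - q0 * p * c) * d' = 1)
    (e1 : 1 * p0 + 0 * q0 = 0)
    (e2 : 1 * p + 0 * q = (μ * p - b * p0) * 0 + (μ * r - c * p0) * T)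
    (e3 : 1 * r + 0 * s = (μ * p - b * p0) * 1 + (μ * r - c * p0) * 0)
    (e4 : 0 * p0 + (-1) * q0 = 0)
    (e5 : 0 * p + (-1) * q = (μ * q - b * q0) * 0 + (μ * s - c * q0) * T)
    (e6 : 0 * r + (-1) * s = (μ * q - b * q0) * 1 + (μ * s - c * q0) * 0) :
    T * μ ^ 2 = 1 := by
  have hp0 : p0 = 0 := by linear_combination e1
  have hq0 : q0 = 0 := by linear_combination -e4
  have E2 : p = T * μ * r := by linear_combination e2 - T * c * hp0
  have E3 : r = μ * p := by linear_combination e3 - b * hp0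
  have E5 : -q = T * μ * s := by linear_combination e5 - T * c * hq0
  have E6 : -s = μ * q := by linear_combination e6 - b * hq0
  have hD : μ * (p * s - q * r) * d' = 1 := by
    linear_combination hdet + (b * s - q * c) * d' * hp0 + (p * c - b * r) * d' * hq0
  have hwp : (1 - T * μ ^ 2) * p = 0 := by linear_combination E2 + T * μ * E3
  have hwq : (1 - T * μ ^ 2) * q = 0 := by linear_combination -E5 + T * μ * E6
  have hw : 1 - T * μ ^ 2 = 0 := by
    linear_combination -(1 - T * μ ^ 2) * hD + μ * d' * (s * hwp - r * hwq)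
  linear_combination -hw

theorem main13107 (k : Type*) [Field k]
    (F : Type*) [LieRing F] [LieAlgebra (LaurentSeries k) F] (bF : Module.Basis (Fin 3) (LaurentSeries k) F)
    (hF01 : ⁅bF 0, bF 1⁆ = bF 2) (hF02 : ⁅bF 0, bF 2⁆ = (HahnSeries.single 1 (1 : k) : LaurentSeries k) • bF 1)
    (hF12 : ⁅bF 1, bF 2⁆ = 0)
    (L : Type*) [LieRing L] [LieAlgebra (LaurentSeries k) L] (bL : Module.Basis (Fin 3) (LaurentSeries k) L)
    (hL01 : ⁅bL 0, bL 1⁆ = bL 1) (hL02 : ⁅bL 0, bL 2⁆ = -bL 2) (hL12 : ⁅bL 1, bL 2⁆ = 0) :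
    IsEmpty (L ≃ₗ⁅LaurentSeries k⁆ F) := by
  constructor
  intro φ
  set T : LaurentSeries k := HahnSeries.single 1 (1 : k) with hT
  have hxy : ⁅bL 0, bL 1⁆ = (1 : LaurentSeries k) • bL 1 + (0 : LaurentSeries k) • bL 2 := by
    rw [hL01]; simp
  have hxz : ⁅bL 0, bL 2⁆ = (0 : LaurentSeries k) • bL 1 + (-1 : LaurentSeries k) • bL 2 := by
    rw [hL02]; simp
  have hxy' : ⁅bF 0, bF 1⁆ = (0 : LaurentSeries k) • bF 1 + (1 : LaurentSeries k) • bF 2 := by
    rw [hF01]; simp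
  have hxz' : ⁅bF 0, bF 2⁆ = T • bF 1 + (0 : LaurentSeries k) • bF 2 := by
    rw [hF02]; simp
  obtain ⟨m, d', -, hdet, e1, e2, e3, e4, e5, e6, -, -⟩ :=
    equiv_data bL 1 0 0 (-1) hxy hxz hL12 bF 0 1 T 0 hxy' hxz' hF12 φ
  have key := alg13107 (LaurentSeries k) T (m 0 0) (m 1 0) (m 2 0) (m 0 1) (m 1 1) (m 2 1) (m 0 2)
    (m 1 2) (m 2 2) d' hdet e1 e2 e3 e4 e5 e6
  have hμ : m 0 0 ≠ 0 := by
    intro h
    rw [h] at key
    simp at key
  have hT0 : T ≠ 0 := by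
    rw [hT]
    exact HahnSeries.single_ne_zero one_ne_zero
  have hord := congrArg HahnSeries.order key
  rw [HahnSeries.order_mul hT0 (pow_ne_zero 2 hμ), HahnSeries.order_pow, HahnSeries.order_one,
    hT, HahnSeries.order_single one_ne_zero] at hord
  rw [nsmul_eq_mul] at hord
  push_cast at hord
  omega


end Groth.Agent.Lib.helper19.Lie3
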