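import Mathlib

/-!
# Moving marked points of the trivial first-order deformation of a smooth algebra (S15988)
-/

open TensorProduct KaehlerDifferential

namespace Groth.Agent.Lib.helper19.MarkedAut

universe u v

section CRT

variable (k : Type u) [Field k] (A : Type u) [CommRing A] [Algebra k A]
  {ι : Type v} [Finite ι] (q : ι → (A →ₐ[k] k))

theorem q_surjective (i : ι) : Function.Surjective (q i) := fun c =>
  ⟨algebraMap k A c, by rw [AlgHom.commutes]; rfl⟩

include k in
theorem exists_interp (hq : Function.Injective q) (c : ι → k) : ∃ a : A, ∀ i, q i a = c i := by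
  have hmax : ∀ i, (RingHom.ker (q i).toRingHom).IsMaximal := fun i =>
    RingHom.ker_isMaximal_of_surjective (q i).toRingHom (q_surjective k A q i)
  have hcop : Pairwise (Function.onFun IsCoprime fun i => RingHom.ker (q i).toRingHom) := by
    intro i j hij
    change IsCoprime (RingHom.ker (q i).toRingHom) (RingHom.ker (q j).toRingHom)
    rw [Ideal.isCoprime_iff_sup_eq]
    refine Ideal.IsMaximal.coprime_of_ne (hmax i) (hmax j) (fun heq => hij (hq ?_))
    apply AlgHom.ext
    intro a
    have h1 : a - algebraMap k A (q i a) ∈ RingHom.ker (q i).toRingHom := by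
      rw [RingHom.mem_ker]
      change q i (a - algebraMap k A (q i a)) = 0
      rw [map_sub, AlgHom.commutes]
      simp
    rw [heq, RingHom.mem_ker] at h1
    change q j (a - algebraMap k A (q i a)) = 0 at h1
    rw [map_sub, AlgHom.commutes, sub_eq_zero] at h1
    exact h1.symm
  obtain ⟨x, hx⟩ := Ideal.quotientInfToPiQuotient_surj hcop
    (fun i => Ideal.Quotient.mk _ (algebraMap k A (c i)))
  obtain ⟨a, rfl⟩ := Ideal.Quotient.mk_surjective x
  refine ⟨a, fun i => ?_⟩
  have h2 := congrFun hx i
  rw [Ideal.quotientInfToPiQuotient_mk', Ideal.Quotient.eq, RingHom.mem_ker] at h2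
  change q i (a - algebraMap k A (c i)) = 0 at h2
  rw [map_sub, AlgHom.commutes, sub_eq_zero] at h2
  exact h2

end CRT

section Der

variable (k : Type u) [Field k] (A : Type u) [CommRing A] [Algebra k A]
  {ι : Type v} [Finite ι] (q : ι → (A →ₐ[k] k))

/-- the `A`-module structure on `ι → k` through the points `q i`. -/
@[reducible] def modPi : Module A (ι → k) :=
  Module.compHom (ι → k) (RingHom.pi fun i => (q i).toRingHom)

theorem exists_derivation [Algebra.Smooth k A] (hq : Function.Injective q) (d : ι → A →ₗ[k] k)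
    (hd : ∀ i a b, d i (a * b) = q i a * d i b + q i b * d i a) :
    ∃ D : Derivation k A A, ∀ i a, q i (D a) = d i a := by
  letI := modPi k A q
  have hsm : ∀ (a : A) (m : ι → k) (i : ι), (a • m) i = q i a * m i := fun a m i => rfl
  haveI : IsScalarTower k A (ι → k) := ⟨fun c a m => by
    ext i
    rw [hsm, Pi.smul_apply, hsm, map_smul, smul_eq_mul, smul_eq_mul, mul_assoc]⟩
  let F : A →ₗ[k] (ι → k) :=
    { toFun := fun a i => d i a
      map_add' := fun a b => by ext i; simp
      map_smul' := fun c a => by ext i; simp }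
  let dd : Derivation k A (ι → k) := Derivation.mk' F (fun a b => by
    ext i
    change d i (a * b) = (a • F b) i + (b • F a) i
    rw [hsm, hsm, hd]
    rfl)
  let π : A →ₗ[A] (ι → k) :=
    { toFun := fun a i => q i a
      map_add' := fun a b => by ext i; simp
      map_smul' := fun a b => by
        ext i
        simp only [RingHom.id_apply, hsm, smul_eq_mul, map_mul] }
  have hπ : Function.Surjective π := fun c => by
    obtain ⟨a, ha⟩ := exists_interp k A q hq c
    exact ⟨a, funext ha⟩
  obtain ⟨Δ, hΔ⟩ := Module.projective_lifting_property π dd.liftKaehlerDifferential hπ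
  refine ⟨Δ.compDer (KaehlerDifferential.D k A), fun i a => ?_⟩
  have h1 := LinearMap.congr_fun hΔ (KaehlerDifferential.D k A a)
  rw [LinearMap.comp_apply, Derivation.liftKaehlerDifferential_comp_D] at h1
  exact congrFun h1 i

end Der

section Aut

variable {k : Type u} [Field k] {A : Type u} [CommRing A] [Algebra k A]

/-- the algebra endomorphism `a + bε ↦ a + (D a + b) ε` of `A[ε]`. -/
def homOfDer (D : Derivation k A A) : DualNumber A →ₐ[k] DualNumber A where
  toFun x := ⟨x.fst, D x.fst + x.snd⟩
  map_one' := by
    apply TrivSqZeroExt.ext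
    · rfl
    · change D (1 : A) + 0 = 0
      rw [Derivation.map_one_eq_zero, add_zero]
  map_mul' x y := by
    apply TrivSqZeroExt.ext
    · rfl
    · change D (x.fst * y.fst) + (x * y).snd = (x.fst • (D y.fst + y.snd) +
        MulOpposite.op y.fst • (D x.fst + x.snd))
      rw [TrivSqZeroExt.snd_mul, Derivation.leibniz]
      simp only [smul_eq_mul, MulOpposite.smul_eq_mul_unop, MulOpposite.unop_op]
      ring
  map_zero' := by
    apply TrivSqZeroExt.ext
    · rfl
    · change D (0 : A) + 0 = 0
      rw [map_zero, add_zero]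
  map_add' x y := by
    apply TrivSqZeroExt.ext
    · rfl
    · change D (x.fst + y.fst) + (x.snd + y.snd) = (D x.fst + x.snd) + (D y.fst + y.snd)
      rw [map_add]
      abel
  commutes' c := by
    apply TrivSqZeroExt.ext
    · rfl
    · change D (algebraMap k A c) + 0 = 0
      rw [Derivation.map_algebraMap, add_zero]

theorem homOfDer_fst (D : Derivation k A A) (x : DualNumber A) : (homOfDer D x).fst = x.fst := rfl

theorem homOfDer_snd (D : Derivation k A A) (x : DualNumber A) :
    (homOfDer D x).snd = D x.fst + x.snd := rfl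

/-- the automorphism of `A[ε]` attached to a derivation. -/
def equivOfDer (D : Derivation k A A) : DualNumber A ≃ₐ[k] DualNumber A :=
  AlgEquiv.ofAlgHom (homOfDer D) (homOfDer (-D))
    (by
      apply AlgHom.ext
      intro x
      apply TrivSqZeroExt.ext
      · rfl
      · change D x.fst + ((-D) x.fst + x.snd) = x.snd
        rw [Derivation.neg_apply]
        abel)
    (by
      apply AlgHom.ext
      intro x
      apply TrivSqZeroExt.ext
      · rfl
      · change (-D) x.fst + (D x.fst + x.snd) = x.snd
        rw [Derivation.neg_apply]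
        abel)

theorem equivOfDer_apply (D : Derivation k A A) (x : DualNumber A) :
    equivOfDer D x = homOfDer D x := rfl

end Aut

section Main

variable (k : Type u) [Field k] (A : Type u) [CommRing A] [Algebra k A] [Algebra.Smooth k A]
  {ι : Type v} [Finite ι] (q : ι → (A →ₐ[k] k)) (hq : Function.Injective q)
  (q' : ι → (DualNumber A →ₐ[k] DualNumber k))
  (hε : ∀ i, q' i DualNumber.eps = DualNumber.eps) (hq' : ∀ i x, (q' i x).fst = q i x.fst)

include hε hq' in
theorem snd_q' (i : ι) (y : DualNumber A) :
    (q' i y).snd = (q' i (TrivSqZeroExt.inl y.fst)).snd + q i y.snd := by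
  have h1 : y = TrivSqZeroExt.inl y.fst + TrivSqZeroExt.inl y.snd * DualNumber.eps := by
    apply TrivSqZeroExt.ext
    · simp
    · simp
  conv_lhs => rw [h1]
  rw [map_add, map_mul, hε, TrivSqZeroExt.snd_add, TrivSqZeroExt.snd_mul, hq']
  simp

include hq hε hq' in
theorem main : ∃ φ : DualNumber A ≃ₐ[k] DualNumber A,
      φ DualNumber.eps = DualNumber.eps ∧ (∀ x, (φ x).fst = x.fst) ∧
        ∀ i x, (q' i (φ x)).fst = q i x.fst ∧ (q' i (φ x)).snd = q i x.snd := by
  let d : ι → A →ₗ[k] k := fun i =>
    { toFun := fun a => - (q' i (TrivSqZeroExt.inl a)).snd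
      map_add' := fun a b => by
        rw [TrivSqZeroExt.inl_add, map_add, TrivSqZeroExt.snd_add, neg_add]
      map_smul' := fun c a => by
        rw [TrivSqZeroExt.inl_smul, map_smul, TrivSqZeroExt.snd_smul, RingHom.id_apply, smul_neg] }
  have hd : ∀ i a b, d i (a * b) = q i a * d i b + q i b * d i a := by
    intro i a b
    change - (q' i (TrivSqZeroExt.inl (a * b))).snd =
      q i a * (- (q' i (TrivSqZeroExt.inl b)).snd) + q i b * (- (q' i (TrivSqZeroExt.inl a)).snd)
    rw [TrivSqZeroExt.inl_mul, map_mul, TrivSqZeroExt.snd_mul, hq', hq']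
    simp only [TrivSqZeroExt.fst_inl, smul_eq_mul, MulOpposite.smul_eq_mul_unop,
      MulOpposite.unop_op]
    ring
  obtain ⟨D, hD⟩ := exists_derivation k A q hq d hd
  refine ⟨equivOfDer D, ?_, fun x => rfl, fun i x => ⟨?_, ?_⟩⟩
  · apply TrivSqZeroExt.ext
    · rfl
    · rw [equivOfDer_apply, homOfDer_snd]
      simp
  · rw [hq', equivOfDer_apply, homOfDer_fst]
  · rw [snd_q' k A q q' hε hq', equivOfDer_apply, homOfDer_fst, homOfDer_snd, map_add, hD]
    change (q' i (TrivSqZeroExt.inl x.fst)).snd + (- (q' i (TrivSqZeroExt.inl x.fst)).snd + _) = _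
    abel

end Main

end Groth.Agent.Lib.helper19.MarkedAut
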