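import Mathlib
import Groth.Prelude.Def_W4sfdMinVersal
import Groth.Agent.Lib.helper19.ArtCut
import Groth.Agent.Lib.helper19.ArtTorsor
import Groth.Agent.Lib.helper19.ArtMinVersal
import Groth.Agent.Lib.helper19.ArtProrep

set_option autoImplicit false
universe u v
open CategoryTheory IsLocalRing ArtFun ArtFun.Art

namespace Groth.Agent.Lib.helper19

variable {Λ : Type u} {k : Type u} [CommRing Λ] [Field k] [Algebra Λ k]

section Diff

/-- the difference of two lifts along a small extension is a derivation -/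
theorem HomSet.exists_diff_deriv (R : CRing Λ k)
    [Algebra R.carrier k] [IsScalarTower Λ R.carrier k]
    (hresk : ∀ a, algebraMap R.carrier k a = R.res a) {B : Art Λ k}
    (t : B) (ht : t ≠ 0) (hmt : ∀ c ∈ maximalIdeal B, c * t = 0)
    (u v : HomSet R.carrier R.res B) (huv : ∀ r, ∃ w, v.1 r - u.1 r = w * t) :
    ∃ E : Derivation Λ R.carrier k, ∀ (r : R.carrier) (w : B), B.res w = E r →
      v.1 r = u.1 r + w * t := by
  have hsmul : ∀ (a : R.carrier) (c : k), a • c = R.res a * c := fun a c => by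
    rw [Algebra.smul_def, hresk]
  have hures : ∀ r, B.res (u.1 r) = R.res r := fun r => DFunLike.congr_fun u.2 r
  have hvres : ∀ r, B.res (v.1 r) = R.res r := fun r => DFunLike.congr_fun v.2 r
  choose w hw using huv
  have hc : ∀ r, coord t (v.1 r - u.1 r) = B.res (w r) := fun r => by
    rw [hw r, coord_mul t ht hmt]
  have hcoord : ∀ (r : R.carrier) (z : B), v.1 r - u.1 r = z * t →
      coord t (v.1 r - u.1 r) = B.res z := fun r z hz => by
    rw [hz, coord_mul t ht hmt]
  let E : Derivation Λ R.carrier k :=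
    { toFun := fun r => coord t (v.1 r - u.1 r)
      map_add' := fun r r' => by
        rw [hcoord (r + r') (w r + w r') (by
          rw [map_add, map_add, add_mul, ← hw r, ← hw r']; ring), map_add, hc, hc]
      map_smul' := fun l r => by
        rw [RingHom.id_apply, hcoord (l • r) (algebraMap Λ B l * w r) (by
          rw [map_smul, map_smul, mul_assoc, ← hw r, Algebra.smul_def, Algebra.smul_def]; ring),
          map_mul, hc, Algebra.smul_def, AlgHom.commutes]
      map_one_eq_zero' := by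
        change coord t (v.1 1 - u.1 1) = 0
        rw [hcoord 1 0 (by rw [map_one, map_one, sub_self, zero_mul]), map_zero]
      leibniz' := fun a b => by
        change coord t (v.1 (a * b) - u.1 (a * b)) =
          a • coord t (v.1 b - u.1 b) + b • coord t (v.1 a - u.1 a)
        rw [hcoord (a * b) (v.1 a * w b + u.1 b * w a) (by
          rw [map_mul, map_mul, add_mul, mul_assoc, mul_assoc, ← hw a, ← hw b]; ring),
          map_add, map_mul, map_mul, hvres, hures, hc, hc, hsmul, hsmul] }
  refine ⟨E, fun r z hz => ?_⟩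
  have h1 : B.res (w r) = B.res z := by
    rw [hz]
    exact (hc r).symm
  have h2 : w r - z ∈ maximalIdeal B := by
    rw [Art.mem_maximalIdeal_iff, map_sub, h1, sub_self]
  have h3 := hmt _ h2
  rw [sub_mul, sub_eq_zero] at h3
  rw [← h3, ← hw r]
  ring

end Diff

section Retract

variable [IsNoetherianRing Λ] [Module.Finite Λ k] {F : Art Λ k ⥤ Type v}

/-- if `g : R' → R` has a retraction and `ξ = ξ' ∘ g^*` is versal, then `h_R → h_R'` is smooth -/
theorem isVersal_self_along_of_retraction (R R' : CRing Λ k)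
    [Algebra R.carrier k] [IsScalarTower Λ R.carrier k]
    (hresk : ∀ a, algebraMap R.carrier k a = R.res a)
    (ξ : Family R.carrier R.res F) (hv : IsVersal ξ) (ξ' : Family R'.carrier R'.res F)
    (g : R'.carrier →ₐ[Λ] R.carrier) (hg : R.res.comp g = R'.res)
    (hξ : ∀ (A : Art Λ k) (χ : HomSet R.carrier R.res A),
      ξ.app A χ = (ξ'.along g hg).app A χ)
    (π : R.carrier →ₐ[Λ] R'.carrier) (hπ : R'.res.comp π = R.res)
    (hπg : ∀ r', π (g r') = r') :
    IsVersal ((Family.self R'.carrier R'.res).along g hg) := by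
  apply isVersal_of_smallExt
  intro B A μ hμ φ y hy
  have hy' : HomSet.map μ y = ⟨φ.1.comp g, by rw [← AlgHom.comp_assoc, φ.2, hg]⟩ := hy
  obtain ⟨hsurj, hne, ⟨t, ht⟩, hkill⟩ := hμ
  have htker : t ∈ RingHom.ker μ.toAlgHom := by
    rw [ht]; exact Submodule.mem_span_singleton_self t
  have htne : t ≠ 0 := by
    intro h0
    apply hne
    rw [ht, h0]
    simp
  have htm : t ∈ maximalIdeal B := art_ker_le_maximalIdeal μ htker
  have hmt : ∀ c : B, c ∈ maximalIdeal B → c * t = 0 := by
    intro c hc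
    have : c * t ∈ maximalIdeal B * RingHom.ker μ.toAlgHom := Ideal.mul_mem_mul hc htker
    rw [hkill] at this
    exact this
  have hmem : ∀ x : B, μ x = 0 → ∃ w, x = w * t := by
    intro x hx
    have hx' : x ∈ RingHom.ker μ.toAlgHom := hx
    rw [ht] at hx'
    obtain ⟨w, hw⟩ := Submodule.mem_span_singleton.mp hx'
    exact ⟨w, hw.symm⟩
  -- a first lift
  obtain ⟨ψ₀, hψ₀, -⟩ := hv μ hsurj φ (ξ'.app B y) (by
    rw [← ξ'.natural, hy', hξ]
    rfl)
  have hψ₀' : ∀ r, μ (ψ₀.1 r) = φ.1 r := fun r => DFunLike.congr_fun (congrArg Subtype.val hψ₀) r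
  have hyμ : ∀ r', μ (y.1 r') = φ.1 (g r') := fun r' =>
    DFunLike.congr_fun (congrArg Subtype.val hy') r'
  -- the two maps out of R
  let u : HomSet R.carrier R.res B := ⟨y.1.comp π, by rw [← AlgHom.comp_assoc, y.2, hπ]⟩
  let v : HomSet R.carrier R.res B := ⟨(ψ₀.1.comp g).comp π, by
    rw [← AlgHom.comp_assoc, ← AlgHom.comp_assoc, ψ₀.2, hg, hπ]⟩
  have hu : ∀ r, u.1 r = y.1 (π r) := fun r => rfl
  have hv' : ∀ r, v.1 r = ψ₀.1 (g (π r)) := fun r => rfl
  obtain ⟨E, hE⟩ := HomSet.exists_diff_deriv R hresk t htne hmt u v (fun r => by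
    apply hmem
    rw [map_sub, hu, hv']
    have h1 : μ (ψ₀.1 (g (π r))) = φ.1 (g (π r)) := hψ₀' _
    have h2 : μ (y.1 (π r)) = φ.1 (g (π r)) := hyμ _
    rw [h1, h2, sub_self])
  obtain ⟨ψ, hψ⟩ := HomSet.exists_add_deriv R hresk ψ₀ t htm hmt (-E)
  refine ⟨ψ, ?_, ?_⟩
  · rw [← hψ₀]
    apply Subtype.ext
    apply AlgHom.ext
    intro r
    obtain ⟨w, hw⟩ := B.res_surjective ((-E) r)
    change μ (ψ.1 r) = μ (ψ₀.1 r)
    rw [hψ r w hw, map_add, map_mul]
    have : μ t = 0 := htker
    rw [this, mul_zero, add_zero]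
  · apply Subtype.ext
    apply AlgHom.ext
    intro r'
    change ψ.1 (g r') = y.1 r'
    obtain ⟨w, hw⟩ := B.res_surjective (E (g r'))
    have h1 := hψ (g r') (-w) (by
      rw [map_neg, hw]
      rfl)
    have h2 := hE (g r') w hw
    rw [hu, hv', hπg] at h2
    rw [h1, h2]
    ring

end Retract


end Groth.Agent.Lib.helper19
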