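import Mathlib
import Groth.Prelude.Def_W4sfdMinVersal
import Groth.Agent.Lib.helper19.ArtCut
import Groth.Agent.Lib.helper19.ArtTorsor
import Groth.Agent.Lib.helper19.ArtMinVersal
import Groth.Agent.Lib.helper19.ArtProrep
import Groth.Agent.Lib.helper19.ArtFormal

set_option autoImplicit false
universe u v
open CategoryTheory IsLocalRing ArtFun ArtFun.Art

namespace Groth.Agent.Lib.helper19

variable {Λ : Type u} {k : Type u} [CommRing Λ] [Field k] [Algebra Λ k]
  [IsNoetherianRing Λ] [Module.Finite Λ k]

section CutEndo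

variable {F : Art Λ k ⥤ Type v} (R : CRing Λ k)
  [Algebra R.carrier k] [IsScalarTower Λ R.carrier k]
  (hresk : ∀ a, algebraMap R.carrier k a = R.res a)
  (ξ : Family R.carrier R.res F)

include hresk in
theorem isVersal_alongQuot_sup_of_endo
    (I : Ideal R.carrier) (hI : I ≤ maximalIdeal R.carrier)
    (hv : IsVersal (alongQuot R ξ I hI))
    (e : (cquot R I hI).carrier →ₐ[Λ] (cquot R I hI).carrier)
    (he : (cquot R I hI).res.comp e = (cquot R I hI).res)
    (heξ : ∀ (A : Art Λ k) (χ : HomSet (cquot R I hI).carrier (cquot R I hI).res A),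
      ((alongQuot R ξ I hI).along e he).app A χ = (alongQuot R ξ I hI).app A χ)
    (D₀ : Derivation Λ R.carrier k) (hD₀I : D₀ ∈ derKill R I)
    (hD₀e : ∀ r r' : R.carrier, e (cquotMk R I hI r) = cquotMk R I hI r' → D₀ r' = 0)
    (x : R.carrier) (hx : x ∈ maximalIdeal R.carrier) (hD₀x : D₀ x = 1)
    (hI' : I ⊔ Ideal.span {x} ≤ maximalIdeal R.carrier) :
    IsVersal (alongQuot R ξ (I ⊔ Ideal.span {x}) hI') := by
  apply isVersal_of_smallExt
  intro B A μ hμ φ' y hy
  rw [alongQuot_app] at hy
  set φt := HomSet.restrict _ hI' φ' with hφt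
  have hφtI' : I ⊔ Ideal.span {x} ≤ RingHom.ker φt.1 := HomSet.restrict_ker _ hI' φ'
  obtain ⟨φI, hφI⟩ := HomSet.exists_descend I hI φt (le_trans le_sup_left hφtI')
  have hφIr : HomSet.restrict I hI φI = φt := Subtype.ext hφI
  obtain ⟨ψI, hψI1, hψI2⟩ := hv μ hμ.1 φI y (by rw [alongQuot_app, hφIr, hy])
  set ψt := HomSet.restrict I hI ψI with hψt
  have hψtI : I ≤ RingHom.ker ψt.1 := HomSet.restrict_ker I hI ψI
  have hμψt : HomSet.map μ ψt = φt := by
    rw [hψt, ← HomSet.restrict_map, hψI1, hφIr]
  have hxI' : x ∈ I ⊔ Ideal.span {x} := Ideal.mem_sup_right (Ideal.mem_span_singleton_self x)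
  have hμψtx : ∀ r, μ (ψt.1 r) = φt.1 r := fun r =>
    DFunLike.congr_fun (congrArg Subtype.val hμψt) r
  set t := ψt.1 x with ht
  have htker : t ∈ RingHom.ker μ.toAlgHom := by
    rw [RingHom.mem_ker]
    change μ (ψt.1 x) = 0
    rw [hμψtx]
    exact hφtI' hxI'
  have htm : t ∈ maximalIdeal B := art_ker_le_maximalIdeal μ htker
  have hmt : ∀ c ∈ maximalIdeal B, c * t = 0 := by
    intro c hc
    have : c * t ∈ maximalIdeal B * RingHom.ker μ.toAlgHom := Ideal.mul_mem_mul hc htker
    rw [hμ.2.2.2] at this
    exact this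
  obtain ⟨ψt', hψt'⟩ := HomSet.exists_add_deriv R hresk ψt t htm hmt (-D₀)
  have hkerI : I ≤ RingHom.ker ψt'.1 := by
    intro a ha
    rw [RingHom.mem_ker, hψt' a 0 (by
      change B.res 0 = -(D₀ a)
      rw [map_zero, hD₀I a ha, neg_zero]), zero_mul, add_zero]
    exact hψtI ha
  have hkerx : x ∈ RingHom.ker ψt'.1 := by
    rw [RingHom.mem_ker, hψt' x (-1) (by
      change B.res (-1) = -(D₀ x)
      rw [map_neg, map_one, hD₀x])]
    rw [← ht]
    ring
  have hkerI' : I ⊔ Ideal.span {x} ≤ RingHom.ker ψt'.1 :=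
    sup_le hkerI ((Ideal.span_singleton_le_iff_mem _).mpr hkerx)
  obtain ⟨ψ', hψ'⟩ := HomSet.exists_descend _ hI' ψt' hkerI'
  have hr : HomSet.restrict _ hI' ψ' = ψt' := Subtype.ext hψ'
  -- the descent of ψt' to R/I
  obtain ⟨ψI', hψI'⟩ := HomSet.exists_descend I hI ψt' hkerI
  have hrI : HomSet.restrict I hI ψI' = ψt' := Subtype.ext hψI'
  refine ⟨ψ', ?_, ?_⟩
  · apply HomSet.restrict_injective _ hI'
    rw [HomSet.restrict_map, hr, ← hφt, ← hμψt]
    apply Subtype.ext
    apply AlgHom.ext
    intro r
    obtain ⟨w, hw⟩ := B.res_surjective ((-D₀) r)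
    change μ (ψt'.1 r) = μ (ψt.1 r)
    rw [hψt' r w hw, map_add, map_mul]
    have : μ t = 0 := htker
    rw [this, mul_zero, add_zero]
  · rw [alongQuot_app, hr, ← hrI, ← alongQuot_app, ← hψI2, ← heξ B ψI', ← heξ B ψI]
    change (alongQuot R ξ I hI).app B ⟨ψI'.1.comp e, _⟩ = (alongQuot R ξ I hI).app B ⟨ψI.1.comp e, _⟩
    congr 1
    apply Subtype.ext
    apply AlgHom.ext
    intro z
    change ψI'.1 (e z) = ψI.1 (e z)
    obtain ⟨r, rfl⟩ := cquotMk_surjective R I hI z
    obtain ⟨r', hr'⟩ := cquotMk_surjective R I hI (e (cquotMk R I hI r))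
    rw [← hr']
    have h1 : ψI'.1 (cquotMk R I hI r') = ψt'.1 r' :=
      DFunLike.congr_fun (congrArg Subtype.val hrI) r'
    have h2 : ψI.1 (cquotMk R I hI r') = ψt.1 r' := rfl
    rw [h1, h2, hψt' r' 0 (by
      change B.res 0 = -(D₀ r')
      rw [map_zero, hD₀e r r' hr'.symm, neg_zero]), zero_mul, add_zero]

include hresk in
theorem exists_minimalVersal_cut (h0 : H0 F) (n : ℕ) :
    ∀ (I : Ideal R.carrier) (hI : I ≤ maximalIdeal R.carrier), IsVersal (alongQuot R ξ I hI) →
      Module.finrank k (derKill R I) = n →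
      ∃ (I' : Ideal R.carrier) (hI' : I' ≤ maximalIdeal R.carrier),
        (alongQuot R ξ I' hI').IsMinimalVersal := by
  haveI : IsAdicComplete (maximalIdeal R.carrier) R.carrier := R.isAdicComplete
  have hsurjres : Function.Surjective (algebraMap R.carrier k) := by
    intro c
    obtain ⟨a, ha⟩ := R.res_surjective c
    exact ⟨a, by rw [hresk, ha]⟩
  haveI hfinD : Module.Finite k (Derivation Λ R.carrier k) :=
    finite_derivation_residueField R.carrier hsurjres
  induction n using Nat.strong_induction_on with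
  | _ n ih =>
    intro I hI hv hn
    by_cases hmin : ∀ (R' : CRing Λ k) (u : FormalElt F R')
        (f : R'.carrier →ₐ[Λ] (cquot R I hI).carrier) (hf : (cquot R I hI).res.comp f = R'.res),
        u.push f hf = (alongQuot R ξ I hI).toFormalElt → Function.Surjective f
    · exact ⟨I, hI, hv, hmin⟩
    · push Not at hmin
      obtain ⟨R'', u, f, hf, hpush, hns⟩ := hmin
      obtain ⟨g', hg', hg'u⟩ := exists_along_toFormalElt_eq h0 (cquot R I hI)
        (alongQuot R ξ I hI) hv R'' u
      have he : (cquot R I hI).res.comp (f.comp g') = (cquot R I hI).res := by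
        rw [← AlgHom.comp_assoc, hf, hg']
      have hens : ¬ Function.Surjective (f.comp g') := fun h => hns (fun z => by
        obtain ⟨w, hw⟩ := h z
        exact ⟨g' w, hw⟩)
      have heξ : ∀ (A : Art Λ k) (χ : HomSet (cquot R I hI).carrier (cquot R I hI).res A),
          ((alongQuot R ξ I hI).along (f.comp g') he).app A χ = (alongQuot R ξ I hI).app A χ := by
        intro A χ
        have h1 : (((alongQuot R ξ I hI).along g' hg').along f hf).toFormalElt =
            (alongQuot R ξ I hI).toFormalElt := by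
          rw [← push_toFormalElt, hg'u, hpush]
        exact Family.app_eq_of_toFormalElt_eq _ _ h1 A χ
      letI : Algebra (cquot R I hI).carrier k := (cquot R I hI).res.toRingHom.toAlgebra
      haveI : IsScalarTower Λ (cquot R I hI).carrier k :=
        IsScalarTower.of_algebraMap_eq (fun r => ((cquot R I hI).res.commutes r).symm)
      have hmkres : ∀ a, (cquot R I hI).res (cquotMk R I hI a) = R.res a := fun a =>
        DFunLike.congr_fun (cquotMk_res R I hI) a
      obtain ⟨Dbar, hDbar1, xbar, hDbar2⟩ := exists_derivation_of_not_surjective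
        (R := R.carrier) (S := (cquot R I hI).carrier) R.res R.res_surjective
        (cquot R I hI).res_surjective ((f.comp g').comp (cquotMk R I hI)) (by
          apply AlgHom.ext
          intro r
          change (cquot R I hI).res ((f.comp g') (cquotMk R I hI r)) = R.res r
          have := DFunLike.congr_fun he (cquotMk R I hI r)
          exact this.trans (hmkres r)) (fun h => hens (fun z => by
            obtain ⟨w, hw⟩ := h z
            exact ⟨cquotMk R I hI w, hw⟩))
      let D₀ : Derivation Λ R.carrier k :=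
        { toFun := fun r => Dbar (cquotMk R I hI r)
          map_add' := fun a b => by rw [map_add, map_add]
          map_smul' := fun l a => by
            rw [RingHom.id_apply, map_smul (cquotMk R I hI) l a, Dbar.map_smul]
          map_one_eq_zero' := by
            change Dbar (cquotMk R I hI 1) = 0
            rw [map_one, Dbar.map_one_eq_zero]
          leibniz' := fun a b => by
            change Dbar (cquotMk R I hI (a * b)) =
              a • Dbar (cquotMk R I hI b) + b • Dbar (cquotMk R I hI a)
            rw [map_mul, Dbar.leibniz, Algebra.smul_def, Algebra.smul_def, Algebra.smul_def,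
              Algebra.smul_def, hresk, hresk]
            change (cquot R I hI).res (cquotMk R I hI a) * _ + (cquot R I hI).res (cquotMk R I hI b) * _
              = _
            rw [hmkres, hmkres] }
      have hD₀ : ∀ r, D₀ r = Dbar (cquotMk R I hI r) := fun r => rfl
      have hD₀I : D₀ ∈ derKill R I := by
        intro a ha
        rw [hD₀]
        have : cquotMk R I hI a = 0 := Ideal.Quotient.eq_zero_iff_mem.mpr ha
        rw [this, map_zero]
      have hD₀e : ∀ r r' : R.carrier, (f.comp g') (cquotMk R I hI r) = cquotMk R I hI r' →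
          D₀ r' = 0 := by
        intro r r' h
        rw [hD₀, ← h]
        exact hDbar1 r
      obtain ⟨x₀, rfl⟩ := cquotMk_surjective R I hI xbar
      obtain ⟨r₁, hr₁⟩ := cquotMk_surjective R I hI ((f.comp g') (cquotMk R I hI x₀))
      have hD₀r₁ : D₀ r₁ = 0 := hD₀e x₀ r₁ hr₁.symm
      have hresr₁ : R.res r₁ = R.res x₀ := by
        rw [← hmkres, hr₁]
        have := DFunLike.congr_fun he (cquotMk R I hI x₀)
        exact this.trans (hmkres x₀)
      have hx : x₀ - r₁ ∈ maximalIdeal R.carrier := by
        rw [CRing.mem_maximalIdeal_iff, map_sub, hresr₁, sub_self]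
      have hD₀x : D₀ (x₀ - r₁) = 1 := by
        rw [map_sub, hD₀r₁, sub_zero, hD₀]
        exact hDbar2
      have hI' : I ⊔ Ideal.span {x₀ - r₁} ≤ maximalIdeal R.carrier :=
        sup_le hI ((Ideal.span_singleton_le_iff_mem _).mpr hx)
      have hv' := isVersal_alongQuot_sup_of_endo R hresk ξ I hI hv (f.comp g') he heξ D₀ hD₀I hD₀e
        (x₀ - r₁) hx hD₀x hI'
      have hlt : derKill R (I ⊔ Ideal.span {x₀ - r₁}) < derKill R I := by
        refine lt_of_le_of_ne (fun D hD a ha => hD a (Ideal.mem_sup_left ha)) ?_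
        intro h
        have : D₀ ∈ derKill R (I ⊔ Ideal.span {x₀ - r₁}) := by rw [h]; exact hD₀I
        have := this (x₀ - r₁) (Ideal.mem_sup_right (Ideal.mem_span_singleton_self _))
        rw [hD₀x] at this
        exact one_ne_zero this
      have hfr := Submodule.finrank_lt_finrank_of_lt hlt
      rw [hn] at hfr
      exact ih _ hfr _ hI' hv' rfl

end CutEndo

end Groth.Agent.Lib.helper19
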