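import Mathlib
import Groth.Prelude.Def_W4sfdMinVersal
import Groth.Agent.Lib.helper19.MinVersal1
import Groth.Agent.Lib.helper19.MinVersal2
import Groth.Agent.Lib.helper19.PSUniv3
import Groth.Agent.Lib.helper19.NoethEndo

set_option autoImplicit false
universe u v
open CategoryTheory IsLocalRing ArtFun ArtFun.Art

namespace Groth.Agent.Lib.helper19

variable {Λ : Type u} {k : Type u} [CommRing Λ] [Field k] [Algebra Λ k]
  [IsNoetherianRing Λ] [Module.Finite Λ k]

theorem versal_eq_minimalVersal_along_powerSeries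
    {F : Art Λ k ⥤ Type v} (h0 : H0 F) (V : VersalPair F) :
    ∃ (R' : CRing Λ k) (ξ' : Family R'.carrier R'.res F), ξ'.IsMinimalVersal ∧
      ∃ (g : R'.carrier →ₐ[Λ] V.ring.carrier) (hg : V.ring.res.comp g = R'.res)
        (n : ℕ) (e : V.ring.carrier ≃ₐ[Λ] MvPowerSeries (Fin n) R'.carrier),
        (∀ a : R'.carrier, e (g a) = algebraMap R'.carrier (MvPowerSeries (Fin n) R'.carrier) a) ∧
        (ξ'.along g hg).toFormalElt = V.family.toFormalElt := by
  obtain ⟨R, ξ, hv⟩ := V
  change ∃ (R' : CRing Λ k) (ξ' : Family R'.carrier R'.res F), ξ'.IsMinimalVersal ∧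
      ∃ (g : R'.carrier →ₐ[Λ] R.carrier) (hg : R.res.comp g = R'.res)
        (n : ℕ) (e : R.carrier ≃ₐ[Λ] MvPowerSeries (Fin n) R'.carrier),
        (∀ a : R'.carrier, e (g a) = algebraMap R'.carrier (MvPowerSeries (Fin n) R'.carrier) a) ∧
        (ξ'.along g hg).toFormalElt = ξ.toFormalElt
  letI : Algebra R.carrier k := R.res.toRingHom.toAlgebra
  haveI : IsScalarTower Λ R.carrier k :=
    IsScalarTower.of_algebraMap_eq (fun r => (R.res.commutes r).symm)
  have hresk : ∀ a, algebraMap R.carrier k a = R.res a := fun a => rfl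
  obtain ⟨I, hI, hmin⟩ := exists_minimalVersal_cut R hresk ξ h0 _ ⊥ bot_le
    (isVersal_alongQuot_bot R ξ hv) rfl
  set R' := cquot R I hI with hR'
  set ξ' := alongQuot R ξ I hI with hξ'
  obtain ⟨g₀, hg₀, hg₀ξ⟩ := exists_along_toFormalElt_eq h0 R' ξ' hmin.1 R ξ.toFormalElt
  have hξpt : ∀ (A : Art Λ k) (χ : HomSet R.carrier R.res A),
      ξ.app A χ = (ξ'.along g₀ hg₀).app A χ := fun A χ =>
    (Family.app_eq_of_toFormalElt_eq _ _ hg₀ξ A χ).symm
  -- the endomorphism `a = π ∘ g₀` of `R'`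
  set π := cquotMk R I hI with hπdef
  have hπres : R'.res.comp π = R.res := cquotMk_res R I hI
  have ha : R'.res.comp (π.comp g₀) = R'.res := by
    rw [← AlgHom.comp_assoc, hπres, hg₀]
  have hasurj : Function.Surjective (π.comp g₀) := by
    apply hmin.2 R' ξ'.toFormalElt (π.comp g₀) ha
    rw [push_toFormalElt]
    apply FormalElt.ext'
    intro m
    change ξ'.app _ ⟨(R'.truncHom m).1.comp (π.comp g₀), _⟩ = ξ'.app _ (R'.truncHom m)
    have h1 : ξ'.app _ (R'.truncHom m) = ξ.app _ (HomSet.restrict I hI (R'.truncHom m)) := rfl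
    rw [h1, hξpt]
    rfl
  have hainj : Function.Injective (π.comp g₀) :=
    ringHom_injective_of_surjective_endo (π.comp g₀).toRingHom hasurj
  let aE : R'.carrier ≃ₐ[Λ] R'.carrier := AlgEquiv.ofBijective (π.comp g₀) ⟨hainj, hasurj⟩
  have haE : ∀ z, aE z = π (g₀ z) := fun z => rfl
  let π' : R.carrier →ₐ[Λ] R'.carrier := (aE.symm : R'.carrier →ₐ[Λ] R'.carrier).comp π
  have hπ'g : ∀ r', π' (g₀ r') = r' := by
    intro r'
    change aE.symm (π (g₀ r')) = r'
    rw [← haE, AlgEquiv.symm_apply_apply]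
  have hπ'res : R'.res.comp π' = R.res := by
    apply AlgHom.ext
    intro r
    change R'.res (aE.symm (π r)) = R.res r
    have h1 : R'.res (aE (aE.symm (π r))) = R'.res (aE.symm (π r)) := by
      rw [haE]
      exact DFunLike.congr_fun ha _
    rw [← h1, AlgEquiv.apply_symm_apply]
    exact DFunLike.congr_fun hπres r
  have hsm := isVersal_self_along_of_retraction R R' hresk ξ hv ξ' g₀ hg₀ hξpt π' hπ'res hπ'g
  letI : Algebra R'.carrier R.carrier := g₀.toRingHom.toAlgebra
  haveI : IsScalarTower Λ R'.carrier R.carrier :=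
    IsScalarTower.of_algebraMap_eq (fun l => (g₀.commutes l).symm)
  have htoAlg : IsScalarTower.toAlgHom Λ R'.carrier R.carrier = g₀ := by
    apply AlgHom.ext
    intro z
    rfl
  have hRS : R.res.comp (IsScalarTower.toAlgHom Λ R'.carrier R.carrier) = R'.res := by
    rw [htoAlg, hg₀]
  have hsm' : IsVersal ((Family.self R'.carrier R'.res).along
      (IsScalarTower.toAlgHom Λ R'.carrier R.carrier) hRS) := by
    intro B A μ hμ φ y hy
    exact hsm μ hμ φ y hy
  obtain ⟨n, ⟨e⟩⟩ := exists_equiv_of_isVersal R' R hRS hsm'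
  refine ⟨R', ξ', hmin, g₀, hg₀, n, e.restrictScalars Λ, fun a => ?_, hg₀ξ⟩
  change e (algebraMap R'.carrier R.carrier a) = _
  exact e.commutes a

end Groth.Agent.Lib.helper19
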