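import Mathlib

/-! Miscellaneous commutative algebra lemmas (helper19). -/

namespace Groth.Agent.Lib.helper19.Misc

open TensorProduct

universe u
theorem bijective_of_generic_iso_of_eval_one_surjective
    (R K A B : Type u) [CommRing R] [IsDomain R] [Field K] [Algebra R K] [IsFractionRing R K]
    [CommRing A] [CommRing B] [Algebra R A] [Algebra R B] [Algebra A B] [IsScalarTower R A B]
    [Module.Flat R A] [Module.Flat R B] [Module.Finite A B]
    (hK : Function.Bijective
      (Algebra.TensorProduct.map (AlgHom.id R K) (IsScalarTower.toAlgHom R A B)))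
    (htr : Function.Surjective (fun u : B →ₗ[A] A => u 1)) :
    Function.Bijective (algebraMap A B) := by
  -- injectivity of `M → K ⊗ M` for flat `M`
  have hι : ∀ (M : Type _) [AddCommGroup M] [Module R M] [Module.Flat R M],
      Function.Injective (fun m : M => (1 : K) ⊗ₜ[R] m) := by
    intro M _ _ _
    have h1 := Module.Flat.rTensor_preserves_injective_linearMap (M := M)
      (Algebra.linearMap R K) (IsFractionRing.injective R K)
    intro m m' h
    have h2 : (Algebra.linearMap R K).rTensor M ((1 : R) ⊗ₜ[R] m) =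
        (Algebra.linearMap R K).rTensor M ((1 : R) ⊗ₜ[R] m') := by
      simpa using h
    have h3 := h1 h2
    have h4 := congrArg (TensorProduct.lid R M) h3
    simpa using h4
  -- denominators
  have hden : ∀ y : K ⊗[R] A, ∃ s : R, s ≠ 0 ∧ ∃ a : A, s • y = (1 : K) ⊗ₜ[R] a := by
    intro y
    induction y with
    | zero => exact ⟨1, one_ne_zero, 0, by simp⟩
    | tmul x a =>
      obtain ⟨r, s, hs, rfl⟩ := IsFractionRing.div_surjective (A := R) x
      refine ⟨s, nonZeroDivisors.ne_zero hs, r • a, ?_⟩
      rw [TensorProduct.smul_tmul', TensorProduct.tmul_smul, TensorProduct.smul_tmul']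
      congr 1
      rw [Algebra.smul_def, Algebra.smul_def, mul_one]
      field_simp [nonZeroDivisors.ne_zero hs]
    | add y z hy hz =>
      obtain ⟨s, hs, a, ha⟩ := hy
      obtain ⟨t, ht, b, hb⟩ := hz
      refine ⟨s * t, mul_ne_zero hs ht, t • a + s • b, ?_⟩
      rw [smul_add, TensorProduct.tmul_add, TensorProduct.tmul_smul, TensorProduct.tmul_smul,
        ← ha, ← hb, smul_smul, smul_smul, mul_comm t s]
  constructor
  · intro a a' h
    apply hι A
    apply hK.1
    simp only [Algebra.TensorProduct.map_tmul, AlgHom.id_apply, IsScalarTower.coe_toAlgHom']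
    rw [h]
  · obtain ⟨u, hu⟩ := htr 1
    simp only at hu
    intro b
    refine ⟨u b, ?_⟩
    set b' := b - algebraMap A B (u b) with hb'
    have hub' : u b' = 0 := by
      rw [hb', map_sub, Algebra.algebraMap_eq_smul_one, map_smul, hu, smul_eq_mul, mul_one, sub_self]
    obtain ⟨y, hy⟩ := hK.2 ((1 : K) ⊗ₜ[R] b')
    obtain ⟨s, hs, a, ha⟩ := hden y
    have h1 : (1 : K) ⊗ₜ[R] (s • b') = (1 : K) ⊗ₜ[R] (algebraMap A B a) := by
      rw [TensorProduct.tmul_smul, ← hy]
      have : s • (Algebra.TensorProduct.map (AlgHom.id R K) (IsScalarTower.toAlgHom R A B)) y =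
          (Algebra.TensorProduct.map (AlgHom.id R K) (IsScalarTower.toAlgHom R A B)) (s • y) := by
        rw [map_smul]
      rw [this, ha]
      simp
    have h2 : s • b' = algebraMap A B a := hι B h1
    have h3 : a = 0 := by
      have := congrArg u h2
      rw [LinearMap.map_smul_of_tower, hub', smul_zero, Algebra.algebraMap_eq_smul_one, map_smul, hu,
        smul_eq_mul, mul_one] at this
      exact this.symm
    rw [h3, map_zero] at h2
    have h4 : (1 : K) ⊗ₜ[R] b' = 0 := by
      have h5 : (algebraMap R K s) • ((1 : K) ⊗ₜ[R] b') = 0 := by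
        rw [algebraMap_smul, ← TensorProduct.tmul_smul, h2, TensorProduct.tmul_zero]
      have hsK : algebraMap R K s ≠ 0 := by
        rwa [Ne, map_eq_zero_iff _ (IsFractionRing.injective R K)]
      exact (smul_eq_zero_iff_right hsK).1 h5
    have h6 : b' = 0 := hι B (by simpa using h4)
    rw [hb', sub_eq_zero] at h6
    exact h6.symm

end Groth.Agent.Lib.helper19.Misc
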