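import Mathlib
import Groth.Agent.Lib.helper9.IntegralDim

/-!
# Noether normalization on a principal open of minimal dimension around a prime (S6385)
-/

namespace Groth.Agent.Lib.helper19.NoetherAtPrime

universe u

open Groth.Agent.Lib.helper9.IntegralDim

theorem main (k S : Type u) [Field k] [CommRing S] [Algebra k S]
    [Algebra.FiniteType k S] (q : Ideal S) [q.IsPrime] :
    ∃ (g : S) (d : ℕ), g ∉ q ∧ ringKrullDim (Localization.Away g) = d ∧
      (∀ g' : S, g' ∉ q → ringKrullDim (Localization.Away g) ≤ ringKrullDim (Localization.Away g')) ∧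
      ∃ φ : MvPolynomial (Fin d) k →ₐ[k] Localization.Away g,
        Function.Injective φ ∧ φ.toRingHom.Finite := by
  have hwf : WellFounded ((· < ·) : WithBot ℕ∞ → WithBot ℕ∞ → Prop) := wellFounded_lt
  let T : Set (WithBot ℕ∞) := {x | ∃ g' : S, g' ∉ q ∧ x = ringKrullDim (Localization.Away g')}
  have h1 : (1 : S) ∉ q := fun h => (Ideal.IsPrime.ne_top ‹_›) ((Ideal.eq_top_iff_one q).mpr h)
  have hT : T.Nonempty := ⟨_, 1, h1, rfl⟩
  obtain ⟨x, ⟨g, hg, rfl⟩, hmin⟩ := hwf.has_min T hT
  haveI : Nontrivial (Localization.Away g) := by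
    have hu : IsUnit (algebraMap S (Localization.AtPrime q) g) :=
      IsLocalization.map_units (Localization.AtPrime q) (⟨g, hg⟩ : q.primeCompl)
    exact RingHom.domain_nontrivial (IsLocalization.Away.lift (S := Localization.Away g) g hu)
  have hSA : Algebra.FiniteType S (Localization.Away g) := IsLocalization.finiteType_of_monoid_fg
    (Submonoid.powers g) (Localization.Away g)
  have hkS : Algebra.FiniteType k S := inferInstance
  haveI : Algebra.FiniteType k (Localization.Away g) := Algebra.FiniteType.trans hkS hSA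
  obtain ⟨d, φ, hinj, hfin⟩ := exists_finite_inj_algHom_of_fg k (Localization.Away g)
  refine ⟨g, d, hg, ?_, ?_, φ, hinj, hfin⟩
  · letI := φ.toRingHom.toAlgebra
    haveI : Module.Finite (MvPolynomial (Fin d) k) (Localization.Away g) := hfin
    have h2 := ringKrullDim_eq_of_isIntegral_of_injective (MvPolynomial (Fin d) k)
      (Localization.Away g) hinj
    rw [← h2, MvPolynomial.ringKrullDim_of_isNoetherianRing, ringKrullDim_eq_zero_of_field]
    simp
  · intro g' hg'
    exact not_lt.mp (hmin _ ⟨g', hg', rfl⟩)

end Groth.Agent.Lib.helper19.NoetherAtPrime
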