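import Mathlib
import Groth.Prelude.Def_ArtFun3
import Groth.Agent.Lib.helper19.ArtTorsor
import Groth.Agent.Lib.helper19.ArtFibre
import Groth.Agent.S12717

set_option autoImplicit false
universe u v
open CategoryTheory IsLocalRing ArtFun ArtFun.Art
open scoped TensorProduct

namespace Groth.Agent.Lib.helper19

theorem isSmooth_of_tangent_surjective_of_obs_compatible_injective
    {k : Type u} [Field k]
    {F G : Art k k ⥤ Type v} (φ : F ⟶ G)
    (hF0 : H0 F) (hFrs : (∀ ⦃B A A' A'' : Art k k⦄ (p' : B ⟶ A') (p'' : B ⟶ A'') (f' : A' ⟶ A) (f'' : A'' ⟶ A)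
        (h : IsFibreProd p' p'' f' f''), Function.Surjective f'' → Function.Bijective (cmp F h)))
    (hG0 : H0 G) (hGrs : (∀ ⦃B A A' A'' : Art k k⦄ (p' : B ⟶ A') (p'' : B ⟶ A'') (f' : A' ⟶ A) (f'' : A'' ⟶ A)
        (h : IsFibreProd p' p'' f' f''), Function.Surjective f'' → Function.Bijective (cmp G h)))
    {V W : Type u} [AddCommGroup V] [Module k V] [AddCommGroup W] [Module k W]
    (oF : ObsTheory F V) (oG : ObsTheory G W)
    (γ : V →ₗ[k] W) (hγ : Function.Injective γ)
    (hcompat : ∀ ⦃C' C : Art k k⦄ (p : C' ⟶ C) (hp : IsSmallExt p) (x : F.obj C),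
      oG.obs p hp.isSemismallExt (φ.app C x) = LinearMap.rTensor _ γ (oF.obs p hp.isSemismallExt x))
    (hT : Function.Surjective (TangentSpace.map φ)) :
    IsSmooth φ := by
  apply Groth.Agent.S12717.result
  intro B A p hp
  rintro ⟨⟨x, y'⟩, hxy⟩
  have hxy' : φ.app A x = G.map p y' := hxy
  -- step 1: x lifts
  have hob : oF.obs p hp.isSemismallExt x = 0 := by
    have h1 : oG.obs p hp.isSemismallExt (φ.app A x) = 0 :=
      (oG.obs_eq_zero_iff p hp.isSemismallExt _).mpr ⟨y', hxy'.symm⟩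
    rw [hcompat p hp x] at h1
    have hinj : Function.Injective (LinearMap.rTensor (↥(RingHom.ker p.toAlgHom)) γ) :=
      Module.Flat.rTensor_preserves_injective_linearMap γ hγ
    exact hinj (h1.trans (map_zero _).symm)
  obtain ⟨x', hx'⟩ := (oF.obs_eq_zero_iff p hp.isSemismallExt x).mp hob
  -- step 2: the fibre product B ×_A B
  have hps : Function.Surjective p := hp.1
  have hP := isFibreProd_fibreProd p p hps
  set p₁ := fibreProdFst p p hps with hp₁
  set p₂ := fibreProdSnd p p hps with hp₂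
  obtain ⟨δ, Δ, hδ, -, -, -⟩ := exists_torsor_square p hp p₁ p₂ hP
  have hdsurj : Function.Surjective (toBase (dual k k)) := (dual k k).res_surjective
  obtain ⟨zG, hzG⟩ := (hGrs p₁ p₂ p p hP hps).2 ⟨(φ.app B x', y'), by
    change G.map p (φ.app B x') = G.map p y'
    have h1 : G.map p (φ.app B x') = φ.app A (F.map p x') := (NatTrans.naturality_apply φ p x').symm
    rw [h1, hx', hxy']⟩
  have hzG1 : G.map p₁ zG = φ.app B x' := congrArg (fun t => t.1.1) hzG
  have hzG2 : G.map p₂ zG = y' := congrArg (fun t => t.1.2) hzG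
  obtain ⟨θF, hθF⟩ := hT (G.map δ zG)
  have hθF' : φ.app (dual k k) θF = G.map δ zG := hθF
  obtain ⟨w, hw⟩ := (hFrs p₁ δ _ _ hδ hdsurj).2 ⟨(x', θF), @Subsingleton.elim _ hF0.2 _ _⟩
  have hw1 : F.map p₁ w = x' := congrArg (fun t => t.1.1) hw
  have hw2 : F.map δ w = θF := congrArg (fun t => t.1.2) hw
  have hφw : φ.app _ w = zG := by
    apply (hGrs p₁ δ _ _ hδ hdsurj).1
    apply FibProd.ext
    · change G.map p₁ (φ.app _ w) = G.map p₁ zG
      have h1 : G.map p₁ (φ.app _ w) = φ.app B (F.map p₁ w) := (NatTrans.naturality_apply φ p₁ w).symm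
      rw [h1, hw1, hzG1]
    · change G.map δ (φ.app _ w) = G.map δ zG
      have h1 : G.map δ (φ.app _ w) = φ.app _ (F.map δ w) := (NatTrans.naturality_apply φ δ w).symm
      rw [h1, hw2, hθF']
  refine ⟨F.map p₂ w, ?_⟩
  apply Subtype.ext
  apply Prod.ext
  · change F.map p (F.map p₂ w) = x
    rw [← Functor.map_comp_apply, ← hP.w, Functor.map_comp_apply, hw1, hx']
  · change φ.app B (F.map p₂ w) = y'
    have h1 : φ.app B (F.map p₂ w) = G.map p₂ (φ.app _ w) := NatTrans.naturality_apply φ p₂ w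
    rw [h1, hφw, hzG2]

end Groth.Agent.Lib.helper19
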