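import Mathlib
import Groth.Prelude.Def_ArtFun3
import Groth.Agent.Lib.helper19.ArtInduction

/-! Obstructions lie in the span of the obstructions along tiny extensions. -/

set_option autoImplicit false
universe u v
open ArtFun ArtFun.Art IsLocalRing TensorProduct CategoryTheory

namespace Groth.Agent.Lib.helper19.ObsTiny

variable {k : Type u} [Field k]

section Expand

variable {V J : Type*} [AddCommGroup V] [Module k V] [AddCommGroup J] [Module k J] {ι : Type*}
  (b : Module.Basis ι k J)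

/-- the `i`-th coefficient of a tensor with respect to a basis of the right factor -/
noncomputable def coef (i : ι) : V ⊗[k] J →ₗ[k] V :=
  (TensorProduct.rid k V).toLinearMap ∘ₗ LinearMap.lTensor V (b.coord i)

lemma coef_tmul (i : ι) (v : V) (j : J) : coef b i (v ⊗ₜ[k] j) = b.repr j i • v := by
  simp [coef]

lemma expand (ω : V ⊗[k] J) : ∃ s : Finset ι, ω = ∑ i ∈ s, coef b i ω ⊗ₜ[k] b i := by
  classical
  let e := TensorProduct.equivFinsuppOfBasisRight (M := V) b
  have h1 : ∀ (ω : V ⊗[k] J) (i : ι), e ω i = coef b i ω := by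
    intro ω i
    induction ω using TensorProduct.induction_on with
    | zero => rw [map_zero, map_zero]; rfl
    | tmul v j => rw [TensorProduct.equivFinsuppOfBasisRight_apply_tmul_apply, coef_tmul]
    | add x y hx hy => rw [map_add, map_add, Finsupp.add_apply, hx, hy]
  refine ⟨(e ω).support, ?_⟩
  have h2 : e.symm (e ω) = ω := e.symm_apply_apply ω
  rw [TensorProduct.equivFinsuppOfBasisRight_symm_apply] at h2
  conv_lhs => rw [← h2]
  rw [Finsupp.sum]
  refine Finset.sum_congr rfl fun i _ => ?_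
  rw [h1]

end Expand

section Hyper

variable {C' C : Art k k} (p : C' ⟶ C) (hp : IsSemismallExt p)
  {ι : Type u} (b : Module.Basis ι k ↥(RingHom.ker p.toAlgHom)) (i : ι)

include hp in
lemma mul_eq_smul (a : C') (c : C') (hc : c ∈ RingHom.ker p.toAlgHom) :
    a * c = (C'.res a) • c := by
  have h1 : a - algebraMap k C' (C'.res a) ∈ maximalIdeal C' := by
    rw [Art.mem_maximalIdeal_iff, map_sub, AlgHom.commutes]
    exact sub_self _
  have h2 : (a - algebraMap k C' (C'.res a)) * c = 0 := by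
    have := Ideal.mul_mem_mul h1 hc
    rw [hp.2] at this
    exact (Ideal.mem_bot).mp this
  rw [Algebra.smul_def]
  rw [sub_mul, sub_eq_zero] at h2
  exact h2

lemma ker_le_maximalIdeal : RingHom.ker p.toAlgHom ≤ maximalIdeal C' := by
  intro c hc
  rw [Art.mem_maximalIdeal_iff, ← Art.res_app p]
  have : p c = 0 := hc
  rw [this, map_zero]

/-- the hyperplane of the kernel where the `i`-th coordinate vanishes, as an ideal -/
def K : Ideal C' where
  carrier := {c | ∃ h : c ∈ RingHom.ker p.toAlgHom, b.coord i ⟨c, h⟩ = 0}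
  add_mem' := by
    rintro x y ⟨hx, hx0⟩ ⟨hy, hy0⟩
    refine ⟨Ideal.add_mem _ hx hy, ?_⟩
    have : (⟨x + y, Ideal.add_mem _ hx hy⟩ : ↥(RingHom.ker p.toAlgHom)) = ⟨x, hx⟩ + ⟨y, hy⟩ := rfl
    rw [this, map_add, hx0, hy0, add_zero]
  zero_mem' := ⟨Ideal.zero_mem _, by
    have : (⟨0, Ideal.zero_mem _⟩ : ↥(RingHom.ker p.toAlgHom)) = 0 := rfl
    rw [this, map_zero]⟩
  smul_mem' := by
    rintro a c ⟨hc, hc0⟩
    have hmem : a • c ∈ RingHom.ker p.toAlgHom := Ideal.mul_mem_left _ a hc
    refine ⟨hmem, ?_⟩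
    have : (⟨a • c, hmem⟩ : ↥(RingHom.ker p.toAlgHom)) = (C'.res a) • ⟨c, hc⟩ := by
      apply Subtype.ext
      change a * c = (C'.res a) • c
      exact mul_eq_smul p hp a c hc
    rw [this, map_smul, hc0, smul_zero]

lemma mem_K (c : C') : c ∈ K p hp b i ↔ ∃ h : c ∈ RingHom.ker p.toAlgHom, b.coord i ⟨c, h⟩ = 0 :=
  Iff.rfl

lemma K_le_ker : K p hp b i ≤ RingHom.ker p.toAlgHom := fun _ hc => hc.1

lemma K_le_max : K p hp b i ≤ maximalIdeal C' := (K_le_ker p hp b i).trans (ker_le_maximalIdeal p)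

/-- the tiny extension `C'/K → C` -/
noncomputable def qf : Art.quot C' (K p hp b i) (K_le_max p hp b i) ⟶ C :=
  Art.quotFactor (K_le_max p hp b i) p (K_le_ker p hp b i)

lemma qf_mk (c : C') : qf p hp b i (Art.quotMk C' (K p hp b i) (K_le_max p hp b i) c) = p c := rfl

lemma mk_mem_ker_qf (c : C') :
    Art.quotMk C' (K p hp b i) (K_le_max p hp b i) c ∈ RingHom.ker (qf p hp b i).toAlgHom ↔
      c ∈ RingHom.ker p.toAlgHom := by
  rw [RingHom.mem_ker, RingHom.mem_ker]
  rfl

lemma qf_semismall : IsSemismallExt (qf p hp b i) := by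
  refine ⟨?_, ?_⟩
  · intro x
    obtain ⟨c, rfl⟩ := hp.1 x
    exact ⟨Art.quotMk C' _ (K_le_max p hp b i) c, rfl⟩
  · rw [eq_bot_iff, Ideal.mul_le]
    intro a ha y hy
    obtain ⟨a, rfl⟩ := Art.quotMk_surjective C' _ (K_le_max p hp b i) a
    obtain ⟨c, rfl⟩ := Art.quotMk_surjective C' _ (K_le_max p hp b i) y
    have ha' : a ∈ maximalIdeal C' := by
      rw [Art.mem_maximalIdeal_iff] at ha ⊢
      rw [Art.res_app] at ha
      exact ha
    have hc : c ∈ RingHom.ker p.toAlgHom := (mk_mem_ker_qf p hp b i c).mp hy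
    have h0 : a * c = 0 := by
      have := Ideal.mul_mem_mul ha' hc
      rw [hp.2] at this
      exact (Ideal.mem_bot).mp this
    rw [Ideal.mem_bot, ← map_mul]
    change Art.quotMk C' _ (K_le_max p hp b i) (a * c) = 0
    rw [h0, map_zero]

/-- the linear form on the kernel of `qf` induced by the `i`-th coordinate -/
noncomputable def ktq : ↥(RingHom.ker p.toAlgHom) →ₗ[k] ↥(RingHom.ker (qf p hp b i).toAlgHom) :=
  (Art.kerToQuot (K_le_max p hp b i) p (K_le_ker p hp b i)).restrictScalars k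

lemma ktq_apply (j : ↥(RingHom.ker p.toAlgHom)) :
    ((ktq p hp b i j : ↥(RingHom.ker (qf p hp b i).toAlgHom)) : Art.quot C' (K p hp b i) (K_le_max p hp b i)) =
      Art.quotMk C' _ (K_le_max p hp b i) (j : C') := rfl

lemma ktq_surjective : Function.Surjective (ktq p hp b i) := by
  rintro ⟨y, hy⟩
  obtain ⟨c, rfl⟩ := Art.quotMk_surjective C' _ (K_le_max p hp b i) y
  exact ⟨⟨c, (mk_mem_ker_qf p hp b i c).mp hy⟩, rfl⟩

lemma ktq_eq_zero_iff (j : ↥(RingHom.ker p.toAlgHom)) : ktq p hp b i j = 0 ↔ b.coord i j = 0 := by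
  constructor
  · intro h
    have h1 : Art.quotMk C' _ (K_le_max p hp b i) (j : C') = 0 := congrArg Subtype.val h
    have h2 := (Groth.Agent.Lib.helper19.quotMk_eq_zero_iff C' _ (K_le_max p hp b i) _).mp h1
    obtain ⟨_, h3⟩ := (mem_K p hp b i _).mp h2
    exact h3
  · intro h
    apply Subtype.ext
    exact (Groth.Agent.Lib.helper19.quotMk_eq_zero_iff C' _ (K_le_max p hp b i) _).mpr
      ((mem_K p hp b i _).mpr ⟨j.2, h⟩)

lemma exists_phi : ∃ φ : ↥(RingHom.ker (qf p hp b i).toAlgHom) ≃ₗ[k] k,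
    ∀ j, φ (ktq p hp b i j) = b.coord i j := by
  have hker : LinearMap.ker (ktq p hp b i) ≤ LinearMap.ker (b.coord i) := by
    intro j hj
    rw [LinearMap.mem_ker] at hj ⊢
    exact (ktq_eq_zero_iff p hp b i j).mp hj
  let e := (ktq p hp b i).quotKerEquivOfSurjective (ktq_surjective p hp b i)
  let ψ : ↥(RingHom.ker (qf p hp b i).toAlgHom) →ₗ[k] k :=
    ((LinearMap.ker (ktq p hp b i)).liftQ (b.coord i) hker) ∘ₗ e.symm.toLinearMap
  have hψ : ∀ j, ψ (ktq p hp b i j) = b.coord i j := by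
    intro j
    have : e.symm (ktq p hp b i j) = Submodule.Quotient.mk j := by
      rw [LinearEquiv.symm_apply_eq]
      rfl
    change (LinearMap.ker (ktq p hp b i)).liftQ (b.coord i) hker (e.symm (ktq p hp b i j)) = _
    rw [this]
    rfl
  have hbij : Function.Bijective ψ := by
    constructor
    · rw [injective_iff_map_eq_zero]
      intro y hy
      obtain ⟨j, rfl⟩ := ktq_surjective p hp b i y
      rw [hψ] at hy
      exact (ktq_eq_zero_iff p hp b i j).mpr hy
    · intro c
      refine ⟨ktq p hp b i (c • b i), ?_⟩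
      rw [hψ, map_smul, Module.Basis.coord_apply, Module.Basis.repr_self, Finsupp.single_eq_same,
        smul_eq_mul, mul_one]
  exact ⟨LinearEquiv.ofBijective ψ hbij, hψ⟩

lemma qf_small : IsSmallExt (qf p hp b i) := by
  have hss := qf_semismall p hp b i
  refine ⟨hss.1, ?_, ?_, hss.2⟩
  · intro hbot
    have h1 : ((ktq p hp b i (b i) : ↥(RingHom.ker (qf p hp b i).toAlgHom)) :
        Art.quot C' (K p hp b i) (K_le_max p hp b i)) ∈ (⊥ : Ideal _) :=
      hbot ▸ (ktq p hp b i (b i)).2
    have h2 : ktq p hp b i (b i) = 0 := Subtype.ext ((Ideal.mem_bot).mp h1)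
    have h3 := (ktq_eq_zero_iff p hp b i _).mp h2
    rw [Module.Basis.coord_apply, Module.Basis.repr_self, Finsupp.single_eq_same] at h3
    exact one_ne_zero h3
  · refine ⟨⟨Art.quotMk C' _ (K_le_max p hp b i) ((b i : ↥(RingHom.ker p.toAlgHom)) : C'), ?_⟩⟩
    apply le_antisymm
    · intro y hy
      obtain ⟨j, hj⟩ := ktq_surjective p hp b i ⟨y, hy⟩
      have hy' : y = Art.quotMk C' _ (K_le_max p hp b i) (j : C') := by
        rw [← ktq_apply, hj]
      have hdiff : ktq p hp b i (j - b.coord i j • b i) = 0 := by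
        rw [ktq_eq_zero_iff, map_sub, map_smul, Module.Basis.coord_apply, Module.Basis.coord_apply,
          Module.Basis.repr_self, Finsupp.single_eq_same, smul_eq_mul, mul_one, sub_self]
      rw [map_sub, sub_eq_zero] at hdiff
      have h4 : y = Art.quotMk C' _ (K_le_max p hp b i)
          (((b.coord i j • b i : ↥(RingHom.ker p.toAlgHom)) : ↥(RingHom.ker p.toAlgHom)) : C') := by
        rw [hy', ← ktq_apply, hdiff, ktq_apply]
      rw [h4]
      change Art.quotMk C' _ (K_le_max p hp b i) (b.coord i j • ((b i : ↥(RingHom.ker p.toAlgHom)) : C')) ∈ _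
      rw [Algebra.smul_def, map_mul]
      exact Ideal.mem_span_singleton'.mpr ⟨_, rfl⟩
    · change Ideal.span {_} ≤ _
      rw [Ideal.span_singleton_le_iff_mem]
      exact (ktq p hp b i (b i)).2

end Hyper

section Main

variable {F : Art k k ⥤ Type v} {V : Type u} [AddCommGroup V] [Module k V]

theorem main (T : ObsTheory F V) {C' C : Art k k} (p : C' ⟶ C) (hp : IsSemismallExt p)
    (u : F.obj C) :
    T.obs p hp u ∈ LinearMap.range (LinearMap.rTensor (↥(RingHom.ker p.toAlgHom))
      (Submodule.span k {v : V | ∃ (B' B : Art k k) (t : B' ⟶ B) (ht : IsSmallExt t)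
          (w : F.obj B) (φ : ↥(RingHom.ker t.toAlgHom) ≃ₗ[k] k),
          v = TensorProduct.rid k V (LinearMap.lTensor V φ.toLinearMap
            (T.obs t ht.isSemismallExt w))}).subtype) := by
  set Ω := Submodule.span k {v : V | ∃ (B' B : Art k k) (t : B' ⟶ B) (ht : IsSmallExt t)
          (w : F.obj B) (φ : ↥(RingHom.ker t.toAlgHom) ≃ₗ[k] k),
          v = TensorProduct.rid k V (LinearMap.lTensor V φ.toLinearMap
            (T.obs t ht.isSemismallExt w))} with hΩ
  let b := Module.Basis.ofVectorSpace k ↥(RingHom.ker p.toAlgHom)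
  set ω := T.obs p hp u with hω
  have hcoef : ∀ i, coef b i ω ∈ Ω := by
    intro i
    apply Submodule.subset_span
    obtain ⟨φ, hφ⟩ := exists_phi p hp b i
    refine ⟨_, _, qf p hp b i, qf_small p hp b i, u, φ, ?_⟩
    have hq := T.obs_quot p hp (K p hp b i) (K_le_max p hp b i) (K_le_ker p hp b i)
      (qf_small p hp b i).isSemismallExt u
    change T.obs (qf p hp b i) _ u = LinearMap.lTensor V (ktq p hp b i) ω at hq
    rw [hq, ← LinearMap.comp_apply, ← LinearMap.lTensor_comp]
    have : φ.toLinearMap ∘ₗ ktq p hp b i = b.coord i := by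
      apply LinearMap.ext
      intro j
      exact hφ j
    rw [this]
    rfl
  obtain ⟨s, hs⟩ := expand b ω
  rw [hs]
  refine Submodule.sum_mem _ fun i _ => ?_
  exact ⟨(⟨coef b i ω, hcoef i⟩ : Ω) ⊗ₜ[k] b i, rfl⟩

end Main

end Groth.Agent.Lib.helper19.ObsTiny
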