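import Mathlib
import Groth.Agent.Lib.helper19.Completion

set_option autoImplicit false
universe u
open CategoryTheory IsLocalRing ArtFun ArtFun.Art MvPowerSeries

namespace Groth.Agent.Lib.helper19

section

variable {k : Type u} [Field k]


/-- a local Artinian `k`-algebra with residue field `k` as an object of `Art k k` -/
noncomputable def artOfLocal (B : Type u) [CommRing B] [IsLocalRing B] [IsArtinianRing B]
    [Algebra k B] (h : Function.Bijective (algebraMap k (IsLocalRing.ResidueField B))) : Art k k :=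
  Art.of B (coeffRes k B h) (fun c => ⟨algebraMap k B c, by
    rw [AlgHom.commutes]; rfl⟩)

theorem residue_bijective_of_finite [IsAlgClosed k] (B : Type u) [CommRing B] [IsLocalRing B]
    [Algebra k B] [Module.Finite k B] :
    Function.Bijective (algebraMap k (IsLocalRing.ResidueField B)) := by
  haveI : Module.Finite k (IsLocalRing.ResidueField B) :=
    Module.Finite.of_surjective (IsScalarTower.toAlgHom k B (ResidueField B)).toLinearMap
      IsLocalRing.residue_surjective
  haveI : Algebra.IsIntegral k (IsLocalRing.ResidueField B) := Algebra.IsIntegral.of_finite k _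
  exact IsAlgClosed.algebraMap_bijective_of_isIntegral

theorem lifting_of_regular [IsAlgClosed k]
    (A : Type u) [CommRing A] [IsLocalRing A] [IsNoetherianRing A] [Algebra k A]
    (hres : Function.Surjective (algebraMap k (IsLocalRing.ResidueField A)))
    (hreg : IsRegularLocalRing A)
    (B' : Type u) [CommRing B'] [IsLocalRing B'] [Algebra k B'] [Module.Finite k B']
    (J : Ideal B') (hJ : J ≠ ⊤) (f : A →ₐ[k] B' ⧸ J) :
    ∃ g : A →ₐ[k] B', (Ideal.Quotient.mkₐ k J).comp g = f := by
  haveI : IsRegularLocalRing (AdicCompletion (maximalIdeal A) A) :=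
    (Groth.Agent.S0548.result A).mp hreg
  have hk := compl_residue_bijective k hres
  obtain ⟨d, ⟨e⟩⟩ := exists_algEquiv_mvPowerSeries_of_regular_complete
    (AdicCompletion (maximalIdeal A) A) k hk
  haveI : IsArtinianRing B' := IsArtinianRing.of_finite k B'
  let C' : Art k k := artOfLocal B' (residue_bijective_of_finite B')
  have hJm : J ≤ maximalIdeal C' := IsLocalRing.le_maximalIdeal hJ
  let C₀ : Art k k := Art.quot C' J hJm
  let p : C' ⟶ C₀ := Art.quotMk C' J hJm
  obtain ⟨fhat, hfhat⟩ := exists_extend_compl C₀ f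
  let χ₀ : ObsPS.PSk k d →ₐ[k] C₀ := fhat.comp (e.symm : MvPowerSeries (Fin d) k →ₐ[k] _)
  obtain ⟨χ, hχ⟩ := ObsPS.exists_lift p (Art.quotMk_surjective C' J hJm) χ₀
  let ofA : A →ₐ[k] AdicCompletion (maximalIdeal A) A :=
    IsScalarTower.toAlgHom k A (AdicCompletion (maximalIdeal A) A)
  refine ⟨(χ.comp (e : _ →ₐ[k] MvPowerSeries (Fin d) k)).comp ofA, ?_⟩
  apply AlgHom.ext
  intro a
  have h1 := DFunLike.congr_fun hχ (e (ofA a))
  change p (χ (e (ofA a))) = fhat (e.symm (e (ofA a))) at h1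
  rw [e.symm_apply_apply] at h1
  refine h1.trans ?_
  exact hfhat a

/-- a local Artinian `k`-algebra whose residue field is `k` is finite-dimensional -/
theorem finite_of_local_artinian (B : Type u) [CommRing B] [IsLocalRing B] [IsArtinianRing B]
    [Algebra k B] (hres : ∀ x : B, ∃ c : k, x - algebraMap k B c ∈ nonunits B) :
    Module.Finite k B := by
  haveI : Module.Finite k (B ⧸ Ring.jacobson B) := by
    refine Module.Finite.of_surjective (Algebra.linearMap k (B ⧸ Ring.jacobson B)) ?_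
    intro x
    obtain ⟨b, rfl⟩ := Ideal.Quotient.mk_surjective x
    obtain ⟨c, hc⟩ := hres b
    refine ⟨c, ?_⟩
    change algebraMap k (B ⧸ Ring.jacobson B) c = _
    rw [IsScalarTower.algebraMap_apply k B (B ⧸ Ring.jacobson B), Ideal.Quotient.algebraMap_eq,
      eq_comm, Ideal.Quotient.eq, IsLocalRing.ringJacobson_eq_maximalIdeal]
    exact hc
  exact IsSemiprimaryRing.finite_of_isArtinian k B B

theorem residue_bijective_of_hres (B : Type u) [CommRing B] [IsLocalRing B]
    [Algebra k B] (hres : ∀ x : B, ∃ c : k, x - algebraMap k B c ∈ nonunits B) :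
    Function.Bijective (algebraMap k (IsLocalRing.ResidueField B)) := by
  refine ⟨(algebraMap k (IsLocalRing.ResidueField B)).injective, ?_⟩
  intro x
  obtain ⟨b, rfl⟩ := IsLocalRing.residue_surjective x
  obtain ⟨c, hc⟩ := hres b
  refine ⟨c, ?_⟩
  rw [IsScalarTower.algebraMap_apply k B (ResidueField B), IsLocalRing.ResidueField.algebraMap_eq,
    eq_comm, ← sub_eq_zero, ← map_sub, IsLocalRing.residue_eq_zero_iff]
  exact hc


theorem exists_presentation' (T : CRing k k) :
    ∃ (d : ℕ) (ϖ : PS (fieldCRing k) d →ₐ[k] T.carrier),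
      T.res.comp ϖ = PSres (fieldCRing k) d ∧ Function.Surjective ϖ ∧
      RingHom.ker ϖ.toRingHom ≤ maximalIdeal (PS (fieldCRing k) d) ^ 2 :=
  ⟨_, exists_presentation_cotangent T⟩

theorem regular_of_lifting
    (A : Type u) [CommRing A] [IsLocalRing A] [IsNoetherianRing A] [Algebra k A]
    (hres : Function.Surjective (algebraMap k (IsLocalRing.ResidueField A)))
    (hlift : ∀ (B' : Type u) [CommRing B'] [IsLocalRing B'] [Algebra k B'] [Module.Finite k B']
        (J : Ideal B'), J ^ 2 = ⊥ → ∀ f : A →ₐ[k] B' ⧸ J,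
          ∃ g : A →ₐ[k] B', (Ideal.Quotient.mkₐ k J).comp g = f) :
    IsRegularLocalRing A := by
  classical
  have hk := compl_residue_bijective k hres
  let T : CRing k k := coeffCRing k (AdicCompletion (maximalIdeal A) A) hk
  obtain ⟨d, ϖ, hϖres, hsurj, hJ⟩ := exists_presentation' T
  set P := PS (fieldCRing k) d with hP
  set Jd : Ideal P := RingHom.ker ϖ.toRingHom with hJd
  have hJm : Jd ≤ maximalIdeal P := hJ.trans (Ideal.pow_le_self (by norm_num))
  let ofA : A →ₐ[k] AdicCompletion (maximalIdeal A) A :=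
    IsScalarTower.toAlgHom k A (AdicCompletion (maximalIdeal A) A)
  have key : ∀ N : ℕ, ∃ s : Finset P, s.card ≤ 0 ∧ (s : Set P) ⊆ Jd ∧
      Jd ≤ Ideal.span (s : Set P) ⊔ maximalIdeal P • Jd ⊔ maximalIdeal P ^ N := by
    intro N
    rcases Nat.eq_zero_or_pos N with hN0 | hNpos
    · refine ⟨∅, by simp, by simp, ?_⟩
      rw [hN0, pow_zero, Ideal.one_eq_top]
      exact le_sup_right.trans' le_top
    set 𝔟 : Ideal P := maximalIdeal P • Jd ⊔ maximalIdeal P ^ N with h𝔟
    obtain ⟨hloc, hart, hresB, hkill, hne⟩ := isSmallExt_quot_base (PS.hres d) Jd hJm N hNpos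
    haveI := hloc
    haveI := hart
    haveI : Module.Finite k (P ⧸ 𝔟) := finite_of_local_artinian (P ⧸ 𝔟) hresB
    have hkB := residue_bijective_of_hres (P ⧸ 𝔟) hresB
    let CB : Art k k := artOfLocal (P ⧸ 𝔟) hkB
    set Jc : Ideal (P ⧸ 𝔟) := Jd.map (Ideal.Quotient.mkₐ k 𝔟) with hJc
    have hJcm : Jc ≤ maximalIdeal (P ⧸ 𝔟) := IsLocalRing.le_maximalIdeal hne
    have hJc2 : Jc ^ 2 = ⊥ := by
      rw [eq_bot_iff, pow_two, Ideal.mul_le]
      intro x hx y hy
      rw [Ideal.mem_bot]
      exact hkill x y (hJcm hx) hy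
    -- the canonical map from the completion
    let e : (P ⧸ RingHom.ker (ϖ : P →+* T.carrier)) ≃ₐ[k] T.carrier :=
      Ideal.quotientKerAlgEquivOfSurjective hsurj
    let g₀ : P ⧸ RingHom.ker (ϖ : P →+* T.carrier) →ₐ[k] (P ⧸ 𝔟) ⧸ Jc :=
      Ideal.Quotient.liftₐ _ ((Ideal.Quotient.mkₐ k Jc).comp (Ideal.Quotient.mkₐ k 𝔟)) (by
        intro a ha
        change Ideal.Quotient.mk Jc (Ideal.Quotient.mk 𝔟 a) = 0
        rw [Ideal.Quotient.eq_zero_iff_mem]
        exact Ideal.mem_map_of_mem _ ha)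
    have hF_apply : ∀ x : P, g₀ (e.symm (ϖ x)) = Ideal.Quotient.mk Jc (Ideal.Quotient.mk 𝔟 x) := by
      intro x
      have : e.symm (ϖ x) = Ideal.Quotient.mk _ x := by
        rw [AlgEquiv.symm_apply_eq]
        rfl
      rw [this]
      rfl
    let F₀ : AdicCompletion (maximalIdeal A) A →ₐ[k] (P ⧸ 𝔟) ⧸ Jc :=
      g₀.comp (e.symm : T.carrier →ₐ[k] _)
    obtain ⟨g, hg⟩ := hlift (P ⧸ 𝔟) Jc hJc2 (F₀.comp ofA)
    obtain ⟨ghat, hghat⟩ := exists_extend_compl CB g
    let C₀ : Art k k := Art.quot CB Jc hJcm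
    have huniq : (Art.quotMk CB Jc hJcm).toAlgHom.comp ghat = F₀ := by
      apply compl_algHom_ext C₀
      intro a
      change Ideal.Quotient.mk Jc (ghat (AdicCompletion.of (maximalIdeal A) A a)) = F₀ (ofA a)
      rw [hghat a]
      exact DFunLike.congr_fun hg a
    let φ : P →ₐ[k] (P ⧸ 𝔟) := ghat.comp ϖ
    have hkerB : RingHom.ker (Ideal.Quotient.mkₐ k 𝔟).toRingHom =
        maximalIdeal P • Jd ⊔ maximalIdeal P ^ N := Ideal.mk_ker
    have hkerC : RingHom.ker (AlgHom.id k (P ⧸ 𝔟)).toRingHom =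
        Ideal.span (Set.range (fun i : Fin 0 => (i.elim0 : P ⧸ 𝔟))) := by
      rw [Set.range_eq_empty, Ideal.span_empty]
      exact RingHom.ker_eq_bot_iff_eq_zero _ |>.mpr (fun x hx => hx)
    refine exists_generators_mod_of_lift' (B := P ⧸ 𝔟) (C := P ⧸ 𝔟) (PS.hres d) Jd hJ N 0
      (Ideal.Quotient.mkₐ k 𝔟) (Ideal.Quotient.mkₐ_surjective k 𝔟) hkerB
      (fun i : Fin 0 => (i.elim0 : P ⧸ 𝔟)) (fun i => i.elim0)
      (AlgHom.id k (P ⧸ 𝔟)) Function.surjective_id hkerC φ ?_ ?_
    · intro x hx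
      change ghat (ϖ x) = 0
      have : ϖ x = 0 := hx
      rw [this, map_zero]
    · intro x
      have h1 : Ideal.Quotient.mk Jc (φ x) = Ideal.Quotient.mk Jc (Ideal.Quotient.mk 𝔟 x) := by
        have := DFunLike.congr_fun huniq (ϖ x)
        change Ideal.Quotient.mk Jc (ghat (ϖ x)) = g₀ (e.symm (ϖ x)) at this
        rw [hF_apply] at this
        exact this
      rw [Ideal.Quotient.eq] at h1
      exact h1
  obtain ⟨s, hs0, hsJ⟩ := spanFinrank_le_of_forall_exists Jd 0 key
  have hs : s = ∅ := by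
    rw [← Finset.card_eq_zero]; omega
  have hJbot : Jd = ⊥ := by
    rw [← hsJ, hs]; simp
  have hinj : Function.Injective ϖ := by
    rw [injective_iff_map_eq_zero]
    intro x hx
    have : x ∈ Jd := hx
    rw [hJbot] at this
    exact this
  haveI := isRegularLocalRing_mvPowerSeries k d
  have hregc : IsRegularLocalRing (AdicCompletion (maximalIdeal A) A) :=
    IsRegularLocalRing.of_ringEquiv (AlgEquiv.ofBijective ϖ ⟨hinj, hsurj⟩).toRingEquiv
  exact (Groth.Agent.S0548.result A).mpr hregc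


theorem isRegularLocalRing_iff_lifting [IsAlgClosed k]
    (A : Type u) [CommRing A] [IsLocalRing A] [Algebra k A] [Algebra.EssFiniteType k A]
    (hres : Function.Surjective (algebraMap k (IsLocalRing.ResidueField A))) :
    IsRegularLocalRing A ↔
      ∀ (B' : Type u) [CommRing B'] [IsLocalRing B'] [Algebra k B'] [Module.Finite k B']
        (J : Ideal B'), J ^ 2 = ⊥ → ∀ f : A →ₐ[k] B' ⧸ J,
          ∃ g : A →ₐ[k] B', (Ideal.Quotient.mkₐ k J).comp g = f := by
  haveI : IsNoetherianRing A := Algebra.EssFiniteType.isNoetherianRing k A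
  constructor
  · intro hreg B' _ _ _ _ J hJ2 f
    have hJ : J ≠ ⊤ := by
      intro h
      rw [h, Ideal.top_pow] at hJ2
      exact top_ne_bot hJ2
    exact lifting_of_regular A hres hreg B' J hJ f
  · intro h
    exact regular_of_lifting A hres h

end

end Groth.Agent.Lib.helper19
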