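import Mathlib
import Groth.Agent.Lib.helper19.RegLift
import Groth.Agent.Lib.helper19.RegComplete
import Groth.Agent.Lib.helper19.PSCRing

set_option autoImplicit false
universe u
open IsLocalRing MvPowerSeries

namespace Groth.Agent.Lib.helper19

/-- a `k`-algebra hom from a local ring into a finite local `k`-algebra is local -/
theorem isLocalHom_of_finite {k : Type u} [Field k] (A : Type u) [CommRing A] [IsLocalRing A]
    [Algebra k A] (B : Type u) [CommRing B] [IsLocalRing B] [Algebra k B] [Module.Finite k B]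
    (f : A →ₐ[k] B) : IsLocalHom (f : A →+* B) := by
  constructor
  intro a ha
  by_contra hna
  have ham : a ∈ maximalIdeal A := (mem_maximalIdeal a).2 hna
  let ρ : A →ₐ[k] ResidueField B := (IsScalarTower.toAlgHom k B (ResidueField B)).comp f
  haveI : Module.Finite k (ResidueField B) :=
    Module.Finite.of_surjective (IsScalarTower.toAlgHom k B (ResidueField B)).toLinearMap
      IsLocalRing.residue_surjective
  haveI : Algebra.IsIntegral k (ResidueField B) := Algebra.IsIntegral.of_finite k _
  haveI hP : (RingHom.ker ρ).IsPrime := RingHom.ker_isPrime ρ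
  haveI : Algebra.IsIntegral k (A ⧸ RingHom.ker ρ) :=
    Algebra.IsIntegral.of_injective (Ideal.kerLiftAlg ρ) (Ideal.kerLiftAlg_injective ρ)
  have hfield : IsField (A ⧸ RingHom.ker ρ) :=
    isField_of_isIntegral_of_isField' (Field.toIsField k)
  have hmax : (RingHom.ker ρ).IsMaximal := Ideal.Quotient.maximal_of_isField _ hfield
  have heq : RingHom.ker ρ = maximalIdeal A := IsLocalRing.eq_maximalIdeal hmax
  rw [← heq, RingHom.mem_ker] at ham
  have h2 : residue B (f a) = 0 := ham
  rw [IsLocalRing.residue_eq_zero_iff, mem_maximalIdeal] at h2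
  exact h2 ha

theorem main19506 (k A : Type u) [Field k]
    [CommRing A] [Algebra k A] [IsLocalRing A] [IsNoetherianRing A]
    [IsAdicComplete (IsLocalRing.maximalIdeal A) A]
    (π : A →ₐ[k] k) (hπ : RingHom.ker π = IsLocalRing.maximalIdeal A) :
    IsRegularLocalRing A ↔
      ∀ (R : Type u) [CommRing R] [Algebra k R] [IsArtinianRing R] [IsLocalRing R] (J : Ideal R),
        J ^ 2 = ⊥ → ∀ f : A →ₐ[k] R ⧸ J, IsLocalHom (f : A →+* R ⧸ J) →
          ∃ g : A →ₐ[k] R, (Ideal.Quotient.mkₐ k J).comp g = f := by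
  have hres : Function.Surjective (algebraMap k (ResidueField A)) := by
    intro x
    obtain ⟨a, rfl⟩ := IsLocalRing.residue_surjective x
    refine ⟨π a, ?_⟩
    rw [IsScalarTower.algebraMap_apply k A (ResidueField A)]
    show residue A (algebraMap k A (π a)) = residue A a
    rw [← sub_eq_zero, ← map_sub, IsLocalRing.residue_eq_zero_iff, ← hπ, RingHom.mem_ker, map_sub,
      AlgHom.commutes]
    simp
  constructor
  · intro hreg R _ _ _ _ J hJ f hf
    have hbij : Function.Bijective (algebraMap k (ResidueField A)) :=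
      ⟨(algebraMap k (ResidueField A)).injective, hres⟩
    obtain ⟨d, ⟨e⟩⟩ := exists_algEquiv_mvPowerSeries_of_regular_complete A k hbij
    obtain ⟨N, hN⟩ : ∃ N : ℕ, maximalIdeal R ^ N = ⊥ := by
      have h1 := IsArtinianRing.isNilpotent_jacobson_bot (R := R)
      rw [IsLocalRing.jacobson_eq_maximalIdeal ⊥ bot_ne_top] at h1
      obtain ⟨N, hN⟩ := h1
      exact ⟨N, hN⟩
    have hXnu : ∀ i : Fin d, ¬ IsUnit (e.symm (X i : MvPowerSeries (Fin d) k)) := by
      intro i hu
      have h1 : IsUnit (e (e.symm (X i : MvPowerSeries (Fin d) k))) := hu.map e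
      rw [AlgEquiv.apply_symm_apply, MvPowerSeries.isUnit_iff_constantCoeff,
        MvPowerSeries.constantCoeff_X] at h1
      exact not_isUnit_zero h1
    have hfnu : ∀ i : Fin d, ¬ IsUnit (f (e.symm (X i : MvPowerSeries (Fin d) k))) := by
      intro i hu
      exact hXnu i (hf.map_nonunit _ hu)
    choose r hr using fun i : Fin d =>
      Ideal.Quotient.mk_surjective (I := J) (f (e.symm (X i : MvPowerSeries (Fin d) k)))
    have hrm : ∀ i, r i ∈ maximalIdeal R := by
      intro i
      rw [mem_maximalIdeal, mem_nonunits_iff]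
      intro hu
      apply hfnu i
      rw [← hr i]
      exact hu.map (Ideal.Quotient.mk J)
    have hspan : Ideal.span (Set.range r) ^ N = ⊥ := by
      rw [eq_bot_iff, ← hN]
      apply Ideal.pow_right_mono
      rw [Ideal.span_le]
      rintro _ ⟨i, rfl⟩
      exact hrm i
    obtain ⟨χ, hχC, hχX⟩ := SmoothBase.exists_ringHom_of_nilpotent (algebraMap k R) r N hspan
    let χa : MvPowerSeries (Fin d) k →ₐ[k] R :=
      { χ with
        commutes' := fun c => by
          change χ (algebraMap k (MvPowerSeries (Fin d) k) c) = algebraMap k R c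
          rw [MvPowerSeries.algebraMap_apply, hχC]
          rfl }
    have hχa : ∀ p, χa p = χ p := fun p => rfl
    refine ⟨χa.comp (e : A →ₐ[k] MvPowerSeries (Fin d) k), ?_⟩
    let J' : Ideal (R ⧸ J) := Ideal.map (Ideal.Quotient.mk J) (maximalIdeal R)
    have hJ' : J' ^ N = ⊥ := by
      rw [← Ideal.map_pow, hN, Ideal.map_bot]
    let φ₁ : MvPowerSeries (Fin d) k →+* R ⧸ J := (Ideal.Quotient.mk J).comp χ
    let φ₂ : MvPowerSeries (Fin d) k →+* R ⧸ J :=
      (f : A →+* R ⧸ J).comp ((e.symm : MvPowerSeries (Fin d) k →ₐ[k] A) : _ →+* A)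
    have hX1 : ∀ i, φ₁ (X i) ∈ J' := by
      intro i
      show Ideal.Quotient.mk J (χ (X i)) ∈ J'
      rw [hχX]
      exact Ideal.mem_map_of_mem _ (hrm i)
    have hX2 : ∀ i, φ₂ (X i) ∈ J' := by
      intro i
      show f (e.symm (X i)) ∈ J'
      rw [← hr i]
      exact Ideal.mem_map_of_mem _ (hrm i)
    have key : φ₁ = φ₂ := by
      apply ps_ringHom_ext φ₁ φ₂ N (ps_ringHom_vanish φ₁ J' hX1 N hJ')
        (ps_ringHom_vanish φ₂ J' hX2 N hJ')
      · intro c
        show Ideal.Quotient.mk J (χ (C c)) = f (e.symm (C c))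
        rw [hχC]
        have h1 : (C c : MvPowerSeries (Fin d) k) = algebraMap k (MvPowerSeries (Fin d) k) c := by
          rw [MvPowerSeries.algebraMap_apply]
          rfl
        rw [h1, AlgEquiv.commutes, AlgHom.commutes]
        rfl
      · intro i
        show Ideal.Quotient.mk J (χ (X i)) = f (e.symm (X i))
        rw [hχX, hr i]
    apply AlgHom.ext
    intro a
    have h2 := DFunLike.congr_fun key (e a)
    show Ideal.Quotient.mk J (χ (e a)) = f a
    have h3 : φ₂ (e a) = f a := by
      show f (e.symm (e a)) = f a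
      rw [AlgEquiv.symm_apply_apply]
    rw [← h3, ← h2]
    rfl
  · intro h
    apply regular_of_lifting A hres
    intro B' _ _ _ _ J hJ f
    haveI : IsArtinianRing B' := IsArtinianRing.of_finite k B'
    have hJne : J ≠ ⊤ := by
      intro hJt
      rw [hJt, Ideal.top_pow] at hJ
      exact top_ne_bot hJ
    haveI : Nontrivial (B' ⧸ J) := Ideal.Quotient.nontrivial_iff.2 hJne
    haveI : IsLocalRing (B' ⧸ J) :=
      IsLocalRing.of_surjective' (Ideal.Quotient.mk J) Ideal.Quotient.mk_surjective
    exact h B' J hJ f (isLocalHom_of_finite A (B' ⧸ J) f)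

end Groth.Agent.Lib.helper19
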