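import Mathlib
import Groth.Prelude.Def_Exal
import Groth.Prelude.Def_Exal2
import Groth.Agent.Lib.helper9.ExalLib

/-! Relative obstruction space: `Ex_Λ(R, L) = 0` iff derivations extend and pullback is injective. -/

set_option autoImplicit false
universe u v

namespace Groth.Agent.Lib.helper19.RelObs

open Exal Groth.Agent.Lib.helper9.ExalLib

attribute [local instance] Exal.opModule Exal.isCentralScalar_opModule

section TrivEquiv

variable {A : Type u} {B L : Type v} [CommRing A] [CommRing B] [Algebra A B] [AddCommGroup L] [Module B L]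

/-- the comparison map between two split extensions -/
noncomputable def splitHom (X Y : Ext A B L) (s : B →ₐ[A] X.E) (hs : ∀ b, X.proj (s b) = b)
    (t : B →ₐ[A] Y.E) (ht : ∀ b, Y.proj (t b) = b) : X.E →ₐ[A] Y.E where
  toFun x := t (X.proj x) + Y.incl (kap X (s : B →+* X.E) hs x)
  map_one' := by
    rw [map_one, map_one, kap_one, map_zero, add_zero]
  map_mul' x y := by
    have h1 : ∀ (b : B) (z : L), Y.incl (b • z) = t b * Y.incl z := by
      intro b z
      rw [Y.isExtension.mul_incl, ht]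
    have h2 := incl_mul_incl Y (kap X (s : B →+* X.E) hs x) (kap X (s : B →+* X.E) hs y)
    rw [map_mul, map_mul, kap_mul, map_add, h1, h1]
    have h3 : (t (X.proj x) + Y.incl (kap X (↑s) hs x)) * (t (X.proj y) + Y.incl (kap X (↑s) hs y)) =
        t (X.proj x) * t (X.proj y) + (t (X.proj x) * Y.incl (kap X (↑s) hs y) +
          t (X.proj y) * Y.incl (kap X (↑s) hs x)) +
          Y.incl (kap X (↑s) hs x) * Y.incl (kap X (↑s) hs y) := by ring
    rw [h3, h2, add_zero]
  map_zero' := by
    rw [map_zero, map_zero]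
    have : kap X (s : B →+* X.E) hs 0 = 0 := by
      have := kap_incl X (s : B →+* X.E) hs 0
      rwa [map_zero] at this
    rw [this, map_zero, add_zero]
  map_add' x y := by
    rw [map_add, map_add, kap_add, map_add]
    ring
  commutes' a := by
    have h1 : algebraMap A X.E a = s (algebraMap A B a) := (s.commutes a).symm
    have h2 : kap X (s : B →+* X.E) hs (algebraMap A X.E a) = 0 := by
      rw [h1]
      exact kap_section X (s : B →+* X.E) hs _
    rw [h2, map_zero, add_zero, X.proj.commutes, t.commutes]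

theorem equiv_of_isTrivial (X Y : Ext A B L) (hX : X.IsTrivial) (hY : Y.IsTrivial) :
    Nonempty (X.Equiv Y) := by
  obtain ⟨s, hs⟩ := hX
  obtain ⟨t, ht⟩ := hY
  refine ⟨equivOfAlgHom X Y (splitHom X Y s hs t ht) ?_ ?_⟩
  · intro x
    change Y.proj (t (X.proj x) + Y.incl _) = X.proj x
    rw [map_add, ht, proj_incl, add_zero]
  · intro z
    change t (X.proj (X.incl z)) + Y.incl (kap X (s : B →+* X.E) hs (X.incl z)) = Y.incl z
    rw [proj_incl, map_zero, kap_incl, zero_add]

theorem isTrivial_of_equiv (X Y : Ext A B L) (e : X.Equiv Y) (hY : Y.IsTrivial) : X.IsTrivial := by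
  obtain ⟨t, ht⟩ := hY
  refine ⟨(e.toAlgEquiv.symm : Y.E →ₐ[A] X.E).comp t, ?_⟩
  intro b
  have := e.proj_apply (e.toAlgEquiv.symm (t b))
  rw [AlgEquiv.apply_symm_apply, ht] at this
  exact this.symm

end TrivEquiv

section Main

variable {k : Type u} [Field k] {Λ : Type u} [CommRing Λ] [Algebra k Λ]
  {R : Type u} [CommRing R] [Algebra Λ R] [Algebra k R] [IsScalarTower k Λ R]
  {L : Type u} [AddCommGroup L] [Module R L] [Module Λ L] [IsScalarTower Λ R L]
  [Module k L] [IsScalarTower k R L]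

section Twist

variable (D : Derivation k Λ L)

/-- the twisted structure map `Λ → R ⊕ L`, `a ↦ (a, D a)` -/
noncomputable def twistRingHom : Λ →+* TrivSqZeroExt R L where
  toFun a := TrivSqZeroExt.inl (algebraMap Λ R a) + TrivSqZeroExt.inr (D a)
  map_one' := by
    rw [map_one, Derivation.map_one_eq_zero, TrivSqZeroExt.inr_zero, add_zero, TrivSqZeroExt.inl_one]
  map_mul' a b := by
    apply TrivSqZeroExt.ext
    · simp
    · simp only [TrivSqZeroExt.snd_mul, TrivSqZeroExt.snd_add, TrivSqZeroExt.snd_inl,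
        TrivSqZeroExt.snd_inr, zero_add, TrivSqZeroExt.fst_add, TrivSqZeroExt.fst_inl,
        TrivSqZeroExt.fst_inr, add_zero, op_smul_eq_smul, Derivation.leibniz, algebraMap_smul]
  map_zero' := by
    rw [map_zero, map_zero, TrivSqZeroExt.inr_zero, add_zero, TrivSqZeroExt.inl_zero]
  map_add' a b := by
    rw [map_add, map_add, TrivSqZeroExt.inl_add, TrivSqZeroExt.inr_add]
    abel

lemma twistRingHom_apply (a : Λ) :
    twistRingHom D a = TrivSqZeroExt.inl (algebraMap Λ R a) + TrivSqZeroExt.inr (D a) := rfl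

/-- the trivial extension with twisted `Λ`-structure -/
noncomputable def twistExt : Ext Λ R L where
  E := TrivSqZeroExt R L
  commRing := inferInstance
  algebra := (twistRingHom D).toAlgebra
  proj :=
    letI : Algebra Λ (TrivSqZeroExt R L) := (twistRingHom D).toAlgebra
    { toFun := fun x => TrivSqZeroExt.fst x
      map_one' := TrivSqZeroExt.fst_one
      map_mul' := TrivSqZeroExt.fst_mul
      map_zero' := TrivSqZeroExt.fst_zero
      map_add' := TrivSqZeroExt.fst_add
      commutes' := fun a => by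
        change TrivSqZeroExt.fst (twistRingHom D a) = algebraMap Λ R a
        rw [twistRingHom_apply]
        simp }
  incl := (TrivSqZeroExt.inrHom R L).toAddMonoidHom
  isExtension :=
    letI : Algebra Λ (TrivSqZeroExt R L) := (twistRingHom D).toAlgebra
    { proj_surjective := fun b => ⟨TrivSqZeroExt.inl b, rfl⟩
      incl_injective := TrivSqZeroExt.inr_injective
      exact := fun x => by
        constructor
        · intro hx
          exact ⟨TrivSqZeroExt.snd x, TrivSqZeroExt.ext hx.symm rfl⟩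
        · rintro ⟨z, rfl⟩
          rfl
      mul_incl := fun x z => by
        refine TrivSqZeroExt.ext ?_ ?_
        · change TrivSqZeroExt.fst x * 0 = 0
          exact mul_zero _
        · change TrivSqZeroExt.fst x • z + MulOpposite.op (0 : R) • TrivSqZeroExt.snd x =
            TrivSqZeroExt.fst x • z
          rw [MulOpposite.op_zero, zero_smul, add_zero] }

theorem exists_der_of_trivial (h : (twistExt (R := R) D).IsTrivial) :
    ∃ D' : Derivation k R L, ∀ a : Λ, D' (algebraMap Λ R a) = D a := by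
  obtain ⟨s, hs⟩ := h
  have hfst : ∀ r, TrivSqZeroExt.fst (show TrivSqZeroExt R L from s r) = r := hs
  have hcomm : ∀ a : Λ, (show TrivSqZeroExt R L from s (algebraMap Λ R a)) = twistRingHom D a :=
    fun a => s.commutes a
  let f : R → L := fun r => TrivSqZeroExt.snd (show TrivSqZeroExt R L from s r)
  have hf_add : ∀ r r', f (r + r') = f r + f r' := by
    intro r r'
    change TrivSqZeroExt.snd (show TrivSqZeroExt R L from s (r + r')) = _
    rw [map_add]
    rfl
  have hf_mul : ∀ r r', f (r * r') = r • f r' + r' • f r := by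
    intro r r'
    change TrivSqZeroExt.snd (show TrivSqZeroExt R L from s (r * r')) = _
    rw [map_mul]
    change TrivSqZeroExt.snd ((show TrivSqZeroExt R L from s r) * (show TrivSqZeroExt R L from s r')) = _
    rw [TrivSqZeroExt.snd_mul, hfst, hfst, op_smul_eq_smul]
  have hf_alg : ∀ a : Λ, f (algebraMap Λ R a) = D a := by
    intro a
    change TrivSqZeroExt.snd (show TrivSqZeroExt R L from s (algebraMap Λ R a)) = _
    rw [hcomm, twistRingHom_apply]
    simp
  have hDk : ∀ c : k, D (algebraMap k Λ c) = 0 := fun c => D.map_algebraMap c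
  let fl : R →ₗ[k] L :=
    { toFun := f
      map_add' := hf_add
      map_smul' := fun c r => by
        rw [RingHom.id_apply, Algebra.smul_def, hf_mul, IsScalarTower.algebraMap_apply k Λ R,
          hf_alg, hDk, smul_zero, add_zero, ← IsScalarTower.algebraMap_apply k Λ R,
          algebraMap_smul] }
  refine ⟨Derivation.mk' fl hf_mul, hf_alg⟩

end Twist

section Conv

theorem trivial_isTrivial : (Ext.trivial k R L).IsTrivial := by
  refine ⟨{ toFun := fun r => (TrivSqZeroExt.inl r : TrivSqZeroExt R L)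
            map_one' := TrivSqZeroExt.inl_one L
            map_mul' := fun a b => TrivSqZeroExt.inl_mul L a b
            map_zero' := TrivSqZeroExt.inl_zero L
            map_add' := fun a b => TrivSqZeroExt.inl_add L a b
            commutes' := fun c => rfl }, fun b => rfl⟩

theorem pullback_isTrivial_of_restrict (X : Ext Λ R L) :
    ((X.restrictBase k).pullback Λ).IsTrivial := by
  let f : Λ →ₐ[k] (X.restrictBase k).E :=
    { toFun := fun a => (algebraMap Λ X.E a : X.E)
      map_one' := map_one _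
      map_mul' := map_mul _
      map_zero' := map_zero _
      map_add' := map_add _
      commutes' := fun c => rfl }
  have hmem : ∀ a : Λ, (AlgHom.prod f (AlgHom.id k Λ)) a ∈ (X.restrictBase k).fiberProd Λ := by
    intro a
    change (X.restrictBase k).proj (f a) = algebraMap Λ R a
    exact X.proj.commutes a
  refine ⟨AlgHom.codRestrict (AlgHom.prod f (AlgHom.id k Λ)) _ hmem, fun b => rfl⟩

theorem pullback_isTrivial_of_trivial : ((Ext.trivial k R L).pullback Λ).IsTrivial := by
  let f : Λ →ₐ[k] (Ext.trivial k R L).E :=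
    { toFun := fun a => (TrivSqZeroExt.inl (algebraMap Λ R a) : TrivSqZeroExt R L)
      map_one' := by rw [map_one]; exact TrivSqZeroExt.inl_one L
      map_mul' := fun a b => by rw [map_mul]; exact TrivSqZeroExt.inl_mul L _ _
      map_zero' := by rw [map_zero]; exact TrivSqZeroExt.inl_zero L
      map_add' := fun a b => by rw [map_add]; exact TrivSqZeroExt.inl_add L _ _
      commutes' := fun c => by
        change (TrivSqZeroExt.inl (algebraMap Λ R (algebraMap k Λ c)) : TrivSqZeroExt R L) =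
          TrivSqZeroExt.inl (algebraMap k R c)
        rw [← IsScalarTower.algebraMap_apply k Λ R] }
  have hmem : ∀ a : Λ, (AlgHom.prod f (AlgHom.id k Λ)) a ∈ (Ext.trivial k R L).fiberProd Λ := by
    intro a
    rfl
  refine ⟨AlgHom.codRestrict (AlgHom.prod f (AlgHom.id k Λ)) _ hmem, fun b => rfl⟩

theorem isTrivial_of_ab
    (ha : ∀ D : Derivation k Λ L, ∃ D' : Derivation k R L, ∀ a : Λ, D' (algebraMap Λ R a) = D a)
    (hb : ∀ Y Y' : Ext k R L, Nonempty ((Y.pullback Λ).Equiv (Y'.pullback Λ)) → Nonempty (Y.Equiv Y'))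
    (X : Ext Λ R L) : X.IsTrivial := by
  obtain ⟨eq⟩ := hb (X.restrictBase k) (Ext.trivial k R L)
    (equiv_of_isTrivial _ _ (pullback_isTrivial_of_restrict X) pullback_isTrivial_of_trivial)
  obtain ⟨s₀, hs₀⟩ := isTrivial_of_equiv _ _ eq trivial_isTrivial
  let s₁ : R →+* X.E := s₀.toRingHom
  have hs₁ : ∀ r, X.proj (s₁ r) = r := hs₀
  have hs₁k : ∀ c : k, s₁ (algebraMap k R c) = algebraMap Λ X.E (algebraMap k Λ c) :=
    fun c => s₀.commutes c
  -- the derivation measuring the failure of Λ-linearity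
  let Df : Λ → L := fun a => kap X s₁ hs₁ (algebraMap Λ X.E a)
  have hDf_add : ∀ a b, Df (a + b) = Df a + Df b := by
    intro a b
    change kap X s₁ hs₁ (algebraMap Λ X.E (a + b)) = _
    rw [map_add, kap_add]
  have hDf_mul : ∀ a b, Df (a * b) = a • Df b + b • Df a := by
    intro a b
    change kap X s₁ hs₁ (algebraMap Λ X.E (a * b)) = _
    rw [map_mul, kap_mul, X.proj.commutes, X.proj.commutes, algebraMap_smul, algebraMap_smul]
  have hDf_k : ∀ c : k, Df (algebraMap k Λ c) = 0 := by
    intro c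
    change kap X s₁ hs₁ (algebraMap Λ X.E (algebraMap k Λ c)) = 0
    rw [← hs₁k]
    exact kap_section X s₁ hs₁ _
  let Dl : Λ →ₗ[k] L :=
    { toFun := Df
      map_add' := hDf_add
      map_smul' := fun c a => by
        rw [RingHom.id_apply, Algebra.smul_def, hDf_mul, hDf_k, smul_zero, add_zero,
          ← algebraMap_smul R (algebraMap k Λ c), ← IsScalarTower.algebraMap_apply k Λ R,
          algebraMap_smul] }
  obtain ⟨D', hD'⟩ := ha (Derivation.mk' Dl hDf_mul)
  have hD'a : ∀ a : Λ, D' (algebraMap Λ R a) = Df a := hD'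
  have hsi : ∀ (r : R) (z : L), s₁ r * X.incl z = X.incl (r • z) := by
    intro r z
    rw [X.isExtension.mul_incl, hs₁]
  refine ⟨{ toFun := fun r => s₁ r + X.incl (D' r)
            map_one' := by
              rw [map_one, Derivation.map_one_eq_zero, map_zero, add_zero]
            map_mul' := fun r r' => by
              rw [map_mul, Derivation.leibniz, map_add, ← hsi, ← hsi]
              have h2 := incl_mul_incl X (D' r) (D' r')
              have h3 : (s₁ r + X.incl (D' r)) * (s₁ r' + X.incl (D' r')) =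
                  s₁ r * s₁ r' + (s₁ r * X.incl (D' r') + s₁ r' * X.incl (D' r)) +
                    X.incl (D' r) * X.incl (D' r') := by ring
              rw [h3, h2, add_zero]
            map_zero' := by
              rw [map_zero, map_zero, map_zero, add_zero]
            map_add' := fun r r' => by
              rw [map_add, map_add, map_add]
              ring
            commutes' := fun a => by
              change s₁ (algebraMap Λ R a) + X.incl (D' (algebraMap Λ R a)) = algebraMap Λ X.E a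
              rw [hD'a]
              change _ + X.incl (kap X s₁ hs₁ (algebraMap Λ X.E a)) = _
              rw [incl_kap, X.proj.commutes]
              ring }, ?_⟩
  intro b
  change X.proj (s₁ b + X.incl (D' b)) = b
  rw [map_add, hs₁, proj_incl, add_zero]

end Conv

section Baer

variable (Y Y' : Ext k R L)

/-- `W = Y.E ×_R Y'.E` -/
def W : Subalgebra k (Y.E × Y'.E) :=
  AlgHom.equalizer (Y.proj.comp (AlgHom.fst k Y.E Y'.E)) (Y'.proj.comp (AlgHom.snd k Y.E Y'.E))

lemma mem_W (w : Y.E × Y'.E) : w ∈ W Y Y' ↔ Y.proj w.1 = Y'.proj w.2 := Iff.rfl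

lemma W_prop (w : W Y Y') : Y.proj (w : Y.E × Y'.E).1 = Y'.proj (w : Y.E × Y'.E).2 := w.2

/-- the diagonal copy of `L` -/
def Dl : Ideal (W Y Y') where
  carrier := {w | ∃ z : L, (w : Y.E × Y'.E) = (Y.incl z, Y'.incl z)}
  add_mem' := by
    rintro a b ⟨z, hz⟩ ⟨z', hz'⟩
    refine ⟨z + z', ?_⟩
    rw [Subalgebra.coe_add, hz, hz', map_add, map_add]
    rfl
  zero_mem' := ⟨0, by rw [map_zero, map_zero]; rfl⟩
  smul_mem' := by
    rintro c a ⟨z, hz⟩
    refine ⟨Y.proj (c : Y.E × Y'.E).1 • z, ?_⟩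
    rw [smul_eq_mul, Subalgebra.coe_mul, hz]
    apply Prod.ext
    · exact Y.isExtension.mul_incl _ _
    · change (c : Y.E × Y'.E).2 * Y'.incl z = Y'.incl (Y.proj (c : Y.E × Y'.E).1 • z)
      rw [Y'.isExtension.mul_incl, W_prop]

lemma mem_Dl (w : W Y Y') : w ∈ Dl Y Y' ↔ ∃ z : L, (w : Y.E × Y'.E) = (Y.incl z, Y'.incl z) :=
  Iff.rfl

/-- the Baer difference ring -/
abbrev ZE : Type u := W Y Y' ⧸ Dl Y Y'

variable {Y Y'}
variable (θ : (Y.pullback Λ).Equiv (Y'.pullback Λ))

/-- the underlying pair of an element of the pullback -/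
def pbVal (Y : Ext k R L) : (Y.pullback Λ).E →ₐ[k] Y.E × Λ := (Y.fiberProd Λ).val

lemma pbVal_injective (Y : Ext k R L) : Function.Injective (pbVal (Λ := Λ) Y) :=
  Subtype.val_injective

lemma pb_proj (Y : Ext k R L) (x : (Y.pullback Λ).E) : (Y.pullback Λ).proj x = (pbVal Y x).2 := rfl

lemma pb_incl (Y : Ext k R L) (z : L) : pbVal (Λ := Λ) Y ((Y.pullback Λ).incl z) = (Y.incl z, 0) := rfl

lemma pb_prop (Y : Ext k R L) (x : (Y.pullback Λ).E) :
    Y.proj (pbVal Y x).1 = algebraMap Λ R (pbVal Y x).2 :=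
  (show ↥(Y.fiberProd Λ) from x).2

lemma theta_snd (x : (Y.pullback Λ).E) : (pbVal Y' (θ.toAlgEquiv x)).2 = (pbVal Y x).2 :=
  θ.proj_apply x

/-- `PB → W` -/
noncomputable def b₀ : (Y.pullback Λ).E →ₐ[k] W Y Y' :=
  AlgHom.codRestrict
    (AlgHom.prod ((AlgHom.fst k Y.E Λ).comp (pbVal Y))
      ((AlgHom.fst k Y'.E Λ).comp ((pbVal Y').comp (θ.toAlgEquiv : _ →ₐ[k] _)))) (W Y Y')
    (fun x => by
      rw [mem_W]
      change Y.proj (pbVal Y x).1 = Y'.proj (pbVal Y' (θ.toAlgEquiv x)).1
      rw [pb_prop, pb_prop, theta_snd])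

lemma b₀_fst (x : (Y.pullback Λ).E) : ((b₀ θ x : W Y Y') : Y.E × Y'.E).1 = (pbVal Y x).1 := rfl

lemma b₀_snd (x : (Y.pullback Λ).E) :
    ((b₀ θ x : W Y Y') : Y.E × Y'.E).2 = (pbVal Y' (θ.toAlgEquiv x)).1 := rfl

/-- `PB → ZE` -/
noncomputable def bb : (Y.pullback Λ).E →+* ZE Y Y' :=
  (Ideal.Quotient.mk (Dl Y Y')).comp (b₀ θ : (Y.pullback Λ).E →+* W Y Y')

lemma bb_apply (x : (Y.pullback Λ).E) : bb θ x = Ideal.Quotient.mk (Dl Y Y') (b₀ θ x) := rfl

lemma bb_incl (z : L) : bb θ ((Y.pullback Λ).incl z) = 0 := by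
  rw [bb_apply, Ideal.Quotient.eq_zero_iff_mem, mem_Dl]
  refine ⟨z, ?_⟩
  apply Prod.ext
  · rw [b₀_fst, pb_incl]
  · rw [b₀_snd, θ.apply_incl, pb_incl]

lemma ker_le : RingHom.ker ((Y.pullback Λ).proj : (Y.pullback Λ).E →+* Λ) ≤ RingHom.ker (bb θ) := by
  intro x hx
  rw [RingHom.mem_ker] at hx ⊢
  obtain ⟨z, rfl⟩ := exists_incl_eq (Y.pullback Λ) x hx
  exact bb_incl θ z

/-- the structure map `Λ → ZE` -/
noncomputable def aa : Λ →+* ZE Y Y' :=
  RingHom.liftOfRightInverse ((Y.pullback Λ).proj : (Y.pullback Λ).E →+* Λ)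
    (Function.surjInv (Y.pullback Λ).isExtension.proj_surjective)
    (Function.rightInverse_surjInv _) ⟨bb θ, ker_le θ⟩

lemma aa_proj (x : (Y.pullback Λ).E) : aa θ ((Y.pullback Λ).proj x) = bb θ x :=
  RingHom.liftOfRightInverse_comp_apply _ _ _ _ x

/-- projection `ZE → R` -/
noncomputable def projZ : ZE Y Y' →+* R :=
  Ideal.Quotient.lift (Dl Y Y')
    (((Y.proj : Y.E →+* R).comp (RingHom.fst Y.E Y'.E)).comp (W Y Y').val.toRingHom)
    (by
      rintro w ⟨z, hz⟩
      change Y.proj (w : Y.E × Y'.E).1 = 0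
      rw [hz]
      exact proj_incl Y z)

lemma projZ_mk (w : W Y Y') :
    projZ (Ideal.Quotient.mk (Dl Y Y') w) = Y.proj (w : Y.E × Y'.E).1 := rfl

lemma projZ_aa (a : Λ) : projZ (aa θ a) = algebraMap Λ R a := by
  obtain ⟨x, rfl⟩ := (Y.pullback Λ).isExtension.proj_surjective a
  rw [aa_proj, bb_apply, projZ_mk, b₀_fst, pb_prop, pb_proj]

/-- inclusion `L → ZE` -/
noncomputable def inclZ : L →+ ZE Y Y' where
  toFun z := Ideal.Quotient.mk (Dl Y Y') ⟨(Y.incl z, 0), by
    rw [mem_W]
    change Y.proj (Y.incl z) = Y'.proj 0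
    rw [proj_incl, map_zero]⟩
  map_zero' := by
    rw [Ideal.Quotient.eq_zero_iff_mem, mem_Dl]
    exact ⟨0, Prod.ext rfl (map_zero Y'.incl).symm⟩
  map_add' z z' := by
    rw [← map_add]
    congr 1
    apply Subtype.ext
    rw [Subalgebra.coe_add]
    apply Prod.ext
    · exact map_add Y.incl z z'
    · exact (add_zero (0 : Y'.E)).symm

lemma inclZ_apply (z : L) : inclZ (Y := Y) (Y' := Y') z = Ideal.Quotient.mk (Dl Y Y') ⟨(Y.incl z, 0), by
    rw [mem_W]
    change Y.proj (Y.incl z) = Y'.proj 0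
    rw [proj_incl, map_zero]⟩ := rfl

/-- the `Λ`-algebra structure on the Baer difference -/
@[reducible] noncomputable def algZ : Algebra Λ (ZE Y Y') := @RingHom.toAlgebra Λ (ZE Y Y') _ _ (aa θ)

/-- the Baer difference as a `Λ`-extension -/
noncomputable def baerExt : Ext Λ R L where
  E := ZE Y Y'
  commRing := (inferInstance : CommRing (ZE Y Y'))
  algebra := algZ θ
  proj :=
    letI : Algebra Λ (ZE Y Y') := algZ θ
    { toRingHom := projZ
      commutes' := fun a => projZ_aa θ a }
  incl := inclZ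
  isExtension :=
    letI : Algebra Λ (ZE Y Y') := algZ θ
    { proj_surjective := fun r => by
        obtain ⟨y, hy⟩ := Y.isExtension.proj_surjective r
        obtain ⟨y', hy'⟩ := Y'.isExtension.proj_surjective r
        exact ⟨Ideal.Quotient.mk (Dl Y Y') ⟨(y, y'), by rw [mem_W]; exact hy.trans hy'.symm⟩, hy⟩
      incl_injective := by
        rw [injective_iff_map_eq_zero]
        intro z hz
        rw [inclZ_apply, Ideal.Quotient.eq_zero_iff_mem, mem_Dl] at hz
        obtain ⟨t, ht⟩ := hz
        have h1 : Y.incl z = Y.incl t := congrArg Prod.fst ht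
        have h2 : (0 : Y'.E) = Y'.incl t := congrArg Prod.snd ht
        have h3 : t = 0 := (incl_eq_zero_iff Y' t).mp h2.symm
        rw [h3, map_zero] at h1
        exact (incl_eq_zero_iff Y z).mp h1
      exact := fun x => by
        obtain ⟨w, rfl⟩ := Ideal.Quotient.mk_surjective x
        constructor
        · intro hx
          have hx1 : Y.proj (w : Y.E × Y'.E).1 = 0 := hx
          have hx2 : Y'.proj (w : Y.E × Y'.E).2 = 0 := by rw [← W_prop]; exact hx1
          obtain ⟨z₁, hz₁⟩ := exists_incl_eq Y _ hx1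
          obtain ⟨z₂, hz₂⟩ := exists_incl_eq Y' _ hx2
          refine ⟨z₁ - z₂, ?_⟩
          change inclZ (z₁ - z₂) = _
          rw [inclZ_apply, Ideal.Quotient.eq, mem_Dl]
          refine ⟨-z₂, ?_⟩
          rw [Subalgebra.coe_sub]
          apply Prod.ext
          · change Y.incl (z₁ - z₂) - (w : Y.E × Y'.E).1 = Y.incl (-z₂)
            rw [← hz₁, map_sub, map_neg]
            ring
          · change (0 : Y'.E) - (w : Y.E × Y'.E).2 = Y'.incl (-z₂)
            rw [← hz₂, map_neg, zero_sub]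
        · rintro ⟨z, hz⟩
          have : projZ (inclZ (Y := Y) (Y' := Y') z) = 0 := by
            rw [inclZ_apply, projZ_mk]
            exact proj_incl Y z
          rw [← hz]
          exact this
      mul_incl := fun x z => by
        obtain ⟨w, rfl⟩ := Ideal.Quotient.mk_surjective x
        change Ideal.Quotient.mk (Dl Y Y') w * inclZ z = inclZ (projZ (Ideal.Quotient.mk (Dl Y Y') w) • z)
        rw [inclZ_apply, inclZ_apply, ← map_mul, projZ_mk]
        congr 1
        apply Subtype.ext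
        rw [Subalgebra.coe_mul]
        apply Prod.ext
        · exact Y.isExtension.mul_incl _ _
        · exact mul_zero _ }

theorem equiv_of_baer_trivial (h : (baerExt θ).IsTrivial) : Nonempty (Y.Equiv Y') := by
  obtain ⟨s, hs⟩ := h
  let sr : R →+* ZE Y Y' := s.toRingHom
  have hsr : ∀ r, projZ (sr r) = r := hs
  have hsΛ : ∀ a : Λ, sr (algebraMap Λ R a) = aa θ a := fun a => s.commutes a
  let sk : R →ₐ[k] ZE Y Y' :=
    { toRingHom := sr
      commutes' := fun c => by
        change sr (algebraMap k R c) = algebraMap k (ZE Y Y') c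
        rw [IsScalarTower.algebraMap_apply k Λ R, hsΛ]
        have h1 : algebraMap k Λ c = (Y.pullback Λ).proj (algebraMap k (Y.pullback Λ).E c) :=
          ((Y.pullback Λ).proj.commutes c).symm
        rw [h1, aa_proj, bb_apply, AlgHom.commutes]
        rfl }
  have hsk : ∀ r, sk r = sr r := fun r => rfl
  let G : Subalgebra k (W Y Y') := AlgHom.equalizer (Ideal.Quotient.mkₐ k (Dl Y Y'))
    (sk.comp (Y.proj.comp ((AlgHom.fst k Y.E Y'.E).comp (W Y Y').val)))
  have hG : ∀ w : W Y Y', w ∈ G ↔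
      Ideal.Quotient.mk (Dl Y Y') w = sr (Y.proj (w : Y.E × Y'.E).1) := fun w => Iff.rfl
  let π₁ : G →ₐ[k] Y.E := (AlgHom.fst k Y.E Y'.E).comp ((W Y Y').val.comp G.val)
  let π₂ : G →ₐ[k] Y'.E := (AlgHom.snd k Y.E Y'.E).comp ((W Y Y').val.comp G.val)
  have hπ₁ : ∀ g : G, π₁ g = ((g : W Y Y') : Y.E × Y'.E).1 := fun g => rfl
  have hπ₂ : ∀ g : G, π₂ g = ((g : W Y Y') : Y.E × Y'.E).2 := fun g => rfl
  have hπ₁inj : Function.Injective π₁ := by
    rw [injective_iff_map_eq_zero]
    intro g hg
    have h1 : ((g : W Y Y') : Y.E × Y'.E).1 = 0 := hg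
    have h2 : Ideal.Quotient.mk (Dl Y Y') (g : W Y Y') = 0 := by
      rw [(hG _).mp g.2, h1, map_zero, map_zero]
    rw [Ideal.Quotient.eq_zero_iff_mem, mem_Dl] at h2
    obtain ⟨z, hz⟩ := h2
    have h3 : Y.incl z = 0 := by
      rw [← h1, hz]
    have hz0 := (incl_eq_zero_iff Y z).mp h3
    apply Subtype.ext
    apply Subtype.ext
    rw [hz, hz0, map_zero, map_zero]
    rfl
  have hπ₁surj : Function.Surjective π₁ := by
    intro y
    obtain ⟨w, hw⟩ := Ideal.Quotient.mk_surjective (sr (Y.proj y))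
    have h1 : Y.proj (w : Y.E × Y'.E).1 = Y.proj y := by
      have := congrArg projZ hw
      rw [projZ_mk, hsr] at this
      exact this
    obtain ⟨z, hz⟩ := exists_incl_eq Y (y - (w : Y.E × Y'.E).1) (by rw [map_sub, h1, sub_self])
    let w' : W Y Y' := ⟨((w : Y.E × Y'.E).1 + Y.incl z, (w : Y.E × Y'.E).2 + Y'.incl z), by
      rw [mem_W]
      change Y.proj ((w : Y.E × Y'.E).1 + Y.incl z) = Y'.proj ((w : Y.E × Y'.E).2 + Y'.incl z)
      rw [map_add, map_add, proj_incl, proj_incl, W_prop]⟩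
    have hw'1 : (w' : Y.E × Y'.E).1 = y := by
      change (w : Y.E × Y'.E).1 + Y.incl z = y
      rw [hz]
      ring
    have hw' : w' ∈ G := by
      rw [hG]
      have h2 : Ideal.Quotient.mk (Dl Y Y') w' = Ideal.Quotient.mk (Dl Y Y') w := by
        rw [Ideal.Quotient.eq, mem_Dl]
        refine ⟨z, ?_⟩
        rw [Subalgebra.coe_sub]
        apply Prod.ext
        · change (w : Y.E × Y'.E).1 + Y.incl z - (w : Y.E × Y'.E).1 = Y.incl z
          ring
        · change (w : Y.E × Y'.E).2 + Y'.incl z - (w : Y.E × Y'.E).2 = Y'.incl z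
          ring
      rw [h2, hw, hw'1]
    exact ⟨⟨w', hw'⟩, hw'1⟩
  let e₁ : G ≃ₐ[k] Y.E := AlgEquiv.ofBijective π₁ ⟨hπ₁inj, hπ₁surj⟩
  let Θ : Y.E →ₐ[k] Y'.E := π₂.comp (e₁.symm : Y.E →ₐ[k] G)
  refine ⟨equivOfAlgHom Y Y' Θ ?_ ?_⟩
  · intro y
    have h1 : π₁ (e₁.symm y) = y := e₁.apply_symm_apply y
    change Y'.proj (π₂ (e₁.symm y)) = Y.proj y
    rw [hπ₂, ← W_prop, ← hπ₁, h1]
  · intro z
    let w₀ : W Y Y' := ⟨(Y.incl z, Y'.incl z), by
      rw [mem_W]
      change Y.proj (Y.incl z) = Y'.proj (Y'.incl z)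
      rw [proj_incl, proj_incl]⟩
    have hw₀ : w₀ ∈ G := by
      rw [hG]
      have h2 : Ideal.Quotient.mk (Dl Y Y') w₀ = 0 := by
        rw [Ideal.Quotient.eq_zero_iff_mem, mem_Dl]
        exact ⟨z, rfl⟩
      rw [h2]
      change 0 = sr (Y.proj (Y.incl z))
      rw [proj_incl, map_zero]
    have h1 : e₁ ⟨w₀, hw₀⟩ = Y.incl z := rfl
    have h2 : e₁.symm (Y.incl z) = ⟨w₀, hw₀⟩ := by
      rw [← h1, AlgEquiv.symm_apply_apply]
    change π₂ (e₁.symm (Y.incl z)) = Y'.incl z
    rw [h2]
    rfl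

end Baer

theorem main11292 :
    (∀ X : Ext Λ R L, X.IsTrivial) ↔
    ((∀ D : Derivation k Λ L, ∃ D' : Derivation k R L, ∀ a : Λ, D' (algebraMap Λ R a) = D a) ∧
     (∀ Y Y' : Ext k R L,
        Nonempty ((Y.pullback Λ).Equiv (Y'.pullback Λ)) → Nonempty (Y.Equiv Y'))) := by
  constructor
  · intro h
    refine ⟨fun D => exists_der_of_trivial D (h _), ?_⟩
    rintro Y Y' ⟨θ⟩
    exact equiv_of_baer_trivial θ (h _)
  · rintro ⟨ha, hb⟩ X
    exact isTrivial_of_ab ha hb X

end Main

end Groth.Agent.Lib.helper19.RelObs
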