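import Mathlib

namespace Groth.Agent.Lib.helper19.Rising

theorem lemB (A : Type*) [CommRing A] (m s : ℕ) :
    ((s + 1).factorial : A) * ((m.choose (s + 1) : ℕ) : A) =
      (s.factorial : A) * (m.choose s : A) * ((m : A) - (s : A)) := by
  rcases le_or_gt s m with hsm | hsm
  · have h1 := Nat.choose_succ_right_eq m s
    have h2 : ((m.choose (s + 1) * (s + 1) : ℕ) : A) = ((m.choose s * (m - s) : ℕ) : A) := by
      rw [h1]
    rw [Nat.factorial_succ]
    push_cast [Nat.cast_sub hsm] at h2 ⊢
    linear_combination (s.factorial : A) * h2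
  · rw [Nat.choose_eq_zero_of_lt hsm, Nat.choose_eq_zero_of_lt (by omega : m < s + 1)]
    simp

theorem rising_aux (A : Type*) [CommRing A] (h τ : A) (P : ℕ → A) (hP0 : P 0 = 1)
    (hP : ∀ k, P (k + 1) = P k * (h + (k : A) * τ)) (m : ℕ) : ∀ n : ℕ,
    P n * P m =
      ∑ s ∈ Finset.range (n + 1), (-1 : A) ^ s * (Nat.factorial s : A) * (Nat.choose n s : A) *
        (Nat.choose m s : A) * τ ^ s * P (m + n - s) := by
  intro n
  induction n with
  | zero => simp [hP0]
  | succ n ih =>
    let c : ℕ → ℕ → A := fun n s =>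
      (-1 : A) ^ s * (Nat.factorial s : A) * (Nat.choose n s : A) * (Nat.choose m s : A)
    let cc : ℕ → A := fun s =>
      (-1 : A) ^ (s + 1) * (Nat.factorial (s + 1) : A) * (Nat.choose n s : A) *
        (Nat.choose m (s + 1) : A)
    let T : ℕ → A := fun s => τ ^ s * P (m + (n + 1) - s)
    have key : ∀ s ∈ Finset.range (n + 1),
        (c n s * τ ^ s * P (m + n - s)) * (h + (n : A) * τ) = c n s * T s + cc s * T (s + 1) := by
      intro s hs
      have hs' : s ≤ n := Nat.lt_succ_iff.1 (Finset.mem_range.1 hs)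
      have e1 : m + (n + 1) - s = (m + n - s) + 1 := by omega
      have e2 : m + (n + 1) - (s + 1) = m + n - s := by omega
      have e3 : ((m + n - s : ℕ) : A) = (m : A) + (n : A) - (s : A) := by
        rw [Nat.cast_sub (by omega), Nat.cast_add]
      have hB := lemB A m s
      show (c n s * τ ^ s * P (m + n - s)) * (h + (n : A) * τ) =
        c n s * (τ ^ s * P (m + (n + 1) - s)) + cc s * (τ ^ (s + 1) * P (m + (n + 1) - (s + 1)))
      rw [e1, e2, hP, e3]
      show ((-1 : A) ^ s * (Nat.factorial s : A) * (Nat.choose n s : A) * (Nat.choose m s : A) *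
          τ ^ s * P (m + n - s)) * (h + (n : A) * τ) =
        (-1 : A) ^ s * (Nat.factorial s : A) * (Nat.choose n s : A) * (Nat.choose m s : A) *
          (τ ^ s * (P (m + n - s) * (h + ((m : A) + (n : A) - (s : A)) * τ))) +
        (-1 : A) ^ (s + 1) * (Nat.factorial (s + 1) : A) * (Nat.choose n s : A) *
          (Nat.choose m (s + 1) : A) * (τ ^ (s + 1) * P (m + n - s))
      linear_combination ((-1 : A) ^ s * (Nat.choose n s : A) * τ ^ (s + 1) * P (m + n - s)) * hB
    have pascal : ∀ s, c (n + 1) (s + 1) = c n (s + 1) + cc s := by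
      intro s
      show (-1 : A) ^ (s + 1) * (Nat.factorial (s + 1) : A) * (Nat.choose (n + 1) (s + 1) : A) *
          (Nat.choose m (s + 1) : A) =
        (-1 : A) ^ (s + 1) * (Nat.factorial (s + 1) : A) * (Nat.choose n (s + 1) : A) *
          (Nat.choose m (s + 1) : A) +
        (-1 : A) ^ (s + 1) * (Nat.factorial (s + 1) : A) * (Nat.choose n s : A) *
          (Nat.choose m (s + 1) : A)
      rw [Nat.choose_succ_succ]
      push_cast
      ring
    have hc0 : c n (n + 1) = 0 := by
      show (-1 : A) ^ (n + 1) * (Nat.factorial (n + 1) : A) * (Nat.choose n (n + 1) : A) *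
          (Nat.choose m (n + 1) : A) = 0
      rw [Nat.choose_succ_self]
      simp
    have hc00 : c (n + 1) 0 = c n 0 := by
      show (-1 : A) ^ 0 * (Nat.factorial 0 : A) * (Nat.choose (n + 1) 0 : A) * (Nat.choose m 0 : A) =
        (-1 : A) ^ 0 * (Nat.factorial 0 : A) * (Nat.choose n 0 : A) * (Nat.choose m 0 : A)
      simp
    have hsplit : ∑ s ∈ Finset.range (n + 1), c n s * T s =
        ∑ s ∈ Finset.range (n + 1), c n (s + 1) * T (s + 1) + c n 0 * T 0 := by
      have e := Finset.sum_range_succ' (fun s => c n s * T s) (n + 1)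
      have e2 := Finset.sum_range_succ (fun s => c n s * T s) (n + 1)
      rw [e2, hc0, zero_mul, add_zero] at e
      exact e
    calc P (n + 1) * P m = (P n * P m) * (h + (n : A) * τ) := by rw [hP]; ring
      _ = ∑ s ∈ Finset.range (n + 1), (c n s * τ ^ s * P (m + n - s)) * (h + (n : A) * τ) := by
          rw [ih, Finset.sum_mul]
      _ = ∑ s ∈ Finset.range (n + 1), (c n s * T s + cc s * T (s + 1)) :=
          Finset.sum_congr rfl key
      _ = ∑ s ∈ Finset.range (n + 1), c n s * T s +
            ∑ s ∈ Finset.range (n + 1), cc s * T (s + 1) := Finset.sum_add_distrib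
      _ = ∑ s ∈ Finset.range (n + 1 + 1), c (n + 1) s * T s := by
          rw [Finset.sum_range_succ' (fun s => c (n + 1) s * T s) (n + 1)]
          simp only [pascal, add_mul, Finset.sum_add_distrib]
          rw [hsplit, hc00]
          ring
      _ = _ := by
          apply Finset.sum_congr rfl
          intro s _
          show (-1 : A) ^ s * (Nat.factorial s : A) * (Nat.choose (n + 1) s : A) *
              (Nat.choose m s : A) * (τ ^ s * P (m + (n + 1) - s)) = _
          ring

theorem main14088 (A : Type*) [CommRing A] (h τ : A) (n m : ℕ) (hnm : n ≤ m) :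
    (∏ i ∈ Finset.range n, (h + (i : A) * τ) ^ 2) * ∏ i ∈ Finset.Ico n m, (h + (i : A) * τ) =
      ∑ s ∈ Finset.range (n + 1), (-1 : A) ^ s * (Nat.factorial s : A) * (Nat.choose n s : A) *
        (Nat.choose m s : A) * τ ^ s * ∏ i ∈ Finset.range (m + n - s), (h + (i : A) * τ) := by
  have := rising_aux A h τ (fun k => ∏ i ∈ Finset.range k, (h + (i : A) * τ)) (by simp)
    (fun k => Finset.prod_range_succ _ k) m n
  rw [← this, Finset.prod_pow, sq, mul_assoc,
    Finset.prod_range_mul_prod_Ico (fun i => h + (i : A) * τ) hnm]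

end Groth.Agent.Lib.helper19.Rising
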