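import Mathlib
import Groth.Agent.Lib.helper19.TowerSmooth

/-!
# Étaleness along a section from an isomorphism of conormal modules (S18962)
-/

open TensorProduct KaehlerDifferential IsLocalRing

namespace Groth.Agent.Lib.helper19.SectionEtale

universe u

section Aug

variable {A B : Type u} [CommRing A] [CommRing B] [Algebra A B] (σ : B →ₐ[A] A)
  {K : Type u} [AddCommGroup K] [Module A K] [Module B K] [IsScalarTower A B K]
  (hK : ∀ (b : B) (k : K), b • k = σ b • k)

include hK in
theorem smul_eq_zero_of_mem {x : B} (hx : x ∈ RingHom.ker σ) (k : K) : x • k = 0 := by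
  rw [hK, (RingHom.mem_ker).mp hx, zero_smul]

theorem sub_mem_ker (b : B) : b - algebraMap A B (σ b) ∈ RingHom.ker σ := by
  rw [RingHom.mem_ker, map_sub, AlgHom.commutes]
  simp

include hK in
/-- a derivation into a module on which `B` acts through `σ` induces a map on the conormal
module of the section. -/
theorem exists_cot_of_derivation (d : Derivation A B K) :
    ∃ dbar : (RingHom.ker σ).Cotangent →ₗ[A] K,
      ∀ x : RingHom.ker σ, dbar ((RingHom.ker σ).toCotangent x) = d x := by
  let g : RingHom.ker σ →ₗ[B] K :=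
    { toFun := fun x => d x
      map_add' := fun x y => by simp
      map_smul' := fun b x => by
        simp only [RingHom.id_apply]
        change d (b • (x : B)) = b • d x
        rw [smul_eq_mul, Derivation.leibniz, smul_eq_zero_of_mem σ hK x.2, add_zero] }
  have hg : (RingHom.ker σ) • (⊤ : Submodule B (RingHom.ker σ)) ≤ LinearMap.ker g := by
    rw [Submodule.smul_le]
    intro i hi x _
    rw [LinearMap.mem_ker, map_smul]
    exact smul_eq_zero_of_mem σ hK hi _
  refine ⟨(Submodule.liftQ _ g hg).restrictScalars A, fun x => ?_⟩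
  rfl

/-- the projection `b ↦ b - σ b` to the augmentation ideal -/
def hh (b : B) : RingHom.ker σ := ⟨b - algebraMap A B (σ b), sub_mem_ker σ b⟩

theorem hh_add (b b' : B) : hh σ (b + b') = hh σ b + hh σ b' := by
  apply Subtype.ext
  simp only [hh, map_add, Submodule.coe_add]
  ring

theorem hh_smul (a : A) (b : B) : hh σ (a • b) = (algebraMap A B a) • hh σ b := by
  apply Subtype.ext
  simp only [hh, SetLike.val_smul, smul_eq_mul, Algebra.smul_def, map_mul, mul_sub,
    AlgHom.commutes, Algebra.algebraMap_self, RingHom.id_apply]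

theorem hh_of_mem (x : RingHom.ker σ) : hh σ (x : B) = x := by
  apply Subtype.ext
  simp only [hh, (RingHom.mem_ker).mp x.2, map_zero, sub_zero]

theorem toCotangent_hh_mul (b b' : B) :
    (RingHom.ker σ).toCotangent (hh σ (b * b')) =
      b • (RingHom.ker σ).toCotangent (hh σ b') + b' • (RingHom.ker σ).toCotangent (hh σ b) := by
  rw [← map_smul, ← map_smul, ← map_add, ← sub_eq_zero, ← map_sub, Ideal.toCotangent_eq_zero]
  have : ((hh σ (b * b') - (b • hh σ b' + b' • hh σ b) : RingHom.ker σ) : B) =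
      - ((hh σ b : B) * (hh σ b' : B)) := by
    simp only [hh, map_mul, Submodule.coe_sub, Submodule.coe_add, SetLike.val_smul, smul_eq_mul]
    ring
  rw [this, pow_two]
  exact Ideal.neg_mem_iff _ |>.mpr (Ideal.mul_mem_mul (hh σ b).2 (hh σ b').2)

theorem smul_cot (b : B) (c : (RingHom.ker σ).Cotangent) : b • c = σ b • c := by
  have h1 : b = algebraMap A B (σ b) + (b - algebraMap A B (σ b)) := by ring
  conv_lhs => rw [h1, add_smul, Ideal.Cotangent.smul_eq_zero_of_mem (sub_mem_ker σ b), add_zero,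
    algebraMap_smul]

include hK in
/-- a linear map on the conormal module of the section gives a derivation. -/
theorem exists_derivation_of_cot (l : (RingHom.ker σ).Cotangent →ₗ[A] K) :
    ∃ D : Derivation A B K, ∀ b : B,
      D b = l ((RingHom.ker σ).toCotangent (hh σ b)) := by
  let F : B →ₗ[A] K :=
    { toFun := fun b => l ((RingHom.ker σ).toCotangent (hh σ b))
      map_add' := fun b b' => by rw [hh_add, map_add, map_add]
      map_smul' := fun a b => by
        simp only [RingHom.id_apply]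
        rw [hh_smul, map_smul, algebraMap_smul, map_smul] }
  refine ⟨Derivation.mk' F ?_, fun b => rfl⟩
  intro b b'
  change l ((RingHom.ker σ).toCotangent (hh σ (b * b'))) =
    b • l ((RingHom.ker σ).toCotangent (hh σ b')) + b' • l ((RingHom.ker σ).toCotangent (hh σ b))
  rw [toCotangent_hh_mul, map_add, smul_cot, smul_cot, map_smul, map_smul, hK b, hK b']

end Aug

section L2

variable {T : Type u} [CommRing T] [IsLocalRing T] {M N : Type u} [AddCommGroup M]
  [AddCommGroup N] [Module T M] [Module T N]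

theorem subsingleton_of_hom_residue (L : Type u) [AddCommGroup L] [Module T L]
    [Module.Finite T L] (h : ∀ ℓ : L →ₗ[T] ResidueField T, ℓ = 0) : Subsingleton L := by
  rw [← IsLocalRing.subsingleton_tensorProduct (R := T)]
  by_contra hns
  rw [not_subsingleton_iff_nontrivial] at hns
  obtain ⟨v, hv⟩ := exists_ne (0 : ResidueField T ⊗[T] L)
  obtain ⟨f, hf⟩ : ∃ f : Module.Dual (ResidueField T) (ResidueField T ⊗[T] L), f v ≠ 0 := by
    by_contra hcon
    push Not at hcon
    exact hv ((Module.forall_dual_apply_eq_zero_iff (ResidueField T) v).mp hcon)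
  apply hf
  have h0 := h ((f.restrictScalars T) ∘ₗ (TensorProduct.mk T (ResidueField T) L 1))
  have hf0 : f = 0 := by
    apply LinearMap.ext
    intro w
    induction w using TensorProduct.induction_on with
    | zero => simp
    | tmul k x =>
      have e1 : k ⊗ₜ[T] x = k • ((1 : ResidueField T) ⊗ₜ[T] x) := by
        rw [TensorProduct.smul_tmul', smul_eq_mul, mul_one]
      have e2 : f ((1 : ResidueField T) ⊗ₜ[T] x) = 0 := LinearMap.congr_fun h0 x
      rw [e1, map_smul, e2, smul_zero, LinearMap.zero_apply]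
    | add a b ha hb => rw [map_add, ha, hb]; simp
  rw [hf0, LinearMap.zero_apply]

theorem bijective_of_local [Module.Finite T M] [Module.Finite T N] [Module.Projective T N]
    (Φ : M →ₗ[T] N)
    (h1 : LinearMap.range Φ ⊔ maximalIdeal T • (⊤ : Submodule T N) = ⊤)
    (h2 : ∀ ℓ : M →ₗ[T] ResidueField T, ∃ ℓ' : N →ₗ[T] ResidueField T, ℓ' ∘ₗ Φ = ℓ) :
    Function.Bijective Φ := by
  have hsurj : Function.Surjective Φ := by
    rw [← LinearMap.range_eq_top, eq_top_iff]
    apply Submodule.le_of_le_smul_of_le_jacobson_bot (Module.Finite.fg_top)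
      (IsLocalRing.maximalIdeal_le_jacobson ⊥)
    rw [h1]
  refine ⟨?_, hsurj⟩
  obtain ⟨s, hs⟩ := Module.projective_lifting_property Φ LinearMap.id hsurj
  let p : M →ₗ[T] LinearMap.ker Φ := (LinearMap.id - s ∘ₗ Φ).codRestrict _ (fun x => by
      rw [LinearMap.mem_ker, LinearMap.sub_apply, map_sub, LinearMap.comp_apply,
        LinearMap.id_apply]
      have := LinearMap.congr_fun hs (Φ x)
      simp only [LinearMap.comp_apply, LinearMap.id_apply] at this
      rw [this, sub_self])
  have hp : ∀ x : LinearMap.ker Φ, p x = x := by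
    intro x
    apply Subtype.ext
    simp [p, LinearMap.mem_ker.mp x.2]
  have hpsurj : Function.Surjective p := fun x => ⟨x, hp x⟩
  haveI : Module.Finite T (LinearMap.ker Φ) := Module.Finite.of_surjective p hpsurj
  haveI := subsingleton_of_hom_residue (LinearMap.ker Φ) (fun ℓ₀ => by
    obtain ⟨ℓ', hℓ'⟩ := h2 (ℓ₀ ∘ₗ p)
    apply LinearMap.ext
    intro x
    have := LinearMap.congr_fun hℓ' x
    simp only [LinearMap.comp_apply] at this
    rw [hp, LinearMap.mem_ker.mp x.2, map_zero] at this
    rw [← this, LinearMap.zero_apply])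
  rw [← LinearMap.ker_eq_bot]
  exact Submodule.eq_bot_of_subsingleton

end L2

section Main

variable (A B₁ B₂ : Type u)
  [CommRing A] [CommRing B₁] [CommRing B₂] [Algebra A B₁] [Algebra A B₂] [Algebra B₂ B₁]
  [IsScalarTower A B₂ B₁]
  (σ₁ : B₁ →ₐ[A] A) (σ₂ : B₂ →ₐ[A] A) (hσ : σ₁.comp (IsScalarTower.toAlgHom A B₂ B₁) = σ₂)
  (hle : RingHom.ker σ₂ ≤ (RingHom.ker σ₁).comap (IsScalarTower.toAlgHom A B₂ B₁))
  (hcot : Function.Bijective
    (Ideal.mapCotangent (RingHom.ker σ₂) (RingHom.ker σ₁) (IsScalarTower.toAlgHom A B₂ B₁) hle))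
  (P : Ideal B₁) [P.IsPrime] (hP : RingHom.ker σ₁ ≤ P)

theorem algebraMap_residue_eq_zero {x : B₁} (hx : x ∈ P) :
    algebraMap B₁ (ResidueField (Localization.AtPrime P)) x = 0 := by
  rw [IsScalarTower.algebraMap_apply B₁ (Localization.AtPrime P),
    IsLocalRing.ResidueField.algebraMap_eq, IsLocalRing.residue_eq_zero_iff,
    IsLocalization.AtPrime.to_map_mem_maximal_iff _ P]
  exact hx

include hP in
theorem hK₁ (b : B₁) (k : ResidueField (Localization.AtPrime P)) : b • k = σ₁ b • k := by
  have h := algebraMap_residue_eq_zero B₁ P (hP (sub_mem_ker σ₁ b))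
  rw [map_sub, sub_eq_zero, ← IsScalarTower.algebraMap_apply A B₁] at h
  rw [Algebra.smul_def, Algebra.smul_def, h]

include hP hσ in
theorem hK₂ (b : B₂) (k : ResidueField (Localization.AtPrime P)) : b • k = σ₂ b • k := by
  rw [← algebraMap_smul B₁ b k, hK₁ A B₁ σ₁ P hP, ← hσ]
  rfl

include hP hσ hcot in
theorem range_sup :
    LinearMap.range (mapBaseChange A B₂ (Localization.AtPrime P)) ⊔
      maximalIdeal (Localization.AtPrime P) •
        (⊤ : Submodule (Localization.AtPrime P) (Ω[Localization.AtPrime P⁄A])) = ⊤ := by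
  set T := Localization.AtPrime P with hT
  set S := LinearMap.range (mapBaseChange A B₂ T) ⊔
      maximalIdeal T • (⊤ : Submodule T (Ω[T⁄A])) with hS
  have hmem : ∀ z ∈ (RingHom.ker σ₁) ^ 2, D A T (algebraMap B₁ T z) ∈
      maximalIdeal T • (⊤ : Submodule T (Ω[T⁄A])) := by
    intro z hz
    rw [pow_two] at hz
    refine Submodule.mul_induction_on hz ?_ ?_
    · intro u hu v hv
      rw [map_mul, Derivation.leibniz]
      refine Submodule.add_mem _ (Submodule.smul_mem_smul ?_ trivial)
        (Submodule.smul_mem_smul ?_ trivial)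
      · exact (IsLocalization.AtPrime.to_map_mem_maximal_iff T P u).mpr (hP hu)
      · exact (IsLocalization.AtPrime.to_map_mem_maximal_iff T P v).mpr (hP hv)
    · intro x y hx hy
      rw [map_add, map_add]
      exact Submodule.add_mem _ hx hy
  have hb : ∀ b : B₁, D A T (algebraMap B₁ T b) ∈ S := by
    intro b
    obtain ⟨c, hc⟩ := hcot.2 ((RingHom.ker σ₁).toCotangent (hh σ₁ b))
    obtain ⟨y, rfl⟩ := Ideal.toCotangent_surjective _ c
    rw [Ideal.mapCotangent_toCotangent, Ideal.toCotangent_eq] at hc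
    have e1 : algebraMap B₁ T b = algebraMap A T (σ₁ b) + algebraMap B₂ T (y : B₂) -
        algebraMap B₁ T ((IsScalarTower.toAlgHom A B₂ B₁) (y : B₂) - (hh σ₁ b : B₁)) := by
      rw [IsScalarTower.algebraMap_apply A B₁ T, IsScalarTower.algebraMap_apply B₂ B₁ T,
        ← map_add, ← map_sub]
      congr 1
      simp only [hh, IsScalarTower.coe_toAlgHom']
      ring
    rw [e1, map_sub, map_add, Derivation.map_algebraMap, zero_add]
    refine Submodule.sub_mem _ (Submodule.mem_sup_left ⟨1 ⊗ₜ D A B₂ (y : B₂), ?_⟩)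
      (Submodule.mem_sup_right (hmem _ hc))
    rw [mapBaseChange_tmul, one_smul, map_D]
  have htop : (⊤ : Submodule T (T ⊗[B₁] Ω[B₁⁄A])) =
      Submodule.span T (TensorProduct.mk B₁ T (Ω[B₁⁄A]) 1 '' Set.range (D A B₁)) := by
    rw [← Submodule.baseChange_span, span_range_derivation, Submodule.baseChange_top]
  have hle' : (⊤ : Submodule T (T ⊗[B₁] Ω[B₁⁄A])) ≤
      S.comap (tensorKaehlerEquivOfFormallyEtale A B₁ T).toLinearMap := by
    rw [htop, Submodule.span_le]
    rintro _ ⟨_, ⟨b, rfl⟩, rfl⟩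
    change tensorKaehlerEquivOfFormallyEtale A B₁ T (1 ⊗ₜ D A B₁ b) ∈ S
    rw [tensorKaehlerEquivOfFormallyEtale_apply, mapBaseChange_tmul, one_smul, map_D]
    exact hb b
  rw [eq_top_iff]
  intro ω _
  obtain ⟨w, rfl⟩ := (tensorKaehlerEquivOfFormallyEtale A B₁ T).surjective ω
  exact hle' (Submodule.mem_top (x := w))

include hP hσ hcot in
theorem exists_factor
    (ℓ : (Localization.AtPrime P) ⊗[B₂] Ω[B₂⁄A] →ₗ[Localization.AtPrime P]
      ResidueField (Localization.AtPrime P)) :
    ∃ ℓ' : Ω[Localization.AtPrime P⁄A] →ₗ[Localization.AtPrime P]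
        ResidueField (Localization.AtPrime P),
      ℓ' ∘ₗ mapBaseChange A B₂ (Localization.AtPrime P) = ℓ := by
  set T := Localization.AtPrime P with hT
  set K := ResidueField T with hK
  let d : Derivation A B₂ K :=
    ((ℓ.restrictScalars B₂) ∘ₗ (TensorProduct.mk B₂ T (Ω[B₂⁄A]) 1)).compDer (D A B₂)
  have hd : ∀ y : B₂, d y = ℓ (1 ⊗ₜ D A B₂ y) := fun y => rfl
  obtain ⟨dbar, hdbar⟩ := exists_cot_of_derivation σ₂ (hK₂ A B₁ B₂ σ₁ σ₂ hσ P hP) d
  let e := LinearEquiv.ofBijective _ hcot
  obtain ⟨D₁, hD₁⟩ := exists_derivation_of_cot σ₁ (hK₁ A B₁ σ₁ P hP)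
    (dbar ∘ₗ e.symm.toLinearMap)
  have hkey : ∀ y : B₂, D₁ (algebraMap B₂ B₁ y) = d y := by
    intro y
    rw [hD₁]
    have e1 : (RingHom.ker σ₁).toCotangent (hh σ₁ (algebraMap B₂ B₁ y)) =
        e ((RingHom.ker σ₂).toCotangent (hh σ₂ y)) := by
      change _ = Ideal.mapCotangent _ _ _ hle _
      rw [Ideal.mapCotangent_toCotangent]
      congr 1
      apply Subtype.ext
      simp only [hh, IsScalarTower.coe_toAlgHom', map_sub]
      rw [← IsScalarTower.algebraMap_apply A B₂ B₁, ← hσ]
      rfl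
    rw [e1, LinearMap.comp_apply, LinearEquiv.coe_coe, e.symm_apply_apply, hdbar]
    change d (y - algebraMap A B₂ (σ₂ y)) = d y
    rw [map_sub, Derivation.map_algebraMap, sub_zero]
  refine ⟨(LinearMap.liftBaseChange T D₁.liftKaehlerDifferential) ∘ₗ
    (tensorKaehlerEquivOfFormallyEtale A B₁ T).symm.toLinearMap, ?_⟩
  apply TensorProduct.AlgebraTensorModule.ext
  intro t ω
  have h1 : t ⊗ₜ[B₂] ω = t • ((1 : T) ⊗ₜ[B₂] ω) := by
    rw [TensorProduct.smul_tmul', smul_eq_mul, mul_one]
  rw [h1, map_smul, map_smul]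
  congr 1
  clear h1
  have hω : ω ∈ Submodule.span B₂ (Set.range (D A B₂)) := by
    rw [span_range_derivation]; trivial
  induction hω using Submodule.span_induction with
  | mem x hx =>
    obtain ⟨y, rfl⟩ := hx
    rw [LinearMap.comp_apply, LinearMap.comp_apply, mapBaseChange_tmul, one_smul, map_D,
      IsScalarTower.algebraMap_apply B₂ B₁ T, LinearEquiv.coe_coe,
      tensorKaehlerEquivOfFormallyEtale_symm_D_algebraMap, LinearMap.liftBaseChange_tmul,
      one_smul, Derivation.liftKaehlerDifferential_comp_D, hkey, hd]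
  | zero => simp
  | add x y _ _ hx hy => rw [TensorProduct.tmul_add, map_add, map_add, hx, hy]
  | smul a x _ hx =>
    rw [TensorProduct.tmul_smul, LinearMap.map_smul_of_tower, LinearMap.map_smul_of_tower, hx]

include hP hσ hcot in
theorem main [Algebra.FinitePresentation A B₁] [Algebra.FiniteType A B₂]
    (hsm : ∀ (P : Ideal B₁) [P.IsPrime], RingHom.ker σ₁ ≤ P → Algebra.IsSmoothAt A P) :
    Algebra.IsEtaleAt B₂ P := by
  have hs : Algebra.FormallySmooth A (Localization.AtPrime P) := hsm P hP
  haveI : Module.Finite (Localization.AtPrime P) (Ω[Localization.AtPrime P⁄A]) :=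
    Module.Finite.equiv (tensorKaehlerEquivOfFormallyEtale A B₁ (Localization.AtPrime P))
  have hbij := bijective_of_local (mapBaseChange A B₂ (Localization.AtPrime P))
    (range_sup A B₁ B₂ σ₁ σ₂ hσ hle hcot P hP)
    (exists_factor A B₁ B₂ σ₁ σ₂ hσ hle hcot P hP)
  exact ((TowerSmooth.etale_iff A B₂ (Localization.AtPrime P)).mpr ⟨hs, hbij⟩).1

end Main

end Groth.Agent.Lib.helper19.SectionEtale
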