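import Mathlib
import Groth.Prelude.Def_W4sfdMinVersal
import Groth.Agent.Lib.helper19.ArtTower
import Groth.Agent.Lib.helper19.ArtProlong
import Groth.Agent.Lib.helper19.PSUniv4
import Groth.Agent.Lib.helper19.ArtCotangent

set_option autoImplicit false
universe u v
open CategoryTheory IsLocalRing ArtFun ArtFun.Art MvPowerSeries

namespace Groth.Agent.Lib.helper19.SemiVersal

open Groth.Agent.Lib.helper19

section Gens

variable {R : Type*} [CommRing R] [IsLocalRing R]

lemma drop_one {m : ℕ} (I : Ideal R) (x : Fin (m + 1) → R) (j : Fin (m + 1)) (c : Fin (m + 1) → R)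
    (hc : IsUnit (c j)) (hsum : ∑ i, c i * x i ∈ I) :
    Ideal.span (Set.range x) ⊔ I ≤ Ideal.span (Set.range (x ∘ j.succAbove)) ⊔ I := by
  refine sup_le ?_ le_sup_right
  rw [Ideal.span_le]
  rintro _ ⟨i, rfl⟩
  have hothers : ∀ i', x (j.succAbove i') ∈ Ideal.span (Set.range (x ∘ j.succAbove)) ⊔ I :=
    fun i' => Ideal.mem_sup_left (Ideal.subset_span ⟨i', rfl⟩)
  by_cases hij : i = j
  · subst hij
    rw [Fin.sum_univ_succAbove _ i] at hsum
    have h1 : c i * x i ∈ Ideal.span (Set.range (x ∘ i.succAbove)) ⊔ I := by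
      have h2 : c i * x i = (c i * x i + ∑ i', c (i.succAbove i') * x (i.succAbove i')) -
          ∑ i', c (i.succAbove i') * x (i.succAbove i') := by ring
      rw [h2]
      refine Ideal.sub_mem _ (Ideal.mem_sup_right hsum) ?_
      exact Ideal.sum_mem _ fun i' _ => Ideal.mul_mem_left _ _ (hothers i')
    obtain ⟨u, hu⟩ := hc
    have h3 : x i = (↑u⁻¹ : R) * (c i * x i) := by
      rw [← mul_assoc, ← hu, Units.inv_mul, one_mul]
    rw [h3]
    exact Ideal.mul_mem_left _ _ h1
  · obtain ⟨i', rfl⟩ := Fin.exists_succAbove_eq hij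
    exact hothers i'

theorem exists_min_gens [IsNoetherianRing R] (I : Ideal R) :
    ∃ (n : ℕ) (x : Fin n → R), (∀ i, x i ∈ maximalIdeal R) ∧
      maximalIdeal R ≤ Ideal.span (Set.range x) ⊔ I ∧
      ∀ c : Fin n → R, ∑ i, c i * x i ∈ I → ∀ i, c i ∈ maximalIdeal R := by
  classical
  let P : ℕ → Prop := fun n => ∃ x : Fin n → R, (∀ i, x i ∈ maximalIdeal R) ∧
      maximalIdeal R ≤ Ideal.span (Set.range x) ⊔ I
  have hex : ∃ n, P n := by
    obtain ⟨n, s, hs⟩ := Submodule.fg_iff_exists_fin_generating_family.mp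
      (IsNoetherian.noetherian (maximalIdeal R))
    refine ⟨n, s, ?_, ?_⟩
    · intro i
      rw [← hs]
      exact Submodule.subset_span ⟨i, rfl⟩
    · have : Ideal.span (Set.range s) = maximalIdeal R := hs
      rw [this]
      exact le_sup_left
  have hspec := Nat.find_spec hex
  have hmin := fun m => Nat.find_min hex (m := m)
  generalize Nat.find hex = n at hspec hmin
  obtain ⟨x, hx, hgen⟩ := hspec
  refine ⟨n, x, hx, hgen, ?_⟩
  intro c hsum j
  by_contra hcj
  have hu : IsUnit (c j) := by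
    by_contra h
    exact hcj ((IsLocalRing.mem_maximalIdeal _).mpr h)
  cases n with
  | zero => exact Fin.elim0 j
  | succ m =>
    refine hmin m (Nat.lt_succ_self m) ⟨x ∘ j.succAbove, fun i => hx _, ?_⟩
    exact hgen.trans (drop_one I x j c hu hsum)

end Gens

section Pres

variable {Λ : Type u} {k : Type u} [CommRing Λ] [Field k] [Algebra Λ k]

lemma algebraMap_eq_zero_iff [IsLocalRing Λ] (hk : Function.Surjective (algebraMap Λ k)) (c : Λ) :
    algebraMap Λ k c = 0 ↔ c ∈ maximalIdeal Λ := by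
  have hmax : (RingHom.ker (algebraMap Λ k)).IsMaximal :=
    RingHom.ker_isMaximal_of_surjective (algebraMap Λ k) hk
  rw [← IsLocalRing.eq_maximalIdeal hmax, RingHom.mem_ker]

lemma ps_decomp (n : ℕ) (J : Ideal Λ) (s : MvPowerSeries (Fin n) Λ) (hs : constantCoeff s ∈ J) :
    ∃ c : Fin n → Λ, s - ∑ i, C (c i) * X i ∈
      (Ideal.span (Set.range (X : Fin n → MvPowerSeries (Fin n) Λ))) ^ 2 ⊔
        J.map (algebraMap Λ (MvPowerSeries (Fin n) Λ)) := by
  have h0 : constantCoeff (s - C (constantCoeff s)) = 0 := by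
    rw [map_sub, constantCoeff_C, sub_self]
  have h1 := SmoothBase.mem_span_X_of_constantCoeff_eq_zero _ h0
  obtain ⟨g, hg⟩ := (Ideal.mem_span_range_iff_exists_fun).mp h1
  refine ⟨fun i => constantCoeff (g i), ?_⟩
  have h2 : s - ∑ i, C (constantCoeff (g i)) * X i =
      ∑ i, (g i - C (constantCoeff (g i))) * X i + C (constantCoeff s) := by
    have : ∑ i, (g i - C (constantCoeff (g i))) * X i =
        ∑ i, g i * X i - ∑ i, C (constantCoeff (g i)) * X i := by
      rw [← Finset.sum_sub_distrib]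
      refine Finset.sum_congr rfl fun i _ => ?_
      ring
    rw [this, hg]
    ring
  rw [h2]
  refine Ideal.add_mem _ (Ideal.mem_sup_left ?_) (Ideal.mem_sup_right ?_)
  · refine Ideal.sum_mem _ fun i _ => ?_
    rw [pow_two]
    refine Ideal.mul_mem_mul ?_ (Ideal.subset_span ⟨i, rfl⟩)
    apply SmoothBase.mem_span_X_of_constantCoeff_eq_zero
    rw [map_sub, constantCoeff_C, sub_self]
  · have : C (constantCoeff s) = algebraMap Λ (MvPowerSeries (Fin n) Λ) (constantCoeff s) := by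
      rw [MvPowerSeries.algebraMap_apply, Algebra.algebraMap_self_apply]
    rw [this]
    exact Ideal.mem_map_of_mem _ hs

variable [IsNoetherianRing Λ] [IsLocalRing Λ] [IsAdicComplete (maximalIdeal Λ) Λ]

theorem exists_min_pres (hk : Function.Surjective (algebraMap Λ k)) (R : Art Λ k) :
    ∃ (n : ℕ) (π : HomSet (psCRing (baseCRing hk) n).carrier (psCRing (baseCRing hk) n).res R),
      Function.Surjective π.1 ∧
      RingHom.ker π.1 ≤ maximalIdeal (psCRing (baseCRing hk) n).carrier ^ 2 ⊔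
        (maximalIdeal Λ).map (algebraMap Λ (psCRing (baseCRing hk) n).carrier) := by
  set I₀ : Ideal R := maximalIdeal R ^ 2 ⊔ (maximalIdeal Λ).map (algebraMap Λ R) with hI₀
  obtain ⟨n, x, hx, hgen, hmin⟩ := exists_min_gens I₀
  let y : HomSet (baseCRing hk).carrier (baseCRing hk).res R := ⟨Algebra.ofId Λ R, by
    apply AlgHom.ext
    intro l
    exact R.res.commutes l⟩
  obtain ⟨χ, hχC, hχX⟩ := PS.exists_homSet (R := baseCRing hk) y x hx
  set S := psCRing (baseCRing hk) n with hS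
  have hXm : ∀ i, (X i : MvPowerSeries (Fin n) Λ) ∈ maximalIdeal S.carrier := by
    intro i
    rw [CRing.mem_maximalIdeal_iff]
    exact PSres_X (baseCRing hk) n i
  have hspanX : Ideal.span (Set.range (X : Fin n → MvPowerSeries (Fin n) Λ)) ≤
      maximalIdeal S.carrier := by
    rw [Ideal.span_le]
    rintro _ ⟨i, rfl⟩
    exact hXm i
  have hΛR : (maximalIdeal Λ).map (algebraMap Λ R) ≤ maximalIdeal R := by
    rw [Ideal.map_le_iff_le_comap]
    intro c hc
    rw [Ideal.mem_comap, Art.mem_maximalIdeal_iff, R.res.commutes, algebraMap_eq_zero_iff hk]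
    exact hc
  have hmapm : Ideal.map χ.1 (maximalIdeal S.carrier) ≤ maximalIdeal R :=
    HomSet.map_maximalIdeal_le (R := S) χ
  haveI : IsPrecomplete (maximalIdeal S.carrier) S.carrier := S.isAdicComplete.toIsPrecomplete
  have hsurj : Function.Surjective χ.1 := by
    apply surjective_of_map_maximalIdeal_sup_sq (χ.1 : S.carrier →+* R) _ hmapm
    · apply le_antisymm (sup_le hmapm (Ideal.pow_le_self (by norm_num)))
      refine hgen.trans (sup_le ?_ ?_)
      · refine le_trans ?_ le_sup_left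
        rw [Ideal.span_le]
        rintro _ ⟨i, rfl⟩
        rw [← hχX i]
        exact Ideal.mem_map_of_mem _ (hXm i)
      · rw [hI₀]
        refine sup_le le_sup_right (le_trans ?_ le_sup_left)
        rw [Ideal.map_le_iff_le_comap]
        intro c hc
        rw [Ideal.mem_comap, ← χ.1.commutes c]
        apply Ideal.mem_map_of_mem
        rw [CRing.mem_maximalIdeal_iff, S.res.commutes, algebraMap_eq_zero_iff hk]
        exact hc
    · intro s
      obtain ⟨r, hr⟩ := S.res_surjective (R.res s)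
      refine ⟨r, ?_⟩
      rw [Art.mem_maximalIdeal_iff, map_sub]
      have : R.res (χ.1 r) = S.res r := DFunLike.congr_fun χ.2 r
      change R.res s - R.res (χ.1 r) = 0
      rw [this, hr, sub_self]
  refine ⟨n, χ, hsurj, ?_⟩
  intro t ht
  have htm : t ∈ maximalIdeal S.carrier := HomSet.ker_le_maximalIdeal (S := S) χ ht
  have htc : constantCoeff t ∈ maximalIdeal Λ := by
    rw [CRing.mem_maximalIdeal_iff] at htm
    rw [← algebraMap_eq_zero_iff hk]
    exact htm
  obtain ⟨c, hc⟩ := ps_decomp n (maximalIdeal Λ) t htc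
  set e := t - ∑ i, C (c i) * X i with he
  have heI : e ∈ maximalIdeal S.carrier ^ 2 ⊔ (maximalIdeal Λ).map (algebraMap Λ S.carrier) :=
    (sup_le_sup_right (Ideal.pow_right_mono hspanX 2) _) hc
  have hπe : χ.1 e ∈ I₀ := by
    have h1 : χ.1 e ∈ Ideal.map χ.1
        (maximalIdeal S.carrier ^ 2 ⊔ (maximalIdeal Λ).map (algebraMap Λ S.carrier)) :=
      Ideal.mem_map_of_mem _ heI
    rw [Ideal.map_sup, Ideal.map_pow] at h1
    have h2 : Ideal.map χ.1 ((maximalIdeal Λ).map (algebraMap Λ S.carrier)) ≤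
        (maximalIdeal Λ).map (algebraMap Λ R) := by
      rw [Ideal.map_le_iff_le_comap, Ideal.map_le_iff_le_comap]
      intro l hl
      rw [Ideal.mem_comap, Ideal.mem_comap, χ.1.commutes l]
      exact Ideal.mem_map_of_mem _ hl
    exact (sup_le_sup (Ideal.pow_right_mono hmapm 2) h2) h1
  have hsum : ∑ i, algebraMap Λ R (c i) * x i ∈ I₀ := by
    have h1 : χ.1 t = ∑ i, algebraMap Λ R (c i) * x i + χ.1 e := by
      have : t = ∑ i, C (c i) * X i + e := by rw [he]; ring
      conv_lhs => rw [this]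
      rw [map_add, map_sum]
      congr 1
      refine Finset.sum_congr rfl fun i _ => ?_
      rw [map_mul, hχX, hχC]
      rfl
    have h2 : χ.1 t = 0 := ht
    have h3 : ∑ i, algebraMap Λ R (c i) * x i = - χ.1 e := by
      rw [h2] at h1
      exact eq_neg_of_add_eq_zero_left h1.symm
    rw [h3]
    exact Ideal.neg_mem_iff _ |>.mpr hπe
  have hcm : ∀ i, c i ∈ maximalIdeal Λ := by
    intro i
    have := hmin (fun i => algebraMap Λ R (c i)) hsum i
    rw [Art.mem_maximalIdeal_iff, R.res.commutes, algebraMap_eq_zero_iff hk] at this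
    exact this
  have ht2 : t = ∑ i, C (c i) * X i + e := by rw [he]; ring
  rw [ht2]
  refine Ideal.add_mem _ (Ideal.sum_mem _ fun i _ => Ideal.mem_sup_right ?_) heI
  have : (C (c i) : MvPowerSeries (Fin n) Λ) = algebraMap Λ (MvPowerSeries (Fin n) Λ) (c i) := by
    rw [MvPowerSeries.algebraMap_apply, Algebra.algebraMap_self_apply]
  rw [this]
  exact Ideal.mul_mem_right _ _ (Ideal.mem_map_of_mem _ (hcm i))

end Pres

section Step

variable {Λ : Type u} {k : Type u} [CommRing Λ] [Field k] [Algebra Λ k]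
  [IsNoetherianRing Λ] [Module.Finite Λ k]

variable {S : CRing Λ k} {F : Art Λ k ⥤ Type v}

theorem exists_next_stage' (h1 : S1 F) {A : Art Λ k} (π : HomSet S.carrier S.res A)
    (hπ : Function.Surjective π.1) (ξ : F.obj A) :
    ∃ (A' : Art Λ k) (π' : HomSet S.carrier S.res A') (_ : Function.Surjective π'.1)
      (f : A' ⟶ A) (ξ' : F.obj A'),
      HomSet.map f π' = π ∧ F.map f ξ' = ξ ∧
      maximalIdeal S.carrier * RingHom.ker π.1 ≤ RingHom.ker π'.1 ∧
      ∀ (C : Art Λ k) (σ : HomSet S.carrier S.res C), Function.Surjective σ.1 →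
        ∀ g' : C ⟶ A, HomSet.map g' σ = π →
        maximalIdeal S.carrier * RingHom.ker π.1 ≤ RingHom.ker σ.1 →
        ∀ z : F.obj C, F.map g' z = ξ → ∃ h : A' ⟶ C, HomSet.map h π' = σ := by
  obtain ⟨N, hN⟩ := HomSet.exists_pow_le_ker π
  have hK := HomSet.ker_le_maximalIdeal π
  set J := maximalIdeal S.carrier * RingHom.ker π.1 with hJdef
  have hJ : J ≤ maximalIdeal S.carrier := Ideal.mul_le_left
  have hJK : J ≤ RingHom.ker π.1 := Ideal.mul_le_right
  have hJN : maximalIdeal S.carrier ^ (N + 1) ≤ J := by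
    rw [pow_succ']
    exact Ideal.mul_mono_right hN
  set B := artQuot S J hJ (N + 1) hJN with hB
  set q := artQuotMk S J hJ (N + 1) hJN with hq
  have hqs : Function.Surjective q.1 := artQuotMk_surjective S J hJ (N + 1) hJN
  have hqker : ∀ s, q.1 s = 0 ↔ s ∈ J := artQuotMk_eq_zero_iff S J hJ (N + 1) hJN
  obtain ⟨p, hp⟩ := HomSet.exists_factor_of_surjective q hqs π (by
    intro s hs
    exact hJK ((hqker s).mp hs))
  have hpq : ∀ s, p (q.1 s) = π.1 s := fun s => DFunLike.congr_fun (congrArg Subtype.val hp) s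
  have hps : Function.Surjective p := by
    intro a
    obtain ⟨s, rfl⟩ := hπ a
    exact ⟨q.1 s, hpq s⟩
  have hsemi : IsSemismallExt p := by
    refine ⟨hps, ?_⟩
    rw [eq_bot_iff, Ideal.mul_le]
    intro b hb c hc
    obtain ⟨s, rfl⟩ := hqs b
    obtain ⟨t, rfl⟩ := hqs c
    have hs : s ∈ maximalIdeal S.carrier := by
      rw [CRing.mem_maximalIdeal_iff]
      rw [Art.mem_maximalIdeal_iff] at hb
      rw [← hb]
      exact (DFunLike.congr_fun q.2 s).symm
    have ht : t ∈ RingHom.ker π.1 := by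
      rw [RingHom.mem_ker, ← hpq]
      exact hc
    rw [Ideal.mem_bot, ← map_mul, hqker]
    exact Ideal.mul_mem_mul hs ht
  obtain ⟨J₀, ⟨hJ₀, hJ₀', y, hy⟩, hmin⟩ := exists_least_liftsTo h1 p hsemi ξ
  refine ⟨Art.quot B J₀ hJ₀', HomSet.map (Art.quotMk B J₀ hJ₀') q, ?_, Art.quotFactor hJ₀' p hJ₀, y,
    ?_, hy, ?_, ?_⟩
  · intro w
    obtain ⟨b, rfl⟩ := Art.quotMk_surjective B J₀ hJ₀' w
    obtain ⟨s, rfl⟩ := hqs b
    exact ⟨s, rfl⟩
  · rw [← HomSet.map_comp, Art.quotMk_quotFactor, hp]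
  · intro s hs
    rw [RingHom.mem_ker]
    change Art.quotMk B J₀ hJ₀' (q.1 s) = 0
    rw [(hqker s).mpr hs, map_zero]
  · intro C σ hσ g' hg' hle z hz
    obtain ⟨g, hg⟩ := HomSet.exists_factor_of_surjective q hqs σ (by
      intro s hs
      exact hle ((hqker s).mp hs))
    have hgq : ∀ s, g (q.1 s) = σ.1 s := fun s => DFunLike.congr_fun (congrArg Subtype.val hg) s
    have hgs : Function.Surjective g := by
      intro c
      obtain ⟨s, rfl⟩ := hσ c
      exact ⟨q.1 s, hgq s⟩
    have hgg' : g ≫ g' = p := by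
      apply HomSet.hom_ext_of_surjective q hqs
      rw [HomSet.map_comp, hg, hg', hp]
    have hL := liftsTo_of_surjective p g hgs g' hgg' ξ z hz
    have hle₀ := hmin _ hL
    refine ⟨Art.quotFactor hJ₀' g hle₀, ?_⟩
    rw [← HomSet.map_comp, Art.quotMk_quotFactor, hg]

end Step

section Main

variable {Λ : Type u} {k : Type u} [CommRing Λ] [Field k] [Algebra Λ k]

lemma map_relCot_le [IsLocalRing Λ] (hk : Function.Surjective (algebraMap Λ k))
    {S : CRing Λ k} {A : Art Λ k} (ψ : HomSet S.carrier S.res A) :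
    Ideal.map ψ.1 (maximalIdeal S.carrier ^ 2 ⊔ (maximalIdeal Λ).map (algebraMap Λ S.carrier)) ≤
      maximalIdeal A ^ 2 ⊔ (maximalIdeal Λ).map (algebraMap Λ A) := by
  rw [Ideal.map_sup, Ideal.map_pow]
  have h2 : Ideal.map ψ.1 ((maximalIdeal Λ).map (algebraMap Λ S.carrier)) ≤
      (maximalIdeal Λ).map (algebraMap Λ A) := by
    rw [Ideal.map_le_iff_le_comap, Ideal.map_le_iff_le_comap]
    intro l hl
    rw [Ideal.mem_comap, Ideal.mem_comap, ψ.1.commutes l]
    exact Ideal.mem_map_of_mem _ hl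
  exact sup_le_sup (Ideal.pow_right_mono (HomSet.map_maximalIdeal_le ψ) 2) h2

lemma relCot_le_map [IsLocalRing Λ]
    {S : CRing Λ k} {A : Art Λ k} (ψ : HomSet S.carrier S.res A) (hψ : Function.Surjective ψ.1) :
    maximalIdeal A ^ 2 ⊔ (maximalIdeal Λ).map (algebraMap Λ A) ≤
      Ideal.map ψ.1 (maximalIdeal S.carrier ^ 2 ⊔ (maximalIdeal Λ).map (algebraMap Λ S.carrier)) := by
  rw [Ideal.map_sup, Ideal.map_pow]
  have h1 : maximalIdeal A ≤ Ideal.map ψ.1 (maximalIdeal S.carrier) := by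
    intro r hr
    obtain ⟨s, rfl⟩ := hψ r
    apply Ideal.mem_map_of_mem
    rw [CRing.mem_maximalIdeal_iff]
    rw [Art.mem_maximalIdeal_iff] at hr
    rw [← hr]
    exact (DFunLike.congr_fun ψ.2 s).symm
  have h2 : (maximalIdeal Λ).map (algebraMap Λ A) ≤
      Ideal.map ψ.1 ((maximalIdeal Λ).map (algebraMap Λ S.carrier)) := by
    rw [Ideal.map_le_iff_le_comap]
    intro l hl
    rw [Ideal.mem_comap, ← ψ.1.commutes l]
    exact Ideal.mem_map_of_mem _ (Ideal.mem_map_of_mem _ hl)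
  exact sup_le_sup (Ideal.pow_right_mono h1 2) h2

variable [IsNoetherianRing Λ] [IsLocalRing Λ] [IsAdicComplete (maximalIdeal Λ) Λ]

theorem exists_smooth_min_pres (hk : Function.Surjective (algebraMap Λ k)) (R : Art Λ k) :
    ∃ (S : CRing Λ k) (π : HomSet S.carrier S.res R),
      IsSmoothFunctor (hR S.carrier S.res) ∧ Function.Surjective π.1 ∧
      RingHom.ker π.1 ≤ maximalIdeal S.carrier ^ 2 ⊔
        (maximalIdeal Λ).map (algebraMap Λ S.carrier) := by
  haveI : Module.Finite Λ k := Module.Finite.of_surjective (Algebra.linearMap Λ k) hk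
  obtain ⟨n, π, hπ, hker⟩ := exists_min_pres hk R
  exact ⟨psCRing (baseCRing hk) n, π,
    (isSmoothFunctor_hR_iff_powerSeries hk _).2 ⟨n, ⟨AlgEquiv.refl⟩⟩, hπ, hker⟩

theorem main12321 (hk : Function.Surjective (algebraMap Λ k))
    (F : Art Λ k ⥤ Type v) (hF : H0 F ∧ S1 F ∧ Heps F)
    (R : Art Λ k) (a : F.obj R)
    (hvers : ∀ (R₀ : Art Λ k), IsSmallExt (toBase R₀) →
      ∀ b : F.obj R₀, ∃ φ : R ⟶ R₀, F.map φ a = b) :
    ∃ (R' : Art Λ k) (q : R' ⟶ R) (a' : F.obj R'), F.map q a' = a ∧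
      IsSemismallExt q ∧
      (∀ x' : R', x' ∈ maximalIdeal (R' : Type u) →
        q x' ∈ (maximalIdeal (R : Type u)) ^ 2 ⊔ (maximalIdeal Λ).map (algebraMap Λ R) →
        x' ∈ (maximalIdeal (R' : Type u)) ^ 2 ⊔ (maximalIdeal Λ).map (algebraMap Λ R')) ∧
      ∀ (R₁ : Art Λ k) (π₁ : R₁ ⟶ R), IsSmallExt π₁ →
        ∀ a₁ : F.obj R₁, F.map π₁ a₁ = a → ∃ f : R' ⟶ R₁, f ≫ π₁ = q ∧ F.map f a' = a₁ := by
  haveI : Module.Finite Λ k := Module.Finite.of_surjective (Algebra.linearMap Λ k) hk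
  obtain ⟨S, π, hsm, hπ, hker⟩ := exists_smooth_min_pres hk R
  obtain ⟨R', π', hπ', q, a', hqπ, hqa, hmk, hUP⟩ := exists_next_stage' hF.2.1 π hπ a
  have hqπ' : ∀ s, q (π'.1 s) = π.1 s := fun s => DFunLike.congr_fun (congrArg Subtype.val hqπ) s
  have hqs : Function.Surjective q := by
    intro r
    obtain ⟨s, rfl⟩ := hπ r
    exact ⟨π'.1 s, hqπ' s⟩
  have hmem : ∀ {A : Art Λ k} (ψ : HomSet S.carrier S.res A) (s : S.carrier),
      ψ.1 s ∈ maximalIdeal A ↔ s ∈ maximalIdeal S.carrier := by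
    intro A ψ s
    rw [Art.mem_maximalIdeal_iff, CRing.mem_maximalIdeal_iff]
    have : A.res (ψ.1 s) = S.res s := DFunLike.congr_fun ψ.2 s
    rw [this]
  refine ⟨R', q, a', hqa, ⟨hqs, ?_⟩, ?_, ?_⟩
  · rw [eq_bot_iff, Ideal.mul_le]
    intro b hb c hc
    obtain ⟨s, rfl⟩ := hπ' b
    obtain ⟨t, rfl⟩ := hπ' c
    have hs := (hmem π' s).mp hb
    have ht : t ∈ RingHom.ker π.1 := by
      rw [RingHom.mem_ker, ← hqπ']
      exact hc
    rw [Ideal.mem_bot, ← map_mul]
    exact hmk (Ideal.mul_mem_mul hs ht)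
  · intro x' hx' hqx'
    obtain ⟨s, rfl⟩ := hπ' x'
    have h1 := relCot_le_map π hπ hqx'
    rw [hqπ'] at h1
    obtain ⟨e, he, hes⟩ := (Ideal.mem_map_iff_of_surjective (π.1 : S.carrier →+* R) hπ).mp h1
    have h2 : s - e ∈ RingHom.ker π.1 := by
      rw [RingHom.mem_ker, map_sub, sub_eq_zero]
      exact hes.symm
    have h3 : s ∈ maximalIdeal S.carrier ^ 2 ⊔ (maximalIdeal Λ).map (algebraMap Λ S.carrier) := by
      have := Ideal.add_mem _ (hker h2) he
      rwa [sub_add_cancel] at this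
    exact map_relCot_le hk π' (Ideal.mem_map_of_mem _ h3)
  · intro R₁ π₁ hπ₁ a₁ ha₁
    apply (ArtProlong.main12320 F hF π₁ hπ₁ q a a₁ a' ha₁ hqa hvers).mpr
    obtain ⟨σ₁, hσ₁⟩ := hsm π₁ hπ₁.1 π
    replace hσ₁ : HomSet.map π₁ σ₁ = π := hσ₁
    have hσπ : ∀ s, π₁ (σ₁.1 s) = π.1 s := fun s => DFunLike.congr_fun (congrArg Subtype.val hσ₁) s
    have hkill : ∀ u v : R₁, u ∈ maximalIdeal R₁ → v ∈ RingHom.ker π₁.toAlgHom → u * v = 0 := by
      intro u v hu hv
      have := Ideal.mul_mem_mul hu hv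
      rw [hπ₁.2.2.2] at this
      exact (Ideal.mem_bot).mp this
    by_cases hσs : Function.Surjective σ₁.1
    · obtain ⟨h, hh⟩ := hUP R₁ σ₁ hσs π₁ hσ₁ (by
        rw [Ideal.mul_le]
        intro u hu t ht
        rw [RingHom.mem_ker, map_mul]
        apply hkill _ _ ((hmem σ₁ u).mpr hu)
        rw [RingHom.mem_ker]
        change π₁ (σ₁.1 t) = 0
        rw [hσπ]
        exact ht) a₁ ha₁
      refine ⟨h, ?_⟩
      apply HomSet.hom_ext_of_surjective π' hπ'
      rw [HomSet.map_comp, hh, hσ₁, hqπ]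
    · have hkerle : RingHom.ker π.1 ≤ RingHom.ker σ₁.1 := by
        by_contra hnot
        apply hσs
        obtain ⟨t, ht, htn⟩ := SetLike.not_le_iff_exists.mp hnot
        rw [RingHom.mem_ker] at htn
        obtain ⟨⟨g, hg⟩⟩ := hπ₁.2.2.1
        have htk : σ₁.1 t ∈ RingHom.ker π₁.toAlgHom := by
          rw [RingHom.mem_ker]
          change π₁ (σ₁.1 t) = 0
          rw [hσπ]
          exact ht
        have htk' := htk
        rw [hg] at htk'
        obtain ⟨r, hr⟩ := Ideal.mem_span_singleton'.mp htk'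
        have hgk : g ∈ RingHom.ker π₁.toAlgHom := by
          rw [hg]
          exact Ideal.mem_span_singleton_self g
        have hru : IsUnit r := by
          by_contra hnu
          apply htn
          rw [← hr]
          exact hkill r g ((IsLocalRing.mem_maximalIdeal _).mpr hnu) hgk
        obtain ⟨ru, rfl⟩ := hru
        intro y
        obtain ⟨s, hs⟩ := hπ (π₁ y)
        have hy : y - σ₁.1 s ∈ RingHom.ker π₁.toAlgHom := by
          rw [RingHom.mem_ker]
          change π₁ (y - σ₁.1 s) = 0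
          rw [map_sub, hσπ, hs, sub_self]
        have hy' := hy
        rw [hg] at hy'
        obtain ⟨c, hc⟩ := Ideal.mem_span_singleton'.mp hy'
        set d := c * (↑ru⁻¹ : R₁) with hd
        have hdy : d * σ₁.1 t = y - σ₁.1 s := by
          rw [hd, ← hr, ← hc]
          rw [mul_assoc, ← mul_assoc (↑ru⁻¹ : R₁), Units.inv_mul, one_mul]
        obtain ⟨c', hc'⟩ := S.res_surjective (R₁.res d)
        have hdm : d - σ₁.1 c' ∈ maximalIdeal R₁ := by
          rw [Art.mem_maximalIdeal_iff, map_sub]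
          have : R₁.res (σ₁.1 c') = S.res c' := DFunLike.congr_fun σ₁.2 c'
          rw [this, hc', sub_self]
        have h0 := hkill _ _ hdm htk
        refine ⟨s + c' * t, ?_⟩
        rw [map_add, map_mul]
        have : σ₁.1 c' * σ₁.1 t = d * σ₁.1 t := by
          rw [sub_mul, sub_eq_zero] at h0
          exact h0.symm
        rw [this, hdy]
        ring
      obtain ⟨sec, hsec⟩ := HomSet.exists_factor_of_surjective π hπ σ₁ hkerle
      refine ⟨q ≫ sec, ?_⟩
      have : sec ≫ π₁ = 𝟙 R := by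
        apply HomSet.hom_ext_of_surjective π hπ
        rw [HomSet.map_comp, hsec, hσ₁, HomSet.map_id]
      rw [Category.assoc, this, Category.comp_id]

end Main

end Groth.Agent.Lib.helper19.SemiVersal
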