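import Mathlib
import Groth.Prelude.Def_Exal
import Groth.Agent.Lib.helper19.ExtLocal

/-! Vanishing of the relative obstruction space `Ex_Λ(R, k)` is equivalent to lifting along
small extensions of Artinian local rings. -/

set_option autoImplicit false
universe u

namespace Groth.Agent.Lib.helper19.SmallLift

open IsLocalRing Exal Groth.Agent.Lib.helper19.ExtLocal

variable {k : Type u} [Field k] {Λ : Type u} [CommRing Λ] [Algebra k Λ]

/-- the structure map from `k`. -/
def iota (S : Type u) [CommRing S] [Algebra Λ S] : k →+* S :=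
  (algebraMap Λ S).comp (algebraMap k Λ)

lemma iota_apply (S : Type u) [CommRing S] [Algebra Λ S] (c : k) :
    iota (Λ := Λ) S c = algebraMap Λ S (algebraMap k Λ c) := rfl

lemma algHom_iota {S T : Type u} [CommRing S] [Algebra Λ S] [CommRing T] [Algebra Λ T]
    (f : S →ₐ[Λ] T) (c : k) : f (iota (Λ := Λ) S c) = iota (Λ := Λ) T c := by
  rw [iota_apply, iota_apply, AlgHom.commutes]

lemma isUnit_iota (S : Type u) [CommRing S] [Algebra Λ S] [Nontrivial S] (c : k) (hc : c ≠ 0) :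
    IsUnit (iota (Λ := Λ) S c) :=
  (isUnit_iff_ne_zero.mpr hc).map (iota (Λ := Λ) S)

section Theta

variable {R : Type u} [CommRing R] [Algebra Λ R] [IsLocalRing R]
  (hR : ∀ r : R, ∃ c : k, r - algebraMap Λ R (algebraMap k Λ c) ∈ maximalIdeal R)

include hR in
lemma theta_bijective : Function.Bijective ((residue R).comp (iota (Λ := Λ) (k := k) R)) := by
  refine ⟨RingHom.injective _, ?_⟩
  intro z
  obtain ⟨r, rfl⟩ := residue_surjective z
  obtain ⟨c, hc⟩ := hR r
  refine ⟨c, ?_⟩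
  have := (residue_eq_zero_iff _).mpr hc
  rw [map_sub, sub_eq_zero] at this
  exact this.symm

/-- `k ≃ κ(R)`. -/
noncomputable def theta : k ≃+* ResidueField R :=
  RingEquiv.ofBijective ((residue R).comp (iota (Λ := Λ) (k := k) R)) (theta_bijective hR)

lemma theta_apply (c : k) : theta hR c = residue R (iota (Λ := Λ) R c) := rfl

lemma sub_iota_mem (r : R) : r - iota (Λ := Λ) R ((theta hR).symm (residue R r)) ∈ maximalIdeal R := by
  rw [← residue_eq_zero_iff, map_sub, sub_eq_zero, ← theta_apply hR, RingEquiv.apply_symm_apply]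

end Theta

section Pull

variable {R : Type u} [CommRing R] [Algebra Λ R] [IsLocalRing R]
  (hR : ∀ r : R, ∃ c : k, r - algebraMap Λ R (algebraMap k Λ c) ∈ maximalIdeal R)
  {B : Type u} [CommRing B] [Algebra Λ B] [IsLocalRing B]
  (hB : ∀ b : B, ∃ c : k, b - algebraMap Λ B (algebraMap k Λ c) ∈ maximalIdeal B)
  (t : B) (ht : t ∈ maximalIdeal B) (htm : ∀ b ∈ maximalIdeal B, b * t = 0)
  (φ : R →ₐ[Λ] B ⧸ Ideal.span {t})

/-- the fibre product `R ×_{B/t} B`. -/
def EE : Subalgebra Λ (R × B) :=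
  AlgHom.equalizer (φ.comp (AlgHom.fst Λ R B))
    ((Ideal.Quotient.mkₐ Λ (Ideal.span {t})).comp (AlgHom.snd Λ R B))

lemma mem_EE (x : R × B) : x ∈ EE t φ ↔ φ x.1 = Ideal.Quotient.mk (Ideal.span {t}) x.2 := Iff.rfl

lemma iota_mem (c : k) : (iota (Λ := Λ) R c, iota (Λ := Λ) B c) ∈ EE t φ := by
  rw [mem_EE]
  change φ (iota (Λ := Λ) R c) = Ideal.Quotient.mkₐ Λ (Ideal.span {t}) (iota (Λ := Λ) B c)
  rw [algHom_iota, algHom_iota]

include hB ht in
lemma snd_mem_of_fst_mem (x : R × B) (hx : x ∈ EE t φ) (hx1 : x.1 ∈ maximalIdeal R) :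
    x.2 ∈ maximalIdeal B := by
  obtain ⟨c, hc⟩ := hB x.2
  by_cases h0 : c = 0
  · subst h0
    simpa using hc
  · exfalso
    have hι : IsUnit (iota (Λ := Λ) R c) := isUnit_iota R c h0
    have hu : IsUnit (x.1 - iota (Λ := Λ) R c) := by
      by_contra hnu
      have h1 : x.1 - iota (Λ := Λ) R c ∈ maximalIdeal R := (mem_maximalIdeal _).mpr hnu
      have h2 := Submodule.sub_mem _ hx1 h1
      rw [sub_sub_cancel] at h2
      exact (mem_maximalIdeal _).mp h2 hι
    have hmem : (x.1 - iota (Λ := Λ) R c, x.2 - iota (Λ := Λ) B c) ∈ EE t φ :=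
      Subalgebra.sub_mem _ hx (iota_mem t φ c)
    rw [mem_EE] at hmem
    have hu2 : IsUnit (Ideal.Quotient.mk (Ideal.span {t}) (x.2 - iota (Λ := Λ) B c)) := by
      rw [← hmem]
      exact hu.map φ
    obtain ⟨v, hv⟩ := hu2.exists_right_inv
    obtain ⟨b', rfl⟩ := Ideal.Quotient.mk_surjective v
    rw [← map_mul, ← map_one (Ideal.Quotient.mk (Ideal.span {t})), Ideal.Quotient.eq] at hv
    have hle : Ideal.span {t} ≤ maximalIdeal B := (Ideal.span_singleton_le_iff_mem _).mpr ht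
    have h3 : (x.2 - iota (Λ := Λ) B c) * b' ∈ maximalIdeal B := Ideal.mul_mem_right _ _ hc
    have h4 := Submodule.sub_mem _ h3 (hle hv)
    rw [sub_sub_cancel] at h4
    exact (mem_maximalIdeal _).mp h4 isUnit_one

/-- the projection. -/
def projE : EE t φ →ₐ[Λ] R := (AlgHom.fst Λ R B).comp (EE t φ).val

lemma projE_apply (x : EE t φ) : projE t φ x = (x : R × B).1 := rfl

/-- the inclusion of the kernel. -/
noncomputable def inclE : ResidueField R →+ EE t φ where
  toFun z := ⟨(0, iota (Λ := Λ) B ((theta hR).symm z) * t), by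
    rw [mem_EE, map_zero]
    exact (Ideal.Quotient.eq_zero_iff_mem.mpr
      (Ideal.mul_mem_left _ _ (Ideal.mem_span_singleton_self t))).symm⟩
  map_zero' := Subtype.ext (by simp)
  map_add' z z' := Subtype.ext (by simp [add_mul])

lemma inclE_coe (z : ResidueField R) :
    ((inclE hR t φ z : EE t φ) : R × B) = (0, iota (Λ := Λ) B ((theta hR).symm z) * t) := rfl

include hB ht htm in
lemma isExtension (ht0 : t ≠ 0) : Exal.IsExtension (projE t φ) (inclE hR t φ) where
  proj_surjective := by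
    intro r
    obtain ⟨b, hb⟩ := Ideal.Quotient.mk_surjective (φ r)
    exact ⟨⟨(r, b), (mem_EE t φ _).mpr hb.symm⟩, rfl⟩
  incl_injective := by
    rw [injective_iff_map_eq_zero]
    intro z hz
    have h1 := congrArg (fun x : EE t φ => (x : R × B).2) hz
    simp only [inclE_coe] at h1
    change iota (Λ := Λ) B ((theta hR).symm z) * t = 0 at h1
    by_contra hne
    have hc : (theta hR).symm z ≠ 0 := fun h => hne (by
      have := congrArg (theta hR) h
      rwa [RingEquiv.apply_symm_apply, map_zero] at this)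
    exact ht0 ((isUnit_iota B _ hc).mul_right_eq_zero.mp h1)
  exact := by
    rintro ⟨⟨r, b⟩, hx⟩
    rw [projE_apply]
    constructor
    · intro hr
      change r = 0 at hr
      subst hr
      rw [mem_EE, map_zero] at hx
      have hb : b ∈ Ideal.span {t} := Ideal.Quotient.eq_zero_iff_mem.mp hx.symm
      obtain ⟨b', rfl⟩ := Ideal.mem_span_singleton'.mp hb
      obtain ⟨c, hc⟩ := hB b'
      refine ⟨theta hR c, Subtype.ext ?_⟩
      rw [inclE_coe, RingEquiv.symm_apply_apply]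
      refine Prod.ext rfl ?_
      change iota (Λ := Λ) B c * t = b' * t
      have := htm _ hc
      rw [sub_mul, sub_eq_zero] at this
      exact this.symm
    · rintro ⟨z, hz⟩
      have := congrArg (fun x : EE t φ => (x : R × B).1) hz
      exact this.symm
  mul_incl := by
    rintro ⟨⟨r, b⟩, hx⟩ z
    apply Subtype.ext
    rw [projE_apply]
    change (r, b) * ((inclE hR t φ z : EE t φ) : R × B) = ((inclE hR t φ (r • z) : EE t φ) : R × B)
    rw [inclE_coe, inclE_coe]
    refine Prod.ext (by simp) ?_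
    change b * (iota (Λ := Λ) B ((theta hR).symm z) * t) =
      iota (Λ := Λ) B ((theta hR).symm (r • z)) * t
    have hrz : r • z = residue R r * z := by
      rw [Algebra.smul_def]; rfl
    rw [hrz, map_mul, map_mul]
    set cr := (theta hR).symm (residue R r) with hcr
    have hmem : (r - iota (Λ := Λ) R cr, b - iota (Λ := Λ) B cr) ∈ EE t φ :=
      Subalgebra.sub_mem _ hx (iota_mem t φ cr)
    have h1 : b - iota (Λ := Λ) B cr ∈ maximalIdeal B :=
      snd_mem_of_fst_mem hB t ht φ _ hmem (sub_iota_mem hR r)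
    have h2 := htm _ h1
    rw [sub_mul, sub_eq_zero] at h2
    calc b * (iota (Λ := Λ) B ((theta hR).symm z) * t)
        = iota (Λ := Λ) B ((theta hR).symm z) * (b * t) := by ring
      _ = iota (Λ := Λ) B ((theta hR).symm z) * (iota (Λ := Λ) B cr * t) := by rw [h2]
      _ = iota (Λ := Λ) B cr * iota (Λ := Λ) B ((theta hR).symm z) * t := by ring

/-- the pulled-back extension. -/
noncomputable def pullExt (ht0 : t ≠ 0) : Exal.Ext Λ R (ResidueField R) where
  E := EE t φ
  proj := projE t φ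
  incl := inclE hR t φ
  isExtension := isExtension hR hB t ht htm φ ht0

include hR hB ht htm in
/-- (a) ⇒ (b). -/
theorem lift_of_trivial (hT : ∀ X : Exal.Ext Λ R (ResidueField R), X.IsTrivial) :
    ∃ φ' : R →ₐ[Λ] B, (Ideal.Quotient.mkₐ Λ (Ideal.span {t})).comp φ' = φ := by
  by_cases ht0 : t = 0
  · subst ht0
    have hbij : Function.Bijective (Ideal.Quotient.mkₐ Λ (Ideal.span {(0 : B)})) := by
      refine ⟨?_, Ideal.Quotient.mk_surjective⟩
      rw [injective_iff_map_eq_zero]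
      intro b hb
      have := Ideal.Quotient.eq_zero_iff_mem.mp hb
      rwa [Ideal.span_singleton_zero, Ideal.mem_bot] at this
    let e := AlgEquiv.ofBijective _ hbij
    refine ⟨e.symm.toAlgHom.comp φ, ?_⟩
    ext r
    exact e.apply_symm_apply (φ r)
  · obtain ⟨s, hs⟩ := hT (pullExt hR hB t ht htm φ ht0)
    let s' : R →ₐ[Λ] EE t φ := s
    have hs' : ∀ r, ((s' r : EE t φ) : R × B).1 = r := hs
    refine ⟨(AlgHom.snd Λ R B).comp ((EE t φ).val.comp s'), ?_⟩
    ext r
    have hmem := (s' r).2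
    rw [mem_EE, hs' r] at hmem
    exact hmem.symm

end Pull

section Split

variable {R : Type u} [CommRing R] [Algebra Λ R] [IsLocalRing R] [IsNoetherianRing R]
  (hR : ∀ r : R, ∃ c : k, r - algebraMap Λ R (algebraMap k Λ c) ∈ maximalIdeal R)
  (X : Exal.Ext Λ R (ResidueField R))

section Quot

variable (I : Ideal X.E) (hI : I ≤ maximalIdeal X.E)

include hI in
lemma nontrivial_quot : Nontrivial (X.E ⧸ I) :=
  Ideal.Quotient.nontrivial_iff.mpr (fun h => Ideal.IsPrime.ne_top' (le_antisymm le_top (h ▸ hI)))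

include hI in
lemma isLocalRing_quot : IsLocalRing (X.E ⧸ I) :=
  haveI := nontrivial_quot X I hI
  IsLocalRing.of_surjective' (Ideal.Quotient.mk I) Ideal.Quotient.mk_surjective

variable [IsLocalRing (X.E ⧸ I)]

lemma mk_mem_maximalIdeal (e : X.E) (he : e ∈ maximalIdeal X.E) :
    Ideal.Quotient.mk I e ∈ maximalIdeal (X.E ⧸ I) := by
  rw [← map_maximalIdeal_of_surjective (Ideal.Quotient.mk I) Ideal.Quotient.mk_surjective]
  exact Ideal.mem_map_of_mem _ he

lemma exists_mk_eq_of_mem (b : X.E ⧸ I) (hb : b ∈ maximalIdeal (X.E ⧸ I)) :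
    ∃ e ∈ maximalIdeal X.E, Ideal.Quotient.mk I e = b := by
  rw [← map_maximalIdeal_of_surjective (Ideal.Quotient.mk I) Ideal.Quotient.mk_surjective] at hb
  exact (Ideal.mem_map_iff_of_surjective _ Ideal.Quotient.mk_surjective).mp hb

include hR in
lemma hB_quot (b : X.E ⧸ I) : ∃ c : k,
    b - algebraMap Λ (X.E ⧸ I) (algebraMap k Λ c) ∈ maximalIdeal (X.E ⧸ I) := by
  obtain ⟨e, rfl⟩ := Ideal.Quotient.mk_surjective b
  obtain ⟨c, hc⟩ := hR (X.proj e)
  refine ⟨c, ?_⟩
  have h1 : e - algebraMap Λ X.E (algebraMap k Λ c) ∈ maximalIdeal X.E := by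
    rw [mem_maximalIdeal_iff, map_sub, AlgHom.commutes]
    exact hc
  have h2 := mk_mem_maximalIdeal X I _ h1
  rw [map_sub] at h2
  exact h2

lemma t_mem : Ideal.Quotient.mk I (X.incl 1) ∈ maximalIdeal (X.E ⧸ I) :=
  mk_mem_maximalIdeal X I _ (incl_mem_maximalIdeal X 1)

lemma mul_t (b : X.E ⧸ I) (hb : b ∈ maximalIdeal (X.E ⧸ I)) :
    b * Ideal.Quotient.mk I (X.incl 1) = 0 := by
  obtain ⟨e, he, rfl⟩ := exists_mk_eq_of_mem X I b hb
  rw [← map_mul, mul_incl_eq_zero X e he, map_zero]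

/-- the map `R → (E/I)/t`. -/
noncomputable def phi : R →ₐ[Λ] (X.E ⧸ I) ⧸ Ideal.span {Ideal.Quotient.mk I (X.incl 1)} :=
  AlgHom.liftOfSurjective X.proj X.isExtension.proj_surjective
    ((Ideal.Quotient.mkₐ Λ (Ideal.span {Ideal.Quotient.mk I (X.incl 1)})).comp
      (Ideal.Quotient.mkₐ Λ I)) (by
    intro x hx
    have hx' : x ∈ RingHom.ker X.proj := hx
    rw [ker_eq_span] at hx'
    obtain ⟨y, rfl⟩ := Ideal.mem_span_singleton'.mp hx'
    rw [RingHom.mem_ker]
    change Ideal.Quotient.mk (Ideal.span {Ideal.Quotient.mk I (X.incl 1)})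
      (Ideal.Quotient.mk I (y * X.incl 1)) = 0
    rw [map_mul]
    exact Ideal.Quotient.eq_zero_iff_mem.mpr
      (Ideal.mul_mem_left _ _ (Ideal.mem_span_singleton_self _)))

lemma phi_proj (e : X.E) :
    phi X I (X.proj e) = Ideal.Quotient.mk (Ideal.span {Ideal.Quotient.mk I (X.incl 1)})
      (Ideal.Quotient.mk I e) := by
  unfold phi
  rw [AlgHom.liftOfSurjective_apply]
  rfl

variable (hIK : I ⊓ RingHom.ker X.proj = ⊥)
  (φ' : R →ₐ[Λ] X.E ⧸ I)
  (hφ' : (Ideal.Quotient.mkₐ Λ (Ideal.span {Ideal.Quotient.mk I (X.incl 1)})).comp φ' = phi X I)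

include hφ' in
lemma exists_sec (r : R) : ∃ e : X.E, X.proj e = r ∧ Ideal.Quotient.mk I e = φ' r := by
  obtain ⟨e', rfl⟩ := X.isExtension.proj_surjective r
  have h1 : Ideal.Quotient.mk (Ideal.span {Ideal.Quotient.mk I (X.incl 1)})
      (Ideal.Quotient.mk I e') =
      Ideal.Quotient.mk (Ideal.span {Ideal.Quotient.mk I (X.incl 1)}) (φ' (X.proj e')) := by
    rw [← phi_proj, ← hφ']
    rfl
  rw [Ideal.Quotient.eq] at h1
  obtain ⟨b', hb'⟩ := Ideal.mem_span_singleton'.mp h1
  obtain ⟨e'', rfl⟩ := Ideal.Quotient.mk_surjective b'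
  refine ⟨e' - e'' * X.incl 1, ?_, ?_⟩
  · rw [map_sub, map_mul, ExtLocal.proj_incl, mul_zero, sub_zero]
  · rw [map_sub, map_mul, hb']
    ring

include hIK in
lemma sec_unique (e₁ e₂ : X.E) (h1 : X.proj e₁ = X.proj e₂)
    (h2 : Ideal.Quotient.mk I e₁ = Ideal.Quotient.mk I e₂) : e₁ = e₂ := by
  have hmem : e₁ - e₂ ∈ I ⊓ RingHom.ker X.proj := by
    refine ⟨Ideal.Quotient.eq.mp h2, ?_⟩
    change e₁ - e₂ ∈ RingHom.ker X.proj
    rw [RingHom.mem_ker, map_sub, h1, sub_self]
  rw [hIK, Ideal.mem_bot, sub_eq_zero] at hmem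
  exact hmem

/-- the section, as a function. -/
noncomputable def secFun (r : R) : X.E := Classical.choose (exists_sec X I φ' hφ' r)

lemma proj_secFun (r : R) : X.proj (secFun X I φ' hφ' r) = r :=
  (Classical.choose_spec (exists_sec X I φ' hφ' r)).1

lemma mk_secFun (r : R) : Ideal.Quotient.mk I (secFun X I φ' hφ' r) = φ' r :=
  (Classical.choose_spec (exists_sec X I φ' hφ' r)).2

include hIK in
lemma secFun_eq (r : R) (e : X.E) (h1 : X.proj e = r) (h2 : Ideal.Quotient.mk I e = φ' r) :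
    secFun X I φ' hφ' r = e :=
  sec_unique X I hIK _ _ ((proj_secFun X I φ' hφ' r).trans h1.symm)
    ((mk_secFun X I φ' hφ' r).trans h2.symm)

/-- the section. -/
noncomputable def sec : R →ₐ[Λ] X.E where
  toFun := secFun X I φ' hφ'
  map_one' := secFun_eq X I hIK φ' hφ' 1 1 (map_one _) (by rw [map_one, map_one])
  map_mul' r r' := secFun_eq X I hIK φ' hφ' _ _
    (by rw [map_mul, proj_secFun, proj_secFun])
    (by rw [map_mul, mk_secFun, mk_secFun, map_mul])
  map_zero' := secFun_eq X I hIK φ' hφ' 0 0 (map_zero _) (by rw [map_zero, map_zero])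
  map_add' r r' := secFun_eq X I hIK φ' hφ' _ _
    (by rw [map_add, proj_secFun, proj_secFun])
    (by rw [map_add, mk_secFun, mk_secFun, map_add])
  commutes' a := secFun_eq X I hIK φ' hφ' _ _ (AlgHom.commutes _ _) (by
    rw [AlgHom.commutes]
    rfl)

lemma proj_sec (r : R) : X.proj (sec X I hIK φ' hφ' r) = r := proj_secFun X I φ' hφ' r

end Quot

include hR in
/-- (b) ⇒ (a). -/
theorem trivial_of_lift
    (hb : ∀ (B : Type u) [CommRing B] [Algebra Λ B] [IsLocalRing B] [IsArtinianRing B],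
      (∀ b : B, ∃ c : k, b - algebraMap Λ B (algebraMap k Λ c) ∈ maximalIdeal B) →
      ∀ t : B, t ∈ maximalIdeal B → (∀ b ∈ maximalIdeal B, b * t = 0) →
      ∀ φ : R →ₐ[Λ] B ⧸ Ideal.span {t},
        ∃ φ' : R →ₐ[Λ] B, (Ideal.Quotient.mkₐ Λ (Ideal.span {t})).comp φ' = φ) :
    X.IsTrivial := by
  obtain ⟨N, hN1, hN⟩ := exists_pow_inf_ker_eq_bot X
  have hI : maximalIdeal X.E ^ N ≤ maximalIdeal X.E :=
    Ideal.pow_le_self (Nat.one_le_iff_ne_zero.mp hN1)
  haveI := isLocalRing_quot X _ hI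
  haveI := isNoetherianRing_E X
  haveI : IsArtinianRing (X.E ⧸ maximalIdeal X.E ^ N) := by
    rw [isArtinianRing_iff_isNilpotent_maximalIdeal]
    refine ⟨N, ?_⟩
    rw [← map_maximalIdeal_of_surjective (Ideal.Quotient.mk (maximalIdeal X.E ^ N))
      Ideal.Quotient.mk_surjective, ← Ideal.map_pow, Ideal.map_quotient_self]
    rfl
  obtain ⟨φ', hφ'⟩ := hb (X.E ⧸ maximalIdeal X.E ^ N) (hB_quot hR X _)
    (Ideal.Quotient.mk _ (X.incl 1)) (t_mem X _) (mul_t X _) (phi X _)
  exact ⟨sec X _ hN φ' hφ', proj_sec X _ hN φ' hφ'⟩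

end Split

end Groth.Agent.Lib.helper19.SmallLift
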