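import Mathlib

/-! # Standard étale chart: `Spec T → Spec (R[t]/p)[1/p']` open immersion for standard étale `T`. -/

set_option autoImplicit false
universe u
open CategoryTheory AlgebraicGeometry Polynomial

namespace Groth.Agent.Lib.helper19.StdEtaleChart

theorem alg_chart {R T : Type u} [CommRing R] [CommRing T] [Algebra R T]
    [Algebra.IsStandardEtale R T] :
    ∃ (p : Polynomial R) (_ : p.Monic)
      (ψ : Localization.Away (AdjoinRoot.mk p (Polynomial.derivative p)) →+* T),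
      IsOpenImmersion (Spec.map (CommRingCat.ofHom ψ)) ∧
        ψ.comp (algebraMap R (Localization.Away (AdjoinRoot.mk p (Polynomial.derivative p))))
          = algebraMap R T := by
  obtain ⟨P⟩ := Algebra.IsStandardEtale.nonempty_standardEtalePresentation (R := R) (S := T)
  obtain ⟨p₁, p₂, n, hcond⟩ := P.cond
  set a : AdjoinRoot P.f := AdjoinRoot.mk P.f (derivative P.f) with ha
  set b : AdjoinRoot P.f := AdjoinRoot.mk P.f P.g with hb
  have hab : a * AdjoinRoot.mk P.f p₁ = b ^ n := by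
    have := congrArg (AdjoinRoot.mk P.f) hcond
    simpa [ha, hb] using this
  have hu : IsUnit (algebraMap (AdjoinRoot P.f) (Localization.Away b) a) := by
    have h1 : IsUnit (algebraMap (AdjoinRoot P.f) (Localization.Away b) (b ^ n)) := by
      rw [map_pow]
      exact (IsLocalization.Away.algebraMap_isUnit b).pow n
    rw [← hab, map_mul] at h1
    exact isUnit_of_mul_isUnit_left h1
  let lft : Localization.Away a →+* Localization.Away b := IsLocalization.Away.lift a hu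
  have hlft : lft.comp (algebraMap (AdjoinRoot P.f) (Localization.Away a)) =
      algebraMap (AdjoinRoot P.f) (Localization.Away b) :=
    IsLocalization.Away.lift_comp a hu
  let ε : Localization.Away b ≃ₐ[R] T := (P.equivRing.trans P.P.equivAwayAdjoinRoot).symm
  refine ⟨P.f, P.monic_f, (ε : Localization.Away b →+* T).comp lft, ?_, ?_⟩
  · have h1 : Spec.map (CommRingCat.ofHom ((ε : Localization.Away b →+* T).comp lft)) =
        Spec.map (CommRingCat.ofHom (ε : Localization.Away b →+* T)) ≫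
          Spec.map (CommRingCat.ofHom lft) := by
      rw [← Spec.map_comp]; rfl
    rw [h1]
    haveI : IsIso (Spec.map (CommRingCat.ofHom (ε : Localization.Away b →+* T))) := by
      have : IsIso (CommRingCat.ofHom (ε : Localization.Away b →+* T)) :=
        (ε.toRingEquiv.toCommRingCatIso).isIso_hom
      infer_instance
    haveI : IsOpenImmersion (Spec.map (CommRingCat.ofHom lft)) := by
      have h2 : Spec.map (CommRingCat.ofHom lft) ≫
          Spec.map (CommRingCat.ofHom (algebraMap (AdjoinRoot P.f) (Localization.Away a))) =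
          Spec.map (CommRingCat.ofHom (algebraMap (AdjoinRoot P.f) (Localization.Away b))) := by
        rw [← Spec.map_comp, ← CommRingCat.ofHom_comp, hlft]
      haveI : IsOpenImmersion (Spec.map (CommRingCat.ofHom lft) ≫
          Spec.map (CommRingCat.ofHom (algebraMap (AdjoinRoot P.f) (Localization.Away a)))) := by
        rw [h2]; infer_instance
      exact IsOpenImmersion.of_comp _
        (Spec.map (CommRingCat.ofHom (algebraMap (AdjoinRoot P.f) (Localization.Away a))))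
    infer_instance
  · ext r
    simp only [RingHom.comp_apply]
    rw [IsScalarTower.algebraMap_apply R (AdjoinRoot P.f) (Localization.Away a)]
    have := congrArg (fun h => h (algebraMap R (AdjoinRoot P.f) r)) hlft
    simp only [RingHom.comp_apply] at this
    rw [this, ← IsScalarTower.algebraMap_apply R (AdjoinRoot P.f) (Localization.Away b)]
    exact ε.commutes r


theorem main {X Y : Scheme.{u}} (φ : X ⟶ Y) (x : X)
    (V : Y.Opens) (hV : IsAffineOpen V) (hxV : φ.base x ∈ V)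
    (hφ : ∃ W : X.Opens, x ∈ W ∧ Etale (W.ι ≫ φ)) :
    ∃ (U : X.Opens) (hU : IsAffineOpen U) (_ : x ∈ U) (e : U ≤ φ ⁻¹ᵁ V)
      (p : Polynomial Γ(Y, V)) (_ : p.Monic)
      (j : U.toScheme ⟶ Spec (CommRingCat.of (Localization.Away (AdjoinRoot.mk p (Polynomial.derivative p))))),
      IsOpenImmersion j ∧
        j ≫ Spec.map (CommRingCat.ofHom
            (algebraMap Γ(Y, V) (Localization.Away (AdjoinRoot.mk p (Polynomial.derivative p))))) =
          hU.isoSpec.hom ≫ Spec.map (φ.appLE V U e) := by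
  obtain ⟨W, hxW, hW⟩ := hφ
  obtain ⟨_, ⟨U₀, hU₀, rfl⟩, hxU₀, hU₀le⟩ :=
    X.isBasis_affineOpens.exists_subset_of_mem_open
      (show x ∈ ((W ⊓ φ ⁻¹ᵁ V : X.Opens) : Set X) from ⟨hxW, hxV⟩) (W ⊓ φ ⁻¹ᵁ V).isOpen
  have hU₀W : U₀ ≤ W := fun y hy => (hU₀le hy).1
  have e₀ : U₀ ≤ φ ⁻¹ᵁ V := fun y hy => (hU₀le hy).2
  have hét : (φ.appLE V U₀ e₀).hom.Etale := by
    have hW' : IsAffineOpen (W.ι ⁻¹ᵁ U₀) :=
      hU₀.preimage_of_isOpenImmersion W.ι (by rw [Scheme.Opens.opensRange_ι]; exact hU₀W)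
    have e' : W.ι ⁻¹ᵁ U₀ ≤ (W.ι ≫ φ) ⁻¹ᵁ V := fun y hy => e₀ hy
    have h1 : ((W.ι ≫ φ).appLE V (W.ι ⁻¹ᵁ U₀) e').hom.Etale :=
      HasRingHomProperty.appLE (P := @Etale) (W.ι ≫ φ) hW ⟨V, hV⟩ ⟨W.ι ⁻¹ᵁ U₀, hW'⟩ e'
    have h2 : (W.ι ≫ φ).appLE V (W.ι ⁻¹ᵁ U₀) e' =
        φ.appLE V U₀ e₀ ≫ W.ι.appLE U₀ (W.ι ⁻¹ᵁ U₀) le_rfl :=
      (Scheme.Hom.appLE_comp_appLE W.ι φ V U₀ (W.ι ⁻¹ᵁ U₀) e₀ le_rfl).symm
    rw [h2] at h1
    haveI : IsIso (W.ι.appLE U₀ (W.ι ⁻¹ᵁ U₀) le_rfl) := by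
      rw [Scheme.Opens.ι_appLE]
      have heq : W.ι ''ᵁ (W.ι ⁻¹ᵁ U₀) = U₀ := by
        rw [Scheme.Hom.image_preimage_eq_opensRange_inf, Scheme.Opens.opensRange_ι]
        exact inf_eq_right.mpr hU₀W
      have hle : W.ι ''ᵁ (W.ι ⁻¹ᵁ U₀) ≤ U₀ := heq.le
      have : IsIso (homOfLE hle) :=
        ⟨homOfLE heq.ge, Subsingleton.elim _ _, Subsingleton.elim _ _⟩
      exact inferInstanceAs (IsIso (X.presheaf.map (homOfLE hle).op))
    exact (RingHom.Etale.respectsIso.cancel_right_isIso _ _).mp h1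
  letI : Algebra Γ(Y, V) Γ(X, U₀) := (φ.appLE V U₀ e₀).hom.toAlgebra
  haveI : Algebra.Etale Γ(Y, V) Γ(X, U₀) := hét
  let Q : Ideal Γ(X, U₀) := (hU₀.primeIdealOf ⟨x, hxU₀⟩).asIdeal
  haveI : Q.IsPrime := (hU₀.primeIdealOf ⟨x, hxU₀⟩).isPrime
  haveI : Algebra.FormallyEtale Γ(X, U₀) (Localization.AtPrime Q) :=
    Algebra.FormallyEtale.of_isLocalization Q.primeCompl
  haveI : Algebra.IsEtaleAt Γ(Y, V) Q :=
    Algebra.FormallyEtale.comp Γ(Y, V) Γ(X, U₀) (Localization.AtPrime Q)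
  obtain ⟨f, hfQ, hstd⟩ := Algebra.IsEtaleAt.exists_isStandardEtale (R := Γ(Y, V)) Q
  have hxU : x ∈ X.basicOpen f := by
    have h1 : hU₀.fromSpec (hU₀.primeIdealOf ⟨x, hxU₀⟩) = x :=
      hU₀.fromSpec_primeIdealOf ⟨x, hxU₀⟩
    have h2 : hU₀.primeIdealOf ⟨x, hxU₀⟩ ∈ hU₀.fromSpec ⁻¹ᵁ X.basicOpen f := by
      rw [hU₀.fromSpec_preimage_basicOpen]; exact hfQ
    rw [← h1]; exact h2
  have e : X.basicOpen f ≤ φ ⁻¹ᵁ V := (X.basicOpen_le f).trans e₀
  obtain ⟨p, hp, ψ, hψ, hcomm⟩ := alg_chart (R := Γ(Y, V)) (T := Localization.Away f)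
  haveI := hU₀.isLocalization_basicOpen f
  let ι : Localization.Away f ≃ₐ[Γ(X, U₀)] Γ(X, X.basicOpen f) :=
    IsLocalization.algEquiv (Submonoid.powers f) _ _
  refine ⟨X.basicOpen f, hU₀.basicOpen f, hxU, e, p, hp,
    (hU₀.basicOpen f).isoSpec.hom ≫ Spec.map (CommRingCat.ofHom
      ((ι : Localization.Away f →+* Γ(X, X.basicOpen f)).comp ψ)), ?_, ?_⟩
  · have h1 : Spec.map (CommRingCat.ofHom
        ((ι : Localization.Away f →+* Γ(X, X.basicOpen f)).comp ψ)) =
        Spec.map (CommRingCat.ofHom (ι : Localization.Away f →+* Γ(X, X.basicOpen f))) ≫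
          Spec.map (CommRingCat.ofHom ψ) := by
      rw [← Spec.map_comp]; rfl
    rw [h1]
    haveI : IsIso (Spec.map (CommRingCat.ofHom
        (ι : Localization.Away f →+* Γ(X, X.basicOpen f)))) := by
      have : IsIso (CommRingCat.ofHom (ι : Localization.Away f →+* Γ(X, X.basicOpen f))) :=
        (ι.toRingEquiv.toCommRingCatIso).isIso_hom
      infer_instance
    infer_instance
  · rw [Category.assoc, ← Spec.map_comp]
    congr 2
    ext r
    show ι (ψ (algebraMap _ _ r)) = φ.appLE V (X.basicOpen f) e r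
    have h3 := congrArg (fun h => h r) hcomm
    simp only [RingHom.comp_apply] at h3
    rw [h3, IsScalarTower.algebraMap_apply Γ(Y, V) Γ(X, U₀) (Localization.Away f), ι.commutes]
    have h4 := Scheme.Hom.appLE_map φ e₀ (homOfLE (X.basicOpen_le f)).op
    exact congrArg (fun h => h.hom r) h4

end Groth.Agent.Lib.helper19.StdEtaleChart
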