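import Mathlib

open MvPolynomial TensorProduct

namespace Groth.Agent.Lib.helper19.StdSmoothEmb

universe u

theorem mvPolynomial_stdSmooth (A : Type u) [CommRing A] (r : ℕ) :
    Algebra.IsStandardSmoothOfRelativeDimension r A (MvPolynomial (Fin r) A) := by
  let v : PEmpty.{1} → MvPolynomial (Fin r) A := PEmpty.elim
  let a : PEmpty.{1} → Fin r := PEmpty.elim
  have ha : Function.Injective a := fun x => x.elim
  let Q := Algebra.PreSubmersivePresentation.naive (R := A) (v := v) a ha
  have hjac : IsUnit Q.jacobian := by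
    rw [Algebra.PreSubmersivePresentation.jacobian_eq_jacobiMatrix_det]
    simp
  let Q' : Algebra.SubmersivePresentation A _ (Fin r) PEmpty.{1} :=
    { Q with jacobian_isUnit := hjac }
  have hbot : Ideal.span (Set.range v) = ⊥ := by
    have : Set.range v = ∅ := Set.range_eq_empty v
    rw [this, Ideal.span_empty]
  let e : (MvPolynomial (Fin r) A ⧸ Ideal.span (Set.range v)) ≃ₐ[A] MvPolynomial (Fin r) A :=
    (Ideal.quotientEquivAlgOfEq A hbot).trans (AlgEquiv.quotientBot A _)
  have h1 : Algebra.IsStandardSmoothOfRelativeDimension r A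
      (MvPolynomial (Fin r) A ⧸ Ideal.span (Set.range v)) :=
    Q'.isStandardSmoothOfRelativeDimension (n := r) (by simp [Algebra.Presentation.dimension])
  exact Algebra.IsStandardSmoothOfRelativeDimension.of_algEquiv r e

theorem stdEtale_stdSmooth {R : Type u} [CommRing R] (P : StandardEtalePair R) :
    Algebra.IsStandardSmoothOfRelativeDimension 0 R P.Ring := by
  have h : Algebra.IsStandardEtale R P.Ring := inferInstance
  obtain ⟨Q⟩ := h.nonempty_standardEtalePresentation
  exact Q.toSubmersivePresentation.isStandardSmoothOfRelativeDimension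
    (by simp [Algebra.Presentation.dimension])

theorem span_tmul_D (A B : Type u) [CommRing A] [CommRing B] [Algebra A B]
    (q : Ideal B) [q.IsPrime] :
    ⊤ ≤ Submodule.span q.ResidueField
      (Set.range fun b : B => (1 : q.ResidueField) ⊗ₜ[B] KaehlerDifferential.D A B b) := by
  have h1 := Submodule.baseChange_span (R := B) (A := q.ResidueField)
    (Set.range (KaehlerDifferential.D A B))
  rw [KaehlerDifferential.span_range_derivation, Submodule.baseChange_top] at h1
  rw [h1]
  apply Submodule.span_mono
  rintro _ ⟨_, ⟨b, rfl⟩, rfl⟩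
  exact ⟨b, rfl⟩

theorem main (A B : Type u) [CommRing A] [CommRing B] [Algebra A B] [Algebra.FiniteType A B]
    (q : Ideal B) [q.IsPrime] (r : ℕ)
    (hr : Module.finrank q.ResidueField (q.ResidueField ⊗[B] Ω[B⁄A]) = r) :
    ∃ g : B, g ∉ q ∧ ∃ (D : Type u) (_ : CommRing D) (_ : Algebra A D),
      Algebra.IsStandardSmoothOfRelativeDimension r A D ∧
        ∃ φ : D →ₐ[A] Localization.Away g, Function.Surjective φ := by
  classical
  have hS := span_tmul_D A B q
  obtain ⟨ι, bas, hbas⟩ : ∃ (ι : Type u) (bas : Module.Basis ι q.ResidueField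
      (q.ResidueField ⊗[B] Ω[B⁄A])), ∀ i, bas i ∈
      (Set.range fun b : B => (1 : q.ResidueField) ⊗ₜ[B] KaehlerDifferential.D A B b) :=
    ⟨_, Module.Basis.ofSpan hS, fun i => Module.Basis.ofSpan_subset hS ⟨i, rfl⟩⟩
  letI : Fintype ι := FiniteDimensional.fintypeBasisIndex bas
  have hcard : Fintype.card ι = r := by rw [← Module.finrank_eq_card_basis bas, hr]
  let e : Fin r ≃ ι := (Fintype.equivFinOfCardEq hcard).symm
  choose b hb using fun i : Fin r => hbas (e i)
  -- the polynomial algebra structure
  letI algPB : Algebra (MvPolynomial (Fin r) A) B := (MvPolynomial.aeval b).toAlgebra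
  haveI : IsScalarTower A (MvPolynomial (Fin r) A) B :=
    IsScalarTower.of_algebraMap_eq' (MvPolynomial.aeval b).comp_algebraMap.symm
  haveI : Algebra.FiniteType (MvPolynomial (Fin r) A) B :=
    Algebra.FiniteType.of_restrictScalars_finiteType A (MvPolynomial (Fin r) A) B
  have halg : ∀ i, algebraMap (MvPolynomial (Fin r) A) B (X i) = b i := fun i => by
    rw [RingHom.algebraMap_toAlgebra]
    simp
  -- unramified at q
  haveI : Algebra.IsUnramifiedAt (MvPolynomial (Fin r) A) q := by
    have hmem : (⟨q, inferInstance⟩ : PrimeSpectrum B) ∈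
        Algebra.unramifiedLocus (MvPolynomial (Fin r) A) B := by
      rw [Algebra.unramifiedLocus_eq_compl_support, Set.mem_compl_iff,
        Module.mem_support_iff_nontrivial_residueField_tensorProduct,
        not_nontrivial_iff_subsingleton]
      let m : Ω[B⁄A] →ₗ[B] Ω[B⁄MvPolynomial (Fin r) A] :=
        KaehlerDifferential.map A (MvPolynomial (Fin r) A) B B
      have hm : Function.Surjective m := KaehlerDifferential.map_surjective A _ B
      let T := m.baseChange q.ResidueField
      have hT : Function.Surjective T := LinearMap.lTensor_surjective _ hm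
      have hT0 : T = 0 := by
        apply bas.ext
        intro i
        obtain ⟨j, rfl⟩ := e.surjective i
        rw [← hb j]
        simp only [T, LinearMap.baseChange_tmul, LinearMap.zero_apply, m,
          KaehlerDifferential.map_D]
        rw [← halg j]
        simp
      refine ⟨fun x y => ?_⟩
      obtain ⟨x', rfl⟩ := hT x
      obtain ⟨y', rfl⟩ := hT y
      rw [hT0]
      rfl
    exact hmem
  obtain ⟨g, hgq, Pr, φ, hφ⟩ :=
    Algebra.IsUnramifiedAt.exists_hasStandardEtaleSurjectionOn (R := MvPolynomial (Fin r) A) q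
  letI algAD : Algebra A Pr.Ring :=
    ((algebraMap (MvPolynomial (Fin r) A) Pr.Ring).comp (algebraMap A _)).toAlgebra
  haveI : IsScalarTower A (MvPolynomial (Fin r) A) Pr.Ring := IsScalarTower.of_algebraMap_eq' rfl
  haveI := mvPolynomial_stdSmooth A r
  haveI := stdEtale_stdSmooth Pr
  refine ⟨g, hgq, Pr.Ring, inferInstance, algAD, ?_, φ.restrictScalars A, hφ⟩
  have := Algebra.IsStandardSmoothOfRelativeDimension.trans r 0 A (MvPolynomial (Fin r) A) Pr.Ring
  rwa [zero_add] at this

end Groth.Agent.Lib.helper19.StdSmoothEmb
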