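import Mathlib
import Groth.Prelude.Def_CotT
import Groth.Prelude.Def_CotT2
import Groth.Agent.Lib.helper19.CotTSeq
import Groth.Agent.Lib.helper19.CotTIndep
import Groth.Agent.Lib.helper19.JacLocal

/-! `T¹(B/A, -)` is killed by a power of `t` iff `B` is smooth over `A` away from `V(t)` (S12305). -/

set_option autoImplicit false
universe u

open TensorProduct

namespace Groth.Agent.Lib.helper19.T1Smooth

-- this instance of `JacLocal` makes failing `FormallySmooth` searches run to the heartbeat limit
attribute [-instance] Groth.Agent.Lib.helper19.JacLocal.instFormallySmoothRingExt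

section Forward

variable {A B : Type u} [CommRing A] [CommRing B] [Algebra A B]

/-- linear algebra core: from a uniform annihilator of `ker d` and an almost-section of `π`, get an
almost-retraction of `d`. -/
lemma exists_almost_retraction {N L Ω : Type*} [AddCommGroup N] [Module B N] [AddCommGroup L]
    [Module B L] [Module.Projective B L] [AddCommGroup Ω] [Module B Ω]
    (d : N →ₗ[B] L) (π : L →ₗ[B] Ω) (hex : Function.Exact d π)
    (t : B) (k₁ k₂ : ℕ) (h1 : ∀ x : N, d x = 0 → t ^ k₁ • x = 0)
    (u : Ω →ₗ[B] L) (hu : π ∘ₗ u = t ^ k₂ • LinearMap.id) :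
    ∃ ψ : L →ₗ[B] N, ψ ∘ₗ d = t ^ (k₁ + k₂) • LinearMap.id := by
  -- ρ : L → range d
  let ρ₀ : L →ₗ[B] L := t ^ k₂ • LinearMap.id - u ∘ₗ π
  have hρ₀ : ∀ y, ρ₀ y ∈ LinearMap.range d := by
    intro y
    rw [← LinearMap.exact_iff.mp hex, LinearMap.mem_ker]
    change π (t ^ k₂ • y - u (π y)) = 0
    rw [map_sub, map_smul, ← LinearMap.comp_apply, hu, LinearMap.smul_apply, LinearMap.id_apply,
      sub_self]
  let ρ : L →ₗ[B] LinearMap.range d := LinearMap.codRestrict _ ρ₀ hρ₀
  obtain ⟨ψ₁, hψ₁⟩ := Module.projective_lifting_property d.rangeRestrict ρ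
    d.surjective_rangeRestrict
  refine ⟨t ^ k₁ • ψ₁, ?_⟩
  ext x
  have h2 : d (ψ₁ (d x)) = t ^ k₂ • d x := by
    have := congrArg Subtype.val (LinearMap.congr_fun hψ₁ (d x))
    change d (ψ₁ (d x)) = t ^ k₂ • d x - u (π (d x)) at this
    rw [this, hex.apply_apply_eq_zero, map_zero, sub_zero]
  have h3 : d (ψ₁ (d x) - t ^ k₂ • x) = 0 := by rw [map_sub, h2, map_smul, sub_self]
  have h4 := h1 _ h3
  rw [smul_sub, sub_eq_zero] at h4
  change t ^ k₁ • ψ₁ (d x) = t ^ (k₁ + k₂) • x
  rw [h4, pow_add, mul_smul]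

lemma exists_pow_smul_eq_zero {M : Type*} [AddCommGroup M] [Module B M] [Module.Finite B M] (t : B)
    (h : Subsingleton (LocalizedModule.Away t M)) : ∃ k, ∀ x : M, t ^ k • x = 0 := by
  obtain ⟨⟨s, k, rfl⟩, hs⟩ := Module.Finite.exists_smul_of_comp_eq_of_isLocalizedModule
    (Submonoid.powers t) (LocalizedModule.mkLinearMap (Submonoid.powers t) M)
    (LinearMap.id) 0 (by ext; exact Subsingleton.elim _ _)
  refine ⟨k, fun x => ?_⟩
  have := LinearMap.congr_fun hs x
  rw [LinearMap.smul_apply, LinearMap.smul_apply, Submonoid.smul_def, Submonoid.smul_def,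
    LinearMap.id_apply, LinearMap.zero_apply, smul_zero] at this
  exact this

lemma exists_almost_section {L Ω : Type u} [AddCommGroup L] [Module B L] [AddCommGroup Ω]
    [Module B Ω] [Module.FinitePresentation B Ω] (π : L →ₗ[B] Ω) (hπ : Function.Surjective π)
    (t : B) [Module.Projective (Localization.Away t) (LocalizedModule.Away t Ω)] :
    ∃ (u : Ω →ₗ[B] L) (k : ℕ), π ∘ₗ u = t ^ k • LinearMap.id := by
  let S := Submonoid.powers t
  let πt : LocalizedModule S L →ₗ[Localization S] LocalizedModule S Ω := LocalizedModule.map S π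
  have hπt : Function.Surjective πt := LocalizedModule.map_surjective S π hπ
  obtain ⟨st, hst⟩ := Module.projective_lifting_property πt LinearMap.id hπt
  let g : Ω →ₗ[B] LocalizedModule S L :=
    (st.restrictScalars B) ∘ₗ LocalizedModule.mkLinearMap S Ω
  obtain ⟨h, s, hs⟩ := Module.FinitePresentation.exists_lift_of_isLocalizedModule S
    (LocalizedModule.mkLinearMap S L) g
  have H : LocalizedModule.mkLinearMap S Ω ∘ₗ (π ∘ₗ h) =
      LocalizedModule.mkLinearMap S Ω ∘ₗ (s • LinearMap.id) := by
    ext ω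
    have h1 : LocalizedModule.mkLinearMap S Ω (π (h ω)) =
        πt (LocalizedModule.mkLinearMap S L (h ω)) := by
      simp [πt, LocalizedModule.map_mk]
    have h2 : LocalizedModule.mkLinearMap S L (h ω) = s • g ω := LinearMap.congr_fun hs ω
    simp only [LinearMap.comp_apply, LinearMap.smul_apply, LinearMap.id_apply]
    rw [h1, h2, Submonoid.smul_def, Submonoid.smul_def]
    change πt ((s : B) • st (LocalizedModule.mkLinearMap S Ω ω)) = _
    rw [LinearMap.map_smul_of_tower, ← LinearMap.comp_apply, hst, LinearMap.id_apply, map_smul]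
  obtain ⟨s', hs'⟩ := Module.Finite.exists_smul_of_comp_eq_of_isLocalizedModule S
    (LocalizedModule.mkLinearMap S Ω) _ _ H
  obtain ⟨s, a, rfl⟩ := s
  obtain ⟨s', b, rfl⟩ := s'
  refine ⟨t ^ b • h, b + a, ?_⟩
  ext ω
  have := LinearMap.congr_fun hs' ω
  simp only [LinearMap.smul_apply, LinearMap.comp_apply, LinearMap.id_apply, Submonoid.smul_def]
    at this
  simp only [LinearMap.comp_apply, LinearMap.smul_apply, LinearMap.id_apply, map_smul]
  rw [this, pow_add, mul_smul]

theorem forward_core [Algebra.FinitePresentation A B] (t : B) (k₁ : ℕ)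
    (hk₁ : ∀ x : Algebra.H1Cotangent A B, t ^ k₁ • x = 0)
    [Module.Projective (Localization.Away t) (LocalizedModule.Away t Ω[B⁄A])] :
    ∃ n₀ : ℕ, ∀ (M : Type u) [AddCommGroup M] [Module B M] (x : CotT.T1 (CotT.canon A B) M),
      t ^ n₀ • x = 0 := by
  obtain ⟨u, k₂, hu⟩ := exists_almost_section (CotT.canon A B).toExtension.toKaehler
    (CotT.canon A B).toExtension.toKaehler_surjective t
  have h1 : ∀ x : (CotT.canon A B).toExtension.Cotangent,
      (CotT.canon A B).toExtension.cotangentComplex x = 0 → t ^ k₁ • x = 0 := by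
    intro x hx
    have := hk₁ ⟨x, hx⟩
    exact congrArg Subtype.val this
  haveI : Module.Projective B (CotT.canon A B).toExtension.CotangentSpace :=
    Module.Projective.of_free
  obtain ⟨ψ, hψ⟩ := exists_almost_retraction (CotT.canon A B).toExtension.cotangentComplex
    (CotT.canon A B).toExtension.toKaehler
    (CotT.canon A B).toExtension.exact_cotangentComplex_toKaehler t k₁ k₂ h1 u hu
  refine ⟨k₁ + k₂, fun M _ _ x => ?_⟩
  obtain ⟨-, hker, hsurj⟩ := CotTSeq.main12289 (CotT.canon A B) M
  obtain ⟨φ, rfl⟩ := hsurj x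
  rw [← map_smul, ← LinearMap.mem_ker, hker]
  refine ⟨φ ∘ₗ ψ, ?_⟩
  rw [LinearMap.lcomp_apply', LinearMap.comp_assoc, hψ]
  ext y
  simp

theorem forward_hyp [Algebra.FinitePresentation A B] [Module.Finite B (Algebra.H1Cotangent A B)]
    (t : B) (h : ↑(PrimeSpectrum.basicOpen t) ⊆ Algebra.smoothLocus A B) :
    (∃ k₁ : ℕ, ∀ x : Algebra.H1Cotangent A B, t ^ k₁ • x = 0) ∧
      Module.Projective (Localization.Away t) (LocalizedModule.Away t Ω[B⁄A]) := by
  rw [Algebra.smoothLocus_eq_compl_support_inter, Set.subset_inter_iff] at h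
  obtain ⟨hH1, hΩ⟩ := h
  have hsub : Subsingleton (LocalizedModule.Away t (Algebra.H1Cotangent A B)) := by
    rw [LocalizedModule.subsingleton_iff_support_subset]
    intro q hq
    by_contra hqt
    have hqb : q ∈ (PrimeSpectrum.basicOpen t : Set (PrimeSpectrum B)) := by
      simpa [PrimeSpectrum.mem_zeroLocus] using hqt
    exact hH1 hqb hq
  exact ⟨exists_pow_smul_eq_zero t hsub, Module.basicOpen_subset_freeLocus_iff.mp hΩ⟩

theorem forward [Algebra.FinitePresentation A B] [Module.Finite B (Algebra.H1Cotangent A B)] (t : B)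
    (h : ↑(PrimeSpectrum.basicOpen t) ⊆ Algebra.smoothLocus A B) :
    ∃ n₀ : ℕ, ∀ (M : Type u) [AddCommGroup M] [Module B M] (x : CotT.T1 (CotT.canon A B) M),
      t ^ n₀ • x = 0 := by
  obtain ⟨⟨k₁, hk₁⟩, hproj⟩ := forward_hyp (A := A) t h
  haveI := hproj
  exact forward_core t k₁ hk₁

end Forward

section Backward

open KaehlerDifferential

lemma lTensor_injective_of_almost_retraction {A R B : Type u} [CommRing A] [CommRing R] [CommRing B]
    [Algebra A R] [Algebra R B] [Algebra A B] [IsScalarTower A R B]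
    (K : Type u) [Field K] [Algebra R K]
    (θ : B ⊗[R] Ω[R⁄A] →ₗ[R] (RingHom.ker (algebraMap R B)).Cotangent) (t' : R) (n : ℕ)
    (hθ : ∀ x, θ (kerCotangentToTensor A R B x) = t' ^ n • x)
    (ht : algebraMap R K t' ≠ 0) :
    Function.Injective ((kerCotangentToTensor A R B).lTensor K) := by
  rw [injective_iff_map_eq_zero]
  intro z hz
  have h1 : (θ.lTensor K) ((kerCotangentToTensor A R B).lTensor K z) = t' ^ n • z := by
    rw [← LinearMap.comp_apply, ← LinearMap.lTensor_comp]
    have : θ ∘ₗ kerCotangentToTensor A R B = t' ^ n • LinearMap.id := LinearMap.ext hθ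
    rw [this, LinearMap.lTensor_smul, LinearMap.lTensor_id]
    rfl
  rw [hz, map_zero] at h1
  have h2 : (algebraMap R K (t' ^ n)) • z = 0 := by rw [algebraMap_smul]; exact h1.symm
  have h3 : algebraMap R K (t' ^ n) ≠ 0 := by rw [map_pow]; exact pow_ne_zero _ ht
  exact (smul_eq_zero_iff_right h3).mp h2

theorem backward {A B : Type u} [CommRing A] [CommRing B] [Algebra A B]
    [Algebra.FinitePresentation A B] (t : B) (n₀ : ℕ)
    (h : ∀ (M : Type u) [AddCommGroup M] [Module B M] [Module.Finite B M]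
      (x : CotT.T1 (CotT.canon A B) M), t ^ n₀ • x = 0)
    (q : PrimeSpectrum B) (hq : t ∉ q.asIdeal) : q ∈ Algebra.smoothLocus A B := by
  obtain ⟨Pf, hPf⟩ : ∃ Pf, Pf = Algebra.Presentation.ofFinitePresentation A B := ⟨_, rfl⟩
  obtain ⟨E, hE⟩ : ∃ E, E = Pf.toExtension := ⟨_, rfl⟩
  haveI : Module.Finite B E.Cotangent := by
    rw [hE]; exact Algebra.Extension.Cotangent.finite Pf.fg_ker
  have hx : t ^ n₀ • CotT.homToT1 Pf Pf.toExtension.Cotangent LinearMap.id = 0 := by
    subst hE
    let e := CotTIndep.T1equiv Pf.toExtension.Cotangent Pf (CotT.canon A B)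
    apply e.injective
    rw [map_smul, map_zero]
    exact h Pf.toExtension.Cotangent _
  obtain ⟨-, hker, -⟩ := CotTSeq.main12289 Pf Pf.toExtension.Cotangent
  rw [← map_smul, ← LinearMap.mem_ker, hker] at hx
  obtain ⟨ψ₀, hψ₀⟩ := hx
  subst hE
  obtain ⟨t', ht'⟩ := Pf.toExtension.algebraMap_surjective t
  let θ : B ⊗[Pf.toExtension.Ring] Ω[Pf.toExtension.Ring⁄A] →ₗ[Pf.toExtension.Ring]
      Pf.toExtension.ker.Cotangent :=
    Pf.toExtension.cotangentEquivCotangentKer.toLinearMap ∘ₗ
      (ψ₀.restrictScalars Pf.toExtension.Ring)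
  have hθ : ∀ x, θ (kerCotangentToTensor A Pf.toExtension.Ring B x) = t' ^ n₀ • x := by
    intro x
    obtain ⟨y, rfl⟩ := Ideal.toCotangent_surjective _ x
    rw [kerCotangentToTensor_toCotangent]
    have h1 : ψ₀ (Pf.toExtension.cotangentComplex (Algebra.Extension.Cotangent.mk y)) =
        t ^ n₀ • Algebra.Extension.Cotangent.mk y := by
      have := LinearMap.congr_fun hψ₀ (Algebra.Extension.Cotangent.mk y)
      simpa using this
    rw [Algebra.Extension.cotangentComplex_mk] at h1
    change Pf.toExtension.cotangentEquivCotangentKer (ψ₀ _) = _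
    rw [h1, ← ht', ← map_pow, algebraMap_smul, map_smul]
    rfl
  haveI : Algebra.FormallySmooth A Pf.toExtension.Ring :=
    inferInstanceAs (Algebra.FormallySmooth A (MvPolynomial _ A))
  haveI : Module.Finite Pf.toExtension.Ring
      (RingHom.ker (algebraMap Pf.toExtension.Ring B)).Cotangent := by
    have hfg : (RingHom.ker (algebraMap Pf.toExtension.Ring B)).FG := Pf.fg_ker
    haveI : Module.Finite Pf.toExtension.Ring (RingHom.ker (algebraMap Pf.toExtension.Ring B)) :=
      Module.Finite.iff_fg.mpr hfg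
    exact Module.Finite.of_surjective _ (Ideal.toCotangent_surjective _)
  have hne : algebraMap Pf.toExtension.Ring q.asIdeal.ResidueField t' ≠ 0 := by
    rw [IsScalarTower.algebraMap_apply Pf.toExtension.Ring B q.asIdeal.ResidueField, ht', Ne,
      Ideal.algebraMap_residueField_eq_zero]
    exact hq
  have hinj := lTensor_injective_of_almost_retraction q.asIdeal.ResidueField θ t' n₀ hθ hne
  exact ((JacLocal.main2463 (A := A) Pf.toExtension.algebraMap_surjective q.asIdeal).out 1 0).mp hinj

end Backward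

section Main

variable {A B : Type u} [CommRing A] [CommRing B] [Algebra A B]

lemma finite_h1Cotangent [IsNoetherianRing B] [Algebra.FinitePresentation A B] :
    Module.Finite B (Algebra.H1Cotangent A B) := by
  let P := Algebra.Presentation.ofFinitePresentation A B
  haveI : Module.Finite B P.toExtension.Cotangent := Algebra.Extension.Cotangent.finite P.fg_ker
  haveI : IsNoetherian B P.toExtension.Cotangent := isNoetherian_of_isNoetherianRing_of_finite B _
  haveI : Module.Finite B P.toExtension.H1Cotangent :=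
    Module.Finite.of_injective (LinearMap.ker P.toExtension.cotangentComplex).subtype
      Subtype.val_injective
  exact Module.Finite.of_surjective P.equivH1Cotangent.toLinearMap P.equivH1Cotangent.surjective

theorem main12305 [IsNoetherianRing B] [Algebra.FinitePresentation A B] (t : B) :
    (∀ q : PrimeSpectrum B, t ∉ q.asIdeal → q ∈ Algebra.smoothLocus A B) ↔
    ∃ n₀ : ℕ, ∀ (M : Type u) [AddCommGroup M] [Module B M] [Module.Finite B M],
      ∀ x : CotT.T1 (CotT.canon A B) M, t ^ n₀ • x = 0 := by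
  haveI := finite_h1Cotangent (A := A) (B := B)
  constructor
  · intro h
    obtain ⟨n₀, hn⟩ := forward (A := A) t (fun q hq => h q (by simpa using hq))
    exact ⟨n₀, fun M _ _ _ x => hn M x⟩
  · rintro ⟨n₀, hn⟩ q hq
    exact backward t n₀ hn q hq

end Main

end Groth.Agent.Lib.helper19.T1Smooth
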