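import Mathlib

/-! Independence of `T²` from the module presentation `F → J`. -/

set_option autoImplicit false
universe u v w

namespace Groth.Agent.Lib.helper19.T2Mod

section Abstract

variable {P : Type u} [CommRing P] {M : Type v} {M' : Type w}
  [AddCommGroup M] [Module P M] [AddCommGroup M'] [Module P M']

/-- the induced map on subquotients. -/
noncomputable def subquotMap (N H : Submodule P M) (N' H' : Submodule P M') (b : M →ₗ[P] M')
    (hbN : N ≤ N'.comap b) (hbH : H ≤ H'.comap b) :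
    ↥(H.map N.mkQ) →ₗ[P] ↥(H'.map N'.mkQ) :=
  (N.mapQ N' b hbN).restrict (p := H.map N.mkQ) (q := H'.map N'.mkQ) (by
    rintro _ ⟨m, hm, rfl⟩
    exact ⟨b m, hbH hm, rfl⟩)

lemma subquotMap_mk (N H : Submodule P M) (N' H' : Submodule P M') (b : M →ₗ[P] M')
    (hbN : N ≤ N'.comap b) (hbH : H ≤ H'.comap b) (x : ↥(H.map N.mkQ)) (m : M)
    (hm : N.mkQ m = x.1) :
    ((subquotMap N H N' H' b hbN hbH x : ↥(H'.map N'.mkQ)) : M' ⧸ N') = N'.mkQ (b m) := by
  change (N.mapQ N' b hbN) x.1 = _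
  rw [← hm]
  rfl

/-- mutually inverse-up-to-`N` maps induce an equivalence of subquotients. -/
noncomputable def subquotEquiv (N H : Submodule P M) (N' H' : Submodule P M')
    (a : M' →ₗ[P] M) (b : M →ₗ[P] M')
    (haN : N' ≤ N.comap a) (haH : H' ≤ H.comap a) (hbN : N ≤ N'.comap b) (hbH : H ≤ H'.comap b)
    (hab : ∀ x, a (b x) - x ∈ N) (hba : ∀ y, b (a y) - y ∈ N') :
    ↥(H.map N.mkQ) ≃ₗ[P] ↥(H'.map N'.mkQ) :=
  LinearEquiv.ofLinearMap (subquotMap N H N' H' b hbN hbH) (subquotMap N' H' N H a haN haH)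
    (by
      ext ⟨_, m, hm, rfl⟩
      rw [LinearMap.comp_apply, LinearMap.id_apply]
      have h1 := subquotMap_mk N' H' N H a haN haH ⟨N'.mkQ m, m, hm, rfl⟩ m rfl
      rw [subquotMap_mk N H N' H' b hbN hbH _ (a m) h1.symm]
      change (Submodule.Quotient.mk (b (a m)) : M' ⧸ N') = Submodule.Quotient.mk m
      rw [Submodule.Quotient.eq]
      exact hba m)
    (by
      ext ⟨_, m, hm, rfl⟩
      rw [LinearMap.comp_apply, LinearMap.id_apply]
      have h1 := subquotMap_mk N H N' H' b hbN hbH ⟨N.mkQ m, m, hm, rfl⟩ m rfl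
      rw [subquotMap_mk N' H' N H a haN haH _ (b m) h1.symm]
      change (Submodule.Quotient.mk (a (b m)) : M ⧸ N) = Submodule.Quotient.mk m
      rw [Submodule.Quotient.eq]
      exact hab m)

end Abstract

section Concrete

variable {P : Type u} [CommRing P] (J : Ideal P)
  {F : Type v} [AddCommGroup F] [Module P F]
  {F' : Type w} [AddCommGroup F'] [Module P F']
  (j : F →ₗ[P] P) (j' : F' →ₗ[P] P)

/-- trivial relations. -/
def triv : Submodule P F := Submodule.span P {y : F | ∃ u v : F, y = j u • v - j v • u}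

/-- a comparison `α : F → F'` with `j' ∘ α = j` restricted to relations. -/
def relMap (α : F →ₗ[P] F') (hα : j' ∘ₗ α = j) : ↥(LinearMap.ker j) →ₗ[P] ↥(LinearMap.ker j') :=
  α.restrict (p := LinearMap.ker j) (q := LinearMap.ker j') (by
    intro x hx
    rw [LinearMap.mem_ker] at hx ⊢
    rw [← LinearMap.comp_apply, hα, hx])

lemma relMap_coe (α : F →ₗ[P] F') (hα : j' ∘ₗ α = j) (x : ↥(LinearMap.ker j)) :
    ((relMap j j' α hα x : ↥(LinearMap.ker j')) : F') = α x.1 := rfl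

lemma map_triv_le (α : F →ₗ[P] F') (hα : j' ∘ₗ α = j) :
    triv j ≤ (triv j').comap α := by
  unfold triv
  rw [Submodule.span_le]
  rintro _ ⟨u, v, rfl⟩
  change α (j u • v - j v • u) ∈ Submodule.span P {y : F' | ∃ u v : F', y = j' u • v - j' v • u}
  rw [map_sub, map_smul, map_smul]
  refine Submodule.subset_span ⟨α u, α v, ?_⟩
  rw [← LinearMap.comp_apply, ← LinearMap.comp_apply, hα]

/-- restrictions from `F`. -/
def NN : Submodule P (↥(LinearMap.ker j) →ₗ[P] (P ⧸ J)) :=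
  LinearMap.range (LinearMap.lcomp P (P ⧸ J) (LinearMap.ker j).subtype)

/-- maps vanishing on trivial relations. -/
def HH : Submodule P (↥(LinearMap.ker j) →ₗ[P] (P ⧸ J)) :=
  LinearMap.ker (LinearMap.lcomp P (P ⧸ J)
    (Submodule.comap (LinearMap.ker j).subtype (triv j)).subtype)

lemma mem_HH (φ : ↥(LinearMap.ker j) →ₗ[P] (P ⧸ J)) :
    φ ∈ HH J j ↔ ∀ x : ↥(LinearMap.ker j), x.1 ∈ triv j → φ x = 0 := by
  unfold HH
  rw [LinearMap.mem_ker]
  constructor
  · intro h x hx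
    exact LinearMap.congr_fun h ⟨x, hx⟩
  · intro h
    ext ⟨x, hx⟩
    exact h x hx

lemma NN_le (α : F →ₗ[P] F') (hα : j' ∘ₗ α = j) :
    NN J j' ≤ (NN J j).comap (LinearMap.lcomp P (P ⧸ J) (relMap j j' α hα)) := by
  rintro _ ⟨ψ, rfl⟩
  refine ⟨ψ ∘ₗ α, ?_⟩
  ext x
  rfl

lemma HH_le (α : F →ₗ[P] F') (hα : j' ∘ₗ α = j) :
    HH J j' ≤ (HH J j).comap (LinearMap.lcomp P (P ⧸ J) (relMap j j' α hα)) := by
  intro φ hφ
  rw [Submodule.mem_comap, mem_HH]
  rw [mem_HH] at hφ
  intro x hx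
  exact hφ (relMap j j' α hα x) (map_triv_le j j' α hα hx)

lemma comp_sub_mem (α : F →ₗ[P] F') (hα : j' ∘ₗ α = j) (β : F' →ₗ[P] F) (hβ : j ∘ₗ β = j')
    (φ : ↥(LinearMap.ker j) →ₗ[P] (P ⧸ J)) :
    (LinearMap.lcomp P (P ⧸ J) (relMap j j' α hα))
      ((LinearMap.lcomp P (P ⧸ J) (relMap j' j β hβ)) φ) - φ ∈ NN J j := by
  have hh : ∀ x : F, β (α x) - x ∈ LinearMap.ker j := by
    intro x
    rw [LinearMap.mem_ker, map_sub, ← LinearMap.comp_apply, hβ, ← LinearMap.comp_apply, hα,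
      sub_self]
  let h : F →ₗ[P] ↥(LinearMap.ker j) := (β ∘ₗ α - LinearMap.id).codRestrict (LinearMap.ker j) hh
  refine ⟨φ ∘ₗ h, ?_⟩
  ext x
  change φ (h x.1) = φ (relMap j' j β hβ (relMap j j' α hα x)) - φ x
  rw [← map_sub]
  congr 1

/-- lifting through projectivity. -/
lemma exists_comparison [Module.Projective P F] (hjj : LinearMap.range j = LinearMap.range j') :
    ∃ α : F →ₗ[P] F', j' ∘ₗ α = j := by
  let g : F →ₗ[P] ↥(LinearMap.range j') := j.codRestrict (LinearMap.range j') (fun x => by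
    rw [← hjj]; exact LinearMap.mem_range_self j x)
  obtain ⟨α, hα⟩ := Module.projective_lifting_property j'.rangeRestrict g
    j'.surjective_rangeRestrict
  refine ⟨α, ?_⟩
  ext x
  have := LinearMap.congr_fun hα x
  exact congrArg Subtype.val this

theorem t2_indep [Module.Projective P F] [Module.Projective P F']
    (hj : LinearMap.range j = J) (hj' : LinearMap.range j' = J) :
    Nonempty (↥((HH J j).map (NN J j).mkQ) ≃ₗ[P] ↥((HH J j').map (NN J j').mkQ)) := by
  obtain ⟨α, hα⟩ := exists_comparison j j' (hj.trans hj'.symm)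
  obtain ⟨β, hβ⟩ := exists_comparison j' j (hj'.trans hj.symm)
  exact ⟨subquotEquiv (NN J j) (HH J j) (NN J j') (HH J j')
    (LinearMap.lcomp P (P ⧸ J) (relMap j j' α hα)) (LinearMap.lcomp P (P ⧸ J) (relMap j' j β hβ))
    (NN_le J j j' α hα) (HH_le J j j' α hα) (NN_le J j' j β hβ) (HH_le J j' j β hβ)
    (comp_sub_mem J j j' α hα β hβ) (comp_sub_mem J j' j β hβ α hα)⟩

end Concrete

end Groth.Agent.Lib.helper19.T2Mod
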