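import Mathlib
import Groth.Agent.Lib.helper19.TowerSmooth

/-!
# Smoothness in a tower via injectivity on the fibre (S10955)
-/

open TensorProduct KaehlerDifferential

namespace Groth.Agent.Lib.helper19.TowerSmooth

universe u

theorem inj_iff_of_square {X Y X' Y' : Type*} (f : X → Y) (g : X' → Y') (e₁ : X ≃ X')
    (e₂ : Y ≃ Y') (h : ∀ x, e₂ (f x) = g (e₁ x)) : Function.Injective f ↔ Function.Injective g := by
  constructor
  · intro hf x y hxy
    obtain ⟨x, rfl⟩ := e₁.surjective x
    obtain ⟨y, rfl⟩ := e₁.surjective y
    rw [← h, ← h] at hxy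
    rw [hf (e₂.injective hxy)]
  · intro hg x y hxy
    apply e₁.injective
    apply hg
    rw [← h, ← h, hxy]

section step1
variable (A B T : Type u) [CommRing A] [CommRing B] [CommRing T] [Algebra A B] [Algebra B T]
  [Algebra A T] [IsScalarTower A B T] [IsLocalRing T]

theorem smooth_iff_injective [Algebra.FormallySmooth A T] [Algebra.EssFiniteType A T]
    [Module.Finite T (T ⊗[B] Ω[B⁄A])] :
    Algebra.FormallySmooth B T ↔
      Function.Injective ((mapBaseChange A B T).lTensor (IsLocalRing.ResidueField T)) := by
  haveI : Module.Free T Ω[T⁄A] := Module.free_of_flat_of_isLocalRing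
  rw [← IsLocalRing.split_injective_iff_lTensor_residueField_injective]
  have := smooth_iff A B T
  constructor
  · intro h
    exact (this.mp ⟨h, inferInstance⟩).2
  · intro h
    exact (this.mpr ⟨inferInstance, h⟩).1

end step1

section step2
variable (A B C T κ : Type u) [CommRing A] [CommRing B] [CommRing C] [CommRing T] [CommRing κ]
  [Algebra A B] [Algebra B C] [Algebra A C] [IsScalarTower A B C]
  [Algebra C T] [Algebra B T] [Algebra A T] [IsScalarTower A B T] [IsScalarTower B C T]
  [IsScalarTower A C T] [Algebra T κ] [Algebra C κ] [IsScalarTower C T κ]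

theorem map_map (ω : Ω[B⁄A]) :
    KaehlerDifferential.map A A C T (KaehlerDifferential.map A A B C ω) =
      KaehlerDifferential.map A A B T ω := by
  have hω : ω ∈ Submodule.span B (Set.range (KaehlerDifferential.D A B)) := by
    rw [KaehlerDifferential.span_range_derivation]; exact Submodule.mem_top
  induction hω using Submodule.span_induction with
  | mem ω h =>
    obtain ⟨b, rfl⟩ := h
    rw [KaehlerDifferential.map_D, KaehlerDifferential.map_D, KaehlerDifferential.map_D,
      ← IsScalarTower.algebraMap_apply]
  | zero => simp
  | add x y _ _ hx hy => rw [map_add, map_add, map_add, hx, hy]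
  | smul b x _ hx =>
    rw [map_smul, ← algebraMap_smul C b (KaehlerDifferential.map A A B C x), map_smul, hx,
      map_smul, algebraMap_smul]

theorem square1 (z : T ⊗[C] (C ⊗[B] Ω[B⁄A])) :
    mapBaseChange A C T ((mapBaseChange A B C).baseChange T z) =
      mapBaseChange A B T (TensorProduct.AlgebraTensorModule.cancelBaseChange B C T T Ω[B⁄A] z) := by
  induction z using TensorProduct.induction_on with
  | zero => simp
  | add x y hx hy => rw [map_add, map_add, map_add, map_add, hx, hy]
  | tmul t x =>
    induction x using TensorProduct.induction_on with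
    | zero => simp
    | add x y hx hy => rw [TensorProduct.tmul_add, map_add, map_add, map_add, map_add, hx, hy]
    | tmul c ω =>
      rw [LinearMap.baseChange_tmul, mapBaseChange_tmul, mapBaseChange_tmul, map_smul, map_map,
        TensorProduct.AlgebraTensorModule.cancelBaseChange_tmul, mapBaseChange_tmul,
        smul_comm t c, smul_assoc]

theorem square2 {M N : Type u} [AddCommGroup M] [AddCommGroup N] [Module C M] [Module C N]
    (f : M →ₗ[C] N) (z : κ ⊗[T] (T ⊗[C] M)) :
    TensorProduct.AlgebraTensorModule.cancelBaseChange C T κ κ N
        (((f.baseChange T).lTensor κ) z) =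
      (f.lTensor κ) (TensorProduct.AlgebraTensorModule.cancelBaseChange C T κ κ M z) := by
  induction z using TensorProduct.induction_on with
  | zero => simp
  | add x y hx hy => rw [map_add, map_add, map_add, map_add, hx, hy]
  | tmul k x =>
    induction x using TensorProduct.induction_on with
    | zero => simp
    | add x y hx hy => rw [TensorProduct.tmul_add, map_add, map_add, map_add, map_add, hx, hy]
    | tmul t m =>
      rw [LinearMap.lTensor_tmul, LinearMap.baseChange_tmul,
        TensorProduct.AlgebraTensorModule.cancelBaseChange_tmul,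
        TensorProduct.AlgebraTensorModule.cancelBaseChange_tmul, LinearMap.lTensor_tmul]

theorem step2 [Algebra.FormallyEtale C T] :
    Function.Injective ((mapBaseChange A B T).lTensor κ) ↔
      Function.Injective ((mapBaseChange A B C).lTensor κ) := by
  let e₁ := TensorProduct.AlgebraTensorModule.cancelBaseChange B C T T Ω[B⁄A]
  let e₂ := KaehlerDifferential.tensorKaehlerEquivOfFormallyEtale A C T
  have hsq : e₂.toLinearMap ∘ₗ (mapBaseChange A B C).baseChange T =
      mapBaseChange A B T ∘ₗ e₁.toLinearMap := by
    apply LinearMap.ext
    intro z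
    exact square1 A B C T z
  have hsq' := congrArg (LinearMap.lTensor κ) hsq
  rw [LinearMap.lTensor_comp, LinearMap.lTensor_comp] at hsq'
  have h2a : Function.Injective (((mapBaseChange A B C).baseChange T).lTensor κ) ↔
      Function.Injective ((mapBaseChange A B T).lTensor κ) :=
    inj_iff_of_square _ _ (LinearEquiv.lTensor κ e₁).toEquiv (LinearEquiv.lTensor κ e₂).toEquiv
      (fun x => LinearMap.congr_fun hsq' x)
  have h2b : Function.Injective (((mapBaseChange A B C).baseChange T).lTensor κ) ↔
      Function.Injective ((mapBaseChange A B C).lTensor κ) :=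
    inj_iff_of_square _ _
      (TensorProduct.AlgebraTensorModule.cancelBaseChange C T κ κ (C ⊗[B] Ω[B⁄A])).toEquiv
      (TensorProduct.AlgebraTensorModule.cancelBaseChange C T κ κ Ω[C⁄A]).toEquiv
      (fun x => square2 C T κ (mapBaseChange A B C) x)
  exact h2a.symm.trans h2b

end step2

theorem main10955 (A B C : Type u) [CommRing A] [CommRing B]
    [CommRing C] [Algebra A B] [Algebra B C] [Algebra A C] [IsScalarTower A B C]
    [Algebra.FiniteType A B] [Algebra.FiniteType A C] (q : Ideal C) [q.IsPrime]
    (hC : Algebra.IsSmoothAt A q) :
    Algebra.IsSmoothAt B q ↔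
      Function.Injective ((KaehlerDifferential.mapBaseChange A B C).lTensor q.ResidueField) := by
  haveI : Algebra.FormallySmooth A (Localization.AtPrime q) := hC
  show Algebra.FormallySmooth B (Localization.AtPrime q) ↔ _
  rw [smooth_iff_injective A B (Localization.AtPrime q)]
  exact step2 A B C (Localization.AtPrime q) q.ResidueField

end Groth.Agent.Lib.helper19.TowerSmooth
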