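import Mathlib
import Groth.Agent.Lib.helper19.FSLift
import Groth.Agent.Lib.helper19.TowerSmooth

/-! Flat algebras over `D = k[X]/(X^(n+1))` with smooth closed fibre: Kähler differentials
(S18837, S18838, S18839). -/

set_option autoImplicit false
universe u

open Polynomial TensorProduct

namespace Groth.Agent.Lib.helper19.TruncPoly

section D

variable {k : Type u} [Field k] (n : ℕ) {D : Type u} [CommRing D] [Algebra k D] (τ : D)
  (hs : Function.Surjective (aeval τ : k[X] →ₐ[k] D))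
  (hk : ∀ p : k[X], aeval τ p = 0 ↔ X ^ (n + 1) ∣ p)

include hk in
lemma tau_pow : τ ^ (n + 1) = 0 := by
  have := (hk (X ^ (n+1))).mpr dvd_rfl
  simpa using this

include hs in
lemma decomp (a : D) : ∃ (c : k) (d : D), a = algebraMap k D c + τ * d := by
  obtain ⟨p, rfl⟩ := hs a
  refine ⟨p.coeff 0, aeval τ p.divX, ?_⟩
  have h := congrArg (aeval τ) (Polynomial.divX_mul_X_add p)
  rw [map_add, map_mul, aeval_X, aeval_C] at h
  rw [← h, add_comm, mul_comm]

include hk in
lemma nontrivial : Nontrivial D := by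
  refine ⟨⟨1, 0, fun h => ?_⟩⟩
  have h1 : aeval τ (1 : k[X]) = 0 := by simpa using h
  have h2 := (hk 1).mp h1
  have h3 := Polynomial.degree_eq_zero_of_isUnit (isUnit_of_dvd_one h2)
  simp at h3
  exact absurd h3 (by exact_mod_cast Nat.succ_ne_zero n)

include hk in
lemma isUnit_of_ne (c : k) (hc : c ≠ 0) (d : D) : IsUnit (algebraMap k D c + τ * d) := by
  have hnil : IsNilpotent (τ * d) := ⟨n+1, by rw [mul_pow, tau_pow n τ hk, zero_mul]⟩
  have hu : IsUnit (algebraMap k D c) := (IsUnit.mk0 c hc).map (algebraMap k D)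
  exact hnil.isUnit_add_left_of_commute hu (Commute.all _ _)

include hs hk in
lemma isLocalRing : IsLocalRing D := by
  haveI := nontrivial n τ hk
  refine IsLocalRing.of_isUnit_or_isUnit_one_sub_self fun a => ?_
  obtain ⟨c, d, rfl⟩ := decomp τ hs a
  by_cases hc : c = 0
  · right
    subst hc
    have : 1 - (algebraMap k D 0 + τ * d) = algebraMap k D 1 + τ * (-d) := by
      simp [sub_eq_add_neg]
    rw [this]; exact isUnit_of_ne n τ hk 1 one_ne_zero _
  · left; exact isUnit_of_ne n τ hk c hc d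

include hs hk in
lemma maximalIdeal_eq [IsLocalRing D] : IsLocalRing.maximalIdeal D = Ideal.span {τ} := by
  apply le_antisymm
  · intro a ha
    obtain ⟨c, d, rfl⟩ := decomp τ hs a
    by_cases hc : c = 0
    · subst hc
      rw [map_zero, zero_add]
      exact Ideal.mem_span_singleton.mpr (dvd_mul_right _ _)
    · exact absurd (isUnit_of_ne n τ hk c hc d) ((IsLocalRing.mem_maximalIdeal _).mp ha)
  · rw [Ideal.span_le, Set.singleton_subset_iff, SetLike.mem_coe, IsLocalRing.mem_maximalIdeal,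
      mem_nonunits_iff]
    intro hu
    have : IsUnit (τ^(n+1)) := hu.pow _
    rw [tau_pow n τ hk] at this
    exact not_isUnit_zero this

include hs hk in
lemma ann (j : ℕ) (hj : j ≤ n + 1) (a : D) (ha : τ ^ j * a = 0) :
    ∃ b, a = τ ^ (n + 1 - j) * b := by
  obtain ⟨p, rfl⟩ := hs a
  have h1 : aeval τ (X ^ j * p) = 0 := by simpa using ha
  have h2 := (hk _).mp h1
  have h3 : (X : k[X]) ^ (n+1) = X ^ j * X ^ (n+1-j) := by
    rw [← pow_add, Nat.add_sub_cancel' hj]
  rw [h3] at h2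
  have h4 := (mul_dvd_mul_iff_left (pow_ne_zero j X_ne_zero)).mp h2
  obtain ⟨q, rfl⟩ := h4
  exact ⟨aeval τ q, by simp⟩

include hs in
lemma kaehler_span (ω : Ω[D⁄k]) : ∃ a : D, ω = a • KaehlerDifferential.D k D τ := by
  have h := KaehlerDifferential.span_range_derivation k D
  have hω : ω ∈ Submodule.span D (Set.range (KaehlerDifferential.D k D)) := by rw [h]; trivial
  induction hω using Submodule.span_induction with
  | mem x hx =>
    obtain ⟨a, rfl⟩ := hx; obtain ⟨p, rfl⟩ := hs a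
    exact ⟨_, Derivation.map_aeval _ p τ⟩
  | zero => exact ⟨0, by simp⟩
  | add x y _ _ hx hy =>
    obtain ⟨a, rfl⟩ := hx; obtain ⟨b, rfl⟩ := hy; exact ⟨a+b, by rw [add_smul]⟩
  | smul c x _ hx => obtain ⟨a, rfl⟩ := hx; exact ⟨c*a, by rw [mul_smul]⟩

section Der

variable {M : Type u} [AddCommGroup M] [Module D M] [Module k M] [IsScalarTower k D M] (m : M)
  (hm : (((n + 1 : ℕ) : D) * τ ^ n) • m = 0)

include hk hm in
lemma key (p : k[X]) (hp : aeval τ p = 0) : aeval τ (derivative p) • m = 0 := by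
  obtain ⟨q, rfl⟩ := (hk p).mp hp
  rw [derivative_mul, derivative_X_pow, map_add, map_mul, map_mul, map_mul, aeval_X_pow,
    aeval_X_pow, tau_pow n τ hk, zero_mul, add_zero, aeval_C, Nat.add_sub_cancel,
    map_natCast, mul_comm, mul_smul, hm, smul_zero]

/-- the underlying function of the derivation `p(τ) ↦ p'(τ) • m`. -/
noncomputable def derFun (a : D) : M := aeval τ (derivative (Function.surjInv hs a)) • m

include hk hm in
lemma derFun_eq (p : k[X]) : derFun τ hs m (aeval τ p) = aeval τ (derivative p) • m := by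
  unfold derFun
  have h1 : aeval τ (Function.surjInv hs (aeval τ p) - p) = 0 := by
    rw [map_sub, Function.surjInv_eq hs, sub_self]
  have h2 := key n τ hk m hm _ h1
  rw [derivative_sub, map_sub, sub_smul, sub_eq_zero] at h2
  exact h2

/-- The `k`-derivation `D → M` with `τ ↦ m`. -/
noncomputable def der : Derivation k D M where
  toFun := derFun τ hs m
  map_add' a b := by
    obtain ⟨p, rfl⟩ := hs a; obtain ⟨q, rfl⟩ := hs b
    rw [← map_add, derFun_eq n τ hs hk m hm, derFun_eq n τ hs hk m hm, derFun_eq n τ hs hk m hm,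
      derivative_add, map_add, add_smul]
  map_smul' c a := by
    obtain ⟨p, rfl⟩ := hs a
    rw [← map_smul, derFun_eq n τ hs hk m hm, derFun_eq n τ hs hk m hm, derivative_smul, map_smul,
      RingHom.id_apply, smul_assoc]
  map_one_eq_zero' := by
    change derFun τ hs m 1 = 0
    have := derFun_eq n τ hs hk m hm 1
    rw [map_one] at this
    rw [this, derivative_one, map_zero, zero_smul]
  leibniz' a b := by
    obtain ⟨p, rfl⟩ := hs a; obtain ⟨q, rfl⟩ := hs b
    change derFun τ hs m _ = _ • derFun τ hs m _ + _ • derFun τ hs m _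
    rw [← map_mul, derFun_eq n τ hs hk m hm, derFun_eq n τ hs hk m hm, derFun_eq n τ hs hk m hm,
      derivative_mul, map_add, map_mul, map_mul, add_smul, mul_smul, mul_smul, add_comm]
    congr 1
    rw [smul_comm]

lemma der_tau : der n τ hs hk m hm τ = m := by
  change derFun τ hs m τ = m
  have := derFun_eq n τ hs hk m hm X
  rw [aeval_X] at this
  rw [this, derivative_X, map_one, one_smul]

end Der

section FS

variable {B : Type u} [CommRing B] [Algebra k B] [Algebra D B] [IsScalarTower k D B]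
  [Module.Flat D B]

include hs hk in
lemma lift_of_pow [Algebra.FormallySmooth k (B ⧸ Ideal.span {algebraMap D B τ})] (r : ℕ) :
    ∀ (C E : Type u) [CommRing C] [Algebra D C] [CommRing E] [Algebra D E] (π : C →ₐ[D] E),
      Function.Surjective π → (∀ x y, π x = 0 → π y = 0 → x * y = 0) →
      (∀ x, π x = 0 → τ ^ r • x = 0) → ∀ g : B →ₐ[D] E, ∃ l : B →ₐ[D] C, ∀ b, π (l b) = g b := by
  haveI := isLocalRing n τ hs hk
  have hmax := maximalIdeal_eq n τ hs hk
  have hres : ∀ a : D, ∃ c : k, a - algebraMap k D c ∈ IsLocalRing.maximalIdeal D := by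
    intro a
    obtain ⟨c, d, rfl⟩ := decomp τ hs a
    refine ⟨c, ?_⟩
    rw [add_sub_cancel_left, hmax]
    exact Ideal.mem_span_singleton.mpr (dvd_mul_right _ _)
  have hmapeq : Ideal.map (algebraMap D B) (IsLocalRing.maximalIdeal D) =
      Ideal.span {algebraMap D B τ} := by
    rw [hmax, Ideal.map_span, Set.image_singleton]
  haveI : Algebra.FormallySmooth k (B ⧸ Ideal.map (algebraMap D B) (IsLocalRing.maximalIdeal D)) :=
    Algebra.FormallySmooth.of_equiv (Ideal.quotientEquivAlgOfEq k hmapeq.symm)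
  induction r with
  | zero =>
    intro C E _ _ _ _ π hπ _ h0 g
    have hinj : Function.Injective π := by
      rw [injective_iff_map_eq_zero]
      intro x hx
      have := h0 x hx
      rwa [pow_zero, one_smul] at this
    let eq : C ≃ₐ[D] E := AlgEquiv.ofBijective π ⟨hinj, hπ⟩
    refine ⟨(eq.symm : E →ₐ[D] C).comp g, fun b => ?_⟩
    exact eq.apply_symm_apply (g b)
  | succ r ih =>
    intro C E _ _ _ _ π hπ hsq hr g
    let I' : Ideal C := Ideal.span {y | ∃ x, π x = 0 ∧ y = τ ^ r • x}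
    have hI'le : ∀ a ∈ I', π a = 0 := by
      intro a ha
      have : I' ≤ RingHom.ker (π : C →+* E) := by
        rw [Ideal.span_le]
        rintro y ⟨x, hx, rfl⟩
        change π (τ ^ r • x) = 0
        rw [map_smul, hx, smul_zero]
      exact this ha
    let π' : C ⧸ I' →ₐ[D] E := Ideal.Quotient.liftₐ I' π hI'le
    have hπ'mk : ∀ x, π' (Ideal.Quotient.mk I' x) = π x := fun x => rfl
    have hπ' : Function.Surjective π' := fun e => by
      obtain ⟨c, rfl⟩ := hπ e; exact ⟨Ideal.Quotient.mk I' c, rfl⟩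
    have hsq' : ∀ x y, π' x = 0 → π' y = 0 → x * y = 0 := by
      intro x y hx hy
      obtain ⟨x, rfl⟩ := Ideal.Quotient.mk_surjective x
      obtain ⟨y, rfl⟩ := Ideal.Quotient.mk_surjective y
      rw [← map_mul, hsq x y hx hy, map_zero]
    have hr' : ∀ x, π' x = 0 → τ ^ r • x = 0 := by
      intro x hx
      obtain ⟨x, rfl⟩ := Ideal.Quotient.mk_surjective x
      have : τ ^ r • x ∈ I' := Ideal.subset_span ⟨x, hx, rfl⟩
      rw [← Ideal.Quotient.mkₐ_eq_mk D, ← map_smul, Ideal.Quotient.mkₐ_eq_mk,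
        Ideal.Quotient.eq_zero_iff_mem]
      exact this
    obtain ⟨l', hl'⟩ := ih (C ⧸ I') E π' hπ' hsq' hr' g
    have hN2 : ∀ x y : C, Ideal.Quotient.mkₐ D I' x = 0 → Ideal.Quotient.mkₐ D I' y = 0 →
        x * y = 0 := by
      intro x y hx hy
      rw [Ideal.Quotient.mkₐ_eq_mk, Ideal.Quotient.eq_zero_iff_mem] at hx hy
      exact hsq x y (hI'le x hx) (hI'le y hy)
    have hmN : ∀ a ∈ IsLocalRing.maximalIdeal D, ∀ x : C, Ideal.Quotient.mkₐ D I' x = 0 →
        a • x = 0 := by
      intro a ha x hx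
      rw [Ideal.Quotient.mkₐ_eq_mk, Ideal.Quotient.eq_zero_iff_mem] at hx
      rw [hmax] at ha
      obtain ⟨d, rfl⟩ := Ideal.mem_span_singleton.mp ha
      induction hx using Submodule.span_induction with
      | mem y hy =>
        obtain ⟨x₀, hx₀, rfl⟩ := hy
        rw [smul_smul, mul_comm τ d, mul_assoc, ← pow_succ', mul_smul, hr x₀ hx₀, smul_zero]
      | zero => rw [smul_zero]
      | add y z _ _ hy hz => rw [smul_add, hy, hz, add_zero]
      | smul c y _ hy => rw [smul_comm, hy, smul_zero]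
    obtain ⟨l, hl⟩ := FSLift.exists_lift hres (Ideal.Quotient.mkₐ D I')
      (Ideal.Quotient.mkₐ_surjective D I') hN2 hmN l'
    refine ⟨l, fun b => ?_⟩
    rw [← hl' b, ← hl b]
    rfl

include hs hk in
theorem formallySmooth [Algebra.FormallySmooth k (B ⧸ Ideal.span {algebraMap D B τ})] :
    Algebra.FormallySmooth D B := by
  rw [Algebra.FormallySmooth.iff_comp_surjective]
  intro C _ _ I hI g
  obtain ⟨l, hl⟩ := lift_of_pow n τ hs hk (B := B) (n + 1) C (C ⧸ I) (Ideal.Quotient.mkₐ D I)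
    (Ideal.Quotient.mkₐ_surjective D I)
    (fun x y hx hy => by
      rw [Ideal.Quotient.mkₐ_eq_mk, Ideal.Quotient.eq_zero_iff_mem] at hx hy
      have : x * y ∈ I ^ 2 := by rw [pow_two]; exact Ideal.mul_mem_mul hx hy
      rwa [hI] at this)
    (fun x _ => by rw [tau_pow n τ hk, zero_smul]) g
  exact ⟨l, AlgHom.ext hl⟩

end FS

end D

section LinAlg

lemma projective_of_split {R N Q : Type*} [CommRing R] [AddCommGroup N] [Module R N]
    [AddCommGroup Q] [Module R Q] (G : N →ₗ[R] Q) (hG : Function.Surjective G) (v : N)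
    (ψ : N →ₗ[R] R) (hψ : ψ v = 1) (hex : ∀ y, G y = 0 → ∃ b : R, y = b • v) (hGv : G v = 0)
    [Module.Projective R Q] : Module.Projective R N := by
  let f : N →ₗ[R] R × Q := ψ.prod G
  have hf : Function.Bijective f := by
    constructor
    · rw [injective_iff_map_eq_zero]
      intro y hy
      have h1 : ψ y = 0 := congrArg Prod.fst hy
      have h2 : G y = 0 := congrArg Prod.snd hy
      obtain ⟨b, rfl⟩ := hex y h2
      rw [map_smul, hψ, smul_eq_mul, mul_one] at h1
      rw [h1, zero_smul]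
    · rintro ⟨b, z⟩
      obtain ⟨y₀, rfl⟩ := hG z
      refine ⟨y₀ - ψ y₀ • v + b • v, ?_⟩
      refine Prod.ext ?_ ?_
      · change ψ _ = b
        rw [map_add, map_sub, map_smul, map_smul, hψ, smul_eq_mul, mul_one, sub_self, zero_add,
          smul_eq_mul, mul_one]
      · change G _ = G y₀
        rw [map_add, map_sub, map_smul, map_smul, hGv, smul_zero, smul_zero, sub_zero, add_zero]
  exact Module.Projective.of_equiv (LinearEquiv.ofBijective f hf).symm

end LinAlg

section Main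

variable {k : Type u} [Field k] (n : ℕ) {D : Type u} [CommRing D] [Algebra k D] (τ : D)
  (hs : Function.Surjective (aeval τ : k[X] →ₐ[k] D))
  (hk : ∀ p : k[X], aeval τ p = 0 ↔ X ^ (n + 1) ∣ p)
  {B : Type u} [CommRing B] [Algebra k B] [Algebra D B] [IsScalarTower k D B]
  [Module.Flat D B] (t : B) (ht : t = algebraMap D B τ)
  [hfs : Algebra.FormallySmooth k (B ⧸ Ideal.span {t})]

include hs hk ht hfs in
theorem formallySmooth' : Algebra.FormallySmooth D B := by
  subst ht
  exact formallySmooth n τ hs hk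

include hs hk ht hfs in
theorem exists_psi : ∃ ψ : Ω[B⁄k] →ₗ[B] (B ⧸ Ideal.span {t ^ n}),
    ψ (KaehlerDifferential.D k B t) = 1 := by
  haveI : Algebra.FormallySmooth D B := formallySmooth' n τ hs hk t ht
  obtain ⟨r, hr⟩ := TowerSmooth.exists_retraction k D B
  have hm : (((n + 1 : ℕ) : D) * τ ^ n) • (1 : B ⧸ Ideal.span {t ^ n}) = 0 := by
    have : τ ^ n • (1 : B ⧸ Ideal.span {t ^ n}) = 0 := by
      rw [Algebra.smul_def, mul_one, IsScalarTower.algebraMap_apply D B (B ⧸ Ideal.span {t ^ n}),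
        map_pow, ← ht, Ideal.Quotient.algebraMap_eq, Ideal.Quotient.eq_zero_iff_mem]
      exact Ideal.mem_span_singleton_self _
    rw [mul_smul, this, smul_zero]
  let δ := der n τ hs hk (1 : B ⧸ Ideal.span {t ^ n}) hm
  let θ : Ω[D⁄k] →ₗ[D] (B ⧸ Ideal.span {t ^ n}) := δ.liftKaehlerDifferential
  let Θ : B ⊗[D] Ω[D⁄k] →ₗ[B] (B ⧸ Ideal.span {t ^ n}) := LinearMap.liftBaseChange B θ
  refine ⟨Θ ∘ₗ r, ?_⟩
  have h1 : KaehlerDifferential.D k B t =
      KaehlerDifferential.mapBaseChange k D B (1 ⊗ₜ KaehlerDifferential.D k D τ) := by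
    rw [KaehlerDifferential.mapBaseChange_tmul, one_smul, KaehlerDifferential.map_D, ht]
  rw [h1, LinearMap.comp_apply, ← LinearMap.comp_apply r, hr, LinearMap.id_apply]
  change Θ _ = 1
  rw [LinearMap.liftBaseChange_tmul, one_smul]
  change δ.liftKaehlerDifferential _ = 1
  rw [Derivation.liftKaehlerDifferential_comp_D]
  exact der_tau n τ hs hk _ hm

include hs ht in
lemma mapBaseChange_mem (z : B ⊗[D] Ω[D⁄k]) :
    ∃ c : B, KaehlerDifferential.mapBaseChange k D B z = c • KaehlerDifferential.D k B t := by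
  induction z using TensorProduct.induction_on with
  | zero => exact ⟨0, by simp⟩
  | tmul b ω =>
    obtain ⟨a, rfl⟩ := kaehler_span τ hs ω
    refine ⟨b * algebraMap D B a, ?_⟩
    rw [KaehlerDifferential.mapBaseChange_tmul, map_smul, KaehlerDifferential.map_D, ← ht,
      mul_smul, algebraMap_smul]
  | add x y hx hy =>
    obtain ⟨a, ha⟩ := hx; obtain ⟨b, hb⟩ := hy
    exact ⟨a + b, by rw [map_add, ha, hb, add_smul]⟩

lemma tmul_smul_eq {M : Type u} [AddCommGroup M] [Module B M] (I : Ideal B) (b' : B ⧸ I) (c : B)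
    (ω : M) : b' ⊗ₜ[B] (c • ω) = (b' * Ideal.Quotient.mk I c) • ((1 : B ⧸ I) ⊗ₜ[B] ω) := by
  rw [TensorProduct.smul_tmul', smul_eq_mul, mul_one, TensorProduct.tmul_smul,
    TensorProduct.smul_tmul', Algebra.smul_def, mul_comm]
  rfl

include hs hk ht hfs in
theorem main18837 :
    Module.Projective B (Ω[B⁄D]) ∧
    Module.Projective (B ⧸ Ideal.span {t ^ n}) ((B ⧸ Ideal.span {t ^ n}) ⊗[B] Ω[B⁄k]) ∧
    Function.Injective
      (LinearMap.toSpanSingleton (B ⧸ Ideal.span {t ^ n}) ((B ⧸ Ideal.span {t ^ n}) ⊗[B] Ω[B⁄k])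
        ((1 : (B ⧸ Ideal.span {t ^ n})) ⊗ₜ[B] KaehlerDifferential.D k B t)) ∧
    Function.Exact
      (LinearMap.toSpanSingleton (B ⧸ Ideal.span {t ^ n}) ((B ⧸ Ideal.span {t ^ n}) ⊗[B] Ω[B⁄k])
        ((1 : (B ⧸ Ideal.span {t ^ n})) ⊗ₜ[B] KaehlerDifferential.D k B t))
      (LinearMap.baseChange (B ⧸ Ideal.span {t ^ n}) (KaehlerDifferential.map k D B B)) ∧
    Function.Surjective
      (LinearMap.baseChange (B ⧸ Ideal.span {t ^ n}) (KaehlerDifferential.map k D B B)) := by
  haveI : Algebra.FormallySmooth D B := formallySmooth' n τ hs hk t ht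
  obtain ⟨ψ, hψ⟩ := exists_psi n τ hs hk t ht
  obtain ⟨v, hv⟩ : ∃ v : (B ⧸ Ideal.span {t ^ n}) ⊗[B] Ω[B⁄k],
    v = (1 : (B ⧸ Ideal.span {t ^ n})) ⊗ₜ[B] KaehlerDifferential.D k B t := ⟨_, rfl⟩
  rw [← hv]
  let ψ' : (B ⧸ Ideal.span {t ^ n}) ⊗[B] Ω[B⁄k] →ₗ[B ⧸ Ideal.span {t ^ n}]
    (B ⧸ Ideal.span {t ^ n}) := LinearMap.liftBaseChange (B ⧸ Ideal.span {t ^ n}) ψ
  have hψ' : ψ' v = 1 := by
    rw [hv]
    change LinearMap.liftBaseChange (B ⧸ Ideal.span {t ^ n}) ψ _ = 1
    rw [LinearMap.liftBaseChange_tmul, one_smul, hψ]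
  obtain ⟨G, hG⟩ : ∃ G, G = LinearMap.baseChange (B ⧸ Ideal.span {t ^ n})
    (KaehlerDifferential.map k D B B) := ⟨_, rfl⟩
  rw [← hG]
  have hGfun : ∀ y, G y = (KaehlerDifferential.map k D B B).lTensor (B ⧸ Ideal.span {t ^ n}) y := by
    intro y
    rw [hG, LinearMap.baseChange_eq_ltensor]
  have hGsurj : Function.Surjective G := by
    intro z
    obtain ⟨y, hy⟩ := LinearMap.lTensor_surjective (B ⧸ Ideal.span {t ^ n})
      (KaehlerDifferential.map_surjective k D B) z
    exact ⟨y, by rw [hGfun, hy]⟩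
  have hGv : G v = 0 := by
    rw [hG, hv, LinearMap.baseChange_tmul, KaehlerDifferential.map_D, ht, Algebra.algebraMap_self,
      RingHom.id_apply, Derivation.map_algebraMap, TensorProduct.tmul_zero]
  have hrange : ∀ w : (B ⧸ Ideal.span {t ^ n}) ⊗[B] (B ⊗[D] Ω[D⁄k]),
      ∃ b : B ⧸ Ideal.span {t ^ n},
        (KaehlerDifferential.mapBaseChange k D B).lTensor (B ⧸ Ideal.span {t ^ n}) w = b • v := by
    intro w
    induction w using TensorProduct.induction_on with
    | zero => exact ⟨0, by simp⟩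
    | tmul b' z =>
      obtain ⟨c, hc⟩ := mapBaseChange_mem τ hs t ht z
      refine ⟨b' * Ideal.Quotient.mk _ c, ?_⟩
      rw [LinearMap.lTensor_tmul, hc, hv, tmul_smul_eq]
    | add x y hx hy =>
      obtain ⟨a, ha⟩ := hx; obtain ⟨b, hb⟩ := hy
      exact ⟨a + b, by rw [map_add, ha, hb, add_smul]⟩
  have hex : ∀ y, G y = 0 → ∃ b : B ⧸ Ideal.span {t ^ n}, y = b • v := by
    intro y hy
    have hE := lTensor_exact (B ⧸ Ideal.span {t ^ n})
      (KaehlerDifferential.exact_mapBaseChange_map k D B) (KaehlerDifferential.map_surjective k D B)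
    rw [hGfun] at hy
    obtain ⟨w, rfl⟩ := (hE y).mp hy
    exact hrange w
  refine ⟨inferInstance, ?_, ?_, ?_, hGsurj⟩
  · exact projective_of_split G hGsurj v ψ' hψ' hex hGv
  · intro a b hab
    have := congrArg ψ' hab
    simpa [LinearMap.toSpanSingleton_apply, hψ'] using this
  · intro y
    constructor
    · intro hy
      obtain ⟨b, rfl⟩ := hex y hy
      exact ⟨b, rfl⟩
    · rintro ⟨b, rfl⟩
      rw [LinearMap.toSpanSingleton_apply, map_smul, hGv, smul_zero]

include hs hk ht in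
lemma annB (j : ℕ) (hj : j ≤ n + 1) (b : B) (hb : t ^ j * b = 0) :
    ∃ c, b = t ^ (n + 1 - j) * c := by
  have hrel : ∑ _i : Unit, (τ ^ j) • b = 0 := by
    rw [Fintype.sum_unique, Algebra.smul_def, map_pow, ← ht, hb]
  obtain ⟨l, a, y, hxy, hay⟩ := Module.Flat.isTrivialRelation_of_sum_smul_eq_zero
    (R := D) (M := B) (f := fun _ : Unit => τ ^ j) (x := fun _ : Unit => b) hrel
  simp only [Fintype.sum_unique] at hay
  have h1 : ∀ j' : Fin l, ∃ d : D, a () j' = τ ^ (n + 1 - j) * d := fun j' =>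
    ann n τ hs hk j hj _ (hay j')
  choose d hd using h1
  refine ⟨∑ j' : Fin l, algebraMap D B (d j') * y j', ?_⟩
  have hb' : b = ∑ j', a () j' • y j' := hxy ()
  rw [hb', Finset.mul_sum]
  refine Finset.sum_congr rfl fun j' _ => ?_
  rw [hd j', Algebra.smul_def, map_mul, map_pow, ← ht, mul_assoc]

include hk ht in
lemma t_pow : t ^ (n + 1) = 0 := by
  rw [ht, ← map_pow, tau_pow n τ hk, map_zero]

include hs hk ht hfs in
lemma core_inj [CharZero k] (hn : 1 ≤ n) (f : B)
    (h1 : Ideal.Quotient.mk (Ideal.span {t ^ n}) f = 0)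
    (h2 : (1 : B ⧸ Ideal.span {t ^ n}) ⊗ₜ[B] KaehlerDifferential.D k B f = 0) : f = 0 := by
  obtain ⟨m, rfl⟩ : ∃ m, n = m + 1 := ⟨n - 1, by omega⟩
  rw [Ideal.Quotient.eq_zero_iff_mem, Ideal.mem_span_singleton] at h1
  obtain ⟨g, rfl⟩ := h1
  have hinj := (main18837 (m + 1) τ hs hk t ht).2.2.1
  have hD : KaehlerDifferential.D k B (t ^ (m + 1) * g) =
      t ^ (m + 1) • KaehlerDifferential.D k B g +
        (g * ((m + 1 : ℕ) : B) * t ^ m) • KaehlerDifferential.D k B t := by
    rw [Derivation.leibniz, Derivation.leibniz_pow, Nat.add_sub_cancel, mul_smul, mul_smul,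
      Nat.cast_smul_eq_nsmul]
  rw [hD, TensorProduct.tmul_add, tmul_smul_eq, tmul_smul_eq, one_mul, one_mul] at h2
  have h3 : Ideal.Quotient.mk (Ideal.span {t ^ (m + 1)}) (t ^ (m + 1)) = 0 :=
    Ideal.Quotient.eq_zero_iff_mem.mpr (Ideal.mem_span_singleton_self _)
  rw [h3, zero_smul, zero_add] at h2
  have h4 : Ideal.Quotient.mk (Ideal.span {t ^ (m + 1)}) (g * ((m + 1 : ℕ) : B) * t ^ m) = 0 := by
    apply hinj
    rw [LinearMap.toSpanSingleton_apply, LinearMap.toSpanSingleton_apply, h2, zero_smul]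
  rw [Ideal.Quotient.eq_zero_iff_mem, Ideal.mem_span_singleton] at h4
  obtain ⟨h', hh'⟩ := h4
  obtain ⟨w, hw⟩ : ∃ w : B, w * ((m + 1 : ℕ) : B) = 1 := by
    refine ⟨algebraMap k B (((m + 1 : ℕ) : k)⁻¹), ?_⟩
    rw [← map_natCast (algebraMap k B), ← map_mul, inv_mul_cancel₀, map_one]
    exact_mod_cast Nat.succ_ne_zero m
  have h5 : t ^ m * (g - t * (w * h')) = 0 := by
    have : g * t ^ m = w * (g * ((m + 1 : ℕ) : B) * t ^ m) := by
      calc g * t ^ m = (w * ((m + 1 : ℕ) : B)) * (g * t ^ m) := by rw [hw, one_mul]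
        _ = _ := by ring
    rw [mul_sub, mul_comm (t ^ m) g, this, hh']
    ring
  obtain ⟨c, hc⟩ := annB (m + 1) τ hs hk t ht m (by omega) _ h5
  have h6 : g = t * (w * h') + t ^ (m + 1 + 1 - m) * c := by rw [← hc]; ring
  have h7 : m + 1 + 1 - m = 2 := by omega
  rw [h7] at h6
  have h8 := t_pow (m + 1) τ hk t ht
  rw [h6]
  calc t ^ (m + 1) * (t * (w * h') + t ^ 2 * c) = t ^ (m + 1 + 1) * (w * h' + t * c) := by ring
    _ = 0 := by rw [h8, zero_mul]

include hs hk ht hfs in
theorem main18838 [CharZero k] (hn : 1 ≤ n) :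
    Function.Injective (fun f : B =>
      ((Ideal.Quotient.mk (Ideal.span {t ^ n}) f,
        (1 : (B ⧸ Ideal.span {t ^ n})) ⊗ₜ[B] KaehlerDifferential.D k B f) :
          (B ⧸ Ideal.span {t ^ n}) × ((B ⧸ Ideal.span {t ^ n}) ⊗[B] Ω[B⁄k]))) ∧
    Set.range (fun f : B =>
      ((Ideal.Quotient.mk (Ideal.span {t ^ n}) f,
        (1 : (B ⧸ Ideal.span {t ^ n})) ⊗ₜ[B] KaehlerDifferential.D k B f) :
          (B ⧸ Ideal.span {t ^ n}) × ((B ⧸ Ideal.span {t ^ n}) ⊗[B] Ω[B⁄k]))) =
      {p | KaehlerDifferential.D k (B ⧸ Ideal.span {t ^ n}) p.1 =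
        KaehlerDifferential.mapBaseChange k B (B ⧸ Ideal.span {t ^ n}) p.2} := by
  constructor
  · intro f f' hff'
    have h1 := congrArg Prod.fst hff'
    have h2 := congrArg Prod.snd hff'
    simp only at h1 h2
    rw [← sub_eq_zero]
    apply core_inj n τ hs hk t ht hn
    · rw [map_sub, h1, sub_self]
    · rw [map_sub, TensorProduct.tmul_sub, h2, sub_self]
  · ext ⟨g, α⟩
    simp only [Set.mem_range, Set.mem_ofPred_eq, Prod.mk.injEq]
    constructor
    · rintro ⟨f, rfl, rfl⟩
      rw [KaehlerDifferential.mapBaseChange_tmul, one_smul, KaehlerDifferential.map_D]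
      rfl
    · intro h
      obtain ⟨f₀, rfl⟩ := Ideal.Quotient.mk_surjective g
      have hsurj : Function.Surjective (algebraMap B (B ⧸ Ideal.span {t ^ n})) :=
        Ideal.Quotient.mk_surjective
      have hE := KaehlerDifferential.exact_kerCotangentToTensor_mapBaseChange k B
        (B ⧸ Ideal.span {t ^ n}) hsurj
      have h0 : KaehlerDifferential.mapBaseChange k B (B ⧸ Ideal.span {t ^ n})
          (α - (1 : (B ⧸ Ideal.span {t ^ n})) ⊗ₜ[B] KaehlerDifferential.D k B f₀) = 0 := by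
        rw [map_sub, ← h, KaehlerDifferential.mapBaseChange_tmul, one_smul,
          KaehlerDifferential.map_D, sub_eq_zero]
        rfl
      obtain ⟨c, hc⟩ := (hE _).mp h0
      obtain ⟨x, rfl⟩ := Ideal.toCotangent_surjective _ c
      rw [KaehlerDifferential.kerCotangentToTensor_toCotangent] at hc
      refine ⟨f₀ + (x : B), ?_, ?_⟩
      · rw [map_add, add_eq_left]
        have := x.2
        rwa [RingHom.mem_ker] at this
      · rw [map_add, TensorProduct.tmul_add, hc]
        abel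

include ht in
lemma mapBaseChange_D_injective :
    Function.Injective (KaehlerDifferential.mapBaseChange D B (B ⧸ Ideal.span {t ^ n})) := by
  rw [injective_iff_map_eq_zero]
  intro z hz
  have hsurj : Function.Surjective (algebraMap B (B ⧸ Ideal.span {t ^ n})) :=
    Ideal.Quotient.mk_surjective
  have hE := KaehlerDifferential.exact_kerCotangentToTensor_mapBaseChange D B
    (B ⧸ Ideal.span {t ^ n}) hsurj
  obtain ⟨c, rfl⟩ := (hE z).mp hz
  obtain ⟨x, rfl⟩ := Ideal.toCotangent_surjective _ c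
  rw [KaehlerDifferential.kerCotangentToTensor_toCotangent]
  have hx : Ideal.Quotient.mk (Ideal.span {t ^ n}) (x : B) = 0 := x.2
  rw [Ideal.Quotient.eq_zero_iff_mem, Ideal.mem_span_singleton] at hx
  obtain ⟨h, hh⟩ := hx
  have h0 : KaehlerDifferential.D D B (t ^ n) = 0 := by
    rw [ht, ← map_pow, Derivation.map_algebraMap]
  rw [hh, Derivation.leibniz, h0, smul_zero, add_zero, tmul_smul_eq, one_mul]
  have h3 : Ideal.Quotient.mk (Ideal.span {t ^ n}) (t ^ n) = 0 :=
    Ideal.Quotient.eq_zero_iff_mem.mpr (Ideal.mem_span_singleton_self _)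
  rw [h3, zero_smul]

lemma square_comm (y : (B ⧸ Ideal.span {t ^ n}) ⊗[B] Ω[B⁄k]) :
    KaehlerDifferential.mapBaseChange D B (B ⧸ Ideal.span {t ^ n})
      (LinearMap.baseChange (B ⧸ Ideal.span {t ^ n}) (KaehlerDifferential.map k D B B) y) =
    KaehlerDifferential.map k D (B ⧸ Ideal.span {t ^ n}) (B ⧸ Ideal.span {t ^ n})
      (KaehlerDifferential.mapBaseChange k B (B ⧸ Ideal.span {t ^ n}) y) := by
  induction y using TensorProduct.induction_on with
  | zero => simp
  | add x y hx hy => rw [map_add, map_add, map_add, map_add, hx, hy]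
  | tmul b' η =>
    rw [LinearMap.baseChange_tmul, KaehlerDifferential.mapBaseChange_tmul,
      KaehlerDifferential.mapBaseChange_tmul, map_smul]
    congr 1
    have hη : η ∈ Submodule.span B (Set.range (KaehlerDifferential.D k B)) := by
      rw [KaehlerDifferential.span_range_derivation]; trivial
    induction hη using Submodule.span_induction with
    | mem x hx =>
      obtain ⟨b, rfl⟩ := hx
      simp only [KaehlerDifferential.map_D]
      rfl
    | zero => simp
    | add x y _ _ hx hy => rw [map_add, map_add, map_add, map_add, hx, hy]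
    | smul c x _ hx =>
      rw [map_smul, map_smul, map_smul, hx, LinearMap.map_smul_of_tower]

include hs hk ht hfs in
theorem main18839 [CharZero k] :
    Function.Injective (fun η : Ω[B⁄k] =>
      ((KaehlerDifferential.map k D B B η, (1 : (B ⧸ Ideal.span {t ^ n})) ⊗ₜ[B] η) :
        Ω[B⁄D] × ((B ⧸ Ideal.span {t ^ n}) ⊗[B] Ω[B⁄k]))) ∧
    Set.range (fun η : Ω[B⁄k] =>
      ((KaehlerDifferential.map k D B B η, (1 : (B ⧸ Ideal.span {t ^ n})) ⊗ₜ[B] η) :
        Ω[B⁄D] × ((B ⧸ Ideal.span {t ^ n}) ⊗[B] Ω[B⁄k]))) =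
      {p | KaehlerDifferential.map D D B (B ⧸ Ideal.span {t ^ n}) p.1 =
        KaehlerDifferential.map k D (B ⧸ Ideal.span {t ^ n}) (B ⧸ Ideal.span {t ^ n})
          (KaehlerDifferential.mapBaseChange k B (B ⧸ Ideal.span {t ^ n}) p.2)} := by
  obtain ⟨-, -, hinj, hexact, -⟩ := main18837 n τ hs hk t ht
  have hDt : KaehlerDifferential.map k D B B (KaehlerDifferential.D k B t) = 0 := by
    rw [KaehlerDifferential.map_D, ht, Algebra.algebraMap_self, RingHom.id_apply,
      Derivation.map_algebraMap]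
  have hcompat : ∀ η : Ω[B⁄k], KaehlerDifferential.map D D B (B ⧸ Ideal.span {t ^ n})
      (KaehlerDifferential.map k D B B η) =
      KaehlerDifferential.map k D (B ⧸ Ideal.span {t ^ n}) (B ⧸ Ideal.span {t ^ n})
        (KaehlerDifferential.mapBaseChange k B (B ⧸ Ideal.span {t ^ n})
          ((1 : (B ⧸ Ideal.span {t ^ n})) ⊗ₜ[B] η)) := by
    intro η
    rw [← square_comm, LinearMap.baseChange_tmul, KaehlerDifferential.mapBaseChange_tmul, one_smul]
  constructor
  · intro η η' hηη'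
    have h1 := congrArg Prod.fst hηη'
    have h2 := congrArg Prod.snd hηη'
    simp only at h1 h2
    rw [← sub_eq_zero]
    have h1' : KaehlerDifferential.map k D B B (η - η') = 0 := by rw [map_sub, h1, sub_self]
    have h2' : (1 : (B ⧸ Ideal.span {t ^ n})) ⊗ₜ[B] (η - η') = 0 := by
      rw [TensorProduct.tmul_sub, h2, sub_self]
    obtain ⟨z, hz⟩ := (KaehlerDifferential.exact_mapBaseChange_map k D B _).mp h1'
    obtain ⟨c, hc⟩ := mapBaseChange_mem τ hs t ht z
    rw [← hz, hc] at h2' ⊢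
    rw [tmul_smul_eq, one_mul] at h2'
    have h4 : Ideal.Quotient.mk (Ideal.span {t ^ n}) c = 0 := by
      apply hinj
      rw [LinearMap.toSpanSingleton_apply, LinearMap.toSpanSingleton_apply, h2', zero_smul]
    rw [Ideal.Quotient.eq_zero_iff_mem, Ideal.mem_span_singleton] at h4
    obtain ⟨c', rfl⟩ := h4
    have h5 : t ^ n • KaehlerDifferential.D k B t = 0 := by
      have h6 : KaehlerDifferential.D k B (t ^ (n + 1)) = 0 := by
        rw [t_pow n τ hk t ht, map_zero]
      rw [Derivation.leibniz_pow, Nat.add_sub_cancel] at h6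
      obtain ⟨w, hw⟩ : ∃ w : B, w * ((n + 1 : ℕ) : B) = 1 := by
        refine ⟨algebraMap k B (((n + 1 : ℕ) : k)⁻¹), ?_⟩
        rw [← map_natCast (algebraMap k B), ← map_mul, inv_mul_cancel₀, map_one]
        exact_mod_cast Nat.succ_ne_zero n
      have := congrArg (fun x => w • x) h6
      simp only [smul_zero] at this
      rwa [← Nat.cast_smul_eq_nsmul B, smul_smul, hw, one_smul] at this
    rw [mul_comm, mul_smul, h5, smul_zero]
  · ext ⟨α, β⟩
    simp only [Set.mem_range, Set.mem_ofPred_eq, Prod.mk.injEq]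
    constructor
    · rintro ⟨η, rfl, rfl⟩
      exact hcompat η
    · intro h
      obtain ⟨η₀, rfl⟩ := KaehlerDifferential.map_surjective k D B α
      have h0 : KaehlerDifferential.map k D (B ⧸ Ideal.span {t ^ n}) (B ⧸ Ideal.span {t ^ n})
          (KaehlerDifferential.mapBaseChange k B (B ⧸ Ideal.span {t ^ n})
            (β - (1 : (B ⧸ Ideal.span {t ^ n})) ⊗ₜ[B] η₀)) = 0 := by
        rw [map_sub, map_sub, ← h, ← hcompat, sub_self]
      rw [← square_comm] at h0
      have h1 := mapBaseChange_D_injective n τ t ht (h0.trans (map_zero _).symm)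
      obtain ⟨b', hb'⟩ := (hexact _).mp h1
      obtain ⟨c, rfl⟩ := Ideal.Quotient.mk_surjective b'
      rw [LinearMap.toSpanSingleton_apply] at hb'
      refine ⟨η₀ + c • KaehlerDifferential.D k B t, ?_, ?_⟩
      · rw [map_add, map_smul, hDt, smul_zero, add_zero]
      · rw [TensorProduct.tmul_add, tmul_smul_eq, one_mul, hb']
        abel

end Main

section OfEquiv

variable {k : Type u} [Field k] (n : ℕ) {D : Type u} [CommRing D] [Algebra k D] (τ : D)

lemma of_equiv (e : (k[X] ⧸ Ideal.span {(X : k[X]) ^ (n + 1)}) ≃ₐ[k] D)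
    (he : e (Ideal.Quotient.mk (Ideal.span {(X : k[X]) ^ (n + 1)}) X) = τ) :
    Function.Surjective (aeval τ : k[X] →ₐ[k] D) ∧
      ∀ p : k[X], aeval τ p = 0 ↔ X ^ (n + 1) ∣ p := by
  have h : (aeval τ : k[X] →ₐ[k] D) =
      (e : _ →ₐ[k] D).comp (Ideal.Quotient.mkₐ k (Ideal.span {(X : k[X]) ^ (n + 1)})) := by
    apply Polynomial.algHom_ext
    simp [he]
  constructor
  · rw [h]
    exact e.surjective.comp (Ideal.Quotient.mkₐ_surjective k _)
  · intro p
    rw [h, AlgHom.comp_apply, AlgEquiv.coe_toAlgHom, map_eq_zero_iff e e.injective,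
      Ideal.Quotient.mkₐ_eq_mk, Ideal.Quotient.eq_zero_iff_mem, Ideal.mem_span_singleton]

end OfEquiv

end Groth.Agent.Lib.helper19.TruncPoly
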