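import Mathlib
import Groth.Prelude.Def_Exal
import Groth.Agent.Lib.helper19.ExtLocal

/-! A uniform power of the maximal ideal of the middle ring of an extension of a Noetherian local
ring by its residue field missing the kernel (Artin–Rees on the syzygies of the maximal ideal). -/

set_option autoImplicit false
universe u

namespace Groth.Agent.Lib.helper19.UnifPow

open IsLocalRing Exal Groth.Agent.Lib.helper19.ExtLocal

variable {Λ : Type u} [CommRing Λ] {R : Type u} [CommRing R] [Algebra Λ R] [IsLocalRing R]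
  {d : ℕ} (r : Fin d → R) (hr : Ideal.span (Set.range r) = maximalIdeal R)

/-- the presentation of the maximal ideal. -/
noncomputable def piR : (Fin d → R) →ₗ[R] R := Fintype.linearCombination R r

lemma piR_apply (v : Fin d → R) : piR r v = ∑ i, v i * r i := by
  unfold piR
  rw [Fintype.linearCombination_apply]
  rfl

variable (X : Exal.Ext Λ R (ResidueField R)) (e : Fin d → X.E) (he : ∀ i, X.proj (e i) = r i)

include hr he in
lemma e_mem (i : Fin d) : e i ∈ maximalIdeal X.E := by
  rw [mem_maximalIdeal_iff, he, ← hr]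
  exact Ideal.subset_span (Set.mem_range_self i)

include hr he in
lemma e_mul_of_proj_zero (i : Fin d) (w : X.E) (hw : X.proj w = 0) : e i * w = 0 := by
  obtain ⟨z, rfl⟩ := (X.isExtension.exact w).mp hw
  exact mul_incl_eq_zero X _ (e_mem r hr X e he i) z

lemma mul_of_proj_zero (a : X.E) (ha : a ∈ maximalIdeal X.E) (w : X.E) (hw : X.proj w = 0) :
    a * w = 0 := by
  obtain ⟨z, rfl⟩ := (X.isExtension.exact w).mp hw
  exact mul_incl_eq_zero X _ ha z

include hr he in
lemma key (v : Fin d → R) (hv : v ∈ maximalIdeal R • LinearMap.ker (piR r)) :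
    ∀ w : Fin d → X.E, (∀ i, X.proj (w i) = v i) → ∑ i, e i * w i = 0 := by
  refine Submodule.smul_induction_on (p := fun v => ∀ w : Fin d → X.E,
    (∀ i, X.proj (w i) = v i) → ∑ i, e i * w i = 0) hv ?_ ?_
  · intro μ hμ s hs w hw
    obtain ⟨μ', rfl⟩ := X.isExtension.proj_surjective μ
    have hμ' : μ' ∈ maximalIdeal X.E := (mem_maximalIdeal_iff X μ').mpr hμ
    choose s' hs' using fun i => X.isExtension.proj_surjective (s i)
    have h1 : ∀ i, e i * w i = μ' * (e i * s' i) := by
      intro i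
      have h0 : X.proj (w i - μ' * s' i) = 0 := by
        rw [map_sub, map_mul, hw, hs', Pi.smul_apply, smul_eq_mul, sub_self]
      have := e_mul_of_proj_zero r hr X e he i _ h0
      rw [mul_sub, sub_eq_zero] at this
      rw [this]
      ring
    rw [Finset.sum_congr rfl fun i _ => h1 i, ← Finset.mul_sum]
    apply mul_of_proj_zero X μ' hμ'
    rw [map_sum]
    have h2 : piR r s = 0 := hs
    rw [piR_apply] at h2
    rw [← h2]
    refine Finset.sum_congr rfl fun i _ => ?_
    rw [map_mul, he, hs', mul_comm]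
  · intro v₁ v₂ h₁ h₂ w hw
    choose w₁ hw₁ using fun i => X.isExtension.proj_surjective (v₁ i)
    have hw₂ : ∀ i, X.proj (w i - w₁ i) = v₂ i := by
      intro i
      rw [map_sub, hw, hw₁, Pi.add_apply, add_sub_cancel_left]
    have e1 := h₁ w₁ hw₁
    have e2 := h₂ (fun i => w i - w₁ i) hw₂
    have : ∑ i, e i * w i = ∑ i, e i * w₁ i + ∑ i, e i * (w i - w₁ i) := by
      rw [← Finset.sum_add_distrib]
      refine Finset.sum_congr rfl fun i _ => ?_
      ring
    rw [this, e1, e2, add_zero]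

include hr he in
lemma decomp_mem (a : X.E) (ha : a ∈ maximalIdeal X.E) :
    ∃ c : Fin d → X.E, X.proj (a - ∑ i, c i * e i) = 0 := by
  have h1 : X.proj a ∈ Ideal.span (Set.range r) := by
    rw [hr]
    exact (mem_maximalIdeal_iff X a).mp ha
  obtain ⟨c', hc'⟩ := Ideal.mem_span_range_iff_exists_fun.mp h1
  choose c hc using fun i => X.isExtension.proj_surjective (c' i)
  refine ⟨c, ?_⟩
  rw [map_sub, map_sum, ← hc', sub_eq_zero]
  refine Finset.sum_congr rfl fun i _ => ?_
  rw [map_mul, hc, he]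

include hr he in
lemma decomp (N : ℕ) (hN : 1 ≤ N) (x : X.E)
    (hx : x ∈ maximalIdeal X.E * maximalIdeal X.E ^ N) :
    ∃ y : Fin d → X.E, (∀ i, y i ∈ maximalIdeal X.E ^ N) ∧ x = ∑ i, e i * y i := by
  induction hx using Submodule.mul_induction_on' with
  | mem_mul_mem a ha y hy =>
    obtain ⟨c, hc⟩ := decomp_mem r hr X e he a ha
    refine ⟨fun i => c i * y, fun i => Ideal.mul_mem_left _ _ hy, ?_⟩
    have hym : y ∈ maximalIdeal X.E := Ideal.pow_le_self (Nat.one_le_iff_ne_zero.mp hN) hy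
    have h1 : y * (a - ∑ i, c i * e i) = 0 := mul_of_proj_zero X y hym _ hc
    have h2 : a * y = (∑ i, c i * e i) * y := by
      have : y * a = y * ∑ i, c i * e i := by
        rw [mul_sub, sub_eq_zero] at h1
        exact h1
      rw [mul_comm a y, this, mul_comm]
    rw [h2, Finset.sum_mul]
    refine Finset.sum_congr rfl fun i _ => ?_
    ring
  | add x₁ _ x₂ _ h₁ h₂ =>
    obtain ⟨y₁, hy₁, rfl⟩ := h₁
    obtain ⟨y₂, hy₂, rfl⟩ := h₂
    refine ⟨fun i => y₁ i + y₂ i, fun i => Submodule.add_mem _ (hy₁ i) (hy₂ i), ?_⟩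
    rw [← Finset.sum_add_distrib]
    refine Finset.sum_congr rfl fun i _ => ?_
    ring

lemma map_proj_pow (N : ℕ) :
    Ideal.map X.proj (maximalIdeal X.E ^ N) = maximalIdeal R ^ N := by
  rw [Ideal.map_pow]
  congr 1
  exact map_maximalIdeal_of_surjective X.proj.toRingHom X.isExtension.proj_surjective

lemma proj_mem_pow (N : ℕ) (y : X.E) (hy : y ∈ maximalIdeal X.E ^ N) :
    X.proj y ∈ maximalIdeal R ^ N := by
  rw [← map_proj_pow X N]
  exact Ideal.mem_map_of_mem _ hy

lemma mem_smul_top (N : ℕ) (v : Fin d → R) (hv : ∀ i, v i ∈ maximalIdeal R ^ N) :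
    v ∈ (maximalIdeal R ^ N) • (⊤ : Submodule R (Fin d → R)) := by
  have : v = ∑ i, v i • (Pi.single i 1 : Fin d → R) := by
    funext j
    simp [Finset.sum_apply, Pi.single_apply]
  rw [this]
  exact Submodule.sum_mem _ fun i _ => Submodule.smul_mem_smul (hv i) Submodule.mem_top

include hr he in
lemma eq_zero_of_mem (c : ℕ)
    (hc : ∀ n ≥ c, (maximalIdeal R ^ n) • (⊤ : Submodule R (Fin d → R)) ⊓ LinearMap.ker (piR r) =
      (maximalIdeal R ^ (n - c)) •
        ((maximalIdeal R ^ c) • (⊤ : Submodule R (Fin d → R)) ⊓ LinearMap.ker (piR r)))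
    (x : X.E) (hx : x ∈ maximalIdeal X.E ^ (c + 1 + 1)) (hpx : X.proj x = 0) : x = 0 := by
  rw [pow_succ'] at hx
  obtain ⟨y, hy, rfl⟩ := decomp r hr X e he (c + 1) (Nat.le_add_left 1 c) x hx
  have hv1 : (fun i => X.proj (y i)) ∈
      (maximalIdeal R ^ (c + 1)) • (⊤ : Submodule R (Fin d → R)) :=
    mem_smul_top (c + 1) _ fun i => proj_mem_pow X (c + 1) (y i) (hy i)
  have hv2 : (fun i => X.proj (y i)) ∈ LinearMap.ker (piR r) := by
    rw [LinearMap.mem_ker, piR_apply, ← hpx, map_sum]
    refine Finset.sum_congr rfl fun i _ => ?_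
    rw [map_mul, he, mul_comm]
  have hv : (fun i => X.proj (y i)) ∈ maximalIdeal R • LinearMap.ker (piR r) := by
    have h3 : (fun i => X.proj (y i)) ∈
        (maximalIdeal R ^ (c + 1)) • (⊤ : Submodule R (Fin d → R)) ⊓ LinearMap.ker (piR r) :=
      ⟨hv1, hv2⟩
    rw [hc (c + 1) (Nat.le_succ c), Nat.add_sub_cancel_left, pow_one] at h3
    exact Submodule.smul_mono le_rfl inf_le_right h3
  exact key r hr X e he _ hv y fun i => rfl

theorem main11282 (Λ : Type u) [CommRing Λ] (R : Type u) [CommRing R] [Algebra Λ R]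
    [IsLocalRing R] [IsNoetherianRing R] :
    ∃ n : ℕ, ∀ X : Exal.Ext Λ R (IsLocalRing.ResidueField R),
      ∃ I : Ideal X.E, (∀ x ∈ I, X.proj x = 0 → x = 0) ∧
        Ideal.map X.proj I = IsLocalRing.maximalIdeal R ^ (n + 1) := by
  obtain ⟨d, r, hr⟩ := Submodule.fg_iff_exists_fin_generating_family.mp
    (IsNoetherian.noetherian (maximalIdeal R))
  obtain ⟨c, hc⟩ := Ideal.exists_pow_inf_eq_pow_smul (maximalIdeal R)
    (LinearMap.ker (piR r))
  refine ⟨c + 1, fun X => ⟨maximalIdeal X.E ^ (c + 1 + 1), ?_, map_proj_pow X _⟩⟩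
  choose e he using fun i => X.isExtension.proj_surjective (r i)
  intro x hx hpx
  exact eq_zero_of_mem r hr X e he c hc x hx hpx

end Groth.Agent.Lib.helper19.UnifPow
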