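import Mathlib

/-!
# Unramified coordinates at a prime (S7619)
-/

open TensorProduct KaehlerDifferential

namespace Groth.Agent.Lib.helper19.UnramCoords

universe u

variable (A B : Type u) [CommRing A] [CommRing B] [Algebra A B]

theorem span_one_tmul_D (K : Type*) [Field K] [Algebra B K] :
    Submodule.span K (Set.range fun b : B => (1 : K) ⊗ₜ[B] KaehlerDifferential.D A B b) = ⊤ := by
  rw [eq_top_iff]
  rintro x -
  induction x using TensorProduct.induction_on with
  | zero => exact Submodule.zero_mem _
  | add x y hx hy => exact Submodule.add_mem _ hx hy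
  | tmul k ω =>
    have hω : ω ∈ Submodule.span B (Set.range (KaehlerDifferential.D A B)) := by
      rw [KaehlerDifferential.span_range_derivation]; trivial
    induction hω using Submodule.span_induction with
    | mem ω h =>
      obtain ⟨b, rfl⟩ := h
      have : k ⊗ₜ[B] KaehlerDifferential.D A B b = k • ((1 : K) ⊗ₜ[B] KaehlerDifferential.D A B b) := by
        rw [TensorProduct.smul_tmul', smul_eq_mul, mul_one]
      rw [this]
      exact Submodule.smul_mem _ _ (Submodule.subset_span ⟨b, rfl⟩)
    | zero => rw [TensorProduct.tmul_zero]; exact Submodule.zero_mem _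
    | add x y _ _ hx hy => rw [TensorProduct.tmul_add]; exact Submodule.add_mem _ hx hy
    | smul a x _ hx =>
      have : k ⊗ₜ[B] (a • x) = (algebraMap B K a) • (k ⊗ₜ[B] x) := by
        rw [TensorProduct.tmul_smul, algebraMap_smul]
      rw [this]
      exact Submodule.smul_mem _ _ hx

theorem main [Algebra.FiniteType A B]
    (q : Ideal B) [q.IsPrime] (r : ℕ)
    (hr : Module.finrank q.ResidueField (q.ResidueField ⊗[B] Ω[B⁄A]) = r) :
    ∃ φ : MvPolynomial (Fin r) A →ₐ[A] B,
      letI := φ.toRingHom.toAlgebra
      Algebra.IsUnramifiedAt (MvPolynomial (Fin r) A) q := by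
  let K := q.ResidueField
  have hspan := span_one_tmul_D A B K
  obtain ⟨f, hf, hfspan, -⟩ := Submodule.exists_fun_fin_finrank_span_eq K
    (Set.range fun b : B => (1 : K) ⊗ₜ[B] KaehlerDifferential.D A B b)
  have hcard : Module.finrank K (Submodule.span K
      (Set.range fun b : B => (1 : K) ⊗ₜ[B] KaehlerDifferential.D A B b)) = r := by
    rw [hspan, finrank_top]; exact hr
  replace hfspan := hfspan.trans hspan
  let e : Fin r ≃ Fin (Module.finrank K (Submodule.span K
      (Set.range fun b : B => (1 : K) ⊗ₜ[B] KaehlerDifferential.D A B b))) := finCongr hcard.symm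
  have hg : ∀ i : Fin r, ∃ b : B, (1 : K) ⊗ₜ[B] KaehlerDifferential.D A B b = f (e i) := fun i => hf (e i)
  choose b hb using hg
  have hbspan : Submodule.span K (Set.range fun i : Fin r =>
      (1 : K) ⊗ₜ[B] KaehlerDifferential.D A B (b i)) = ⊤ := by
    rw [← hfspan]
    congr 1
    ext x
    constructor
    · rintro ⟨i, rfl⟩
      exact ⟨e i, (hb i).symm⟩
    · rintro ⟨j, rfl⟩
      refine ⟨e.symm j, ?_⟩
      simp only [hb, Equiv.apply_symm_apply]
  refine ⟨MvPolynomial.aeval b, ?_⟩
  letI : Algebra (MvPolynomial (Fin r) A) B := (MvPolynomial.aeval b : MvPolynomial (Fin r) A →ₐ[A] B).toRingHom.toAlgebra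
  have hst : IsScalarTower A (MvPolynomial (Fin r) A) B := IsScalarTower.of_algebraMap_eq (fun a => by
    change algebraMap A B a = (MvPolynomial.aeval b) (algebraMap A (MvPolynomial (Fin r) A) a)
    rw [AlgHom.commutes])
  have hft : Algebra.FiniteType (MvPolynomial (Fin r) A) B :=
    Algebra.FiniteType.of_restrictScalars_finiteType A (MvPolynomial (Fin r) A) B
  change (⟨q, inferInstance⟩ : PrimeSpectrum B) ∈ Algebra.unramifiedLocus (MvPolynomial (Fin r) A) B
  rw [Algebra.unramifiedLocus_eq_compl_support, Set.mem_compl_iff,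
    Module.mem_support_iff_nontrivial_residueField_tensorProduct, not_nontrivial_iff_subsingleton]
  let F : K ⊗[B] Ω[B⁄A] →ₗ[K] K ⊗[B] Ω[B⁄MvPolynomial (Fin r) A] :=
    LinearMap.baseChange K (KaehlerDifferential.map A (MvPolynomial (Fin r) A) B B)
  have hFsurj : Function.Surjective F :=
    LinearMap.lTensor_surjective K (KaehlerDifferential.map_surjective A (MvPolynomial (Fin r) A) B)
  have hF0 : F = 0 := by
    apply LinearMap.ext_on_range hbspan
    intro i
    simp only [F, LinearMap.baseChange_tmul, KaehlerDifferential.map_D, LinearMap.zero_apply]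
    have : (algebraMap B B) (b i) = algebraMap (MvPolynomial (Fin r) A) B (MvPolynomial.X i) := by
      change b i = (MvPolynomial.aeval b) (MvPolynomial.X i)
      rw [MvPolynomial.aeval_X]
    rw [this, Derivation.map_algebraMap, TensorProduct.tmul_zero]
  refine ⟨fun x y => ?_⟩
  obtain ⟨x', rfl⟩ := hFsurj x
  obtain ⟨y', rfl⟩ := hFsurj y
  rw [hF0, LinearMap.zero_apply, LinearMap.zero_apply]

end Groth.Agent.Lib.helper19.UnramCoords
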